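import Mathlib
import Cfsg.Prelude.Def_GeometricClasses

/-!
# Project ASCH (S5630): shared vocabulary

Aschbacher's theorem for subgroups of GL_n(F), F finite, n ≥ 3, in the form of the frozen
`Cfsg.Geo.InLinearClass` / `Cfsg.Geo.InLinearResidualClass`.  Only definitions here.
-/

set_option autoImplicit false

namespace Cfsg.Agent.Lib.Helper99.Asch

open Cfsg Cfsg.Geo
open scoped MatrixGroups Matrix Kronecker

variable {ι : Type} [Fintype ι] [DecidableEq ι] {F : Type*} [Field F]

/-- `H` normalises `N` (two subgroups of GL(ι, F)). -/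
def Nrm (H N : Subgroup (GL ι F)) : Prop := ∀ h ∈ H, ∀ x ∈ N, h * x * h⁻¹ ∈ N

/-- `H` lies in a member of one of the eight geometric classes of GL_n(F) (linear case). -/
def Geo {n : ℕ} [Fintype F] (H : Subgroup (GL (Fin n) F)) : Prop :=
  ∃ M : Subgroup (GL (Fin n) F), InLinearClass n F M ∧ H ≤ M

/-- Every subgroup of GL(ι, F) normalised by `H` is scalar or absolutely irreducible. -/
def NAI (H : Subgroup (GL ι F)) : Prop :=
  ∀ N : Subgroup (GL ι F), Nrm H N → N ≤ scalars ι F ∨ ActsAbsolutelyIrreducibly (matrixSet N)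

/-- The `F`-subalgebra of `End_F(F^ι)` generated by the elements of `N`; `F^ι` is a module over it
(Mathlib's `Subalgebra.moduleLeft` on top of `Module.End.applyModule`), and its submodules are the
`N`-invariant subspaces. -/
def endAlg (N : Subgroup (GL ι F)) : Subalgebra F (Module.End F (ι → F)) :=
  Algebra.adjoin F ((fun g : GL ι F => Matrix.toLin' (g : Matrix ι ι F)) '' (N : Set (GL ι F)))

/-- The commutant of `N` in the matrix algebra. -/
def commutant (N : Subgroup (GL ι F)) : Subalgebra F (Matrix ι ι F) :=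
  Subalgebra.centralizer F (matrixSet N)

/-- The centre of the commutant of `N`, as a subalgebra of the matrix algebra. -/
def commutantCenter (N : Subgroup (GL ι F)) : Subalgebra F (Matrix ι ι F) :=
  commutant N ⊓ Subalgebra.centralizer F (commutant N : Set (Matrix ι ι F))

/-- `N` is in *tensor normal form* `W ⊗ 1` with respect to the index bijection `idx` and the base
change `B`: every element `x` of `N` satisfies `B x B⁻¹ = reindex (a ⊗ₖ 1)` for an invertible
`d × d` matrix `a`, and the set of all the `a` that occur acts absolutely irreducibly on `F^d`. -/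
def TensorNF (N : Subgroup (GL ι F)) (d e : ℕ) (idx : ι ≃ Fin d × Fin e) (B : GL ι F) : Prop :=
  (∀ x ∈ N, ∃ a : GL (Fin d) F, ((B * x * B⁻¹ : GL ι F) : Matrix ι ι F) =
      Matrix.reindex idx.symm idx.symm
        ((a : Matrix (Fin d) (Fin d) F) ⊗ₖ (1 : Matrix (Fin e) (Fin e) F))) ∧
  ActsAbsolutelyIrreducibly {a : Matrix (Fin d) (Fin d) F | ∃ x ∈ N,
      ((B * x * B⁻¹ : GL ι F) : Matrix ι ι F) =
        Matrix.reindex idx.symm idx.symm (a ⊗ₖ (1 : Matrix (Fin e) (Fin e) F))}

/-- `N` is minimal among the subgroups normalised by `H` that lie between the scalars and `H · scalars`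
and are not scalar. -/
structure IsMinNrm (H N : Subgroup (GL ι F)) : Prop where
  scalars_le : scalars ι F ≤ N
  not_le : ¬ N ≤ scalars ι F
  le_sup : N ≤ H ⊔ scalars ι F
  nrm : Nrm H N
  minimal : ∀ M : Subgroup (GL ι F), scalars ι F ≤ M → M ≤ N → Nrm H M → M = scalars ι F ∨ M = N

/-- All commutators of elements of `N` are scalar. -/
def CommScalar (N : Subgroup (GL ι F)) : Prop :=
  ∀ x ∈ N, ∀ y ∈ N, x * y * x⁻¹ * y⁻¹ ∈ scalars ι F

/-- Output of the symplectic-type analysis: `R` is an absolutely irreducible `r`-group of symplectic type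
normalised by `H`, with scalar commutators, whose scalars are the `z` solutions of `c ^ z = 1`. -/
structure SympOut [Fintype F] (H R : Subgroup (GL ι F)) (r z : ℕ) : Prop where
  prime : r.Prime
  coprime : ¬ r ∣ Fintype.card F
  nrm : Nrm H R
  absIrred : ActsAbsolutelyIrreducibly (matrixSet R)
  commScalar : CommScalar R
  symplecticType : IsSymplecticTypeGroup r R
  card_center : Nat.card (Subgroup.center R) = z
  dvd : z ∣ Fintype.card F - 1
  scalar_pow : ∀ x ∈ R, x ∈ scalars ι F → x ^ z = 1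
  card_eq : Nat.card R = z * Fintype.card ι ^ 2

/-- `P` is a perfect, non-scalar subgroup of `H`, normalised by `H`, all of whose `H`-normalised
subgroups are scalar or equal to `P`. -/
structure PerfMin (H P : Subgroup (GL ι F)) : Prop where
  le : P ≤ H
  nrm : Nrm H P
  perfect : ⁅P, P⁆ = P
  not_le : ¬ P ≤ scalars ι F
  minimal : ∀ M : Subgroup (GL ι F), M ≤ P → Nrm H M → M ≤ scalars ι F ∨ M = P

/-- `Q 0, …, Q (k-1)` is a system of components of `P`: perfect, simple modulo scalars, pairwise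
commuting, generating `P`, and permuted transitively by `H` under conjugation. -/
structure CompSys (H P : Subgroup (GL ι F)) {k : ℕ} (Q : Fin k → Subgroup (GL ι F)) : Prop where
  le : ∀ i, Q i ≤ P
  perfect : ∀ i, ⁅Q i, Q i⁆ = Q i
  not_le : ∀ i, ¬ Q i ≤ scalars ι F
  simple : ∀ i, ∀ M : Subgroup (GL ι F), M ≤ Q i → Nrm (Q i) M → M ≤ scalars ι F ∨ M = Q i
  commute : ∀ i j, i ≠ j → ∀ x ∈ Q i, ∀ y ∈ Q j, x * y = y * x
  iSup_eq : iSup Q = P
  perm : ∀ h ∈ H, ∃ σ : Equiv.Perm (Fin k), ∀ i x, x ∈ Q i ↔ h * x * h⁻¹ ∈ Q (σ i)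
  trans : ∀ i j, ∃ h ∈ H, ∀ x, x ∈ Q i ↔ h * x * h⁻¹ ∈ Q j

/-- The matrix `1 ⊗ … ⊗ a ⊗ … ⊗ 1` (with `a` in slot `i`) on the `k`-fold tensor power of `F^d`,
indexed by functions `Fin k → Fin d`. -/
def slotMatrix {k d : ℕ} (i : Fin k) (a : Matrix (Fin d) (Fin d) F) :
    Matrix (Fin k → Fin d) (Fin k → Fin d) F :=
  fun x y => if ∀ j, j ≠ i → x j = y j then a (x i) (y i) else 0

end Cfsg.Agent.Lib.Helper99.Asch
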