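import Mathlib
import Cfsg.Agent.Lib.Helper88.Involves

/-!
Tools for S2759 (`S₄` involved iff `S₃` involved in some `N(T)/C(T)`), part A:
the map `S₄ → S₃`, basic lemmas, and the inverting pair lemma.
-/

set_option autoImplicit false

namespace Cfsg.Agent.Lib.Helper99.S4Inv


/-- index of the pairing of `{0,1,2,3}` containing `{a,b}` -/
def pairIdx (a b : Fin 4) : Fin 3 :=
  match a, b with
  | 0, 1 => 0 | 1, 0 => 0 | 2, 3 => 0 | 3, 2 => 0
  | 0, 2 => 1 | 2, 0 => 1 | 1, 3 => 1 | 3, 1 => 1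
  | 0, 3 => 2 | 3, 0 => 2 | 1, 2 => 2 | 2, 1 => 2
  | _, _ => 0

/-- underlying function of the map `S₄ → S₃` -/
def phiFun (σ : Equiv.Perm (Fin 4)) (i : Fin 3) : Fin 3 := pairIdx (σ 0) (σ i.succ)

theorem phiFun_mul : ∀ (σ τ : Equiv.Perm (Fin 4)) (i : Fin 3),
    phiFun (σ * τ) i = phiFun σ (phiFun τ i) := by
  decide +kernel

theorem phiFun_one : ∀ i : Fin 3, phiFun 1 i = i := by decide

/-- the homomorphism `S₄ → S₃` (action on the three pairings) -/
def phi : Equiv.Perm (Fin 4) →* Equiv.Perm (Fin 3) where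
  toFun σ :=
    { toFun := phiFun σ
      invFun := phiFun σ⁻¹
      left_inv := fun i => by rw [← phiFun_mul, inv_mul_cancel, phiFun_one]
      right_inv := fun i => by rw [← phiFun_mul, mul_inv_cancel, phiFun_one] }
  map_one' := by ext i; simp [phiFun_one]
  map_mul' σ τ := by ext i; simp [phiFun_mul]

theorem phi_apply (σ : Equiv.Perm (Fin 4)) (i : Fin 3) : phi σ i = phiFun σ i := rfl

instance : DecidablePred (· ∈ phi.ker) := fun σ =>
  decidable_of_iff (∀ i, phiFun σ i = i) (by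
    show _ ↔ σ ∈ phi.ker
    rw [MonoidHom.mem_ker]
    constructor
    · intro h; ext i; simp [phi_apply, h]
    · intro h i; rw [← phi_apply, h]; rfl)

theorem phi_surjective : Function.Surjective phi := by
  have : ∀ τ : Equiv.Perm (Fin 3), ∃ σ : Equiv.Perm (Fin 4), ∀ i, phiFun σ i = τ i := by
    decide +kernel
  intro τ
  obtain ⟨σ, h⟩ := this τ
  exact ⟨σ, by ext i; simp [phi_apply, h]⟩

theorem card_phi_ker : Nat.card phi.ker = 4 := by
  rw [Nat.card_eq_fintype_card]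
  decide +kernel

theorem centralizer_phi_ker : ∀ g : Equiv.Perm (Fin 4),
    (∀ k : Equiv.Perm (Fin 4), (∀ i, phiFun k i = i) → g * k = k * g) → ∀ i, phiFun g i = i := by
  decide +kernel



open Cfsg Cfsg.Agent.Lib.Helper88

universe u v

/-- In a finite group, an element conjugating a subgroup into itself normalizes it. -/
theorem mem_normalizer_of_forall_conj_mem {G : Type*} [Group G] [Finite G] (H : Subgroup G) (g : G)
    (h : ∀ a ∈ H, g * a * g⁻¹ ∈ H) : g ∈ Subgroup.normalizer (H : Set G) := by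
  have hpow : ∀ (k : ℕ) (a : G), a ∈ H → g ^ k * a * (g ^ k)⁻¹ ∈ H := by
    intro k
    induction k with
    | zero => intro a ha; simpa using ha
    | succ k ih =>
      intro a ha
      have := h _ (ih a ha)
      have e : g ^ (k + 1) * a * (g ^ (k + 1))⁻¹ = g * (g ^ k * a * (g ^ k)⁻¹) * g⁻¹ := by
        rw [pow_succ']; group
      rw [e]; exact this
  rw [Subgroup.mem_normalizer_iff]
  intro a
  refine ⟨h a, fun ha => ?_⟩
  have hg : g⁻¹ = g ^ (orderOf g - 1) := by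
    have h1 : g ^ (orderOf g - 1) * g = 1 := by
      rw [← pow_succ, Nat.sub_add_cancel (orderOf_pos g), pow_orderOf_eq_one]
    exact (eq_inv_of_mul_eq_one_left h1).symm
  have := hpow (orderOf g - 1) _ ha
  rw [← hg] at this
  have e : g⁻¹ * (g * a * g⁻¹) * g⁻¹⁻¹ = a := by group
  rwa [e] at this

/-- a group involved in a quotient is involved in the group -/
theorem Involves.of_quotient {H : Type u} [Group H] {G : Type v} [Group G] (N : Subgroup G)
    [N.Normal] (h : Involves H (G ⧸ N)) : Involves H G := by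
  rw [involves_iff_exists_surj] at h ⊢
  obtain ⟨K, f, hf⟩ := h
  refine ⟨K.comap (QuotientGroup.mk' N), f.comp ((QuotientGroup.mk' N).subgroupComap K), ?_⟩
  exact hf.comp (MonoidHom.subgroupComap_surjective_of_surjective _ K
    (QuotientGroup.mk'_surjective N))



theorem s3_sq_of_odd' : ∀ τ : Equiv.Perm (Fin 3), Equiv.Perm.sign τ = -1 → τ * τ = 1 := by
  decide

theorem s3_comm_ne_one' : ∀ d τ : Equiv.Perm (Fin 3), Equiv.Perm.sign d = 1 → d ≠ 1 →
    Equiv.Perm.sign τ = -1 → d⁻¹ * (τ * d * τ⁻¹) ≠ 1 := by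
  decide

theorem s3_even_pow' : ∀ d : Equiv.Perm (Fin 3), Equiv.Perm.sign d = 1 → d ^ 3 = 1 := by
  decide

theorem s3_exists_even : ∃ c : Equiv.Perm (Fin 3), Equiv.Perm.sign c = 1 ∧ c ≠ 1 := by
  decide

theorem s3_exists_odd : ∃ c : Equiv.Perm (Fin 3), Equiv.Perm.sign c = -1 := by
  decide

/-- A finite group mapping onto `S₃` contains a `2`-element inverting a `3`-element that is
not in the kernel. -/
theorem exists_inverting_pair {H : Type*} [Group H] [Finite H] (ψ : H →* Equiv.Perm (Fin 3))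
    (hψ : Function.Surjective ψ) :
    ∃ x y : H, (∃ k : ℕ, orderOf x = 3 ^ k) ∧ (∃ k : ℕ, orderOf y = 2 ^ k) ∧
      y * x * y⁻¹ = x⁻¹ ∧ ψ x ≠ 1 := by
  classical
  have : Fact (Nat.Prime 3) := ⟨Nat.prime_three⟩
  have : Fact (Nat.Prime 2) := ⟨Nat.prime_two⟩
  let s : H →* ℤˣ := Equiv.Perm.sign.comp ψ
  let L : Subgroup H := s.ker
  have hLmem : ∀ g : H, g ∈ L ↔ Equiv.Perm.sign (ψ g) = 1 := fun g => by
    show g ∈ s.ker ↔ _
    rw [MonoidHom.mem_ker]; rfl
  -- a 3-element a' with ψ a' even and nontrivial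
  obtain ⟨c, hc1, hc2⟩ := s3_exists_even
  obtain ⟨a, ha⟩ := hψ c
  obtain ⟨k, m, hm, hkm⟩ := Nat.exists_eq_pow_mul_and_not_dvd (orderOf_pos a).ne' 3 (by norm_num)
  set a' := a ^ m with ha'
  have ha'pow : a' ^ (3 ^ k) = 1 := by
    rw [ha', ← pow_mul, mul_comm, ← hkm, pow_orderOf_eq_one]
  have hψa' : ψ a' = c ^ m := by rw [ha', map_pow, ha]
  have hcm : c ^ m ≠ 1 := by
    intro h
    have h3 : orderOf c ∣ 3 := orderOf_dvd_of_pow_eq_one (s3_even_pow' c hc1)
    have hm' : orderOf c ∣ m := orderOf_dvd_of_pow_eq_one h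
    rcases (Nat.dvd_prime Nat.prime_three).mp h3 with h1 | h1
    · exact hc2 (orderOf_eq_one_iff.mp h1)
    · rw [h1] at hm'; exact hm hm'
  have hcmsign : Equiv.Perm.sign (c ^ m) = 1 := by rw [map_pow, hc1, one_pow]
  have ha'L : a' ∈ L := by rw [hLmem, hψa']; exact hcmsign
  -- a Sylow 3-subgroup of L containing a'
  have hZ : IsPGroup 3 (Subgroup.zpowers (⟨a', ha'L⟩ : L)) := by
    have hdvd : orderOf (⟨a', ha'L⟩ : L) ∣ 3 ^ k := by
      apply orderOf_dvd_of_pow_eq_one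
      apply Subtype.ext
      simpa using ha'pow
    obtain ⟨j, -, hj⟩ := (Nat.dvd_prime_pow Nat.prime_three).mp hdvd
    apply IsPGroup.of_card (n := j)
    rw [Nat.card_zpowers, hj]
  obtain ⟨P, hP⟩ := hZ.exists_le_sylow
  set P' : Subgroup H := (P : Subgroup L).map L.subtype with hP'
  have hP'3 : IsPGroup 3 P' := P.isPGroup'.map _
  have ha'P : a' ∈ P' := ⟨⟨a', ha'L⟩, hP (Subgroup.mem_zpowers _), rfl⟩
  have hP'L : P' ≤ L := by
    rintro _ ⟨l, -, rfl⟩
    exact l.2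
  -- Frattini
  have hfr := Sylow.normalizer_sup_eq_top P
  obtain ⟨t, ht⟩ := s3_exists_odd
  obtain ⟨b, hb⟩ := hψ t
  have hmem : b ∈ Subgroup.normalizer ((P' : Subgroup H) : Set H) ⊔ L := by
    rw [hP', hfr]; trivial
  rw [Subgroup.mem_sup_of_normal_right] at hmem
  obtain ⟨n, hn, l, hl, hnl⟩ := hmem
  have hnsign : Equiv.Perm.sign (ψ n) = -1 := by
    have h1 : Equiv.Perm.sign (ψ b) = -1 := by rw [hb]; exact ht
    rw [← hnl, map_mul, map_mul, (hLmem l).mp hl, mul_one] at h1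
    exact h1
  -- the 2-part of n
  obtain ⟨k', m', hm', hkm'⟩ := Nat.exists_eq_two_pow_mul_odd (orderOf_pos n).ne'
  set y := n ^ m' with hy
  have hypow : y ^ (2 ^ k') = 1 := by
    rw [hy, ← pow_mul, mul_comm, ← hkm', pow_orderOf_eq_one]
  have hyN : y ∈ Subgroup.normalizer ((P' : Subgroup H) : Set H) := Subgroup.pow_mem _ hn _
  have hysign : Equiv.Perm.sign (ψ y) = -1 := by
    rw [hy, map_pow, map_pow, hnsign, Odd.neg_one_pow hm']
  have hψyy : ψ y * ψ y = 1 := s3_sq_of_odd' _ hysign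
  set z := y * y with hz
  have hzN : z ∈ Subgroup.normalizer ((P' : Subgroup H) : Set H) := Subgroup.mul_mem _ hyN hyN
  have hψz : ψ z = 1 := by rw [hz, map_mul, hψyy]
  have hzpow : z ^ (2 ^ k') = 1 := by
    rw [hz, ← pow_two, ← pow_mul, mul_comm, pow_mul, hypow, one_pow]
  -- the set X
  let X := {g : H // g ∈ P' ∧ ψ g = ψ a'}
  let _ : Fintype X := Fintype.ofFinite X
  have hXcard : ¬ 2 ∣ Fintype.card X := by
    have e : X ≃ ((P' ⊓ ψ.ker : Subgroup H) : Type _) :=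
      Equiv.subtypeEquiv (Equiv.mulLeft a'⁻¹) (fun g => by
        show g ∈ P' ∧ ψ g = ψ a' ↔ a'⁻¹ * g ∈ P' ⊓ ψ.ker
        rw [Subgroup.mem_inf, MonoidHom.mem_ker, map_mul, map_inv]
        constructor
        · rintro ⟨h1, h2⟩
          exact ⟨P'.mul_mem (P'.inv_mem ha'P) h1, by rw [h2, inv_mul_cancel]⟩
        · rintro ⟨h1, h2⟩
          refine ⟨?_, ?_⟩
          · have := P'.mul_mem ha'P h1
            rwa [mul_inv_cancel_left] at this
          · exact (inv_mul_eq_one.mp h2).symm)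
    have h3 : IsPGroup 3 (P' ⊓ ψ.ker : Subgroup H) := hP'3.to_le inf_le_left
    obtain ⟨j, hj⟩ := IsPGroup.iff_card.mp h3
    rw [← Nat.card_eq_fintype_card, Nat.card_congr e, hj]
    intro h2
    have := (Nat.prime_two.dvd_of_dvd_pow h2)
    omega
  -- conjugation by z on X
  have hconjmem : ∀ (w : H), w ∈ Subgroup.normalizer ((P' : Subgroup H) : Set H) → ψ w = 1 →
      ∀ g : X, w * g.1 * w⁻¹ ∈ P' ∧ ψ (w * g.1 * w⁻¹) = ψ a' := by
    intro w hw hψw g
    refine ⟨(Subgroup.mem_normalizer_iff.mp hw g.1).mp g.2.1, ?_⟩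
    rw [map_mul, map_mul, map_inv, hψw, one_mul, inv_one, mul_one, g.2.2]
  have hz'N : z⁻¹ ∈ Subgroup.normalizer ((P' : Subgroup H) : Set H) := Subgroup.inv_mem _ hzN
  have hψz' : ψ z⁻¹ = 1 := by rw [map_inv, hψz, inv_one]
  let σ : Equiv.Perm X :=
    { toFun := fun g => ⟨z * g.1 * z⁻¹, hconjmem z hzN hψz g⟩
      invFun := fun g => ⟨z⁻¹ * g.1 * z⁻¹⁻¹, hconjmem z⁻¹ hz'N hψz' g⟩
      left_inv := fun g => by apply Subtype.ext; simp only; group
      right_inv := fun g => by apply Subtype.ext; simp only; group }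
  have hσpow : ∀ (j : ℕ) (g : X), ((σ ^ j) g).1 = z ^ j * g.1 * (z ^ j)⁻¹ := by
    intro j
    induction j with
    | zero => intro g; simp
    | succ j ih =>
      intro g
      rw [pow_succ', Equiv.Perm.mul_apply]
      show z * ((σ ^ j) g).1 * z⁻¹ = _
      rw [ih g, pow_succ']; group
  have hσ : σ ^ 2 ^ k' = 1 := by
    ext g
    rw [hσpow, hzpow]; simp
  obtain ⟨g, hg⟩ := Equiv.Perm.exists_fixed_point_of_prime (p := 2) (n := k') hXcard hσ
  have hfix : z * g.1 * z⁻¹ = g.1 := congrArg Subtype.val hg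
  -- the inverted element
  set g₀ : H := g.1 with hg₀
  have hg₀P : g₀ ∈ P' := g.2.1
  have hψg₀ : ψ g₀ = c ^ m := by rw [hg₀, g.2.2, hψa']
  have hyg : y * g₀ * y⁻¹ ∈ P' := (Subgroup.mem_normalizer_iff.mp hyN g₀).mp hg₀P
  refine ⟨g₀⁻¹ * (y * g₀ * y⁻¹), y, ?_, ?_, ?_, ?_⟩
  · obtain ⟨j, hj⟩ := (IsPGroup.iff_orderOf.mp hP'3) ⟨g₀⁻¹ * (y * g₀ * y⁻¹),
      P'.mul_mem (P'.inv_mem hg₀P) hyg⟩
    refine ⟨j, ?_⟩
    rw [← hj, Subgroup.orderOf_mk]
  · have hdvd : orderOf y ∣ 2 ^ k' := orderOf_dvd_of_pow_eq_one hypow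
    obtain ⟨j, -, hj⟩ := (Nat.dvd_prime_pow Nat.prime_two).mp hdvd
    exact ⟨j, hj⟩
  · have h1 : y * (y * g₀ * y⁻¹) * y⁻¹ = g₀ := by
      have : y * (y * g₀ * y⁻¹) * y⁻¹ = z * g₀ * z⁻¹ := by rw [hz]; group
      rw [this, hfix]
    calc y * (g₀⁻¹ * (y * g₀ * y⁻¹)) * y⁻¹
        = (y * g₀ * y⁻¹)⁻¹ * (y * (y * g₀ * y⁻¹) * y⁻¹) := by group
      _ = (y * g₀ * y⁻¹)⁻¹ * g₀ := by rw [h1]
      _ = (g₀⁻¹ * (y * g₀ * y⁻¹))⁻¹ := by group
  · have := s3_comm_ne_one' (c ^ m) (ψ y) hcmsign hcm hysign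
    rw [map_mul, map_inv, map_mul, map_mul, map_inv, hψg₀]
    exact this


end Cfsg.Agent.Lib.Helper99.S4Inv
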