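import Mathlib
import Cfsg.Agent.Lib.Helper99.S4InvA

/-!
Tools for S2759, part B: the irreducible section `V₄ ⋊ S₃` gives `S₄`.
-/

set_option autoImplicit false

namespace Cfsg.Agent.Lib.Helper99.S4Inv

open Cfsg Cfsg.Agent.Lib.Helper88


/-- structure of an irreducible section: `V = {1, v₀, v₁, v₂}` -/
theorem irreducible_structure {E : Type*} [Group E] [Finite E] (V : Subgroup E) [V.Normal]
    (hV : IsPGroup 2 V) (x y : E)
    (hy : ∃ k : ℕ, orderOf y = 2 ^ k)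
    (hinv : y * x * y⁻¹ = x⁻¹) (hx3 : ∀ v ∈ V, x ^ 3 * v = v * x ^ 3)
    (hxV : ∃ v ∈ V, x * v ≠ v * x)
    (hirr : ∀ S : Subgroup E, S ≤ V → V ≤ Subgroup.normalizer (S : Set E) →
      x ∈ Subgroup.normalizer (S : Set E) → y ∈ Subgroup.normalizer (S : Set E) → S = ⊥ ∨ S = V) :
    ∃ v₀ v₁ v₂ : E, v₀ ∈ V ∧ v₁ ∈ V ∧ v₂ ∈ V ∧ (∀ v ∈ V, v = 1 ∨ v = v₀ ∨ v = v₁ ∨ v = v₂) ∧
      v₀ ≠ 1 ∧ v₁ ≠ 1 ∧ v₂ ≠ 1 ∧ v₀ ≠ v₁ ∧ v₀ ≠ v₂ ∧ v₁ ≠ v₂ ∧
      x * v₀ * x⁻¹ = v₁ ∧ x * v₁ * x⁻¹ = v₂ ∧ x * v₂ * x⁻¹ = v₀ ∧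
      y * v₀ * y⁻¹ = v₀ ∧ y * v₁ * y⁻¹ = v₂ ∧ y * v₂ * y⁻¹ = v₁ ∧
      v₀ * v₀ = 1 ∧ v₁ * v₁ = 1 ∧ v₂ * v₂ = 1 ∧ v₀ * v₁ = v₂ ∧ v₁ * v₂ = v₀ ∧ v₀ * v₂ = v₁ ∧
      (∀ u ∈ V, ∀ v ∈ V, u * v = v * u) := by
  classical
  have : Fact (Nat.Prime 2) := ⟨Nat.prime_two⟩
  have hnorm : ∀ g : E, ∀ v ∈ V, g * v * g⁻¹ ∈ V := fun g v hv =>
    ‹V.Normal›.conj_mem v hv g
  obtain ⟨w, hwV, hwx⟩ := hxV
  have hw1 : w ≠ 1 := by rintro rfl; simp at hwx
  have hVnt : Nontrivial V := ⟨⟨⟨w, hwV⟩, 1, fun h => hw1 (congrArg Subtype.val h)⟩⟩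
  -- Step 1: V is abelian
  have hab : ∀ u ∈ V, ∀ v ∈ V, u * v = v * u := by
    let Z : Subgroup E := V ⊓ Subgroup.centralizer (V : Set E)
    have hZn : Z.Normal := inferInstance
    have hZ : Z = ⊥ ∨ Z = V := by
      apply hirr Z inf_le_left
      · rw [Subgroup.normalizer_eq_top]; exact le_top
      · rw [Subgroup.normalizer_eq_top]; trivial
      · rw [Subgroup.normalizer_eq_top]; trivial
    have hZne : Z ≠ ⊥ := by
      have hcn : Nontrivial (Subgroup.center V) := hV.center_nontrivial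
      obtain ⟨⟨z, hz⟩, hz1⟩ := exists_ne (1 : Subgroup.center V)
      intro hbot
      have hzZ : (z : E) ∈ Z := by
        refine ⟨z.2, ?_⟩
        show (z : E) ∈ Subgroup.centralizer (V : Set E)
        rw [Subgroup.mem_centralizer_iff]
        intro v hv
        have := (Subgroup.mem_center_iff.mp hz) ⟨v, hv⟩
        exact congrArg Subtype.val this
      rw [hbot, Subgroup.mem_bot] at hzZ
      apply hz1
      apply Subtype.ext
      apply Subtype.ext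
      simpa using hzZ
    rcases hZ with h | h
    · exact absurd h hZne
    · intro u hu v hv
      have hu' : u ∈ Z := by rw [h]; exact hu
      exact ((Subgroup.mem_centralizer_iff.mp hu'.2) v hv).symm
  have hVnorm : ∀ S : Subgroup E, S ≤ V → V ≤ Subgroup.normalizer (S : Set E) := by
    intro S hS v hv
    apply mem_normalizer_of_forall_conj_mem
    intro a ha
    have : v * a * v⁻¹ = a := by rw [hab v hv a (hS ha)]; group
    rw [this]; exact ha
  -- Step 2: exponent 2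
  have hsq : ∀ v ∈ V, v * v = 1 := by
    let S : Subgroup E :=
      { carrier := {v | v ∈ V ∧ v * v = 1}
        mul_mem' := by
          rintro a b ⟨ha, ha2⟩ ⟨hb, hb2⟩
          refine ⟨V.mul_mem ha hb, ?_⟩
          calc a * b * (a * b) = a * (b * a) * b := by group
            _ = a * (a * b) * b := by rw [hab b hb a ha]
            _ = (a * a) * (b * b) := by group
            _ = 1 := by rw [ha2, hb2, one_mul]
        one_mem' := ⟨V.one_mem, by simp⟩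
        inv_mem' := by
          rintro a ⟨ha, ha2⟩
          refine ⟨V.inv_mem ha, ?_⟩
          rw [← mul_inv_rev, ha2, inv_one] }
    have hSV : S ≤ V := fun v hv => hv.1
    have hconj : ∀ g : E, g ∈ Subgroup.normalizer (S : Set E) := by
      intro g
      apply mem_normalizer_of_forall_conj_mem
      rintro a ⟨ha, ha2⟩
      refine ⟨hnorm g a ha, ?_⟩
      calc g * a * g⁻¹ * (g * a * g⁻¹) = g * (a * a) * g⁻¹ := by group
        _ = 1 := by rw [ha2]; group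
    have hS : S = ⊥ ∨ S = V := hirr S hSV (hVnorm S hSV) (hconj x) (hconj y)
    have hSne : S ≠ ⊥ := by
      have h2 : 2 ∣ Nat.card V := by
        obtain ⟨n, hn⟩ := IsPGroup.iff_card.mp hV
        have hn0 : n ≠ 0 := by
          rintro rfl
          rw [pow_zero] at hn
          have := (Nat.card_eq_one_iff_unique.mp hn).1
          exact not_subsingleton V this
        rw [hn]; exact dvd_pow_self 2 hn0
      obtain ⟨⟨u, hu⟩, huo⟩ := exists_prime_orderOf_dvd_card' 2 h2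
      intro hbot
      have huS : u ∈ S := by
        refine ⟨hu, ?_⟩
        have h1 : (⟨u, hu⟩ : V) ^ 2 = 1 := by rw [← huo]; exact pow_orderOf_eq_one _
        have h2 := congrArg Subtype.val h1
        simpa [pow_two] using h2
      rw [hbot, Subgroup.mem_bot] at huS
      subst huS
      have : orderOf (⟨1, hu⟩ : V) = 1 := by
        rw [orderOf_eq_one_iff]; rfl
      rw [this] at huo
      omega
    rcases hS with h | h
    · exact absurd h hSne
    · intro v hv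
      have : v ∈ S := by rw [h]; exact hv
      exact this.2
  have hinvV : ∀ v ∈ V, v⁻¹ = v := fun v hv => inv_eq_of_mul_eq_one_left (hsq v hv)
  -- Step 3: a nontrivial fixed point of y
  obtain ⟨k, hk⟩ := hy
  obtain ⟨v₀, hv₀V, hv₀1, hyv₀⟩ : ∃ v₀ ∈ V, v₀ ≠ 1 ∧ y * v₀ * y⁻¹ = v₀ := by
    let _ : Fintype V := Fintype.ofFinite V
    let σ : Equiv.Perm V := MulAut.toPerm V (MulAut.conjNormal y)
    have hσ : σ ^ 2 ^ k = 1 := by
      show (MulAut.toPerm V (MulAut.conjNormal y)) ^ 2 ^ k = 1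
      rw [← map_pow, ← map_pow, ← hk, pow_orderOf_eq_one, map_one, map_one]
    have h2 : 2 ∣ Fintype.card V := by
      rw [← Nat.card_eq_fintype_card]
      obtain ⟨n, hn⟩ := IsPGroup.iff_card.mp hV
      have hn0 : n ≠ 0 := by
        rintro rfl
        rw [pow_zero] at hn
        have := (Nat.card_eq_one_iff_unique.mp hn).1
        exact not_subsingleton V this
      rw [hn]; exact dvd_pow_self 2 hn0
    have h1 : σ 1 = 1 := by
      show MulAut.conjNormal y (1 : V) = 1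
      exact map_one _
    obtain ⟨b, hb, hb1⟩ := Equiv.Perm.exists_fixed_point_of_prime' (p := 2) (n := k) h2 hσ h1
    refine ⟨b, b.2, fun h => hb1 (Subtype.ext h), ?_⟩
    have : ((MulAut.conjNormal y b : V) : E) = b := congrArg Subtype.val hb
    rwa [MulAut.conjNormal_apply] at this
  -- Step 4
  obtain ⟨v₁, hv₁⟩ : ∃ v₁, x * v₀ * x⁻¹ = v₁ := ⟨_, rfl⟩
  obtain ⟨v₂, hv₂⟩ : ∃ v₂, x * v₁ * x⁻¹ = v₂ := ⟨_, rfl⟩
  have hv₁V : v₁ ∈ V := hv₁ ▸ hnorm x v₀ hv₀V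
  have hv₂V : v₂ ∈ V := hv₂ ▸ hnorm x v₁ hv₁V
  have hv₀' : x * v₂ * x⁻¹ = v₀ := by
    have h3 := hx3 v₀ hv₀V
    calc x * v₂ * x⁻¹ = x ^ 3 * v₀ * (x ^ 3)⁻¹ := by
          rw [← hv₂, ← hv₁]; simp only [pow_succ, pow_zero, one_mul, mul_inv_rev, mul_assoc]
      _ = v₀ := by rw [h3, mul_assoc, mul_inv_cancel, mul_one]
  have hyx : y * x = x⁻¹ * y := by rw [← hinv]; group
  have hyx' : y * x⁻¹ = x * y := by
    have : y * x⁻¹ * y⁻¹ = x := by
      have h : (y * x * y⁻¹)⁻¹ = x := by rw [hinv, inv_inv]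
      calc y * x⁻¹ * y⁻¹ = (y * x * y⁻¹)⁻¹ := by group
        _ = x := h
    calc y * x⁻¹ = (y * x⁻¹ * y⁻¹) * y := by group
      _ = x * y := by rw [this]
  have hyv₁ : y * v₁ * y⁻¹ = v₂ := by
    have e : v₂ = x⁻¹ * v₀ * x := by rw [← hv₀']; group
    calc y * v₁ * y⁻¹ = (y * x) * v₀ * (y * x)⁻¹ := by rw [← hv₁]; group
      _ = x⁻¹ * (y * v₀ * y⁻¹) * x := by rw [hyx]; group
      _ = v₂ := by rw [hyv₀, e]
  have hyv₂ : y * v₂ * y⁻¹ = v₁ := by
    have e : v₂ = x⁻¹ * v₀ * x := by rw [← hv₀']; group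
    calc y * v₂ * y⁻¹ = (y * x⁻¹) * v₀ * (y * x⁻¹)⁻¹ := by rw [e]; group
      _ = x * (y * v₀ * y⁻¹) * x⁻¹ := by rw [hyx']; group
      _ = v₁ := by rw [hyv₀, hv₁]
  -- the product s
  have hs : v₀ * v₁ * v₂ = 1 := by
    set s := v₀ * v₁ * v₂ with hsdef
    have hsV : s ∈ V := V.mul_mem (V.mul_mem hv₀V hv₁V) hv₂V
    have hxs : x * s * x⁻¹ = s := by
      calc x * s * x⁻¹ = (x * v₀ * x⁻¹) * (x * v₁ * x⁻¹) * (x * v₂ * x⁻¹) := by rw [hsdef]; group
        _ = v₁ * v₂ * v₀ := by rw [hv₁, hv₂, hv₀']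
        _ = v₀ * (v₁ * v₂) := hab _ (V.mul_mem hv₁V hv₂V) _ hv₀V
        _ = s := by rw [hsdef]; group
    have hys : y * s * y⁻¹ = s := by
      calc y * s * y⁻¹ = (y * v₀ * y⁻¹) * (y * v₁ * y⁻¹) * (y * v₂ * y⁻¹) := by rw [hsdef]; group
        _ = v₀ * v₂ * v₁ := by rw [hyv₀, hyv₁, hyv₂]
        _ = v₀ * (v₂ * v₁) := by group
        _ = v₀ * (v₁ * v₂) := by rw [hab v₂ hv₂V v₁ hv₁V]
        _ = s := by rw [hsdef]; group
    have hSV : Subgroup.zpowers s ≤ V := by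
      rw [Subgroup.zpowers_le]; exact hsV
    have hfixpow : ∀ g : E, g * s * g⁻¹ = s → g ∈ Subgroup.normalizer ((Subgroup.zpowers s : Subgroup E) : Set E) := by
      intro g hg
      apply mem_normalizer_of_forall_conj_mem
      rintro _ ⟨j, rfl⟩
      have h2 := map_zpow (MulAut.conj g) s j
      simp only [MulAut.conj_apply] at h2
      rw [h2, hg]
      exact ⟨j, rfl⟩
    rcases hirr _ hSV (hVnorm _ hSV) (hfixpow x hxs) (hfixpow y hys) with h | h
    · have : s ∈ Subgroup.zpowers s := Subgroup.mem_zpowers s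
      rw [h, Subgroup.mem_bot] at this
      exact this
    · exfalso
      apply hwx
      have : w ∈ Subgroup.zpowers s := by rw [h]; exact hwV
      obtain ⟨j, rfl⟩ := this
      have hc : Commute x s := by
        show x * s = s * x
        calc x * s = (x * s * x⁻¹) * x := by group
          _ = s * x := by rw [hxs]
      exact (hc.zpow_right j).eq
  have h01 : v₀ * v₁ = v₂ := by
    have : v₀ * v₁ = v₂⁻¹ := eq_inv_of_mul_eq_one_left hs
    rw [this, hinvV v₂ hv₂V]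
  have h12 : v₁ * v₂ = v₀ := by
    have h : v₀ * (v₁ * v₂) = 1 := by rw [← mul_assoc]; exact hs
    have : v₁ * v₂ = v₀⁻¹ := eq_inv_of_mul_eq_one_right h
    rw [this, hinvV v₀ hv₀V]
  have h02 : v₀ * v₂ = v₁ := by
    rw [← h01, ← mul_assoc, hsq v₀ hv₀V, one_mul]
  -- the subgroup W
  have h10 : v₁ * v₀ = v₂ := by rw [hab v₁ hv₁V v₀ hv₀V, h01]
  have h21 : v₂ * v₁ = v₀ := by rw [hab v₂ hv₂V v₁ hv₁V, h12]
  have h20 : v₂ * v₀ = v₁ := by rw [hab v₂ hv₂V v₀ hv₀V, h02]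
  let W : Subgroup E :=
    { carrier := {v | v = 1 ∨ v = v₀ ∨ v = v₁ ∨ v = v₂}
      mul_mem' := by
        rintro a b (rfl | rfl | rfl | rfl) (rfl | rfl | rfl | rfl) <;>
          simp [hsq _ hv₀V, hsq _ hv₁V, hsq _ hv₂V, h01, h12, h02, h10, h21, h20]
      one_mem' := Or.inl rfl
      inv_mem' := by
        rintro a (rfl | rfl | rfl | rfl) <;>
          simp [hinvV _ hv₀V, hinvV _ hv₁V, hinvV _ hv₂V] }
  have hWV : W ≤ V := by
    rintro a (rfl | rfl | rfl | rfl)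
    · exact V.one_mem
    · exact hv₀V
    · exact hv₁V
    · exact hv₂V
  have hxW : x ∈ Subgroup.normalizer (W : Set E) := by
    apply mem_normalizer_of_forall_conj_mem
    rintro a (rfl | rfl | rfl | rfl)
    · left; group
    · right; right; left; exact hv₁
    · right; right; right; exact hv₂
    · right; left; exact hv₀'
  have hyW : y ∈ Subgroup.normalizer (W : Set E) := by
    apply mem_normalizer_of_forall_conj_mem
    rintro a (rfl | rfl | rfl | rfl)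
    · left; group
    · right; left; exact hyv₀
    · right; right; right; exact hyv₁
    · right; right; left; exact hyv₂
  have hWeq : W = V := by
    rcases hirr W hWV (hVnorm W hWV) hxW hyW with h | h
    · exfalso
      have : v₀ ∈ W := Or.inr (Or.inl rfl)
      rw [h, Subgroup.mem_bot] at this
      exact hv₀1 this
    · exact h
  have hall : ∀ v ∈ V, v = 1 ∨ v = v₀ ∨ v = v₁ ∨ v = v₂ := by
    intro v hv
    have : v ∈ W := by rw [hWeq]; exact hv
    exact this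
  -- distinctness
  have hne01 : v₀ ≠ v₁ := by
    intro h
    have h1 : x * v₀ * x⁻¹ = v₀ := by rw [hv₁, ← h]
    apply hwx
    have hc : x * v₀ = v₀ * x := by
      calc x * v₀ = (x * v₀ * x⁻¹) * x := by group
        _ = v₀ * x := by rw [h1]
    rcases hall w hwV with hw | hw | hw | hw
    · rw [hw]; simp
    · rw [hw]; exact hc
    · rw [hw, ← h]; exact hc
    · have h2 : v₂ = v₀ := by rw [← hv₂, ← h, h1]
      rw [hw, h2]; exact hc
  have hv₁1 : v₁ ≠ 1 := by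
    intro h
    apply hv₀1
    have : x * v₀ * x⁻¹ = 1 := by rw [hv₁, h]
    have h2 : v₀ = x⁻¹ * (x * v₀ * x⁻¹) * x := by group
    rw [h2, this]; group
  have hv₂1 : v₂ ≠ 1 := by
    intro h
    apply hv₁1
    have : x * v₁ * x⁻¹ = 1 := by rw [hv₂, h]
    have h2 : v₁ = x⁻¹ * (x * v₁ * x⁻¹) * x := by group
    rw [h2, this]; group
  have hne02 : v₀ ≠ v₂ := by
    intro h
    apply hv₁1
    have : v₀ * v₂ = 1 := by rw [← h]; exact hsq v₀ hv₀V
    rw [← h02, this]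
  have hne12 : v₁ ≠ v₂ := by
    intro h
    apply hv₀1
    have : v₁ * v₂ = 1 := by rw [← h]; exact hsq v₁ hv₁V
    rw [← h12, this]
  exact ⟨v₀, v₁, v₂, hv₀V, hv₁V, hv₂V, hall, hv₀1, hv₁1, hv₂1, hne01, hne02, hne12, hv₁, hv₂, hv₀',
    hyv₀, hyv₁, hyv₂, hsq _ hv₀V, hsq _ hv₁V, hsq _ hv₂V, h01, h12, h02, hab⟩



theorem involves_of_structure {E : Type*} [Group E] [Finite E] (V : Subgroup E) [V.Normal]
    (x y : E) (hx : ∃ k : ℕ, orderOf x = 3 ^ k) (hy : ∃ k : ℕ, orderOf y = 2 ^ k)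
    (hinv : y * x * y⁻¹ = x⁻¹)
    (v₀ v₁ v₂ : E) (hv₀V : v₀ ∈ V) (hv₁V : v₁ ∈ V) (hv₂V : v₂ ∈ V)
    (hall : ∀ v ∈ V, v = 1 ∨ v = v₀ ∨ v = v₁ ∨ v = v₂)
    (hv₀1 : v₀ ≠ 1) (hv₁1 : v₁ ≠ 1) (hv₂1 : v₂ ≠ 1) (h01 : v₀ ≠ v₁) (h02 : v₀ ≠ v₂)
    (h12 : v₁ ≠ v₂)
    (hx0 : x * v₀ * x⁻¹ = v₁) (hx1 : x * v₁ * x⁻¹ = v₂) (hx2 : x * v₂ * x⁻¹ = v₀)
    (hy1 : y * v₁ * y⁻¹ = v₂)
    (hsq : ∀ v ∈ V, v * v = 1) :
    Involves (Equiv.Perm (Fin 4)) E := by
  classical
  obtain ⟨k, hk⟩ := hx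
  obtain ⟨k', hk'⟩ := hy
  let H : Subgroup E := Subgroup.closure {x, y}
  have hxH : x ∈ H := Subgroup.subset_closure (Set.mem_insert _ _)
  have hyH : y ∈ H := Subgroup.subset_closure (Set.mem_insert_of_mem _ rfl)
  have hHn : H ≤ Subgroup.normalizer ((Subgroup.zpowers x : Subgroup E) : Set E) := by
    rw [Subgroup.closure_le]
    intro g hg
    simp only [Set.mem_insert_iff, Set.mem_singleton_iff] at hg
    rcases hg with h | h
    · rw [h]; exact Subgroup.le_normalizer (Subgroup.mem_zpowers x)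
    · rw [h]
      apply mem_normalizer_of_forall_conj_mem
      rintro _ ⟨j, rfl⟩
      have h2 := map_zpow (MulAut.conj y) x j
      simp only [MulAut.conj_apply] at h2
      show y * x ^ j * y⁻¹ ∈ Subgroup.zpowers x
      rw [h2, hinv]
      exact Subgroup.zpow_mem _ (Subgroup.inv_mem _ (Subgroup.mem_zpowers x)) j
  -- V ∩ H = 1
  have hVH : ∀ u, u ∈ V → u ∈ H → u = 1 := by
    intro u huV huH
    have h1 : u * x * u⁻¹ ∈ Subgroup.zpowers x :=
      (Subgroup.mem_normalizer_iff.mp (hHn huH) x).mp (Subgroup.mem_zpowers x)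
    set c := u * x * u⁻¹ * x⁻¹ with hc
    have hcZ : c ∈ Subgroup.zpowers x :=
      Subgroup.mul_mem _ h1 (Subgroup.inv_mem _ (Subgroup.mem_zpowers x))
    have hcV : c ∈ V := by
      have : c = u * (x * u⁻¹ * x⁻¹) := by rw [hc]; group
      rw [this]
      exact V.mul_mem huV (‹V.Normal›.conj_mem _ (V.inv_mem huV) x)
    have hc1 : c = 1 := by
      have hc2 : c ^ 2 = 1 := by rw [pow_two]; exact hsq c hcV
      have hc3 : c ^ (3 ^ k) = 1 := by
        obtain ⟨j, hj⟩ := hcZ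
        rw [← hj, ← zpow_natCast, ← zpow_mul, mul_comm, zpow_mul, zpow_natCast, ← hk,
          pow_orderOf_eq_one, one_zpow]
      have hd2 : orderOf c ∣ 2 := orderOf_dvd_of_pow_eq_one hc2
      have hd3 : orderOf c ∣ 3 ^ k := orderOf_dvd_of_pow_eq_one hc3
      have hcop : Nat.Coprime 2 (3 ^ k) := Nat.Coprime.pow_right k (by norm_num)
      have : orderOf c ∣ 1 := by
        have := Nat.dvd_gcd hd2 hd3
        rwa [hcop] at this
      exact orderOf_eq_one_iff.mp (Nat.dvd_one.mp this)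
    have hux : x * u * x⁻¹ = u := by
      have h2 : u * x * u⁻¹ = x := by
        have : u * x * u⁻¹ = c * x := by rw [hc]; group
        rw [this, hc1, one_mul]
      calc x * u * x⁻¹ = (u * x * u⁻¹) * u * x⁻¹ := by rw [h2]
        _ = u := by group
    rcases hall u huV with h | h | h | h
    · exact h
    · exfalso; rw [h, hx0] at hux; exact h01 hux.symm
    · exfalso; rw [h, hx1] at hux; exact h12 hux.symm
    · exfalso; rw [h, hx2] at hux; exact h02 hux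
  -- the group K and the coset space
  let K : Subgroup E := V ⊔ H
  have hVK : V ≤ K := le_sup_left
  have hHK : H ≤ K := le_sup_right
  let Ω := ↥K ⧸ H.subgroupOf K
  let pt : ∀ e : E, e ∈ K → Ω := fun e he => QuotientGroup.mk (⟨e, he⟩ : K)
  have pt_eq : ∀ (a b : E) (ha : a ∈ K) (hb : b ∈ K), pt a ha = pt b hb ↔ a⁻¹ * b ∈ H := by
    intro a b ha hb
    show (QuotientGroup.mk (⟨a, ha⟩ : K) : Ω) = QuotientGroup.mk (⟨b, hb⟩ : K) ↔ _
    rw [QuotientGroup.eq, Subgroup.mem_subgroupOf]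
    rfl
  have pt_inj : ∀ (a b : E) (ha : a ∈ V) (hb : b ∈ V), pt a (hVK ha) = pt b (hVK hb) → a = b := by
    intro a b ha hb h
    rw [pt_eq] at h
    have := hVH _ (V.mul_mem (V.inv_mem ha) hb) h
    exact (inv_mul_eq_one.mp this)
  let g : Fin 4 → E := ![1, v₀, v₁, v₂]
  have hgV : ∀ i, g i ∈ V := by
    intro i; fin_cases i
    · exact V.one_mem
    · exact hv₀V
    · exact hv₁V
    · exact hv₂V
  have hginj : Function.Injective g := by
    intro i j h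
    fin_cases i <;> fin_cases j <;> simp [g] at h ⊢ <;> first | exact absurd h ‹_› | exact absurd h.symm ‹_›
  let f : Fin 4 → Ω := fun i => pt (g i) (hVK (hgV i))
  have hfinj : Function.Injective f := fun i j h => hginj (pt_inj _ _ (hgV i) (hgV j) h)
  have hfsurj : Function.Surjective f := by
    intro ω
    induction ω using QuotientGroup.induction_on with
    | H z =>
      obtain ⟨e, he⟩ := z
      obtain ⟨v, hv, h, hh, hvh⟩ := Subgroup.mem_sup_of_normal_left.mp he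
      have hvi : ∃ i, g i = v := by
        rcases hall v hv with h | h | h | h
        · exact ⟨0, h.symm⟩
        · exact ⟨1, h.symm⟩
        · exact ⟨2, h.symm⟩
        · exact ⟨3, h.symm⟩
      obtain ⟨i, hi⟩ := hvi
      refine ⟨i, ?_⟩
      show pt (g i) _ = pt e he
      rw [pt_eq, hi, ← hvh, inv_mul_cancel_left]
      exact hh
  let e₄ : Fin 4 ≃ Ω := Equiv.ofBijective f ⟨hfinj, hfsurj⟩
  have hΩcard : Nat.card Ω = 4 := by
    rw [← Nat.card_congr e₄]; simp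
  -- the action
  let ρ : K →* Equiv.Perm Ω := MulAction.toPermHom K Ω
  have hρ : ∀ (h a : E) (hh : h ∈ H) (ha : a ∈ K),
      ρ ⟨h, hHK hh⟩ (pt a ha) = pt (h * a * h⁻¹) (K.mul_mem (K.mul_mem (hHK hh) ha) (K.inv_mem (hHK hh))) := by
    intro h a hh ha
    have : ρ ⟨h, hHK hh⟩ (pt a ha) = pt (h * a) (K.mul_mem (hHK hh) ha) := rfl
    rw [this, pt_eq]
    have : (h * a)⁻¹ * (h * a * h⁻¹) = h⁻¹ := by group
    rw [this]; exact H.inv_mem hh
  have hρ' : ∀ (h a b : E) (hh : h ∈ H) (ha : a ∈ K) (hb : b ∈ K), h * a * h⁻¹ = b →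
      ρ ⟨h, hHK hh⟩ (pt a ha) = pt b hb := by
    intro h a b hh ha hb hab
    rw [hρ h a hh ha]
    congr 1
  set ω₀ : Ω := pt 1 K.one_mem with hω₀
  have hxω₀ : ρ ⟨x, hHK hxH⟩ ω₀ = ω₀ := hρ' x 1 1 hxH _ _ (by group)
  have hyω₀ : ρ ⟨y, hHK hyH⟩ ω₀ = ω₀ := hρ' y 1 1 hyH _ _ (by group)
  have hxne : ρ ⟨x, hHK hxH⟩ ≠ 1 := by
    intro h
    have h1 := hρ' x v₀ v₁ hxH (hVK hv₀V) (hVK hv₁V) hx0
    rw [h, Equiv.Perm.one_apply] at h1
    exact h01 (pt_inj _ _ hv₀V hv₁V h1)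
  have hyne : ρ ⟨y, hHK hyH⟩ ≠ 1 := by
    intro h
    have h1 := hρ' y v₁ v₂ hyH (hVK hv₁V) (hVK hv₂V) hy1
    rw [h, Equiv.Perm.one_apply] at h1
    exact h12 (pt_inj _ _ hv₁V hv₂V h1)
  -- orders
  have hxord : ∃ j, j ≠ 0 ∧ orderOf (ρ ⟨x, hHK hxH⟩) = 3 ^ j := by
    have hd : orderOf (ρ ⟨x, hHK hxH⟩) ∣ 3 ^ k := by
      have h1 := orderOf_map_dvd ρ ⟨x, hHK hxH⟩
      rw [Subgroup.orderOf_mk, hk] at h1
      exact h1
    obtain ⟨j, -, hj⟩ := (Nat.dvd_prime_pow Nat.prime_three).mp hd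
    refine ⟨j, ?_, hj⟩
    rintro rfl
    rw [pow_zero, orderOf_eq_one_iff] at hj
    exact hxne hj
  have hyord : ∃ j, j ≠ 0 ∧ orderOf (ρ ⟨y, hHK hyH⟩) = 2 ^ j := by
    have hd : orderOf (ρ ⟨y, hHK hyH⟩) ∣ 2 ^ k' := by
      have h1 := orderOf_map_dvd ρ ⟨y, hHK hyH⟩
      rw [Subgroup.orderOf_mk, hk'] at h1
      exact h1
    obtain ⟨j, -, hj⟩ := (Nat.dvd_prime_pow Nat.prime_two).mp hd
    refine ⟨j, ?_, hj⟩
    rintro rfl
    rw [pow_zero, orderOf_eq_one_iff] at hj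
    exact hyne hj
  -- the range
  let R : Subgroup (Equiv.Perm Ω) := ρ.range
  have hRtrans : MulAction.IsPretransitive R Ω := by
    constructor
    intro a b
    obtain ⟨z, hz⟩ := MulAction.exists_smul_eq K a b
    exact ⟨⟨ρ z, ⟨z, rfl⟩⟩, hz⟩
  have hidx := MulAction.index_stabilizer_of_transitive R ω₀
  have hcardR := Subgroup.card_mul_index (MulAction.stabilizer R ω₀)
  rw [hidx, hΩcard] at hcardR
  have hxst : (⟨ρ ⟨x, hHK hxH⟩, ⟨_, rfl⟩⟩ : R) ∈ MulAction.stabilizer R ω₀ := by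
    rw [MulAction.mem_stabilizer_iff]; exact hxω₀
  have hyst : (⟨ρ ⟨y, hHK hyH⟩, ⟨_, rfl⟩⟩ : R) ∈ MulAction.stabilizer R ω₀ := by
    rw [MulAction.mem_stabilizer_iff]; exact hyω₀
  have h3 : 3 ∣ Nat.card (MulAction.stabilizer R ω₀) := by
    obtain ⟨j, hj0, hj⟩ := hxord
    have := Subgroup.orderOf_dvd_natCard _ hxst
    have e : orderOf (⟨ρ ⟨x, hHK hxH⟩, ⟨_, rfl⟩⟩ : R) = orderOf (ρ ⟨x, hHK hxH⟩) :=
      Subgroup.orderOf_mk _ _
    rw [e, hj] at this
    exact dvd_trans (dvd_pow_self 3 hj0) this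
  have h2 : 2 ∣ Nat.card (MulAction.stabilizer R ω₀) := by
    obtain ⟨j, hj0, hj⟩ := hyord
    have := Subgroup.orderOf_dvd_natCard _ hyst
    have e : orderOf (⟨ρ ⟨y, hHK hyH⟩, ⟨_, rfl⟩⟩ : R) = orderOf (ρ ⟨y, hHK hyH⟩) :=
      Subgroup.orderOf_mk _ _
    rw [e, hj] at this
    exact dvd_trans (dvd_pow_self 2 hj0) this
  have h6 : 6 ∣ Nat.card (MulAction.stabilizer R ω₀) :=
    Nat.Coprime.mul_dvd_of_dvd_of_dvd (by norm_num : Nat.Coprime 2 3) h2 h3
  have h24 : 24 ∣ Nat.card R := by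
    rw [← hcardR]
    obtain ⟨c, hc⟩ := h6
    exact ⟨c, by rw [hc]; ring⟩
  have hperm : Nat.card (Equiv.Perm Ω) = 24 := by
    rw [Nat.card_perm, hΩcard]; rfl
  have hRtop : R = ⊤ := by
    apply Subgroup.eq_top_of_card_eq
    have h1 : Nat.card R ∣ 24 := hperm ▸ Subgroup.card_subgroup_dvd_card R
    rw [hperm]
    exact Nat.dvd_antisymm h1 h24
  have hρsurj : Function.Surjective ρ := MonoidHom.range_eq_top.mp hRtop
  rw [involves_iff_exists_surj]
  exact ⟨K, (e₄.symm.permCongrHom).toMonoidHom.comp ρ,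
    (e₄.symm.permCongrHom).surjective.comp hρsurj⟩


/-- An irreducible `2`-section acted on by an inverting pair yields `S₄`. -/
theorem involves_of_irreducible {E : Type*} [Group E] [Finite E] (V : Subgroup E) [V.Normal]
    (hV : IsPGroup 2 V) (x y : E) (hx : ∃ k : ℕ, orderOf x = 3 ^ k)
    (hy : ∃ k : ℕ, orderOf y = 2 ^ k)
    (hinv : y * x * y⁻¹ = x⁻¹) (hx3 : ∀ v ∈ V, x ^ 3 * v = v * x ^ 3)
    (hxV : ∃ v ∈ V, x * v ≠ v * x)
    (hirr : ∀ S : Subgroup E, S ≤ V → V ≤ Subgroup.normalizer (S : Set E) →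
      x ∈ Subgroup.normalizer (S : Set E) → y ∈ Subgroup.normalizer (S : Set E) → S = ⊥ ∨ S = V) :
    Involves (Equiv.Perm (Fin 4)) E := by
  obtain ⟨v₀, v₁, v₂, hv₀V, hv₁V, hv₂V, hall, hv₀1, hv₁1, hv₂1, hne01, hne02, hne12, hx0, hx1, hx2,
    -, hy1, -, hs0, hs1, hs2, -, -, -, -⟩ := irreducible_structure V hV x y hy hinv hx3 hxV hirr
  have hsq : ∀ v ∈ V, v * v = 1 := by
    intro v hv
    rcases hall v hv with h | h | h | h <;> rw [h]
    · exact one_mul 1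
    · exact hs0
    · exact hs1
    · exact hs2
  exact involves_of_structure V x y hx hy hinv v₀ v₁ v₂ hv₀V hv₁V hv₂V hall hv₀1 hv₁1 hv₂1
    hne01 hne02 hne12 hx0 hx1 hx2 hy1 hsq

end Cfsg.Agent.Lib.Helper99.S4Inv
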