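import Mathlib
import Cfsg.Agent.Lib.Helper99.S4InvB
import Cfsg.Agent.Lib.Helper24.Coprime

/-!
Tools for S2759, part C: quotient step, induction, and both directions of
"`S₄` is involved in `G` iff `S₃` is involved in `N(T)/C(T)` for some `2`-subgroup `T`".
-/

set_option autoImplicit false

namespace Cfsg.Agent.Lib.Helper99.S4Inv

open Cfsg Cfsg.Agent.Lib.Helper88


/-- quotient step: if `x` centralizes the normal subgroup `M < V`, and nothing invariant lies
strictly between `M` and `V`, then `S₄` is involved. -/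
theorem involves_of_quotient_step {G : Type*} [Group G] [Finite G] (V M : Subgroup G)
    [V.Normal] [M.Normal] (hV : IsPGroup 2 V) (hMV : M ≤ V) (x y : G)
    (hx : ∃ k : ℕ, orderOf x = 3 ^ k) (hy : ∃ k : ℕ, orderOf y = 2 ^ k)
    (hinv : y * x * y⁻¹ = x⁻¹) (hx3 : ∀ v ∈ V, x ^ 3 * v = v * x ^ 3)
    (hxV : ∃ v ∈ V, x * v ≠ v * x) (hxM : ∀ m ∈ M, x * m = m * x)
    (hmax : ∀ S : Subgroup G, M ≤ S → S ≤ V → V ≤ Subgroup.normalizer (S : Set G) →
      x ∈ Subgroup.normalizer (S : Set G) → y ∈ Subgroup.normalizer (S : Set G) →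
      S = M ∨ S = V) :
    Involves (Equiv.Perm (Fin 4)) G := by
  classical
  let π : G →* G ⧸ M := QuotientGroup.mk' M
  have hπ : Function.Surjective π := QuotientGroup.mk'_surjective M
  have hπ1 : ∀ g : G, π g = 1 ↔ g ∈ M := fun g => QuotientGroup.eq_one_iff g
  have hVn : (V.map π).Normal := Subgroup.Normal.map inferInstance π hπ
  have hV2 : IsPGroup 2 (V.map π) := hV.map π
  obtain ⟨k, hk⟩ := hx
  obtain ⟨k', hk'⟩ := hy
  have hx' : ∃ j : ℕ, orderOf (π x) = 3 ^ j := by
    have hd : orderOf (π x) ∣ 3 ^ k := hk ▸ orderOf_map_dvd π x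
    obtain ⟨j, -, hj⟩ := (Nat.dvd_prime_pow Nat.prime_three).mp hd
    exact ⟨j, hj⟩
  have hy' : ∃ j : ℕ, orderOf (π y) = 2 ^ j := by
    have hd : orderOf (π y) ∣ 2 ^ k' := hk' ▸ orderOf_map_dvd π y
    obtain ⟨j, -, hj⟩ := (Nat.dvd_prime_pow Nat.prime_two).mp hd
    exact ⟨j, hj⟩
  have hinv' : π y * π x * (π y)⁻¹ = (π x)⁻¹ := by
    rw [← map_inv, ← map_mul, ← map_mul, hinv, map_inv]
  have hx3' : ∀ v ∈ V.map π, π x ^ 3 * v = v * π x ^ 3 := by
    rintro _ ⟨v, hv, rfl⟩
    rw [← map_pow, ← map_mul, ← map_mul, hx3 v hv]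
  have hxV' : ∃ v ∈ V.map π, π x * v ≠ v * π x := by
    by_contra hcon
    push Not at hcon
    obtain ⟨w, hwV, hwx⟩ := hxV
    apply hwx
    apply Cfsg.Agent.Lib.Helper24.commute_of_comm_commute_of_coprime
    · have hz : w⁻¹ * (x * w * x⁻¹) ∈ M := by
        rw [← hπ1]
        have := hcon (π w) ⟨w, hwV, rfl⟩
        rw [map_mul, map_inv, map_mul, map_mul, this, map_inv]
        group
      exact hxM _ hz
    · have hz : w⁻¹ * (x * w * x⁻¹) ∈ V :=
        V.mul_mem (V.inv_mem hwV) (‹V.Normal›.conj_mem w hwV x)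
      obtain ⟨i, hi⟩ := (IsPGroup.iff_orderOf.mp hV) ⟨_, hz⟩
      rw [Subgroup.orderOf_mk] at hi
      rw [hk, hi]
      exact Nat.Coprime.pow _ _ (by norm_num)
  have hirr : ∀ S : Subgroup (G ⧸ M), S ≤ V.map π →
      V.map π ≤ Subgroup.normalizer (S : Set (G ⧸ M)) →
      π x ∈ Subgroup.normalizer (S : Set (G ⧸ M)) → π y ∈ Subgroup.normalizer (S : Set (G ⧸ M)) →
      S = ⊥ ∨ S = V.map π := by
    intro S hSV hVS hxS hyS
    have hnorm : ∀ g : G, π g ∈ Subgroup.normalizer (S : Set (G ⧸ M)) →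
        g ∈ Subgroup.normalizer ((S.comap π : Subgroup G) : Set G) := by
      intro g hg
      apply mem_normalizer_of_forall_conj_mem
      intro a ha
      rw [Subgroup.mem_comap] at ha ⊢
      rw [map_mul, map_mul, map_inv]
      exact (Subgroup.mem_normalizer_iff.mp hg _).mp ha
    have hMS : M ≤ S.comap π := by
      intro m hm
      rw [Subgroup.mem_comap, (hπ1 m).mpr hm]
      exact S.one_mem
    have hSV' : S.comap π ≤ V := by
      intro s hs
      rw [Subgroup.mem_comap] at hs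
      obtain ⟨v, hv, hvs⟩ := hSV hs
      have : v⁻¹ * s ∈ M := by
        rw [← hπ1, map_mul, map_inv, hvs, inv_mul_cancel]
      have h2 := V.mul_mem hv (hMV this)
      rwa [mul_inv_cancel_left] at h2
    have hSeq : S = (S.comap π).map π := (Subgroup.map_comap_eq_self_of_surjective hπ S).symm
    rcases hmax (S.comap π) hMS hSV' (fun v hv => hnorm v (hVS ⟨v, hv, rfl⟩)) (hnorm x hxS)
      (hnorm y hyS) with h | h
    · left
      rw [hSeq, h, eq_bot_iff]
      rintro _ ⟨m, hm, rfl⟩
      rw [Subgroup.mem_bot, hπ1]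
      exact hm
    · right
      rw [hSeq, h]
  exact Involves.of_quotient M
    (involves_of_irreducible (V.map π) hV2 (π x) (π y) hx' hy' hinv' hx3' hxV' hirr)



/-- Main induction: a `2`-subgroup `V` normalized by an inverting pair `(x, y)` with `x` acting
nontrivially (and `x ^ 3` trivially) yields `S₄` as a section. -/
theorem involves_of_two_subgroup {G : Type*} [Group G] [Finite G] :
    ∀ (n : ℕ) (V : Subgroup G), Nat.card V = n → IsPGroup 2 V → ∀ x y : G,
      x ∈ Subgroup.normalizer (V : Set G) → y ∈ Subgroup.normalizer (V : Set G) →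
      (∃ k : ℕ, orderOf x = 3 ^ k) → (∃ k : ℕ, orderOf y = 2 ^ k) →
      y * x * y⁻¹ = x⁻¹ → (∀ v ∈ V, x ^ 3 * v = v * x ^ 3) → (∃ v ∈ V, x * v ≠ v * x) →
      Involves (Equiv.Perm (Fin 4)) G := by
  intro n
  induction n using Nat.strong_induction_on with
  | _ n ih =>
    intro V hcard hV x y hxN hyN hx hy hinv hx3 hxV
    classical
    let 𝓜 : Set (Subgroup G) := {S | S ≤ V ∧ S ≠ V ∧ V ≤ Subgroup.normalizer (S : Set G) ∧
      x ∈ Subgroup.normalizer (S : Set G) ∧ y ∈ Subgroup.normalizer (S : Set G)}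
    have hbot : (⊥ : Subgroup G) ∈ 𝓜 := by
      refine ⟨bot_le, ?_, ?_, ?_, ?_⟩
      · intro h
        obtain ⟨v, hv, hvx⟩ := hxV
        rw [← h, Subgroup.mem_bot] at hv
        rw [hv] at hvx
        simp at hvx
      · rw [Subgroup.normalizer_eq_top]; exact le_top
      · rw [Subgroup.normalizer_eq_top]; trivial
      · rw [Subgroup.normalizer_eq_top]; trivial
    obtain ⟨M, hM𝓜, hMmax⟩ := Set.exists_max_image 𝓜 (fun S => Nat.card S) (Set.toFinite 𝓜)
      ⟨⊥, hbot⟩
    obtain ⟨hMV, hMne, hVM, hxM, hyM⟩ := hM𝓜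
    by_cases hcase : ∀ m ∈ M, x * m = m * x
    · -- quotient step inside `N(V) ⊓ N(M)`
      let G₁ : Subgroup G := Subgroup.normalizer (V : Set G) ⊓ Subgroup.normalizer (M : Set G)
      have hG₁V : G₁ ≤ Subgroup.normalizer (V : Set G) := inf_le_left
      have hG₁M : G₁ ≤ Subgroup.normalizer (M : Set G) := inf_le_right
      have hVG₁ : V ≤ G₁ := le_inf Subgroup.le_normalizer hVM
      have hMG₁ : M ≤ G₁ := hMV.trans hVG₁
      have hxG₁ : x ∈ G₁ := ⟨hxN, hxM⟩
      have hyG₁ : y ∈ G₁ := ⟨hyN, hyM⟩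
      have hVn : (V.subgroupOf G₁).Normal := Subgroup.normal_subgroupOf_of_le_normalizer hG₁V
      have hMn : (M.subgroupOf G₁).Normal := Subgroup.normal_subgroupOf_of_le_normalizer hG₁M
      have hV2 : IsPGroup 2 (V.subgroupOf G₁) := hV.comap_subtype
      have hMV₁ : M.subgroupOf G₁ ≤ V.subgroupOf G₁ := fun a ha => hMV ha
      have key : Involves (Equiv.Perm (Fin 4)) G₁ := by
        apply involves_of_quotient_step (V.subgroupOf G₁) (M.subgroupOf G₁) hV2 hMV₁
          (⟨x, hxG₁⟩ : G₁) (⟨y, hyG₁⟩ : G₁)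
        · obtain ⟨k, hk⟩ := hx
          exact ⟨k, by rw [Subgroup.orderOf_mk, hk]⟩
        · obtain ⟨k, hk⟩ := hy
          exact ⟨k, by rw [Subgroup.orderOf_mk, hk]⟩
        · apply Subtype.ext
          simpa using hinv
        · intro v hv
          apply Subtype.ext
          have := hx3 (v : G) hv
          simpa using this
        · obtain ⟨v, hv, hvx⟩ := hxV
          refine ⟨⟨v, hVG₁ hv⟩, hv, ?_⟩
          intro h
          apply hvx
          have := congrArg Subtype.val h
          simpa using this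
        · intro m hm
          apply Subtype.ext
          have := hcase (m : G) hm
          simpa using this
        · intro S hMS hSV hVS hxS hyS
          -- transfer to `G`
          have hSV' : S.map G₁.subtype ≤ V := by
            rintro _ ⟨s, hs, rfl⟩
            exact hSV hs
          have hmemS : ∀ (a : G) (ha : a ∈ G₁), a ∈ S.map G₁.subtype ↔ (⟨a, ha⟩ : G₁) ∈ S := by
            intro a ha
            constructor
            · rintro ⟨s, hs, hsa⟩
              have : s = ⟨a, ha⟩ := Subtype.ext hsa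
              rwa [← this]
            · intro h
              exact ⟨⟨a, ha⟩, h, rfl⟩
          have hnorm : ∀ (g : G) (hg : g ∈ G₁),
              (⟨g, hg⟩ : G₁) ∈ Subgroup.normalizer (S : Set G₁) →
              g ∈ Subgroup.normalizer ((S.map G₁.subtype : Subgroup G) : Set G) := by
            intro g hg hgS
            apply mem_normalizer_of_forall_conj_mem
            rintro _ ⟨s, hs, rfl⟩
            have h1 := (Subgroup.mem_normalizer_iff.mp hgS s).mp hs
            exact ⟨_, h1, rfl⟩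
          by_cases hSeq : S.map G₁.subtype = V
          · right
            ext a
            rw [Subgroup.mem_subgroupOf, ← hSeq, hmemS]
          · left
            have hS𝓜 : S.map G₁.subtype ∈ 𝓜 :=
              ⟨hSV', hSeq, fun v hv => hnorm v (hVG₁ hv) (hVS (show (⟨v, hVG₁ hv⟩ : G₁) ∈ V.subgroupOf G₁ from hv)),
                hnorm x hxG₁ hxS, hnorm y hyG₁ hyS⟩
            have hle := hMmax _ hS𝓜
            have hMS' : M ≤ S.map G₁.subtype := by
              intro m hm
              rw [hmemS m (hMG₁ hm)]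
              exact hMS (show (⟨m, hMG₁ hm⟩ : G₁) ∈ M.subgroupOf G₁ from hm)
            have hEq : M = S.map G₁.subtype := Subgroup.eq_of_le_of_card_ge hMS' hle
            ext a
            rw [Subgroup.mem_subgroupOf, hEq, hmemS]
      exact Involves.of_subgroup G₁ key
    · -- recursion on `M`
      push Not at hcase
      have hlt : Nat.card M < n := by
        rw [← hcard]
        by_contra hge
        push Not at hge
        exact hMne (Subgroup.eq_of_le_of_card_ge hMV hge)
      exact ih (Nat.card M) hlt M rfl (hV.to_le hMV) x y hxM hyM hx hy hinv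
        (fun v hv => hx3 v (hMV hv)) hcase



/-- an inverting pair in `G` from `S₃` being involved in `N(T)/C(T)` -/
theorem exists_pair_of_involves {G : Type*} [Group G] [Finite G] (T : Subgroup G)
    (h : Involves (Equiv.Perm (Fin 3)) (↥(Subgroup.normalizer (T : Set G)) ⧸
      (Subgroup.centralizer (T : Set G)).subgroupOf (Subgroup.normalizer (T : Set G)))) :
    ∃ x y : G, x ∈ Subgroup.normalizer (T : Set G) ∧ y ∈ Subgroup.normalizer (T : Set G) ∧
      (∃ k : ℕ, orderOf x = 3 ^ k) ∧ (∃ k : ℕ, orderOf y = 2 ^ k) ∧ y * x * y⁻¹ = x⁻¹ ∧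
      x ∉ Subgroup.centralizer (T : Set G) := by
  rw [involves_iff_exists_surj] at h
  obtain ⟨H₀, ψ₀, hψ₀⟩ := h
  let π := QuotientGroup.mk' ((Subgroup.centralizer (T : Set G)).subgroupOf
    (Subgroup.normalizer (T : Set G)))
  have hπ : Function.Surjective π := QuotientGroup.mk'_surjective _
  let ψ₁ : H₀.comap π →* Equiv.Perm (Fin 3) := ψ₀.comp (π.subgroupComap H₀)
  have hψ₁ : Function.Surjective ψ₁ :=
    hψ₀.comp (MonoidHom.subgroupComap_surjective_of_surjective π H₀ hπ)
  obtain ⟨x₁, y₁, ⟨k, hk⟩, ⟨k', hk'⟩, hinv, hne⟩ := exists_inverting_pair ψ₁ hψ₁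
  refine ⟨((x₁ : Subgroup.normalizer (T : Set G)) : G), ((y₁ : Subgroup.normalizer (T : Set G)) : G),
    (x₁ : Subgroup.normalizer (T : Set G)).2, (y₁ : Subgroup.normalizer (T : Set G)).2,
    ⟨k, ?_⟩, ⟨k', ?_⟩, ?_, ?_⟩
  · rw [Subgroup.orderOf_coe, Subgroup.orderOf_coe, hk]
  · rw [Subgroup.orderOf_coe, Subgroup.orderOf_coe, hk']
  · have := congrArg (fun z : H₀.comap π => ((z : Subgroup.normalizer (T : Set G)) : G)) hinv
    simpa using this
  · intro hc
    apply hne
    have h1 : π (x₁ : Subgroup.normalizer (T : Set G)) = 1 := by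
      rw [QuotientGroup.mk'_apply, QuotientGroup.eq_one_iff, Subgroup.mem_subgroupOf]
      exact hc
    have h2 : (π.subgroupComap H₀) x₁ = 1 := by
      apply Subtype.ext
      exact h1
    show ψ₀ ((π.subgroupComap H₀) x₁) = 1
    rw [h2, map_one]

/-- power reduction: we may assume `x ^ 3` centralizes `T` -/
theorem exists_pow_reduction {G : Type*} [Group G] (T : Subgroup G) (x y : G)
    (hx : ∃ k : ℕ, orderOf x = 3 ^ k) (hinv : y * x * y⁻¹ = x⁻¹)
    (hxN : x ∈ Subgroup.normalizer (T : Set G))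
    (hxT : x ∉ Subgroup.centralizer (T : Set G)) :
    ∃ x' : G, x' ∈ Subgroup.normalizer (T : Set G) ∧ (∃ k : ℕ, orderOf x' = 3 ^ k) ∧
      y * x' * y⁻¹ = x'⁻¹ ∧ (∀ t ∈ T, x' ^ 3 * t = t * x' ^ 3) ∧ (∃ t ∈ T, x' * t ≠ t * x') := by
  classical
  obtain ⟨k, hk⟩ := hx
  have hex : ∃ j : ℕ, x ^ (3 ^ j) ∈ Subgroup.centralizer (T : Set G) :=
    ⟨k, by rw [← hk, pow_orderOf_eq_one]; exact Subgroup.one_mem _⟩
  have hj0 : Nat.find hex ≠ 0 := by
    intro h0
    have := Nat.find_spec hex
    rw [h0, pow_zero, pow_one] at this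
    exact hxT this
  obtain ⟨i, hi⟩ : ∃ i, Nat.find hex = i + 1 := ⟨Nat.find hex - 1, by omega⟩
  have hnot : x ^ (3 ^ i) ∉ Subgroup.centralizer (T : Set G) := Nat.find_min hex (by omega)
  have hmem : x ^ (3 ^ (i + 1)) ∈ Subgroup.centralizer (T : Set G) := hi ▸ Nat.find_spec hex
  refine ⟨x ^ (3 ^ i), Subgroup.pow_mem _ hxN _, ?_, ?_, ?_, ?_⟩
  · have hd : orderOf (x ^ (3 ^ i)) ∣ 3 ^ k := hk ▸ orderOf_pow_dvd _
    obtain ⟨j, -, hj⟩ := (Nat.dvd_prime_pow Nat.prime_three).mp hd
    exact ⟨j, hj⟩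
  · have h2 := map_pow (MulAut.conj y) x (3 ^ i)
    simp only [MulAut.conj_apply] at h2
    rw [h2, hinv, inv_pow]
  · intro t ht
    have : (x ^ 3 ^ i) ^ 3 = x ^ (3 ^ (i + 1)) := by rw [← pow_mul, pow_succ]
    rw [this]
    exact ((Subgroup.mem_centralizer_iff.mp hmem) t ht).symm
  · by_contra hall
    push Not at hall
    apply hnot
    rw [Subgroup.mem_centralizer_iff]
    intro t ht
    exact (hall t ht).symm

/-- (⇐) of S2759 -/
theorem involves_four_of_involves_three {G : Type*} [Group G] [Finite G] (T : Subgroup G)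
    (hT : IsPGroup 2 T)
    (h : Involves (Equiv.Perm (Fin 3)) (↥(Subgroup.normalizer (T : Set G)) ⧸
      (Subgroup.centralizer (T : Set G)).subgroupOf (Subgroup.normalizer (T : Set G)))) :
    Involves (Equiv.Perm (Fin 4)) G := by
  obtain ⟨x, y, hxN, hyN, hx, hy, hinv, hxT⟩ := exists_pair_of_involves T h
  obtain ⟨x', hx'N, hx', hinv', hx3, hx'T⟩ := exists_pow_reduction T x y hx hinv hxN hxT
  exact involves_of_two_subgroup (Nat.card T) T rfl hT x' y hx'N hyN hx' hy hinv' hx3 hx'T



theorem mem_phi_ker_iff (σ : Equiv.Perm (Fin 4)) : σ ∈ phi.ker ↔ ∀ i, phiFun σ i = i := by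
  rw [MonoidHom.mem_ker]
  constructor
  · intro h i; rw [← phi_apply, h]; rfl
  · intro h; ext i; simp [phi_apply, h]

/-- (⇒) of S2759 -/
theorem involves_three_of_involves_four {G : Type*} [Group G] [Finite G]
    (h : Involves (Equiv.Perm (Fin 4)) G) :
    ∃ T : Subgroup G, IsPGroup 2 T ∧ Involves (Equiv.Perm (Fin 3))
      (↥(Subgroup.normalizer (T : Set G)) ⧸
        (Subgroup.centralizer (T : Set G)).subgroupOf (Subgroup.normalizer (T : Set G))) := by
  classical
  have : Fact (Nat.Prime 2) := ⟨Nat.prime_two⟩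
  rw [involves_iff_exists_surj] at h
  obtain ⟨K, f, hf⟩ := h
  let g : K →* Equiv.Perm (Fin 3) := phi.comp f
  have hg : Function.Surjective g := phi_surjective.comp hf
  let Vt : Subgroup K := g.ker
  obtain ⟨P⟩ : Nonempty (Sylow 2 Vt) := inferInstance
  set P' : Subgroup K := (P : Subgroup Vt).map Vt.subtype with hP'
  set T : Subgroup G := P'.map K.subtype with hT
  have hT2 : IsPGroup 2 T := (P.isPGroup'.map _).map _
  have hfr : Subgroup.normalizer ((P' : Subgroup K) : Set K) ⊔ Vt = ⊤ := by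
    rw [hP']; exact Sylow.normalizer_sup_eq_top P
  -- f maps P' onto the kernel of phi
  have hfV : ∀ a : Vt, f (a : K) ∈ phi.ker := by
    intro a
    rw [MonoidHom.mem_ker]
    exact a.2
  let f' : Vt →* phi.ker := (f.comp Vt.subtype).codRestrict phi.ker hfV
  have hf' : Function.Surjective f' := by
    rintro ⟨k, hk⟩
    obtain ⟨a, ha⟩ := hf k
    have haV : a ∈ Vt := by
      show a ∈ g.ker
      rw [MonoidHom.mem_ker]
      show phi (f a) = 1
      rw [ha]; exact hk
    exact ⟨⟨a, haV⟩, Subtype.ext ha⟩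
  have hker2 : IsPGroup 2 (⊤ : Subgroup phi.ker) := by
    have h4 : IsPGroup 2 phi.ker := IsPGroup.of_card (n := 2) (by rw [card_phi_ker]; norm_num)
    intro x
    obtain ⟨k, hk⟩ := h4 (x : phi.ker)
    exact ⟨k, Subtype.ext (by simpa using hk)⟩
  have htop : ((P.mapSurjective hf' : Sylow 2 phi.ker) : Subgroup phi.ker) = ⊤ :=
    ((P.mapSurjective hf').is_maximal' hker2 le_top).symm
  rw [Sylow.coe_mapSurjective] at htop
  have honto : ∀ k ∈ phi.ker, ∃ a ∈ P', f a = k := by
    intro k hk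
    have : (⟨k, hk⟩ : phi.ker) ∈ (P : Subgroup Vt).map f' := by rw [htop]; trivial
    obtain ⟨a, haP, ha⟩ := this
    exact ⟨(a : K), ⟨a, haP, rfl⟩, congrArg Subtype.val ha⟩
  -- the normalizer of P'
  let N' : Subgroup K := Subgroup.normalizer ((P' : Subgroup K) : Set K)
  have hgN : Function.Surjective (g.comp N'.subtype) := by
    intro τ
    obtain ⟨z, hz⟩ := hg τ
    have hmem : z ∈ Subgroup.normalizer ((P' : Subgroup K) : Set K) ⊔ Vt := by rw [hfr]; trivial
    rw [Subgroup.mem_sup_of_normal_right] at hmem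
    obtain ⟨n, hn, v, hv, hnv⟩ := hmem
    refine ⟨⟨n, hn⟩, ?_⟩
    show g n = τ
    have hv1 : g v = 1 := hv
    rw [← hz, ← hnv, map_mul, hv1, mul_one]
  have hcent : ∀ n : N', ((n : K) : G) ∈ Subgroup.centralizer (T : Set G) → g (n : K) = 1 := by
    intro n hn
    have hcomm : ∀ k ∈ phi.ker, f (n : K) * k = k * f (n : K) := by
      intro k hk
      obtain ⟨a, haP, ha⟩ := honto k hk
      have haT : (a : G) ∈ T := ⟨a, haP, rfl⟩
      have h1 := (Subgroup.mem_centralizer_iff.mp hn) (a : G) haT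
      have h2 : (n : K) * a = a * (n : K) := by
        apply Subtype.ext
        simpa using h1.symm
      rw [← ha, ← map_mul, ← map_mul, h2]
    have := centralizer_phi_ker (f (n : K)) (fun k hk => hcomm k ((mem_phi_ker_iff k).mpr hk))
    show phi (f (n : K)) = 1
    exact (MonoidHom.mem_ker).mp ((mem_phi_ker_iff _).mpr this)
  have hNT : ∀ n : N', ((n : K) : G) ∈ Subgroup.normalizer (T : Set G) := by
    intro n
    apply mem_normalizer_of_forall_conj_mem
    rintro _ ⟨a, haP, rfl⟩
    have h1 := (Subgroup.mem_normalizer_iff.mp n.2 a).mp haP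
    exact ⟨_, h1, by simp⟩
  let ι : N' →* Subgroup.normalizer (T : Set G) :=
    ((K.subtype).comp N'.subtype).codRestrict (Subgroup.normalizer (T : Set G)) hNT
  let π := QuotientGroup.mk' ((Subgroup.centralizer (T : Set G)).subgroupOf
    (Subgroup.normalizer (T : Set G)))
  let θ := π.comp ι
  have hker : θ.ker ≤ (g.comp N'.subtype).ker := by
    intro n hn
    rw [MonoidHom.mem_ker] at hn ⊢
    have h1 : ι n ∈ (Subgroup.centralizer (T : Set G)).subgroupOf
        (Subgroup.normalizer (T : Set G)) := by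
      rw [← QuotientGroup.eq_one_iff]
      exact hn
    rw [Subgroup.mem_subgroupOf] at h1
    exact hcent n h1
  let lft : N' ⧸ θ.ker →* Equiv.Perm (Fin 3) := QuotientGroup.lift θ.ker (g.comp N'.subtype) hker
  have hlft : Function.Surjective lft := by
    intro τ
    obtain ⟨n, hn⟩ := hgN τ
    exact ⟨QuotientGroup.mk n, hn⟩
  refine ⟨T, hT2, ?_⟩
  rw [involves_iff_exists_surj]
  exact ⟨θ.range, lft.comp (QuotientGroup.quotientKerEquivRange θ).symm.toMonoidHom,
    hlft.comp (QuotientGroup.quotientKerEquivRange θ).symm.surjective⟩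


end Cfsg.Agent.Lib.Helper99.S4Inv
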