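/-
helper99: S5707 project (Sp_k wr S_t < Spin < Ω⁺, q even, k ∈ {2,4}).  Shared DEFINITIONS only.

Standard coordinates: `V = (Fin t → Fin k) → F`.  `op i N` is the matrix `N` acting in the `i`-th
tensor factor, `ptM gs` the pure tensor of matrices, `pmM σ` the factor permutation, `pureV xs`
the pure tensor of vectors, `gram k t c` the Gram matrix `c • J^{⊗t}` (`J` = antidiagonal ones).
`CData k F` packages a "Clifford subspace" `s ⊆ M_k(F)` (trace-zero matrices for `k = 2`, the
5-dimensional space `E₅` for `k = 4`); `IsCl D X` says `X = ∑ i, op i (Ns i)` with `Ns i ∈ D.s`;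
`Nrm D t` is the normaliser of that subspace in `GL`.
-/
import Mathlib
import Cfsg.Prelude.Def_GeometricClasses

set_option autoImplicit false

namespace Cfsg.Agent.Lib.Helper99.TW

open Matrix

/-- multi-indices -/
abbrev Idx (k t : ℕ) : Type := Fin t → Fin k

section defs
variable {F : Type*} [Field F] {k t : ℕ}

/-- the matrix `N` acting in the `i`-th tensor factor -/
def op (i : Fin t) (N : Matrix (Fin k) (Fin k) F) : Matrix (Idx k t) (Idx k t) F :=
  fun a b => if ∀ j, j ≠ i → a j = b j then N (a i) (b i) else 0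

/-- pure tensor of matrices -/
def ptM (gs : Fin t → Matrix (Fin k) (Fin k) F) : Matrix (Idx k t) (Idx k t) F :=
  fun a b => ∏ i, gs i (a i) (b i)

/-- factor permutation matrix (same formula as `Cfsg.Geo.IsFactorPermutation`) -/
def pmM (σ : Equiv.Perm (Fin t)) : Matrix (Idx k t) (Idx k t) F :=
  fun a b => if b = a ∘ σ then 1 else 0

/-- pure tensor of vectors -/
def pureV (xs : Fin t → Fin k → F) : Idx k t → F := fun a => ∏ i, xs i (a i)

/-- the complementary multi-index -/
def bar (a : Idx k t) : Idx k t := fun i => Fin.rev (a i)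

end defs

/-- antidiagonal matrix of ones -/
def Jm (k : ℕ) (F : Type*) [Field F] : Matrix (Fin k) (Fin k) F :=
  fun i j => if j = Fin.rev i then 1 else 0

/-- the Gram matrix `c • J^{⊗t}` -/
def gram {F : Type*} [Field F] (k t : ℕ) (c : F) : Matrix (Idx k t) (Idx k t) F :=
  fun a b => c * ∏ i, Jm k F (a i) (b i)

/-- "Clifford data": a subspace `s` of `M_k(F)` all of whose elements square to scalars and are
self-adjoint for `J`, stable under the conjugations that respect `J`-adjoints, together with two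
explicit elements `S`, `nu` and the index `h` (`= k/2`) with `S e_0 = e_h`, `S e_h = e_0`,
`nu e_h = e_0`, `(nu S) e_h = 0`. -/
structure CData (k : ℕ) (F : Type*) [Field F] [NeZero k] where
  s : Submodule F (Matrix (Fin k) (Fin k) F)
  one_mem : (1 : Matrix (Fin k) (Fin k) F) ∈ s
  q : Matrix (Fin k) (Fin k) F → F
  sq : ∀ N ∈ s, N * N = q N • (1 : Matrix (Fin k) (Fin k) F)
  selfadj : ∀ N ∈ s, Nᵀ * Jm k F = Jm k F * N
  inv : ∀ (g : GL (Fin k) F) (N : Matrix (Fin k) (Fin k) F), N ∈ s →
    (∀ Y Y' : Matrix (Fin k) (Fin k) F, Yᵀ * Jm k F = Jm k F * Y' →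
      ((g : Matrix (Fin k) (Fin k) F) * Y * ((g⁻¹ : GL (Fin k) F) : Matrix (Fin k) (Fin k) F))ᵀ *
          Jm k F =
        Jm k F * ((g : Matrix (Fin k) (Fin k) F) * Y' *
          ((g⁻¹ : GL (Fin k) F) : Matrix (Fin k) (Fin k) F))) →
    (g : Matrix (Fin k) (Fin k) F) * N * ((g⁻¹ : GL (Fin k) F) : Matrix (Fin k) (Fin k) F) ∈ s
  S : Matrix (Fin k) (Fin k) F
  nu : Matrix (Fin k) (Fin k) F
  S_mem : S ∈ s
  nu_mem : nu ∈ s
  S_sq : S * S = 1
  nu_sq : nu * nu = 0
  anti : nu * S + S * nu = 1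
  h : Fin k
  h_ne : h ≠ 0
  S_zero : ∀ l, S l 0 = if l = h then 1 else 0
  S_h : ∀ l, S l h = if l = 0 then 1 else 0
  nu_h : ∀ l, nu l h = if l = 0 then 1 else 0
  nuS_h : ∀ l, (nu * S) l h = 0

section cl
variable {F : Type*} [Field F] {k : ℕ} [NeZero k]

/-- `X` lies in the Clifford subspace `∑ i, op i (D.s)` of `End V`. -/
def IsCl (D : CData k F) {t : ℕ} (X : Matrix (Idx k t) (Idx k t) F) : Prop :=
  ∃ Ns : Fin t → Matrix (Fin k) (Fin k) F, (∀ i, Ns i ∈ D.s) ∧ X = ∑ i, op i (Ns i)

/-- the normaliser in `GL` of the Clifford subspace -/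
def Nrm (D : CData k F) (t : ℕ) : Subgroup (GL (Idx k t) F) where
  carrier := {g | ∀ X : Matrix (Idx k t) (Idx k t) F,
    IsCl D X ↔ IsCl D ((g : Matrix (Idx k t) (Idx k t) F) * X *
      ((g⁻¹ : GL (Idx k t) F) : Matrix (Idx k t) (Idx k t) F))}
  mul_mem' {a b} ha hb := by
    intro X
    rw [hb X, ha, Units.val_mul, _root_.mul_inv_rev, Units.val_mul]
    constructor <;> intro h <;> simpa [mul_assoc] using h
  one_mem' := by
    intro X
    simp
  inv_mem' {a} ha := by
    intro X
    have h := ha (((a⁻¹ : GL (Idx k t) F) : Matrix (Idx k t) (Idx k t) F) * X *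
      (a : Matrix (Idx k t) (Idx k t) F))
    rw [inv_inv]
    rw [h]
    constructor <;> intro h' <;>
      simpa [mul_assoc, ← Units.val_mul] using h'

/-- how an element of the tensor-wreath group conjugates the operators `op i N` -/
def Track {t : ℕ} (g : GL (Idx k t) F) : Prop :=
  ∃ (σ : Equiv.Perm (Fin t)) (gs : Fin t → GL (Fin k) F),
    ∀ (i : Fin t) (N : Matrix (Fin k) (Fin k) F),
      (g : Matrix (Idx k t) (Idx k t) F) * op i N *
          ((g⁻¹ : GL (Idx k t) F) : Matrix (Idx k t) (Idx k t) F) =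
        op (σ i) ((gs i : Matrix (Fin k) (Fin k) F) * N *
          (((gs i)⁻¹ : GL (Fin k) F) : Matrix (Fin k) (Fin k) F))

end cl

end Cfsg.Agent.Lib.Helper99.TW
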