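import Mathlib
import Cfsg.Prelude.Def_GeometricClasses
import Cfsg.Agent.Lib.Helper99.AschDefs
import Cfsg.Agent.Lib.Helper99.AschDefsR
import Cfsg.Agent.Lib.Helper39.AschC3
import Cfsg.Agent.Lib.Helper47.AschDet4
import Cfsg.Agent.Lib.Helper1.AschC6
import Cfsg.Agent.Lib.Helper11.AschResid
import Cfsg.Agent.Lib.Helper37.AschC8R

/-!
# Project ASCH: `GeoR` variants of the modules [C3], [DET4], [C6], [RESID]

The proofs are those of helper39 (C3), helper47 (DET4), helper1 (C6), helper11 (RESID), with the conclusion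
`Geo H` replaced by the refined `GeoR H`.
-/

set_option autoImplicit false

namespace Cfsg.Agent.Lib.Helper99.AschR

open Cfsg Cfsg.Geo Module Cfsg.Agent.Lib.Helper99.Asch
open scoped MatrixGroups Matrix

section C3
variable {n : ℕ} {F : Type*} [Field F] [Fintype F]

theorem geoR_of_normalized_field (H : Subgroup (GL (Fin n) F))
    (K : Subalgebra F (Matrix (Fin n) (Fin n) F))
    (hcomm : ∀ x ∈ K, ∀ y ∈ K, x * y = y * x)
    (hinv : ∀ x ∈ K, x ≠ 0 → ∃ y ∈ K, x * y = 1)
    (hbig : ∃ x ∈ K, ∀ c : F, x ≠ c • (1 : Matrix (Fin n) (Fin n) F))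
    (hnorm : ∀ h ∈ H, ∀ k ∈ K,
      (h : Matrix (Fin n) (Fin n) F) * k * ((h⁻¹ : GL (Fin n) F) : Matrix (Fin n) (Fin n) F) ∈ K) :
    GeoR H := by
  classical
  -- the matrix ring is nontrivial
  have hnt : Nontrivial (Matrix (Fin n) (Fin n) F) := by
    by_contra hnt
    rw [not_nontrivial_iff_subsingleton] at hnt
    obtain ⟨x, -, hx⟩ := hbig
    exact hx 0 (Subsingleton.elim _ _)
  -- `K` is a field
  have hKfield : IsField K := by
    refine ⟨⟨0, 1, ?_⟩, ?_, ?_⟩
    · intro h01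
      have := congrArg (Subtype.val) h01
      exact zero_ne_one this
    · intro x y
      exact Subtype.ext (hcomm x x.2 y y.2)
    · intro a ha
      have ha' : (a : Matrix (Fin n) (Fin n) F) ≠ 0 := fun h0 => ha (Subtype.ext h0)
      obtain ⟨y, hyK, hy⟩ := hinv a a.2 ha'
      exact ⟨⟨y, hyK⟩, Subtype.ext hy⟩
  -- the degree
  have hs1 : finrank F K ≠ 1 := by
    intro h1
    rw [Subalgebra.finrank_eq_one_iff] at h1
    obtain ⟨x, hxK, hx⟩ := hbig
    rw [h1, Algebra.mem_bot] at hxK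
    obtain ⟨c, rfl⟩ := hxK
    exact hx c (by rw [Algebra.algebraMap_eq_smul_one])
  obtain ⟨r, hrp, hrs⟩ := Nat.exists_prime_and_dvd hs1
  obtain ⟨E, hEmem, hEr⟩ := Cfsg.Agent.Lib.Helper39.AschC3.exists_fixed_subalgebra_of_isField hKfield r hrs
  set N : ℕ := Fintype.card F ^ r with hN
  set Kr : Subalgebra F (Matrix (Fin n) (Fin n) F) := E.map K.val with hKr
  have hKrmem : ∀ y, y ∈ Kr ↔ y ∈ K ∧ y ^ N = y := by
    intro y
    rw [hKr, Subalgebra.mem_map]
    constructor
    · rintro ⟨x, hxE, rfl⟩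
      refine ⟨x.2, ?_⟩
      have := (hEmem x).mp hxE
      have h2 := congrArg (Subtype.val) this
      simpa using h2
    · rintro ⟨hyK, hy⟩
      refine ⟨⟨y, hyK⟩, ?_, rfl⟩
      rw [hEmem]
      exact Subtype.ext (by simpa using hy)
  have hfield : IsFieldSubalgebra r Kr := by
    refine ⟨?_, ?_, ?_⟩
    · intro x hx y hy
      exact hcomm x ((hKrmem x).mp hx).1 y ((hKrmem y).mp hy).1
    · intro x hx hx0
      obtain ⟨hxK, hxN⟩ := (hKrmem x).mp hx
      obtain ⟨y, hyK, hxy⟩ := hinv x hxK hx0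
      refine ⟨y, (hKrmem y).mpr ⟨hyK, ?_⟩, hxy⟩
      have hc : Commute x y := hcomm x hxK y hyK
      have h1 : x * y ^ N = 1 := by
        have := hc.mul_pow N
        rw [hxy, one_pow, hxN] at this
        exact this.symm
      have hyx : y * x = 1 := by rw [← hc.eq]; exact hxy
      calc y ^ N = (y * x) * y ^ N := by rw [hyx, one_mul]
        _ = y * (x * y ^ N) := by rw [mul_assoc]
        _ = y := by rw [h1, mul_one]
    · have e : E ≃ₐ[F] Kr := E.equivMapOfInjective K.val Subtype.val_injective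
      rw [← hEr]
      exact (e.toLinearEquiv.finrank_eq).symm
  refine ⟨subalgebraNormalizer Kr, ?_, ?_⟩
  · right; right; right; right; left
    exact ⟨r, Kr, hrp, hfield, rfl⟩
  · intro h hh
    show ∀ k : Matrix (Fin n) (Fin n) F, k ∈ Kr ↔ _
    intro k
    constructor
    · intro hk
      obtain ⟨hkK, hkN⟩ := (hKrmem k).mp hk
      refine (hKrmem _).mpr ⟨hnorm h hh k hkK, ?_⟩
      rw [Cfsg.Agent.Lib.Helper39.AschC3.conj_pow_matrix, hkN]
    · intro hk
      obtain ⟨hkK, hkN⟩ := (hKrmem _).mp hk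
      have hback : ∀ m : Matrix (Fin n) (Fin n) F,
          ((h⁻¹ : GL (Fin n) F) : Matrix (Fin n) (Fin n) F) *
            ((h : Matrix (Fin n) (Fin n) F) * m * ((h⁻¹ : GL (Fin n) F) : Matrix (Fin n) (Fin n) F)) *
            (((h⁻¹)⁻¹ : GL (Fin n) F) : Matrix (Fin n) (Fin n) F) = m := by
        intro m
        rw [inv_inv]
        have h1 : ((h⁻¹ : GL (Fin n) F) : Matrix (Fin n) (Fin n) F) * (h : Matrix (Fin n) (Fin n) F) = 1 := by
          rw [← Units.val_mul, inv_mul_cancel, Units.val_one]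
        calc _ = (((h⁻¹ : GL (Fin n) F) : Matrix (Fin n) (Fin n) F) * (h : Matrix (Fin n) (Fin n) F)) * m *
              (((h⁻¹ : GL (Fin n) F) : Matrix (Fin n) (Fin n) F) * (h : Matrix (Fin n) (Fin n) F)) := by
              simp only [mul_assoc]
          _ = m := by rw [h1, one_mul, mul_one]
      have hkK' := hnorm h⁻¹ (H.inv_mem hh) _ hkK
      rw [hback] at hkK'
      refine (hKrmem k).mpr ⟨hkK', ?_⟩
      rw [Cfsg.Agent.Lib.Helper39.AschC3.conj_pow_matrix] at hkN
      have := congrArg (fun m => ((h⁻¹ : GL (Fin n) F) : Matrix (Fin n) (Fin n) F) * m *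
            (((h⁻¹)⁻¹ : GL (Fin n) F) : Matrix (Fin n) (Fin n) F)) hkN
      simp only [hback] at this
      exact this


end C3

section DET4
open Cfsg.Agent.Lib.Helper47.AschDet4
open scoped Kronecker
variable {n : ℕ} {F : Type*} [Field F] [Fintype F]

theorem geoR_of_kronecker_two_two (H : Subgroup (GL (Fin n) F)) (idx : Fin n ≃ Fin 2 × Fin 2)
    (B : GL (Fin n) F)
    (hH : ∀ h ∈ H, ∃ (a b : GL (Fin 2) F),
      ((B * h * B⁻¹ : GL (Fin n) F) : Matrix (Fin n) (Fin n) F) =
      Matrix.reindex idx.symm idx.symm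
        ((a : Matrix (Fin 2) (Fin 2) F) ⊗ₖ (b : Matrix (Fin 2) (Fin 2) F))) :
    GeoR H := by
  have hn4 : n = 4 := by
    have h := Fintype.card_congr idx
    simpa using h
  have bil := form_bilinear idx B
  by_cases hodd : Odd (Fintype.card F)
  · have hchar : ringChar F ≠ 2 := by
      intro h
      have h1 := FiniteField.even_card_iff_char_two.1 h
      rcases hodd with ⟨k, hk⟩
      omega
    have h2 : (2 : F) ≠ 0 := Ring.two_ne_zero hchar
    have hpolar : ∀ v w, QuadraticMap.polar (fun v => form idx B v v) v w =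
        2 * form idx B v w := by
      intro v w
      simp only [QuadraticMap.polar]
      rw [bil.add_left, bil.add_right, bil.add_right, form_symm idx B w v]
      ring
    refine ⟨quadSimilarityGroup (fun v => form idx B v v), ?_, ?_⟩
    · refine Or.inr (Or.inr (Or.inr (Or.inr (Or.inr (Or.inr (Or.inr (Or.inr (Or.inr (Or.inr
        (Or.inr ⟨fun v => form idx B v v, ⟨?_, ?_, ?_⟩, hodd, by omega, rfl⟩))))))))))
      · intro c v
        rw [bil.smul_left, bil.smul_right]
        ring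
      · refine ⟨?_, ?_, ?_, ?_⟩
        · intro x y v
          rw [hpolar, hpolar, hpolar, bil.add_left]; ring
        · intro c x v
          rw [hpolar, hpolar, bil.smul_left]; ring
        · intro v x y
          rw [hpolar, hpolar, hpolar, bil.add_right]; ring
        · intro c v x
          rw [hpolar, hpolar, bil.smul_right]; ring
      · intro v hv
        obtain ⟨⟨x, hx⟩, ⟨y, hy⟩⟩ := form_nondeg idx B v hv
        exact ⟨⟨x, by rw [hpolar]; exact mul_ne_zero h2 hx⟩,
          ⟨y, by rw [hpolar]; exact mul_ne_zero h2 hy⟩⟩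
    · intro h hh
      obtain ⟨a, b, hab⟩ := hH h hh
      exact ⟨Matrix.GeneralLinearGroup.det a * Matrix.GeneralLinearGroup.det b,
        fun v => form_similar idx B h a b hab v v⟩
  · have hchar : ringChar F = 2 := by
      apply FiniteField.even_card_iff_char_two.2
      rcases Nat.even_or_odd (Fintype.card F) with h | h
      · exact Nat.even_iff.1 h
      · exact absurd h hodd
    have hcp : CharP F 2 := ringChar.of_eq hchar
    have h20 : (2 : F) = 0 := CharTwo.two_eq_zero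
    refine ⟨similarityGroup (form idx B), ?_, ?_⟩
    · refine Or.inr (Or.inr (Or.inr (Or.inr (Or.inr (Or.inr (Or.inr (Or.inr (Or.inr (Or.inl
        ⟨form idx B, ⟨bil, ?_, ?_, form_nondeg idx B⟩, ⟨2, by omega⟩, by omega, rfl⟩)))))))))
      · intro v w
        rw [form_symm idx B v w, CharTwo.neg_eq]
      · intro v
        rw [form_self, h20, zero_mul]
    · intro h hh
      obtain ⟨a, b, hab⟩ := hH h hh
      exact ⟨Matrix.GeneralLinearGroup.det a * Matrix.GeneralLinearGroup.det b,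
        fun u v => form_similar idx B h a b hab u v⟩


end DET4

section C6
open scoped Kronecker
variable {n : ℕ} {F : Type*} [Field F] [Fintype F]

/-- ASCH-[C6], odd case. -/
theorem geoR_of_sympOut_odd (hn : 3 ≤ n) (H R : Subgroup (GL (Fin n) F)) (r : ℕ)
    (hR : SympOut H R r r) (hodd : Odd r) (p e : ℕ) (hrp : r ≠ p)
    (hmin : IsMinimalFieldFor r p e F) (he : Odd e) : GeoR H := by
  have hr : r.Prime := hR.prime
  have : Fact r.Prime := ⟨hr⟩
  obtain ⟨j, hj⟩ := (IsPGroup.iff_card).1 hR.symplecticType.pGroup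
  have hcard : Nat.card R = r ^ 1 * n ^ 2 := by
    rw [hR.card_eq, Fintype.card_fin, pow_one]
  obtain ⟨m, hnm, hm⟩ := Cfsg.Agent.Lib.Helper1.AschC6.pow_decomp (a := 1) (j := j) hr
    (by rw [← hcard, hj])
  have hm1 : 1 ≤ m := by
    rcases Nat.eq_zero_or_pos m with h0 | h0
    · rw [h0, pow_zero] at hnm
      omega
    · exact h0
  refine ⟨subgroupNormalizer R, ?_,
    Cfsg.Agent.Lib.Helper1.AschC6.le_subgroupNormalizer_of_nrm H R hR.nrm⟩
  refine Or.inr (Or.inr (Or.inr (Or.inr (Or.inr (Or.inr (Or.inr (Or.inl ⟨r, R, ?_, ⟨m, hm1, hnm⟩, rfl⟩)))))))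
  refine ⟨hR.symplecticType, hR.absIrred, p, e, hrp, ?_, Or.inl ⟨hodd, he, hR.card_center, m, hm1, ?_⟩⟩
  · rw [hR.card_center]
    exact hmin
  · rw [hcard, hm]

/-- ASCH-[C6], case `r = 2`, centre of order 4. -/
theorem geoR_of_sympOut_four (hn : 3 ≤ n) (H R : Subgroup (GL (Fin n) F))
    (hR : SympOut H R 2 4) (p : ℕ) (h2p : 2 ≠ p) (hmin : IsMinimalFieldFor 4 p 1 F) :
    GeoR H := by
  have hr : (2 : ℕ).Prime := Nat.prime_two
  have : Fact (2 : ℕ).Prime := ⟨hr⟩
  obtain ⟨j, hj⟩ := (IsPGroup.iff_card).1 hR.symplecticType.pGroup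
  have hcard : Nat.card R = 2 ^ 2 * n ^ 2 := by
    rw [hR.card_eq, Fintype.card_fin]
    norm_num
  obtain ⟨m, hnm, hm⟩ := Cfsg.Agent.Lib.Helper1.AschC6.pow_decomp (a := 2) (j := j) hr
    (by rw [← hcard, hj])
  have hn4 : 4 ≤ n := by
    rcases Nat.lt_or_ge m 2 with h0 | h0
    · interval_cases m
      · rw [pow_zero] at hnm; omega
      · rw [pow_one] at hnm; omega
    · calc 4 = 2 ^ 2 := by norm_num
        _ ≤ 2 ^ m := Nat.pow_le_pow_right (by norm_num) h0
        _ = n := hnm.symm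
  have hm1 : 1 ≤ m := by
    rcases Nat.eq_zero_or_pos m with h0 | h0
    · rw [h0, pow_zero] at hnm
      omega
    · exact h0
  refine ⟨subgroupNormalizer R, ?_,
    Cfsg.Agent.Lib.Helper1.AschC6.le_subgroupNormalizer_of_nrm H R hR.nrm⟩
  refine Or.inr (Or.inr (Or.inr (Or.inr (Or.inr (Or.inr (Or.inr (Or.inl ⟨2, R, ?_, ⟨m, hm1, hnm⟩, rfl⟩)))))))
  refine ⟨hR.symplecticType, hR.absIrred, p, 1, h2p, ?_,
    Or.inr (Or.inl ⟨rfl, rfl, hR.card_center, ?_, m, ?_⟩)⟩
  · rw [hR.card_center]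
    exact hmin
  · rw [Fintype.card_fin]
    exact hn4
  · rw [hcard, hm]


end C6

section RESID
open Cfsg.Agent.Lib.Helper11.AschResid
open scoped Kronecker
variable {n : ℕ} {F : Type*} [Field F] [Fintype F]

/-- ASCH-[RESID], with the statement of ASCH-[NDESC] (`geo_of_realisable`) as a hypothesis -/
theorem residual_or_geoR
    (hNDESC : ∀ (H S : Subgroup (GL (Fin n) F)), ActsAbsolutelyIrreducibly (matrixSet S) → Nrm H S →
      ∀ F₀ : Subfield F, F₀ ≠ ⊤ → RealisableOver F₀ (matrixSet S) → GeoR H)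
    (hn : 3 ≤ n) (H P : Subgroup (GL (Fin n) F)) (hNAI : NAI H)
    (hP : PerfMin H P)
    (hsimple : ∀ M : Subgroup (GL (Fin n) F), M ≤ P → Nrm P M → M ≤ scalars (Fin n) F ∨ M = P) :
    GeoR H ∨ InLinearResidualClass H := by
  have hne : Nonempty (Fin n) := ⟨⟨0, by omega⟩⟩
  have habs : ActsAbsolutelyIrreducibly (matrixSet P) := (hNAI P hP.nrm).resolve_left hP.not_le
  by_cases h1 : ∃ F₀ : Subfield F, F₀ ≠ ⊤ ∧ RealisableOver F₀ (matrixSet P)
  · obtain ⟨F₀, hF₀, hreal⟩ := h1
    exact Or.inl (hNDESC H P habs hP.nrm F₀ hF₀ hreal)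
  by_cases h2 : ∃ Q : (Fin n → F) → F, IsNondegenerateQuadraticForm Q ∧ FixesQuadForm (matrixSet P) Q
  · obtain ⟨Q, hQ, hfix⟩ := h2
    exact Or.inl (geo_of_fixes_quadratic_R hn H P habs hP.nrm Q hQ hfix)
  by_cases h3 : ∃ f : (Fin n → F) → (Fin n → F) → F, IsSymplecticForm f ∧ FixesForm (matrixSet P) f
  · obtain ⟨f, hf, hfix⟩ := h3
    exact Or.inl (geo_of_fixes_symplectic_R hn H P habs hP.nrm f hf hfix)
  by_cases h4 : ∃ (σ : F ≃+* F) (f : (Fin n → F) → (Fin n → F) → F), IsUnitaryForm σ f ∧ FixesForm (matrixSet P) f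
  · obtain ⟨σ, f, hf, hfix⟩ := h4
    exact Or.inl (geo_of_fixes_unitary_R hn H P habs hP.nrm σ f hf hfix)
  right
  refine ⟨P, ?_, h2, h3, h4⟩
  exact
    { le := hP.le
      normal := hP.nrm
      perfect := hP.perfect
      simple := isSimpleGroup_quotient hP.not_le hsimple
      nonabelian := not_isMulCommutative_quotient hP.not_le hP.perfect
      centralizer_scalar := fun h _ hh =>
        mem_scalars_of_commute habs h (commute_of_perfect hP.perfect h hh)
      absIrred := habs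
      no_subfield := fun F₀ hF₀ hreal => h1 ⟨F₀, hF₀, hreal⟩ }


end RESID

end Cfsg.Agent.Lib.Helper99.AschR
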