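import Mathlib
import Cfsg.Prelude.Def_GeometricClasses
import Cfsg.Agent.Lib.Helper99.AschDefs

/-!
# Project ASCH: small utilities used by the assemblies (transport of absolute irreducibility, edge cases
of the tensor normal form, conjugation lemmas).
-/

set_option autoImplicit false

namespace Cfsg.Agent.Lib.Helper99.AschUtil

open Cfsg Cfsg.Geo Cfsg.Agent.Lib.Helper99.Asch
open scoped MatrixGroups Matrix Kronecker

/-- Transport of absolute irreducibility along a linear equivalence `ψ`: if every member of `S'` is the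
`ψ`-transport of a member of `S`, and `S'` acts absolutely irreducibly, then so does `S`. -/
theorem absIrred_transport {ι κ : Type} [Fintype ι] [DecidableEq ι] [Fintype κ] [DecidableEq κ]
    {K : Type*} [Field K]
    (S : Set (Matrix ι ι K)) (S' : Set (Matrix κ κ K)) (ψ : (κ → K) ≃ₗ[K] (ι → K))
    (h : ∀ s' ∈ S', ∃ s ∈ S, ∀ u, s *ᵥ ψ u = ψ (s' *ᵥ u))
    (hS' : ActsAbsolutelyIrreducibly S') : ActsAbsolutelyIrreducibly S := by
  refine ⟨?_, ?_⟩
  · intro W hW
    have hW' : ∀ s' ∈ S', (W.comap ψ.toLinearMap).map (Matrix.toLin' s') ≤ W.comap ψ.toLinearMap := by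
      intro s' hs'
      obtain ⟨s, hs, hss⟩ := h s' hs'
      rintro _ ⟨u, hu, rfl⟩
      rw [Submodule.mem_comap]
      simp only [LinearEquiv.coe_coe, Matrix.toLin'_apply]
      rw [← hss u]
      apply hW s hs
      exact ⟨ψ u, hu, by simp [Matrix.toLin'_apply]⟩
    rcases hS'.1 _ hW' with hbot | htop
    · left
      rw [eq_bot_iff]
      intro w hw
      have : ψ.symm w ∈ W.comap ψ.toLinearMap := by
        rw [Submodule.mem_comap]; simpa using hw
      rw [hbot, Submodule.mem_bot] at this
      have h2 : w = ψ (ψ.symm w) := by simp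
      rw [h2, this, map_zero]
      exact Submodule.zero_mem _
    · right
      rw [eq_top_iff]
      intro w _
      have : ψ.symm w ∈ W.comap ψ.toLinearMap := by rw [htop]; trivial
      rw [Submodule.mem_comap] at this
      simpa using this
  · intro M hM
    set M' : Matrix κ κ K :=
      LinearMap.toMatrix' (ψ.symm.toLinearMap ∘ₗ Matrix.toLin' M ∘ₗ ψ.toLinearMap) with hM'
    have hM'app : ∀ u, M' *ᵥ u = ψ.symm (M *ᵥ ψ u) := by
      intro u
      rw [hM', ← Matrix.toLin'_apply, Matrix.toLin'_toMatrix']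
      simp [Matrix.toLin'_apply]
    have hcomm : ∀ s' ∈ S', M' * s' = s' * M' := by
      intro s' hs'
      obtain ⟨s, hs, hss⟩ := h s' hs'
      apply Matrix.toLin'.injective
      apply LinearMap.ext
      intro u
      simp only [Matrix.toLin'_mul, LinearMap.comp_apply, Matrix.toLin'_apply]
      rw [hM'app, hM'app, ← hss u, Matrix.mulVec_mulVec, hM s hs, ← Matrix.mulVec_mulVec]
      have := hss (ψ.symm (M *ᵥ ψ u))
      rw [LinearEquiv.apply_symm_apply] at this
      rw [this, LinearEquiv.symm_apply_apply]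
    obtain ⟨c, hc⟩ := hS'.2 M' hcomm
    refine ⟨c, ?_⟩
    apply Matrix.toLin'.injective
    apply LinearMap.ext
    intro w
    have h1 := hM'app (ψ.symm w)
    rw [hc, LinearEquiv.apply_symm_apply] at h1
    have h2 : M *ᵥ w = ψ ((c • (1 : Matrix κ κ K)) *ᵥ ψ.symm w) := by
      rw [h1, LinearEquiv.apply_symm_apply]
    simp only [Matrix.toLin'_apply]
    rw [h2]
    simp [Matrix.smul_mulVec]

end Cfsg.Agent.Lib.Helper99.AschUtil
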