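import Mathlib
import Cfsg.Prelude.Def_GeometricClasses
import Cfsg.Agent.Lib.Helper99.AschDefs
import Cfsg.Agent.Lib.Helper99.AschUtil

set_option autoImplicit false

namespace Cfsg.Agent.Lib.Helper99.AschUtil

open Cfsg Cfsg.Geo Cfsg.Agent.Lib.Helper99.Asch
open scoped MatrixGroups Matrix Kronecker

variable {n : ℕ} {F : Type*} [Field F]

/-- `x = B⁻¹ (B x B⁻¹) B` at the level of `mulVec`. -/
theorem mulVec_inv_conj (B x : GL (Fin n) F) (w : Fin n → F) :
    (x : Matrix (Fin n) (Fin n) F) *ᵥ (((B⁻¹ : GL (Fin n) F) : Matrix (Fin n) (Fin n) F) *ᵥ w) =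
      ((B⁻¹ : GL (Fin n) F) : Matrix (Fin n) (Fin n) F) *ᵥ
        (((B * x * B⁻¹ : GL (Fin n) F) : Matrix (Fin n) (Fin n) F) *ᵥ w) := by
  rw [Matrix.mulVec_mulVec, Matrix.mulVec_mulVec, ← Units.val_mul, ← Units.val_mul]
  congr 2
  group

theorem absIrred_of_tensorNF_one (N : Subgroup (GL (Fin n) F)) (d : ℕ)
    (idx : Fin n ≃ Fin d × Fin 1) (B : GL (Fin n) F) (h : TensorNF N d 1 idx B) :
    ActsAbsolutelyIrreducibly (matrixSet N) := by
  obtain ⟨_, habs⟩ := h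
  set e : Fin n ≃ Fin d := idx.trans (Equiv.prodUnique (Fin d) (Fin 1)) with he
  have : Invertible ((B⁻¹ : GL (Fin n) F) : Matrix (Fin n) (Fin n) F) := Units.invertible _
  set ψ : (Fin d → F) ≃ₗ[F] (Fin n → F) :=
    (LinearEquiv.funCongrLeft F F e).trans
      (Matrix.toLinearEquiv' ((B⁻¹ : GL (Fin n) F) : Matrix (Fin n) (Fin n) F) inferInstance) with hψ
  have hψapp : ∀ u, ψ u = ((B⁻¹ : GL (Fin n) F) : Matrix (Fin n) (Fin n) F) *ᵥ (u ∘ e) := by
    intro u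
    rw [hψ, LinearEquiv.trans_apply]
    change Matrix.toLin' ((B⁻¹ : GL (Fin n) F) : Matrix (Fin n) (Fin n) F)
      (LinearEquiv.funCongrLeft F F e u) = _
    rw [Matrix.toLin'_apply]
    rfl
  refine absIrred_transport (matrixSet N) _ ψ ?_ habs
  rintro a ⟨x, hxN, hx⟩
  refine ⟨(x : Matrix (Fin n) (Fin n) F), ⟨x, hxN, rfl⟩, ?_⟩
  intro u
  rw [hψapp, hψapp, mulVec_inv_conj, hx]
  congr 1
  funext k
  simp only [Matrix.mulVec, dotProduct, Matrix.reindex_apply, Matrix.submatrix_apply,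
    Equiv.symm_symm, Matrix.kroneckerMap_apply, Function.comp_apply]
  rw [← Fintype.sum_equiv e.symm (fun j => a (idx k).1 j * u j)
    (fun l => a (idx k).1 (idx l).1 * (1 : Matrix (Fin 1) (Fin 1) F) (idx k).2 (idx l).2 * u (e l))]
  · rfl
  · intro j
    have h1 : idx (e.symm j) = (j, 0) := by
      simp [he]
    have h2 : e (e.symm j) = j := Equiv.apply_symm_apply _ _
    rw [h1, h2]
    have h3 : (1 : Matrix (Fin 1) (Fin 1) F) (idx k).2 (j, (0 : Fin 1)).2 = 1 := by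
      have : (idx k).2 = (j, (0 : Fin 1)).2 := Subsingleton.elim _ _
      rw [this, Matrix.one_apply_eq]
    rw [h3, mul_one]

end Cfsg.Agent.Lib.Helper99.AschUtil
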