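import Mathlib
import Cfsg.Prelude.Def_GeometricClasses
import Cfsg.Agent.Lib.Helper99.AschDefs
import Cfsg.Agent.Lib.Helper99.AschUtil2

set_option autoImplicit false

namespace Cfsg.Agent.Lib.Helper99.AschUtil

open Cfsg Cfsg.Geo Cfsg.Agent.Lib.Helper99.Asch
open scoped MatrixGroups Matrix Kronecker

variable {n : ℕ} {F : Type*} [Field F]

theorem scalar_of_tensorNF_one (N : Subgroup (GL (Fin n) F)) (e : ℕ)
    (idx : Fin n ≃ Fin 1 × Fin e) (B : GL (Fin n) F) (h : TensorNF N 1 e idx B) :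
    N ≤ scalars (Fin n) F := by
  obtain ⟨h1, _⟩ := h
  intro x hx
  obtain ⟨a, ha⟩ := h1 x hx
  have hc : (a : Matrix (Fin 1) (Fin 1) F) 0 0 ≠ 0 := by
    intro h0
    have hdet : (a : Matrix (Fin 1) (Fin 1) F).det = 0 := by
      rw [Matrix.det_fin_one]; exact h0
    have := (Matrix.GeneralLinearGroup.det a).ne_zero
    exact this (by simpa using hdet)
  have hconj : ((B * x * B⁻¹ : GL (Fin n) F) : Matrix (Fin n) (Fin n) F) =
      ((a : Matrix (Fin 1) (Fin 1) F) 0 0) • (1 : Matrix (Fin n) (Fin n) F) := by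
    rw [ha]
    ext k l
    simp only [Matrix.reindex_apply, Matrix.submatrix_apply, Equiv.symm_symm,
      Matrix.kroneckerMap_apply, Matrix.smul_apply, smul_eq_mul]
    have h1k : (idx k).1 = 0 := Subsingleton.elim _ _
    have h1l : (idx l).1 = 0 := Subsingleton.elim _ _
    rw [h1k, h1l]
    congr 1
    by_cases hkl : k = l
    · subst hkl; simp
    · rw [Matrix.one_apply_ne hkl, Matrix.one_apply_ne]
      intro h2
      apply hkl
      apply idx.injective
      exact Prod.ext (by rw [h1k, h1l]) h2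
  rw [mem_scalars_iff]
  refine ⟨Units.mk0 _ hc, ?_⟩
  have hx' : x = B⁻¹ * (B * x * B⁻¹) * B := by group
  rw [hx', Units.val_mul, Units.val_mul, hconj]
  simp only [Units.val_mk0, Matrix.mul_smul, Matrix.smul_mul, Matrix.mul_one]
  rw [← Units.val_mul, inv_mul_cancel, Units.val_one]

theorem normalizes_commutantCenter (H N : Subgroup (GL (Fin n) F)) (hnrm : Nrm H N) :
    ∀ h ∈ H, ∀ k ∈ commutantCenter N,
      (h : Matrix (Fin n) (Fin n) F) * k * ((h⁻¹ : GL (Fin n) F) : Matrix (Fin n) (Fin n) F) ∈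
        commutantCenter N := by
  -- conjugation by `h ∈ H` preserves the commutant
  have hcomm : ∀ h ∈ H, ∀ c ∈ commutant N,
      (h : Matrix (Fin n) (Fin n) F) * c * ((h⁻¹ : GL (Fin n) F) : Matrix (Fin n) (Fin n) F) ∈
        commutant N := by
    intro h hh c hc
    unfold commutant at hc ⊢
    rw [Subalgebra.mem_centralizer_iff] at hc ⊢
    rintro _ ⟨x, hx, rfl⟩
    have hx' : h⁻¹ * x * h ∈ N := by
      have := hnrm h⁻¹ (H.inv_mem hh) x hx
      simpa using this
    have h1 := hc _ ⟨h⁻¹ * x * h, hx', rfl⟩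
    -- h1 : (h⁻¹ x h) * c = c * (h⁻¹ x h)
    have e1 : (x : Matrix (Fin n) (Fin n) F) =
        (h : Matrix (Fin n) (Fin n) F) * ((h⁻¹ * x * h : GL (Fin n) F) : Matrix (Fin n) (Fin n) F) *
          ((h⁻¹ : GL (Fin n) F) : Matrix (Fin n) (Fin n) F) := by
      rw [← Units.val_mul, ← Units.val_mul]; congr 1; group
    have hhi : ((h⁻¹ : GL (Fin n) F) : Matrix (Fin n) (Fin n) F) * (h : Matrix (Fin n) (Fin n) F) = 1 := by
      rw [← Units.val_mul, inv_mul_cancel, Units.val_one]
    show (x : Matrix (Fin n) (Fin n) F) * _ = _ * (x : Matrix (Fin n) (Fin n) F)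
    rw [e1]
    change ((h⁻¹ * x * h : GL (Fin n) F) : Matrix (Fin n) (Fin n) F) * c =
      c * ((h⁻¹ * x * h : GL (Fin n) F) : Matrix (Fin n) (Fin n) F) at h1
    set y : Matrix (Fin n) (Fin n) F := ((h⁻¹ * x * h : GL (Fin n) F) : Matrix (Fin n) (Fin n) F)
    set hi : Matrix (Fin n) (Fin n) F := ((h⁻¹ : GL (Fin n) F) : Matrix (Fin n) (Fin n) F)
    set hm : Matrix (Fin n) (Fin n) F := (h : Matrix (Fin n) (Fin n) F)
    calc hm * y * hi * (hm * c * hi) = hm * y * (hi * hm) * c * hi := by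
          simp only [mul_assoc]
      _ = hm * (y * c) * hi := by rw [hhi]; simp only [mul_assoc, mul_one]
      _ = hm * (c * y) * hi := by rw [h1]
      _ = hm * c * (hi * hm) * y * hi := by rw [hhi]; simp only [mul_assoc, mul_one]
      _ = hm * c * hi * (hm * y * hi) := by simp only [mul_assoc]
  intro h hh k hk
  refine ⟨hcomm h hh k hk.1, ?_⟩
  have hk2 := hk.2
  rw [SetLike.mem_coe, Subalgebra.mem_centralizer_iff] at hk2 ⊢
  intro c hc
  -- c ∈ commutant; h⁻¹ c h ∈ commutant; k commutes with it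
  have hc' := hcomm h⁻¹ (H.inv_mem hh) c hc
  rw [inv_inv] at hc'
  have h1 := hk2 _ hc'
  have hhi : ((h⁻¹ : GL (Fin n) F) : Matrix (Fin n) (Fin n) F) * (h : Matrix (Fin n) (Fin n) F) = 1 := by
    rw [← Units.val_mul, inv_mul_cancel, Units.val_one]
  have hih : (h : Matrix (Fin n) (Fin n) F) * ((h⁻¹ : GL (Fin n) F) : Matrix (Fin n) (Fin n) F) = 1 := by
    rw [← Units.val_mul, mul_inv_cancel, Units.val_one]
  set hi : Matrix (Fin n) (Fin n) F := ((h⁻¹ : GL (Fin n) F) : Matrix (Fin n) (Fin n) F)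
  set hm : Matrix (Fin n) (Fin n) F := (h : Matrix (Fin n) (Fin n) F)
  -- h1 : (hi * c * hm) * k = k * (hi * c * hm)
  calc c * (hm * k * hi) = hm * (hi * c * hm * k) * hi := by
        rw [show hm * (hi * c * hm * k) * hi = (hm * hi) * c * hm * k * hi by simp only [mul_assoc], hih]
        simp only [mul_assoc, one_mul]
    _ = hm * (k * (hi * c * hm)) * hi := by rw [h1]
    _ = hm * k * hi * c := by
        rw [show hm * (k * (hi * c * hm)) * hi = hm * k * hi * c * (hm * hi) by simp only [mul_assoc], hih,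
          mul_one]

theorem finrank_span_eq_of_conj (A A' : Subgroup (GL (Fin n) F)) (h : GL (Fin n) F)
    (hc : ∀ x, x ∈ A ↔ h * x * h⁻¹ ∈ A') :
    Module.finrank F (Submodule.span F (matrixSet A)) =
      Module.finrank F (Submodule.span F (matrixSet A')) := by
  have hhi : ((h⁻¹ : GL (Fin n) F) : Matrix (Fin n) (Fin n) F) * (h : Matrix (Fin n) (Fin n) F) = 1 := by
    rw [← Units.val_mul, inv_mul_cancel, Units.val_one]
  have hih : (h : Matrix (Fin n) (Fin n) F) * ((h⁻¹ : GL (Fin n) F) : Matrix (Fin n) (Fin n) F) = 1 := by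
    rw [← Units.val_mul, mul_inv_cancel, Units.val_one]
  let L : Matrix (Fin n) (Fin n) F ≃ₗ[F] Matrix (Fin n) (Fin n) F :=
    { toFun := fun M => (h : Matrix (Fin n) (Fin n) F) * M * ((h⁻¹ : GL (Fin n) F) : Matrix (Fin n) (Fin n) F)
      map_add' := fun a b => by simp [Matrix.mul_add, Matrix.add_mul]
      map_smul' := fun c a => by simp
      invFun := fun M => ((h⁻¹ : GL (Fin n) F) : Matrix (Fin n) (Fin n) F) * M * (h : Matrix (Fin n) (Fin n) F)
      left_inv := fun M => by
        show _ * (_ * M * _) * _ = M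
        rw [show ((h⁻¹ : GL (Fin n) F) : Matrix (Fin n) (Fin n) F) * ((h : Matrix (Fin n) (Fin n) F) * M *
          ((h⁻¹ : GL (Fin n) F) : Matrix (Fin n) (Fin n) F)) * (h : Matrix (Fin n) (Fin n) F) =
          (((h⁻¹ : GL (Fin n) F) : Matrix (Fin n) (Fin n) F) * (h : Matrix (Fin n) (Fin n) F)) * M *
          (((h⁻¹ : GL (Fin n) F) : Matrix (Fin n) (Fin n) F) * (h : Matrix (Fin n) (Fin n) F)) by
            simp only [mul_assoc], hhi, one_mul, mul_one]
      right_inv := fun M => by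
        show _ * (_ * M * _) * _ = M
        rw [show (h : Matrix (Fin n) (Fin n) F) * (((h⁻¹ : GL (Fin n) F) : Matrix (Fin n) (Fin n) F) * M *
          (h : Matrix (Fin n) (Fin n) F)) * ((h⁻¹ : GL (Fin n) F) : Matrix (Fin n) (Fin n) F) =
          ((h : Matrix (Fin n) (Fin n) F) * ((h⁻¹ : GL (Fin n) F) : Matrix (Fin n) (Fin n) F)) * M *
          ((h : Matrix (Fin n) (Fin n) F) * ((h⁻¹ : GL (Fin n) F) : Matrix (Fin n) (Fin n) F)) by
            simp only [mul_assoc], hih, one_mul, mul_one] }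
  have himg : L '' matrixSet A = matrixSet A' := by
    ext M
    constructor
    · rintro ⟨_, ⟨x, hx, rfl⟩, rfl⟩
      exact ⟨h * x * h⁻¹, (hc x).mp hx, by simp [L, Units.val_mul]⟩
    · rintro ⟨y, hy, rfl⟩
      refine ⟨((h⁻¹ * y * h : GL (Fin n) F) : Matrix (Fin n) (Fin n) F), ⟨h⁻¹ * y * h, ?_, rfl⟩, ?_⟩
      · rw [SetLike.mem_coe, hc]
        have : h * (h⁻¹ * y * h) * h⁻¹ = y := by group
        rw [this]; exact hy
      · show (h : Matrix (Fin n) (Fin n) F) * _ * _ = _
        rw [← Units.val_mul, ← Units.val_mul]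
        congr 1
        group
  have hmap : (Submodule.span F (matrixSet A)).map L.toLinearMap = Submodule.span F (matrixSet A') := by
    rw [Submodule.map_span]
    congr 1
  rw [← hmap]
  exact (LinearEquiv.finrank_map_eq L _).symm

end Cfsg.Agent.Lib.Helper99.AschUtil
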