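import Mathlib
import Cfsg.Prelude.Def_GeometricClasses
import Cfsg.Agent.Lib.Helper99.AschDefs
import Cfsg.Agent.Lib.Helper99.AschUtil3

set_option autoImplicit false

namespace Cfsg.Agent.Lib.Helper99.AschUtil

open Cfsg Cfsg.Geo Cfsg.Agent.Lib.Helper99.Asch
open scoped MatrixGroups Matrix Kronecker

variable {n : ℕ} {F : Type*} [Field F]

theorem coe_glReindex {ι κ : Type} [Fintype ι] [DecidableEq ι] [Fintype κ] [DecidableEq κ]
    (e : κ ≃ ι) (g : GL κ F) :
    ((glReindex e g : GL ι F) : Matrix ι ι F) = Matrix.reindex e e (g : Matrix κ κ F) := rfl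

theorem slotMatrix_zero {k d : ℕ} (i : Fin k) :
    slotMatrix i (0 : Matrix (Fin d) (Fin d) F) = 0 := by
  ext x y; simp [slotMatrix]

theorem slotMatrix_add {k d : ℕ} (i : Fin k) (a b : Matrix (Fin d) (Fin d) F) :
    slotMatrix i (a + b) = slotMatrix i a + slotMatrix i b := by
  ext x y
  simp only [slotMatrix, Matrix.add_apply]
  split_ifs <;> simp

theorem slotMatrix_smul {k d : ℕ} (i : Fin k) (c : F) (a : Matrix (Fin d) (Fin d) F) :
    slotMatrix i (c • a) = c • slotMatrix i a := by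
  ext x y
  simp only [slotMatrix, Matrix.smul_apply]
  split_ifs <;> simp

/-- conjugation by `h` carries slot algebra `i` to slot algebra `σ i` -/
theorem slot_conj {k d : ℕ} (Q : Fin k → Subgroup (GL (Fin n) F))
    (idx : Fin n ≃ (Fin k → Fin d)) (B : GL (Fin n) F)
    (hslot : ∀ i, ∀ x ∈ Q i, ∃ a : GL (Fin d) F,
        ((B * x * B⁻¹ : GL (Fin n) F) : Matrix (Fin n) (Fin n) F) =
          Matrix.reindex idx.symm idx.symm (slotMatrix i (a : Matrix (Fin d) (Fin d) F)))
    (hspan : ∀ i (a : Matrix (Fin d) (Fin d) F),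
        ((B⁻¹ : GL (Fin n) F) : Matrix (Fin n) (Fin n) F) *
          Matrix.reindex idx.symm idx.symm (slotMatrix i a) * (B : Matrix (Fin n) (Fin n) F) ∈
          Submodule.span F (matrixSet (Q i)))
    (h : GL (Fin n) F) (σ : Equiv.Perm (Fin k)) (hσ : ∀ i x, x ∈ Q i ↔ h * x * h⁻¹ ∈ Q (σ i))
    (g : GL (Fin k → Fin d) F) (hg : glReindex idx.symm g = B * h * B⁻¹) :
    ∀ i (a : Matrix (Fin d) (Fin d) F), ∃ a' : Matrix (Fin d) (Fin d) F,
      (g : Matrix (Fin k → Fin d) (Fin k → Fin d) F) * slotMatrix i a *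
        ((g⁻¹ : GL (Fin k → Fin d) F) : Matrix (Fin k → Fin d) (Fin k → Fin d) F) =
        slotMatrix (σ i) a' := by
  intro i a
  set T : GL (Fin n) F := B * h * B⁻¹ with hT
  -- every element of span (Q i), conjugated by `B h`, is a slot-(σ i) matrix
  have key : ∀ Y ∈ Submodule.span F (matrixSet (Q i)), ∃ a' : Matrix (Fin d) (Fin d) F,
      (T : Matrix (Fin n) (Fin n) F) * ((B : Matrix (Fin n) (Fin n) F) * Y *
        ((B⁻¹ : GL (Fin n) F) : Matrix (Fin n) (Fin n) F)) *
        ((T⁻¹ : GL (Fin n) F) : Matrix (Fin n) (Fin n) F) =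
        Matrix.reindex idx.symm idx.symm (slotMatrix (σ i) a') := by
    intro Y hY
    induction hY using Submodule.span_induction with
    | mem Y hY =>
      obtain ⟨x, hx, rfl⟩ := hY
      obtain ⟨a', ha'⟩ := hslot (σ i) (h * x * h⁻¹) ((hσ i x).mp hx)
      refine ⟨a', ?_⟩
      rw [← ha']
      show (T : Matrix (Fin n) (Fin n) F) * ((B : Matrix (Fin n) (Fin n) F) * (x : Matrix (Fin n) (Fin n) F) *
        ((B⁻¹ : GL (Fin n) F) : Matrix (Fin n) (Fin n) F)) *
        ((T⁻¹ : GL (Fin n) F) : Matrix (Fin n) (Fin n) F) = _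
      rw [← Units.val_mul, ← Units.val_mul, ← Units.val_mul, ← Units.val_mul]
      congr 1
      rw [hT]; group
    | zero =>
      exact ⟨0, by simp [slotMatrix_zero]⟩
    | add Y Z _ _ hY hZ =>
      obtain ⟨a1, h1⟩ := hY
      obtain ⟨a2, h2⟩ := hZ
      refine ⟨a1 + a2, ?_⟩
      have hadd : Matrix.reindex idx.symm idx.symm (slotMatrix (σ i) a1 + slotMatrix (σ i) a2) =
          Matrix.reindex idx.symm idx.symm (slotMatrix (σ i) a1) +
            Matrix.reindex idx.symm idx.symm (slotMatrix (σ i) a2) := by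
        simp only [Matrix.reindex_apply, Matrix.submatrix_add]; rfl
      rw [slotMatrix_add, hadd, ← h1, ← h2]
      simp only [Matrix.mul_add, Matrix.add_mul]
    | smul c Y _ hY =>
      obtain ⟨a1, h1⟩ := hY
      refine ⟨c • a1, ?_⟩
      have hsm : Matrix.reindex idx.symm idx.symm (c • slotMatrix (σ i) a1) =
          c • Matrix.reindex idx.symm idx.symm (slotMatrix (σ i) a1) := by
        simp only [Matrix.reindex_apply, Matrix.submatrix_smul]; rfl
      rw [slotMatrix_smul, hsm, ← h1]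
      simp only [Matrix.mul_smul, Matrix.smul_mul]
  obtain ⟨a', ha'⟩ := key _ (hspan i a)
  refine ⟨a', ?_⟩
  have hBB : (B : Matrix (Fin n) (Fin n) F) * ((B⁻¹ : GL (Fin n) F) : Matrix (Fin n) (Fin n) F) = 1 := by
    rw [← Units.val_mul, mul_inv_cancel, Units.val_one]
  have e1 : (B : Matrix (Fin n) (Fin n) F) * (((B⁻¹ : GL (Fin n) F) : Matrix (Fin n) (Fin n) F) *
      Matrix.reindex idx.symm idx.symm (slotMatrix i a) * (B : Matrix (Fin n) (Fin n) F)) *
      ((B⁻¹ : GL (Fin n) F) : Matrix (Fin n) (Fin n) F) =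
      Matrix.reindex idx.symm idx.symm (slotMatrix i a) := by
    rw [show (B : Matrix (Fin n) (Fin n) F) * (((B⁻¹ : GL (Fin n) F) : Matrix (Fin n) (Fin n) F) *
      Matrix.reindex idx.symm idx.symm (slotMatrix i a) * (B : Matrix (Fin n) (Fin n) F)) *
      ((B⁻¹ : GL (Fin n) F) : Matrix (Fin n) (Fin n) F) =
      ((B : Matrix (Fin n) (Fin n) F) * ((B⁻¹ : GL (Fin n) F) : Matrix (Fin n) (Fin n) F)) *
      Matrix.reindex idx.symm idx.symm (slotMatrix i a) *
      ((B : Matrix (Fin n) (Fin n) F) * ((B⁻¹ : GL (Fin n) F) : Matrix (Fin n) (Fin n) F)) by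
        simp only [mul_assoc], hBB, one_mul, mul_one]
  rw [e1] at ha'
  -- T = reindex g
  have hTg : (T : Matrix (Fin n) (Fin n) F) =
      Matrix.reindex idx.symm idx.symm (g : Matrix (Fin k → Fin d) (Fin k → Fin d) F) := by
    rw [← coe_glReindex, hg]
  have hTg' : ((T⁻¹ : GL (Fin n) F) : Matrix (Fin n) (Fin n) F) =
      Matrix.reindex idx.symm idx.symm
        ((g⁻¹ : GL (Fin k → Fin d) F) : Matrix (Fin k → Fin d) (Fin k → Fin d) F) := by
    rw [← coe_glReindex, map_inv, hg]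
  rw [hTg, hTg'] at ha'
  have hmul : ∀ M M' : Matrix (Fin k → Fin d) (Fin k → Fin d) F,
      Matrix.reindex idx.symm idx.symm M * Matrix.reindex idx.symm idx.symm M' =
        Matrix.reindex idx.symm idx.symm (M * M') := by
    intro M M'
    simp only [Matrix.reindex_apply]
    rw [Matrix.submatrix_mul_equiv]
  rw [hmul, hmul] at ha'
  exact (Matrix.reindex idx.symm idx.symm).injective ha'

end Cfsg.Agent.Lib.Helper99.AschUtil
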