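import Mathlib
import Cfsg.Prelude.Def_GeometricClasses
import Cfsg.Agent.Lib.Helper99.AschDefs
import Cfsg.Agent.Lib.Helper99.AschDefsR
import Cfsg.Agent.Lib.Helper99.AschRKit
import Cfsg.Agent.Lib.Helper99.AschUtil4
import Cfsg.Agent.Lib.Helper13.AschPerf
import Cfsg.Agent.Lib.Helper42.AschComps
import Cfsg.Agent.Lib.Helper76.AschBin
import Cfsg.Agent.Lib.Helper54.AschKFold
import Cfsg.Agent.Lib.Helper50.AschD2Form
import Cfsg.Agent.Lib.Helper47.AschSlotNorm
import Cfsg.Agent.Lib.Helper49.AschNDesc
import Cfsg.Agent.Lib.Helper37.AschC8R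
import Cfsg.Agent.Lib.Helper80.AschIso
import Cfsg.Agent.Lib.Helper66.AschSS

/-!
# Project ASCH, Part II B: a minimal normalised subgroup with a non-scalar commutator gives class 7, class 8
or the residual class; refined form.  The statement of ASCH-[NF] enters as the hypothesis `NFStmt F`.
-/

set_option autoImplicit false

namespace Cfsg.Agent.Lib.Helper99.AschR

open Cfsg Cfsg.Geo Cfsg.Agent.Lib.Helper99.Asch Cfsg.Agent.Lib.Helper99.AschUtil
open scoped MatrixGroups Matrix Kronecker

/-- the statement of ASCH-[NF] (`tensorNF_of_isotypic`) -/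
def NFStmt (F : Type*) [Field F] [Fintype F] : Prop :=
  ∀ (n : ℕ), 0 < n → ∀ (N : Subgroup (GL (Fin n) F)),
    IsSemisimpleModule (endAlg N) (Fin n → F) → IsIsotypic (endAlg N) (Fin n → F) →
    (∀ x ∈ commutantCenter N, ∃ c : F, x = c • (1 : Matrix (Fin n) (Fin n) F)) →
    ∃ (d e : ℕ) (idx : Fin n ≃ Fin d × Fin e) (B : GL (Fin n) F), TensorNF N d e idx B

variable {n : ℕ} {F : Type*} [Field F] [Fintype F]

/-- ASCH-[BIN] from [NF] -/
theorem binStmt_of_nf (hNF : NFStmt F) : Cfsg.Agent.Lib.Helper54.AschKFold.BinStmt F := by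
  intro n hn Q Q' hcomm habs
  have hirr : ActsIrreducibly (matrixSet (Q ⊔ Q')) := habs.1
  have hnrm : Nrm (Q ⊔ Q') Q := by
    intro h hh x hx
    have hle : Q ⊔ Q' ≤ Subgroup.normalizer (Q : Set (GL (Fin n) F)) := by
      apply sup_le
      · exact Subgroup.le_normalizer
      · intro y hy
        rw [Subgroup.mem_normalizer_iff]
        intro z
        have key : ∀ z ∈ Q, y * z * y⁻¹ = z := by
          intro z hz
          have := hcomm z hz y hy
          calc y * z * y⁻¹ = (z * y) * y⁻¹ := by rw [this]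
            _ = z := by group
        constructor
        · intro hz
          rw [key z hz]; exact hz
        · intro hz
          have h1 : ∀ w ∈ Q, y⁻¹ * w * y = w := by
            intro w hw
            have := hcomm w hw y hy
            calc y⁻¹ * w * y = y⁻¹ * (w * y) := by group
              _ = y⁻¹ * (y * w) := by rw [this]
              _ = w := by group
          have h2 := h1 _ hz
          have h3 : y⁻¹ * (y * z * y⁻¹) * y = z := by group
          have h4 : z = y * z * y⁻¹ := h3.symm.trans h2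
          rw [h4]; exact hz
    exact (Subgroup.mem_normalizer_iff.mp (hle hh) x).mp hx
  exact Cfsg.Agent.Lib.Helper76.AschBin.tensor_of_commuting_of Q Q' hcomm habs
    (semisimple_of_normalized (Q ⊔ Q') Q hirr hnrm)
    (isotypic_or_decomposition (Q ⊔ Q') Q hirr hnrm)
    (fun hn' hss hiso hsc => hNF n hn' Q hss hiso hsc)

/-- Part II B -/
theorem partIIB_R_of (hNF : NFStmt F) (hn : 3 ≤ n) (H N : Subgroup (GL (Fin n) F)) (hNAI : NAI H)
    (hN : IsMinNrm H N) (hnab : ¬ CommScalar N) : GeoR H ∨ InLinearResidualClass H := by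
  obtain ⟨P, hP⟩ := exists_perfMin H N hN hnab
  obtain ⟨k, Q, hk, hQ⟩ := exists_compSys H P hP
  have hPabs : ActsAbsolutelyIrreducibly (matrixSet P) := (hNAI P hP.nrm).resolve_left hP.not_le
  by_cases hk1 : k = 1
  · subst hk1
    have hQP : Q 0 = P := by
      rw [← hQ.iSup_eq]
      exact (ciSup_unique (s := Q)).symm
    apply residual_or_geoR (fun H S hS hnrm F₀ hF₀ hreal => geo_of_realisable_R H S hS hnrm F₀ hF₀ hreal)
      hn H P hNAI hP
    intro M hM hnM
    have := hQ.simple 0 M (hQP ▸ hM) (hQP ▸ hnM)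
    rwa [hQP] at this
  · left
    have hk2 : 2 ≤ k := by omega
    have hdim : ∀ i j, Module.finrank F (Submodule.span F (matrixSet (Q i))) =
        Module.finrank F (Submodule.span F (matrixSet (Q j))) := by
      intro i j
      obtain ⟨h, _, hh⟩ := hQ.trans i j
      exact finrank_span_eq_of_conj (Q i) (Q j) h hh
    obtain ⟨d, idx, B, hslot, hspan⟩ :=
      Cfsg.Agent.Lib.Helper54.AschKFold.kfold_of (binStmt_of_nf hNF) hk Q hQ.commute
        (by rw [hQ.iSup_eq]; exact hPabs) hdim
    have hnd : n = d ^ k := by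
      have := Fintype.card_congr idx
      simpa using this
    have hd2 : 2 ≤ d := by
      by_contra hd
      have hd' : d ≤ 1 := by omega
      have : d ^ k ≤ 1 := by
        calc d ^ k ≤ 1 ^ k := Nat.pow_le_pow_left hd' k
          _ = 1 := one_pow k
      omega
    by_cases hd3 : 3 ≤ d
    · refine ⟨tensorWreathSubgroup d k idx B⁻¹, ?_, ?_⟩
      · right; right; right; right; right; right; right; right; left
        exact ⟨d, k, idx, B⁻¹, hd3, hk2, rfl⟩
      · intro h hh
        obtain ⟨σ, hσ⟩ := hQ.perm h hh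
        set g : GL (Fin k → Fin d) F := (glReindex idx.symm).symm (B * h * B⁻¹) with hgdef
        have hg : glReindex idx.symm g = B * h * B⁻¹ := by
          rw [hgdef]; exact MulEquiv.apply_symm_apply _ _
        have hmem : g ∈ tensorWreathStandard d k F :=
          mem_tensorWreathStandard_of_permutes_slots hk g σ
            (slot_conj Q idx B hslot hspan h σ hσ g hg)
        unfold tensorWreathSubgroup
        refine ⟨glReindex idx.symm g, ⟨g, hmem, rfl⟩, ?_⟩
        rw [hg]
        simp [MulAut.conj_apply, mul_assoc]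
    · have hd2' : d = 2 := by omega
      subst hd2'
      rcases fixes_form_of_slots_two hk2 P Q hQ.iSup_eq hQ.perfect idx B hslot with
        ⟨f, hf, hfix⟩ | ⟨Q', hQ', hfix⟩
      · exact geo_of_fixes_symplectic_R hn H P hPabs hP.nrm f hf hfix
      · exact geo_of_fixes_quadratic_R hn H P hPabs hP.nrm Q' hQ' hfix

end Cfsg.Agent.Lib.Helper99.AschR
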