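/-
helper99: module F4-[DIH] (for helper18's 2F4 tower).  Two involutions whose product has order
`n ≥ 3` generate a dihedral group of order `2n`.  Pure Mathlib.
-/
import Mathlib

set_option autoImplicit false

namespace Cfsg.Agent.Lib.Helper99.DihGen

open DihedralGroup

section
variable {G : Type*} [Group G]

/-- the underlying map of the homomorphism `DihedralGroup n → G`. -/
def dihFun (a c : G) (n : ℕ) : DihedralGroup n → G
  | r i => c ^ i.val
  | sr i => a * c ^ i.val

lemma pw_add {c : G} {n : ℕ} [NeZero n] (hc : orderOf c = n) (i j : ZMod n) :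
    c ^ (i + j).val = c ^ i.val * c ^ j.val := by
  rw [ZMod.val_add, ← pow_add]
  have h := pow_mod_orderOf c (i.val + j.val)
  rw [hc] at h
  exact h

lemma pw_sub {c : G} {n : ℕ} [NeZero n] (hc : orderOf c = n) (i j : ZMod n) :
    c ^ (j - i).val = (c ^ i.val)⁻¹ * c ^ j.val := by
  have h := pw_add hc (j - i) i
  rw [sub_add_cancel] at h
  rw [h, (Commute.pow_pow (Commute.refl c) _ _).eq, inv_mul_cancel_left]

theorem exists_mulEquiv_dihedral (a b : G) (n : ℕ) (hn : 3 ≤ n) (ha : a * a = 1)
    (hb : b * b = 1) (hab : orderOf (a * b) = n) :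
    Nonempty (↥(Subgroup.closure ({a, b} : Set G)) ≃* DihedralGroup n) := by
  have : NeZero n := ⟨by omega⟩
  set c : G := a * b with hc
  have hainv : a⁻¹ = a := inv_eq_of_mul_eq_one_right ha
  have hbinv : b⁻¹ = b := inv_eq_of_mul_eq_one_right hb
  have hcinv : c⁻¹ = b * a := by rw [hc, mul_inv_rev, hainv, hbinv]
  have hconj : a * c * a⁻¹ = c⁻¹ := by
    rw [hcinv, hainv, hc]
    calc a * (a * b) * a = (a * a) * b * a := by group
      _ = b * a := by rw [ha, one_mul]
  -- c^m * a = a * (c^m)⁻¹
  have hca : ∀ m : ℕ, c ^ m * a = a * (c ^ m)⁻¹ := by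
    intro m
    have h1 : a * c ^ m * a⁻¹ = (c ^ m)⁻¹ := by
      rw [← conj_pow, hconj, inv_pow]
    rw [← h1, hainv]
    calc c ^ m * a = (a * a) * (c ^ m * a) := by rw [ha, one_mul]
      _ = a * (a * c ^ m * a) := by group
  -- the homomorphism
  have hmul : ∀ x y : DihedralGroup n, dihFun a c n (x * y) = dihFun a c n x * dihFun a c n y := by
    intro x y
    rcases x with i | i <;> rcases y with j | j
    · simp only [r_mul_r, dihFun]
      exact pw_add hab i j
    · simp only [r_mul_sr, dihFun]
      rw [pw_sub hab i j, ← mul_assoc, ← mul_assoc, hca]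
    · simp only [sr_mul_r, dihFun]
      rw [pw_add hab i j, mul_assoc]
    · simp only [sr_mul_sr, dihFun]
      rw [pw_sub hab i j]
      calc (c ^ i.val)⁻¹ * c ^ j.val = (a * a) * ((c ^ i.val)⁻¹ * c ^ j.val) := by
            rw [ha, one_mul]
        _ = a * (a * (c ^ i.val)⁻¹) * c ^ j.val := by group
        _ = a * (c ^ i.val * a) * c ^ j.val := by rw [hca]
        _ = a * c ^ i.val * (a * c ^ j.val) := by group
  let f : DihedralGroup n →* G := MonoidHom.mk' (dihFun a c n) hmul
  have hfr : ∀ i : ZMod n, f (r i) = c ^ i.val := fun i => rfl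
  have hfsr : ∀ i : ZMod n, f (sr i) = a * c ^ i.val := fun i => rfl
  -- injectivity
  have hinj : Function.Injective f := by
    rw [injective_iff_map_eq_one]
    intro x hx
    rcases x with i | i
    · rw [hfr] at hx
      have hdvd : n ∣ i.val := by
        have h := orderOf_dvd_of_pow_eq_one hx
        rw [hab] at h
        exact h
      have hlt : i.val < n := ZMod.val_lt i
      have h0 : i.val = 0 := Nat.eq_zero_of_dvd_of_lt hdvd hlt
      have : i = 0 := (ZMod.val_eq_zero i).mp h0
      rw [this, r_zero]
    · exfalso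
      rw [hfsr] at hx
      have ha' : a = (c ^ i.val)⁻¹ := eq_inv_of_mul_eq_one_left hx
      have hcomm : Commute a c := by
        rw [ha']
        exact ((Commute.refl c).pow_left _).inv_left
      have h1 : c = c⁻¹ := by
        rw [← hconj, hcomm.eq, mul_inv_cancel_right]
      have h2 : c ^ 2 = 1 := by
        rw [pow_two]
        nth_rewrite 2 [h1]
        exact mul_inv_cancel c
      have h3 : n ∣ 2 := by
        have h := orderOf_dvd_of_pow_eq_one h2
        rw [hab] at h
        exact h
      have := Nat.le_of_dvd (by norm_num) h3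
      omega
  -- range
  have hrange : f.range = Subgroup.closure ({a, b} : Set G) := by
    apply le_antisymm
    · rintro _ ⟨x, rfl⟩
      have hamem : a ∈ Subgroup.closure ({a, b} : Set G) :=
        Subgroup.subset_closure (by simp)
      have hbmem : b ∈ Subgroup.closure ({a, b} : Set G) :=
        Subgroup.subset_closure (by simp)
      have hcmem : c ∈ Subgroup.closure ({a, b} : Set G) := mul_mem hamem hbmem
      rcases x with i | i
      · rw [hfr]; exact pow_mem hcmem _
      · rw [hfsr]; exact mul_mem hamem (pow_mem hcmem _)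
    · rw [Subgroup.closure_le]
      rintro x hx
      rcases hx with rfl | hx
      · refine ⟨sr 0, ?_⟩
        rw [hfsr, ZMod.val_zero, pow_zero, mul_one]
      · rw [Set.mem_singleton_iff] at hx
        subst hx
        refine ⟨sr 1, ?_⟩
        have : Fact (1 < n) := ⟨by omega⟩
        rw [hfsr, ZMod.val_one, pow_one, hc, ← mul_assoc, ha, one_mul]
  exact ⟨((MonoidHom.ofInjective hinj).trans (MulEquiv.subgroupCongr hrange)).symm⟩

end

end Cfsg.Agent.Lib.Helper99.DihGen
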