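import Cfsg.Agent.Lib.Helper99.ZsigBound2

set_option autoImplicit false

namespace Cfsg.Agent.Lib.Helper99

open Polynomial

/-- **Zsigmondy's theorem** (case `b = 1`). -/
theorem zsigmondy (a n : ℕ) (ha : 1 < a) (hn : 1 < n) (h6 : ¬ (a = 2 ∧ n = 6))
    (h2 : ¬ (n = 2 ∧ ∃ m : ℕ, a + 1 = 2 ^ m)) :
    ∃ r : ℕ, r.Prime ∧ r ∣ a ^ n - 1 ∧ ∀ k : ℕ, 0 < k → k < n → ¬ r ∣ a ^ k - 1 := by
  by_contra hcon
  have hno : NoPPD a n := by
    intro r hr hdvd
    by_contra h
    apply hcon
    refine ⟨r, hr, hdvd, ?_⟩
    intro k hk hkn hd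
    exact h ⟨k, hk, hkn, hd⟩
  have ha1 : 1 ≤ a := by omega
  have ha2 : 2 ≤ a := by omega
  rcases Nat.lt_or_ge n 3 with hn3 | hn3
  · -- n = 2
    have hn2 : n = 2 := by omega
    subst hn2
    apply h2
    refine ⟨rfl, ?_⟩
    have huniq : ∀ {d : ℕ}, d.Prime → d ∣ a + 1 → d = 2 := by
      intro d hd hda
      have : Fact d.Prime := ⟨hd⟩
      have hdc : (d : ℤ) ∣ cyc 2 a := by
        rw [cyc_two]; exact_mod_cast hda
      have hd2 : d ∣ 2 := dvd_of_noPPD (by norm_num) ha1 hno hdc
      exact (Nat.prime_dvd_prime_iff_eq hd Nat.prime_two).mp hd2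
    exact ⟨_, Nat.eq_prime_pow_of_unique_prime_dvd (by omega) huniq⟩
  · obtain ⟨p, hp, hpn, hcyc⟩ := cyc_eq_prime_of_noPPD hn3 ha2 hno
    have hn0 : 0 < n := by omega
    have : Fact p.Prime := ⟨hp⟩
    have hpc : (p : ℤ) ∣ cyc n a := by rw [hcyc]
    rcases Nat.lt_or_ge a 3 with ha3 | ha3
    · have ha' : a = 2 := by omega
      subst ha'
      obtain ⟨k, m, hk, hm, hnm⟩ := exists_decomp hn0 hp hpn
      rcases Nat.lt_or_ge k 2 with hk2 | hk2
      · have hk1 : k = 1 := by omega
        subst hk1
        rw [pow_one] at hnm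
        have hpc' : (p : ℤ) ∣ cyc (p ^ 1 * m) 2 := by rw [pow_one, ← hnm]; exact hpc
        obtain ⟨-, hmp⟩ := order_dvd_pred hm hpc' (by rw [pow_one, ← hnm]; exact hn0) (by norm_num)
        have hm0 : 0 < m := by
          rcases Nat.eq_zero_or_pos m with h0 | h0
          · rw [h0, mul_zero] at hnm; omega
          · exact h0
        have hp2 : p ≠ 2 := by
          rintro rfl
          have : m = 1 := by simpa using hmp
          omega
        by_cases hp3 : p = 3
        · subst hp3
          have hm2 : m ∣ 2 := by simpa using hmp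
          have hmle : m ≤ 2 := Nat.le_of_dvd (by norm_num) hm2
          have hmcases : m = 1 ∨ m = 2 := by omega
          rcases hmcases with rfl | rfl
          · have : n = 3 := by omega
            subst this
            rw [cyc_three_two] at hcyc
            norm_num at hcyc
          · exact h6 ⟨rfl, by omega⟩
        · have hp5 : 5 ≤ p := by
            have h2le := hp.two_le
            by_contra hlt
            have : p = 4 := by omega
            subst this
            norm_num at hp
          have := cyc_two_ne_of_five_le hp hp5 hm0 hm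
          rw [mul_comm, ← hnm] at this
          exact this hcyc
      · have hsq : p ^ 2 ∣ n := by
          rw [hnm]
          exact Dvd.dvd.mul_right (pow_dvd_pow p hk2) m
        have := lt_cyc_two_of_sq_dvd hp hsq hn0
        rw [hcyc] at this
        simp at this
    · have := lt_cyc_of_three_le (by omega : 2 ≤ n) ha3 hp hpn
      rw [hcyc] at this
      simp at this

end Cfsg.Agent.Lib.Helper99
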