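import Cfsg.Agent.Lib.Helper99.CycCore

set_option autoImplicit false

namespace Cfsg.Agent.Lib.Helper99

/-- `n ≤ 2 φ(n)^2`, and `n ≤ φ(n)^2` for odd `n`. -/
lemma le_totient_sq_aux (n : ℕ) :
    0 < n → (n ≤ 2 * n.totient ^ 2 ∧ (¬ 2 ∣ n → n ≤ n.totient ^ 2)) := by
  induction n using Nat.recOnPrimePow with
  | zero => intro h; omega
  | one => intro _; simp
  | prime_pow_mul a p n hp hpa hn ih =>
    intro _
    have ha0 : 0 < a := by
      rcases Nat.eq_zero_or_pos a with rfl | h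
      · exact absurd (dvd_zero p) hpa
      · exact h
    obtain ⟨ih1, ih2⟩ := ih ha0
    have hcop : Nat.Coprime (p ^ n) a :=
      Nat.Coprime.pow_left _ ((Nat.Prime.coprime_iff_not_dvd hp).mpr hpa)
    obtain ⟨j, rfl⟩ : ∃ j, n = j + 1 := ⟨n - 1, by omega⟩
    rw [Nat.totient_mul hcop, Nat.totient_prime_pow_succ hp]
    rcases Nat.lt_or_ge p 3 with hp3 | hp3
    · -- p = 2
      have hp2 : p = 2 := by have := hp.two_le; omega
      subst hp2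
      have hodd := ih2 hpa
      refine ⟨?_, ?_⟩
      · have h1 : 2 ^ (j + 1) ≤ 2 * (2 ^ j) ^ 2 := by
          have : 2 ^ j ≤ (2 ^ j) ^ 2 := by
            have : 1 ≤ 2 ^ j := Nat.one_le_two_pow
            nlinarith
          calc 2 ^ (j + 1) = 2 * 2 ^ j := by ring
            _ ≤ 2 * (2 ^ j) ^ 2 := Nat.mul_le_mul_left _ this
        calc 2 ^ (j + 1) * a ≤ (2 * (2 ^ j) ^ 2) * a.totient ^ 2 := Nat.mul_le_mul h1 hodd
          _ = 2 * (2 ^ j * (2 - 1) * a.totient) ^ 2 := by ring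
      · intro h
        exact absurd (Dvd.dvd.mul_right (dvd_pow_self 2 (by omega)) a) h
    · -- p ≥ 3
      have h1 : p ^ (j + 1) ≤ (p ^ j * (p - 1)) ^ 2 := by
        have hpp : p ≤ (p - 1) ^ 2 := by
          obtain ⟨q, rfl⟩ : ∃ q, p = q + 3 := ⟨p - 3, by omega⟩
          simp only [show q + 3 - 1 = q + 2 by omega]
          nlinarith
        have hpj : p ^ j ≤ (p ^ j) ^ 2 := by
          have : 1 ≤ p ^ j := Nat.one_le_pow _ _ hp.pos
          nlinarith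
        calc p ^ (j + 1) = p ^ j * p := by ring
          _ ≤ (p ^ j) ^ 2 * (p - 1) ^ 2 := Nat.mul_le_mul hpj hpp
          _ = (p ^ j * (p - 1)) ^ 2 := by ring
      refine ⟨?_, ?_⟩
      · calc p ^ (j + 1) * a ≤ (p ^ j * (p - 1)) ^ 2 * (2 * a.totient ^ 2) := Nat.mul_le_mul h1 ih1
          _ = 2 * (p ^ j * (p - 1) * a.totient) ^ 2 := by ring
      · intro h
        have ha2 : ¬ 2 ∣ a := fun h2 => h (Dvd.dvd.mul_left h2 _)
        calc p ^ (j + 1) * a ≤ (p ^ j * (p - 1)) ^ 2 * a.totient ^ 2 := Nat.mul_le_mul h1 (ih2 ha2)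
          _ = (p ^ j * (p - 1) * a.totient) ^ 2 := by ring

lemma le_two_mul_totient_sq {n : ℕ} (hn : 0 < n) : n ≤ 2 * n.totient ^ 2 :=
  (le_totient_sq_aux n hn).1

/-- exponential beats polynomial -/
lemma poly_lt_two_pow {u : ℕ} (hu : 36 ≤ u) : ((4 * u ^ 2 + 1) * (u + 1)) ^ 2 < 2 ^ u := by
  induction u, hu using Nat.le_induction with
  | base => norm_num
  | succ u hu ih =>
    have h1 : 5 * ((4 * (u + 1) ^ 2 + 1) * (u + 1 + 1)) ≤ 7 * ((4 * u ^ 2 + 1) * (u + 1)) := by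
      nlinarith [sq_nonneg u, mul_pos (by omega : 0 < u) (by omega : 0 < u)]
    set A0 := (4 * u ^ 2 + 1) * (u + 1) with hA0
    set B0 := (4 * (u + 1) ^ 2 + 1) * (u + 1 + 1) with hB0
    have h2 : (5 * B0) ^ 2 ≤ (7 * A0) ^ 2 := Nat.pow_le_pow_left h1 2
    have h3 : (5 * B0) ^ 2 = 25 * B0 ^ 2 := by ring
    have h4 : (7 * A0) ^ 2 = 49 * A0 ^ 2 := by ring
    rw [h3, h4] at h2
    rw [pow_succ 2 u]
    omega

/-- the elementary inequality behind the crude bound -/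
lemma crude_base {b p : ℕ} (hb : 2 ≤ b) (hp : 2 ≤ p) (h : 3 ≤ p ∨ 3 ≤ b) :
    b ^ (p - 1) * (b + 1) ^ 2 ≤ (b ^ p - 1) ^ 2 := by
  obtain ⟨q, rfl⟩ : ∃ q, p = q + 2 := ⟨p - 2, by omega⟩
  have h1 : 1 ≤ b ^ (q + 2) := Nat.one_le_pow _ _ (by omega)
  simp only [show q + 2 - 1 = q + 1 by omega]
  zify [h1]
  set X : ℤ := (b : ℤ) ^ (q + 1) with hX
  have hbX : (b : ℤ) ^ (q + 2) = b * X := by rw [hX]; ring
  rw [hbX]
  have hb' : (2 : ℤ) ≤ b := by exact_mod_cast hb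
  have hXb : (b : ℤ) ≤ X := by
    rw [hX]
    calc (b : ℤ) = b ^ 1 := (pow_one _).symm
      _ ≤ b ^ (q + 1) := pow_le_pow_right₀ (by linarith) (by omega)
  rcases h with h | h
  · -- q ≥ 1, X ≥ b^2
    have hXb2 : (b : ℤ) ^ 2 ≤ X := by
      rw [hX]
      exact pow_le_pow_right₀ (by linarith) (by omega)
    nlinarith [mul_nonneg (by linarith : (0 : ℤ) ≤ X) (by linarith : (0 : ℤ) ≤ X - b ^ 2),
      mul_nonneg (by linarith : (0 : ℤ) ≤ b - 2) (by linarith : (0 : ℤ) ≤ b - 2)]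
  · have hb3 : (3 : ℤ) ≤ b := by exact_mod_cast h
    nlinarith [mul_nonneg (by linarith : (0 : ℤ) ≤ X) (by linarith : (0 : ℤ) ≤ X - b),
      mul_nonneg (by linarith : (0 : ℤ) ≤ b - 3) (by linarith : (0 : ℤ) ≤ b - 3)]

/-- every `n ≥ 3` decomposes as `p^(k+1) m` with `p` prime, `p ∤ m` and (`p ≥ 3` or `k ≥ 1`) -/
lemma exists_good_decomp {n : ℕ} (hn : 3 ≤ n) :
    ∃ p k m : ℕ, p.Prime ∧ ¬ p ∣ m ∧ n = p ^ (k + 1) * m ∧ (3 ≤ p ∨ 1 ≤ k) := by
  by_cases h : ∃ p : ℕ, p.Prime ∧ p ∣ n ∧ p ≠ 2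
  · obtain ⟨p, hp, hpn, hp2⟩ := h
    obtain ⟨e, m, hm, hnm⟩ := Nat.exists_eq_pow_mul_and_not_dvd (by omega : n ≠ 0) p hp.ne_one
    have he : e ≠ 0 := by
      rintro rfl
      rw [pow_zero, one_mul] at hnm
      rw [hnm] at hpn
      exact hm hpn
    obtain ⟨k, rfl⟩ : ∃ k, e = k + 1 := ⟨e - 1, by omega⟩
    refine ⟨p, k, m, hp, hm, hnm, Or.inl ?_⟩
    have := hp.two_le
    omega
  · push Not at h
    have huniq : ∀ {d : ℕ}, d.Prime → d ∣ n → d = 2 := fun hd hdn => h _ hd hdn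
    have hpow := Nat.eq_prime_pow_of_unique_prime_dvd (by omega : n ≠ 0) huniq
    set e := n.primeFactorsList.length with he
    have he2 : 2 ≤ e := by
      by_contra hlt
      have : e = 0 ∨ e = 1 := by omega
      rcases this with h0 | h1
      · rw [h0] at hpow; omega
      · rw [h1] at hpow; omega
    obtain ⟨k, hk⟩ : ∃ k, e = k + 1 := ⟨e - 1, by omega⟩
    refine ⟨2, k, 1, Nat.prime_two, by norm_num, ?_, Or.inr (by omega)⟩
    rw [mul_one, ← hk]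
    exact hpow

/-- crude bound: `a^φ(n) ≤ Φ_n(a)^2` -/
lemma pow_totient_le_cyc_sq {a n : ℕ} (ha : 2 ≤ a) (hn : 3 ≤ n) :
    a ^ n.totient ≤ (cyc n a).natAbs ^ 2 := by
  obtain ⟨p, k, m, hp, hpm, rfl, hpk⟩ := exists_good_decomp hn
  have hcore := core_ineq hp hpm k ha
  set b := a ^ (p ^ k) with hb
  set t := m.totient with ht
  set Φ := (cyc (p ^ (k + 1) * m) a).natAbs with hΦ
  have hpk1 : 1 ≤ p ^ k := Nat.one_le_pow _ _ hp.pos
  have hb2 : 2 ≤ b := by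
    calc 2 ≤ a := ha
      _ = a ^ 1 := (pow_one a).symm
      _ ≤ a ^ (p ^ k) := Nat.pow_le_pow_right (by omega) hpk1
  have hcond : 3 ≤ p ∨ 3 ≤ b := by
    rcases hpk with h | h
    · exact Or.inl h
    · right
      have h2 : 2 ≤ p ^ k := by
        calc 2 ≤ p := hp.two_le
          _ = p ^ 1 := (pow_one p).symm
          _ ≤ p ^ k := Nat.pow_le_pow_right hp.pos h
      calc 3 ≤ 2 ^ 2 := by norm_num
        _ ≤ a ^ 2 := Nat.pow_le_pow_left ha 2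
        _ ≤ a ^ (p ^ k) := Nat.pow_le_pow_right (by omega) h2
  have hbase := crude_base hb2 hp.two_le hcond
  have h1 : (b ^ (p - 1)) ^ t * ((b + 1) ^ t) ^ 2 ≤ Φ ^ 2 * ((b + 1) ^ t) ^ 2 := by
    calc (b ^ (p - 1)) ^ t * ((b + 1) ^ t) ^ 2 = (b ^ (p - 1) * (b + 1) ^ 2) ^ t := by
          rw [mul_pow, ← pow_mul (b + 1) t 2, ← pow_mul (b + 1) 2 t, mul_comm t 2]
      _ ≤ ((b ^ p - 1) ^ 2) ^ t := Nat.pow_le_pow_left hbase t
      _ = ((b ^ p - 1) ^ t) ^ 2 := by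
          rw [← pow_mul (b ^ p - 1) 2 t, ← pow_mul (b ^ p - 1) t 2, mul_comm]
      _ ≤ (Φ * (b + 1) ^ t) ^ 2 := Nat.pow_le_pow_left hcore 2
      _ = Φ ^ 2 * ((b + 1) ^ t) ^ 2 := by ring
  have h2 : (b ^ (p - 1)) ^ t ≤ Φ ^ 2 := Nat.le_of_mul_le_mul_right h1 (by positivity)
  have hcop : Nat.Coprime (p ^ (k + 1)) m :=
    Nat.Coprime.pow_left _ ((Nat.Prime.coprime_iff_not_dvd hp).mpr hpm)
  have htot : (p ^ (k + 1) * m).totient = p ^ k * (p - 1) * t := by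
    rw [Nat.totient_mul hcop, Nat.totient_prime_pow_succ hp]
  rw [htot]
  calc a ^ (p ^ k * (p - 1) * t) = (b ^ (p - 1)) ^ t := by
        rw [hb, ← pow_mul, ← pow_mul, mul_assoc]
    _ ≤ Φ ^ 2 := h2

/-- For `n ≥ 2451`, `Φ_n(a) > (2n+1)(φ(n)+1)`. -/
lemma cyc_gt_large {a n : ℕ} (ha : 2 ≤ a) (hn : 2451 ≤ n) :
    (2 * n + 1) * (n.totient + 1) < (cyc n a).natAbs := by
  set u := n.totient with hu
  have h1 : n ≤ 2 * u ^ 2 := le_two_mul_totient_sq (by omega)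
  have hu36 : 36 ≤ u := by
    by_contra hlt
    have : u ≤ 35 := by omega
    have : u ^ 2 ≤ 35 ^ 2 := Nat.pow_le_pow_left this 2
    omega
  have h2 := poly_lt_two_pow hu36
  have h3 : a ^ u ≤ (cyc n a).natAbs ^ 2 := pow_totient_le_cyc_sq ha (by omega)
  have h4 : 2 ^ u ≤ a ^ u := Nat.pow_le_pow_left ha u
  have h5 : (2 * n + 1) * (u + 1) ≤ (4 * u ^ 2 + 1) * (u + 1) :=
    Nat.mul_le_mul_right _ (by omega)
  have h6 : ((2 * n + 1) * (u + 1)) ^ 2 < (cyc n a).natAbs ^ 2 :=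
    calc ((2 * n + 1) * (u + 1)) ^ 2 ≤ ((4 * u ^ 2 + 1) * (u + 1)) ^ 2 := Nat.pow_le_pow_left h5 2
      _ < 2 ^ u := h2
      _ ≤ a ^ u := h4
      _ ≤ _ := h3
  exact lt_of_pow_lt_pow_left₀ 2 (Nat.zero_le _) h6

/-- prime divisors of `n` are at most `φ(n) + 1` -/
lemma prime_le_totient_succ {r n : ℕ} (hr : r.Prime) (hrn : r ∣ n) (hn : 0 < n) :
    r ≤ n.totient + 1 := by
  have h1 : r.totient ∣ n.totient := Nat.totient_dvd_of_dvd hrn
  rw [Nat.totient_prime hr] at h1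
  have h2 : 0 < n.totient := Nat.totient_pos.mpr hn
  have := Nat.le_of_dvd h2 h1
  omega

end Cfsg.Agent.Lib.Helper99
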