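import Cfsg.Agent.Lib.Helper99.CycTable
import Cfsg.Agent.Lib.Helper99.CycLarge

set_option autoImplicit false

namespace Cfsg.Agent.Lib.Helper99

/-- Hering's thirteen exceptional pairs `(a, n)`. -/
def heringExc : List (ℕ × ℕ) :=
  [(2, 6), (2, 4), (2, 10), (2, 12), (2, 18), (3, 4), (3, 6), (5, 6), (2, 3), (2, 8), (2, 20), (4, 3), (4, 6)]

/-- **Hering's bound** for arbitrary bases: for `a ≥ 2`, `n ≥ 3`, outside thirteen exceptional pairs
`a^n - 1` has a divisor `m ≥ 3n+1` coprime to all `a^i - 1`, `1 ≤ i < n`. -/
theorem primitive_part_ge (a n : ℕ) (ha : 2 ≤ a) (hn : 3 ≤ n) (hE : (a, n) ∉ heringExc) :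
    ∃ m : ℕ, m ∣ a ^ n - 1 ∧ (∀ i, 1 ≤ i → i < n → Nat.Coprime m (a ^ i - 1)) ∧ 3 * n + 1 ≤ m := by
  rcases Nat.lt_or_ge n 2451 with hsmall | hbig
  swap
  · exact exists_large_of_lt ha hn (Nat.le_add_left 1 _)
      (fun r hr hrn => prime_le_totient_succ hr hrn (by omega)) (cyc_gt_large ha hbig)
  by_cases hexc : n ∈ critExc
  swap
  · obtain ⟨p, k, s, h⟩ := exists_critB hn hsmall hexc
    exact of_critB h (le_refl 2) hn ha
  simp only [critExc, List.mem_cons, List.not_mem_nil, or_false] at hexc
  rcases hexc with rfl | rfl | rfl | rfl | rfl | rfl | rfl | rfl | rfl | rfl | rfl | rfl | rfl | rfl | rfl | rfl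
  · -- n = 3
    rcases Nat.lt_or_ge a 6 with hlt | hge
    · interval_cases a
      · exact absurd (by decide) hE
      · exact ⟨13, by decide +kernel, by decide +kernel, by decide +kernel⟩
      · exact absurd (by decide) hE
      · exact ⟨31, by decide +kernel, by decide +kernel, by decide +kernel⟩
    · exact of_critB (show critB 6 3 3 0 2 = true by decide +kernel) (by norm_num) (by norm_num) hge
  · -- n = 4
    rcases Nat.lt_or_ge a 5 with hlt | hge
    · interval_cases a
      · exact absurd (by decide) hE
      · exact absurd (by decide) hE
      · exact ⟨17, by decide +kernel, by decide +kernel, by decide +kernel⟩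
    · exact of_critB (show critB 5 4 2 1 2 = true by decide +kernel) (by norm_num) (by norm_num) hge
  · -- n = 5
    rcases Nat.lt_or_ge a 3 with hlt | hge
    · interval_cases a
      · exact ⟨31, by decide +kernel, by decide +kernel, by decide +kernel⟩
    · exact of_critB (show critB 3 5 5 0 3 = true by decide +kernel) (by norm_num) (by norm_num) hge
  · -- n = 6
    rcases Nat.lt_or_ge a 7 with hlt | hge
    · interval_cases a
      · exact absurd (by decide) hE
      · exact absurd (by decide) hE
      · exact absurd (by decide) hE
      · exact absurd (by decide) hE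
      · exact ⟨31, by decide +kernel, by decide +kernel, by decide +kernel⟩
    · exact of_critB (show critB 7 6 3 0 2 = true by decide +kernel) (by norm_num) (by norm_num) hge
  · -- n = 7
    rcases Nat.lt_or_ge a 3 with hlt | hge
    · interval_cases a
      · exact ⟨127, by decide +kernel, by decide +kernel, by decide +kernel⟩
    · exact of_critB (show critB 3 7 7 0 3 = true by decide +kernel) (by norm_num) (by norm_num) hge
  · -- n = 8
    rcases Nat.lt_or_ge a 3 with hlt | hge
    · interval_cases a
      · exact absurd (by decide) hE
    · exact of_critB (show critB 3 8 2 2 2 = true by decide +kernel) (by norm_num) (by norm_num) hge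
  · -- n = 9
    rcases Nat.lt_or_ge a 3 with hlt | hge
    · interval_cases a
      · exact ⟨73, by decide +kernel, by decide +kernel, by decide +kernel⟩
    · exact of_critB (show critB 3 9 3 1 2 = true by decide +kernel) (by norm_num) (by norm_num) hge
  · -- n = 10
    rcases Nat.lt_or_ge a 4 with hlt | hge
    · interval_cases a
      · exact absurd (by decide) hE
      · exact ⟨61, by decide +kernel, by decide +kernel, by decide +kernel⟩
    · exact of_critB (show critB 4 10 5 0 3 = true by decide +kernel) (by norm_num) (by norm_num) hge
  · -- n = 12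
    rcases Nat.lt_or_ge a 4 with hlt | hge
    · interval_cases a
      · exact absurd (by decide) hE
      · exact ⟨73, by decide +kernel, by decide +kernel, by decide +kernel⟩
    · exact of_critB (show critB 4 12 3 0 2 = true by decide +kernel) (by norm_num) (by norm_num) hge
  · -- n = 14
    rcases Nat.lt_or_ge a 3 with hlt | hge
    · interval_cases a
      · exact ⟨43, by decide +kernel, by decide +kernel, by decide +kernel⟩
    · exact of_critB (show critB 3 14 7 0 3 = true by decide +kernel) (by norm_num) (by norm_num) hge
  · -- n = 15
    rcases Nat.lt_or_ge a 3 with hlt | hge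
    · interval_cases a
      · exact ⟨151, by decide +kernel, by decide +kernel, by decide +kernel⟩
    · exact of_critB (show critB 3 15 5 0 3 = true by decide +kernel) (by norm_num) (by norm_num) hge
  · -- n = 18
    rcases Nat.lt_or_ge a 3 with hlt | hge
    · interval_cases a
      · exact absurd (by decide) hE
    · exact of_critB (show critB 3 18 3 1 2 = true by decide +kernel) (by norm_num) (by norm_num) hge
  · -- n = 20
    rcases Nat.lt_or_ge a 3 with hlt | hge
    · interval_cases a
      · exact absurd (by decide) hE
    · exact of_critB (show critB 3 20 5 0 3 = true by decide +kernel) (by norm_num) (by norm_num) hge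
  · -- n = 24
    rcases Nat.lt_or_ge a 3 with hlt | hge
    · interval_cases a
      · exact ⟨241, by decide +kernel, by decide +kernel, by decide +kernel⟩
    · exact of_critB (show critB 3 24 3 0 2 = true by decide +kernel) (by norm_num) (by norm_num) hge
  · -- n = 30
    rcases Nat.lt_or_ge a 3 with hlt | hge
    · interval_cases a
      · exact ⟨331, by decide +kernel, by decide +kernel, by decide +kernel⟩
    · exact of_critB (show critB 3 30 5 0 3 = true by decide +kernel) (by norm_num) (by norm_num) hge
  · -- n = 48
    rcases Nat.lt_or_ge a 3 with hlt | hge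
    · interval_cases a
      · exact ⟨65281, by decide +kernel, by decide +kernel, by decide +kernel⟩
    · exact of_critB (show critB 3 48 3 0 2 = true by decide +kernel) (by norm_num) (by norm_num) hge

end Cfsg.Agent.Lib.Helper99
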