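import Mathlib

/-!
# The set `E = {a : N(a) = N(2 - a) = 1}` in `GF(p^q)` has at least two elements

* `exists_cubic_elt`: for `q = 3`, from an irreducible cubic `X^3 + c X^2 - c`;
* `two_le_card`: for `q ≥ 4`, by a Jacobi sum estimate.
-/

set_option autoImplicit false
open Polynomial

namespace Cfsg.Agent.Lib.Helper99.NormPair

/-- norm of `x - gen` is the minimal polynomial evaluated at `x`. -/
theorem norm_sub_gen {K L : Type*} [Field K] [Field L] [Algebra K L] (pb : PowerBasis K L) (x : K) :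
    Algebra.norm K (algebraMap K L x - pb.gen) = (minpoly K pb.gen).eval x := by
  classical
  rw [Algebra.norm_eq_matrix_det pb.basis, map_sub, ← charpoly_leftMulMatrix pb,
    Matrix.eval_charpoly]
  congr 1
  rw [AlgHom.commutes]
  rfl

/-- existence of a cubic `X^3 + c X^2 - c` without roots. -/
theorem exists_c (p : ℕ) [Fact p.Prime] (hp : p ≠ 2) :
    ∃ c : ZMod p, ∀ r : ZMod p, r ^ 3 + c * r ^ 2 - c ≠ 0 := by
  by_contra hcon
  push Not at hcon
  choose r hr using hcon
  have h2 : (2 : ZMod p) ≠ 0 := by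
    intro h
    have : (p : ℕ) ∣ 2 := by
      rw [← ZMod.natCast_eq_zero_iff]; exact_mod_cast h
    have hp' := (Nat.prime_dvd_prime_iff_eq (Fact.out : p.Prime) Nat.prime_two).mp this
    exact hp hp'
  have hne : ∀ c, r c ^ 2 ≠ 1 := by
    intro c h
    have h1 := hr c
    have : r c ^ 3 = r c := by
      calc r c ^ 3 = r c * r c ^ 2 := by ring
        _ = r c := by rw [h, mul_one]
    rw [this, h] at h1
    have : r c = 0 := by linear_combination h1
    rw [this] at h
    simp at h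
  have hinj : Function.Injective r := by
    intro c c' h
    have h1 := hr c
    have h2' := hr c'
    rw [h] at h1
    have h3 : (c - c') * (r c' ^ 2 - 1) = 0 := by linear_combination h1 - h2'
    rcases mul_eq_zero.mp h3 with h4 | h4
    · exact sub_eq_zero.mp h4
    · exact absurd (sub_eq_zero.mp h4) (hne c')
  obtain ⟨c, hc⟩ := (Finite.injective_iff_surjective.mp hinj) 1
  exact hne c (by rw [hc]; ring)

theorem exists_cubic_elt (p : ℕ) [Fact p.Prime] (hp : p ≠ 2) :
    ∃ t : GaloisField p 3, t ≠ 0 ∧ Algebra.norm (ZMod p) (1 + t) = 1 ∧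
      Algebra.norm (ZMod p) (1 - t) = 1 := by
  obtain ⟨c, hc⟩ := exists_c p hp
  set f : (ZMod p)[X] := X ^ 3 + C c * X ^ 2 - C c with hf
  have hdeg' : (C c * X ^ 2 - C c : (ZMod p)[X]).degree < 3 := by
    refine lt_of_le_of_lt (degree_sub_le _ _) ?_
    refine max_lt ?_ ?_
    · refine lt_of_le_of_lt (degree_C_mul_X_pow_le 2 c) ?_
      norm_num
    · exact lt_of_le_of_lt degree_C_le (by norm_num)
  have hf' : f = X ^ 3 + (C c * X ^ 2 - C c) := by rw [hf]; ring
  have hmonic : f.Monic := by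
    rw [hf']
    exact monic_X_pow_add hdeg'
  have hdeg : f.natDegree = 3 := by
    rw [hf']
    apply natDegree_eq_of_degree_eq_some
    rw [degree_add_eq_left_of_degree_lt (by rw [degree_X_pow]; exact hdeg'), degree_X_pow]
  have hirr : Irreducible f := by
    rw [hmonic.irreducible_iff_roots_eq_zero_of_degree_le_three (by omega) (by omega)]
    rw [Multiset.eq_zero_iff_forall_notMem]
    intro r hr
    rw [mem_roots hmonic.ne_zero, IsRoot.def] at hr
    apply hc r
    rw [← hr, hf]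
    simp
  have : Fact (Irreducible f) := ⟨hirr⟩
  let pb := AdjoinRoot.powerBasis' hmonic
  have hgen : pb.gen = AdjoinRoot.root f := AdjoinRoot.powerBasis'_gen hmonic
  have hdim : pb.dim = 3 := by rw [AdjoinRoot.powerBasis'_dim hmonic, hdeg]
  have hfin : Module.finrank (ZMod p) (AdjoinRoot f) = 3 := by rw [pb.finrank, hdim]
  have : Module.Finite (ZMod p) (AdjoinRoot f) := pb.finite
  have : Finite (AdjoinRoot f) := Module.finite_of_finite (ZMod p)
  have hcard : Nat.card (AdjoinRoot f) = p ^ 3 := by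
    rw [Module.natCard_eq_pow_finrank (K := ZMod p), hfin, Nat.card_zmod]
  let e := GaloisField.algEquivGaloisField p 3 hcard
  have hmin : minpoly (ZMod p) pb.gen = f := by
    rw [hgen, AdjoinRoot.minpoly_root hmonic.ne_zero, hmonic.leadingCoeff]
    simp
  have hN : ∀ x : ZMod p, Algebra.norm (ZMod p)
      (algebraMap (ZMod p) (AdjoinRoot f) x - AdjoinRoot.root f) = x ^ 3 + c * x ^ 2 - c := by
    intro x
    rw [← hgen, norm_sub_gen pb x, hmin, hf]
    simp
  refine ⟨e (AdjoinRoot.root f), ?_, ?_, ?_⟩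
  · intro h
    have h0 : AdjoinRoot.root f = 0 := by
      have := e.injective (h.trans (map_zero e).symm)
      exact this
    have h1 := hN 0
    rw [h0] at h1
    have hc0 : c = 0 := by simpa using h1
    apply hc 0
    rw [hc0]; ring
  · have h1 : (1 : GaloisField p 3) + e (AdjoinRoot.root f) =
        e (algebraMap (ZMod p) (AdjoinRoot f) (-1) *
          (algebraMap (ZMod p) (AdjoinRoot f) (-1) - AdjoinRoot.root f)) := by
      simp [add_comm]
    rw [h1, Algebra.norm_eq_of_algEquiv, map_mul, hN, Algebra.norm_algebraMap, hfin]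
    ring
  · have h1 : (1 : GaloisField p 3) - e (AdjoinRoot.root f) =
        e ((algebraMap (ZMod p) (AdjoinRoot f) 1 - AdjoinRoot.root f)) := by
      simp
    rw [h1, Algebra.norm_eq_of_algEquiv, hN]
    ring

theorem mulChar_norm_le_one {R : Type*} [CommRing R] [Fintype Rˣ] (χ : MulChar R ℂ) (a : R) :
    ‖χ a‖ ≤ 1 := by
  by_cases ha : IsUnit a
  · have : χ a ^ (Fintype.card Rˣ) = 1 := by
      obtain ⟨u, rfl⟩ := ha
      rw [← MulChar.pow_apply_coe, MulChar.pow_card_eq_one, MulChar.one_apply_coe]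
    exact (Complex.norm_eq_one_of_pow_eq_one this Fintype.card_ne_zero).le
  · rw [χ.map_nonunit ha]; simp

theorem norm_jacobiSum_sq_le {F : Type*} [Field F] [Fintype F] [DecidableEq F]
    (χ φ : MulChar F ℂ) (h : ¬ (χ = 1 ∧ φ = 1)) :
    ‖jacobiSum χ φ‖ ^ 2 ≤ (Fintype.card F : ℝ) := by
  have hcard : (1 : ℝ) ≤ (Fintype.card F : ℝ) := by
    exact_mod_cast Fintype.card_pos
  by_cases hχ : χ = 1
  · have hφ : φ ≠ 1 := fun hφ => h ⟨hχ, hφ⟩
    rw [hχ, jacobiSum_one_nontrivial hφ]
    simpa using hcard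
  by_cases hφ : φ = 1
  · rw [hφ, jacobiSum_comm, jacobiSum_one_nontrivial hχ]
    simpa using hcard
  by_cases hχφ : χ * φ = 1
  · have : φ = χ⁻¹ := (eq_inv_of_mul_eq_one_right hχφ)
    rw [this, jacobiSum_nontrivial_inv hχ, norm_neg]
    have h1 := mulChar_norm_le_one χ (-1)
    have h0 : 0 ≤ ‖χ (-1)‖ := norm_nonneg _
    nlinarith
  · have hchar : ringChar ℂ ≠ ringChar F := by
      rw [ringChar.eq_zero]
      exact (CharP.ringChar_ne_zero_of_finite F).symm
    have h1 := jacobiSum_mul_jacobiSum_inv hchar hχ hφ hχφ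
    have h2 : jacobiSum χ⁻¹ φ⁻¹ = (starRingEnd ℂ) (jacobiSum χ φ) := by
      rw [← jacobiSum_ringHomComp, ← MulChar.star_eq_inv, ← MulChar.star_eq_inv]
      rfl
    rw [h2, Complex.mul_conj, Complex.normSq_eq_norm_sq] at h1
    have h3 : ‖jacobiSum χ φ‖ ^ 2 = (Fintype.card F : ℝ) := by
      exact_mod_cast h1
    exact h3.le

section
variable {p : ℕ} [Fact p.Prime] {F : Type*} [Field F] [Fintype F] [DecidableEq F]
  [Algebra (ZMod p) F]

/-- composition of a character of `ZMod p` with the norm. -/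
noncomputable def nchar (χ : MulChar (ZMod p) ℂ) : MulChar F ℂ :=
  MulChar.ofUnitHom (χ.toUnitHom.comp (Units.map (Algebra.norm (ZMod p) : F →* ZMod p)))

theorem nchar_apply (χ : MulChar (ZMod p) ℂ) (a : F) :
    nchar χ a = χ (Algebra.norm (ZMod p) a) := by
  by_cases ha : IsUnit a
  · obtain ⟨u, rfl⟩ := ha
    rw [nchar, MulChar.ofUnitHom_coe]
    simp [MulChar.coe_toUnitHom]
  · rw [MulChar.map_nonunit _ ha]
    have ha0 : a = 0 := by
      by_contra h
      exact ha (isUnit_iff_ne_zero.mpr h)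
    rw [ha0, Algebra.norm_zero, MulChar.map_zero]

theorem nchar_one : nchar (1 : MulChar (ZMod p) ℂ) = (1 : MulChar F ℂ) := by
  apply MulChar.ext
  intro a
  rw [nchar_apply, MulChar.one_apply_coe, MulChar.one_apply]
  exact (a.isUnit.map (Algebra.norm (ZMod p)))

theorem nchar_mul (χ ψ : MulChar (ZMod p) ℂ) :
    nchar (χ * ψ) = (nchar χ * nchar ψ : MulChar F ℂ) := by
  apply MulChar.ext'
  intro a
  simp only [nchar_apply, MulChar.mul_apply]

theorem nchar_eq_one_iff (χ : MulChar (ZMod p) ℂ) :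
    (nchar χ : MulChar F ℂ) = 1 ↔ χ = 1 := by
  constructor
  · intro h
    rw [MulChar.eq_one_iff]
    intro k
    obtain ⟨u, hu⟩ := FiniteField.unitsMap_norm_surjective (ZMod p) F k
    have h1 : (nchar χ : MulChar F ℂ) (u : F) = 1 := by rw [h, MulChar.one_apply_coe]
    rw [nchar_apply] at h1
    rw [← h1, ← hu]
    simp
  · rintro rfl
    exact nchar_one

theorem sum_eq (χ ψ : MulChar (ZMod p) ℂ) (h2 : (2 : F) ≠ 0) :
    ∑ a : F, χ (Algebra.norm (ZMod p) a) * ψ (Algebra.norm (ZMod p) (2 - a)) =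
      nchar χ (2 : F) * nchar ψ (2 : F) * jacobiSum (nchar χ : MulChar F ℂ) (nchar ψ) := by
  rw [jacobiSum, Finset.mul_sum]
  rw [← Fintype.sum_bijective (fun x : F => 2 * x) (mulLeft_bijective₀ 2 h2)
    (fun x => nchar χ (2 : F) * nchar ψ (2 : F) * ((nchar χ : MulChar F ℂ) x * (nchar ψ) (1 - x)))
    (fun a => χ (Algebra.norm (ZMod p) a) * ψ (Algebra.norm (ZMod p) (2 - a)))]
  intro x
  rw [← nchar_apply, ← nchar_apply]
  have : (2 : F) - 2 * x = 2 * (1 - x) := by ring
  rw [this, map_mul, map_mul]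
  ring

theorem count_eq (h2 : (2 : F) ≠ 0) :
    (((p : ℂ) - 1) ^ 2) * ((Finset.univ.filter (fun a : F =>
        Algebra.norm (ZMod p) a = 1 ∧ Algebra.norm (ZMod p) (2 - a) = 1)).card : ℂ) =
      ∑ χ : DirichletCharacter ℂ p, ∑ ψ : DirichletCharacter ℂ p,
        nchar χ (2 : F) * nchar ψ (2 : F) * jacobiSum (nchar χ : MulChar F ℂ) (nchar ψ) := by
  have htot : ((p.totient : ℕ) : ℂ) = (p : ℂ) - 1 := by
    rw [Nat.totient_prime (Fact.out : p.Prime), Nat.cast_sub (Fact.out : p.Prime).one_le]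
    simp
  have hsum : ∀ k : ZMod p, ∑ χ : DirichletCharacter ℂ p, χ k =
      if k = 1 then (p : ℂ) - 1 else 0 := by
    intro k
    rw [DirichletCharacter.sum_characters_eq ℂ k, htot]
  calc (((p : ℂ) - 1) ^ 2) * ((Finset.univ.filter (fun a : F =>
        Algebra.norm (ZMod p) a = 1 ∧ Algebra.norm (ZMod p) (2 - a) = 1)).card : ℂ)
      = ∑ a : F, (if Algebra.norm (ZMod p) a = 1 then (p : ℂ) - 1 else 0) *
          (if Algebra.norm (ZMod p) (2 - a) = 1 then (p : ℂ) - 1 else 0) := by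
        rw [Finset.card_filter, Nat.cast_sum, Finset.mul_sum]
        apply Finset.sum_congr rfl
        intro a _
        by_cases h1 : Algebra.norm (ZMod p) a = 1 <;>
          by_cases h3 : Algebra.norm (ZMod p) (2 - a) = 1 <;> simp [h1, h3] <;> ring
    _ = ∑ a : F, (∑ χ : DirichletCharacter ℂ p, χ (Algebra.norm (ZMod p) a)) *
          (∑ ψ : DirichletCharacter ℂ p, ψ (Algebra.norm (ZMod p) (2 - a))) := by
        apply Finset.sum_congr rfl
        intro a _
        rw [hsum, hsum]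
    _ = ∑ χ : DirichletCharacter ℂ p, ∑ ψ : DirichletCharacter ℂ p,
          ∑ a : F, χ (Algebra.norm (ZMod p) a) * ψ (Algebra.norm (ZMod p) (2 - a)) := by
        simp_rw [Finset.sum_mul_sum]
        rw [Finset.sum_comm]
        apply Finset.sum_congr rfl
        intro χ _
        rw [Finset.sum_comm]
    _ = _ := by
        apply Finset.sum_congr rfl
        intro χ _
        apply Finset.sum_congr rfl
        intro ψ _
        exact sum_eq χ ψ h2

/-- the term attached to a pair of characters -/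
noncomputable def term (x : DirichletCharacter ℂ p × DirichletCharacter ℂ p) : ℂ :=
  nchar x.1 (2 : F) * nchar x.2 (2 : F) * jacobiSum (nchar x.1 : MulChar F ℂ) (nchar x.2)

theorem term_one (h2 : (2 : F) ≠ 0) :
    term (F := F) ((1 : DirichletCharacter ℂ p), (1 : DirichletCharacter ℂ p)) =
      (Fintype.card F : ℂ) - 2 := by
  rw [term]
  simp only [nchar_one]
  rw [jacobiSum_one_one, MulChar.one_apply (isUnit_iff_ne_zero.mpr h2)]
  ring

theorem norm_term_le (x : DirichletCharacter ℂ p × DirichletCharacter ℂ p)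
    (hx : x ≠ (1, 1)) : ‖term (F := F) x‖ ≤ Real.sqrt (Fintype.card F) := by
  rw [term, norm_mul, norm_mul]
  have h1 := mulChar_norm_le_one (nchar x.1 : MulChar F ℂ) 2
  have h2 := mulChar_norm_le_one (nchar x.2 : MulChar F ℂ) 2
  have h3 : ‖jacobiSum (nchar x.1 : MulChar F ℂ) (nchar x.2)‖ ≤ Real.sqrt (Fintype.card F) := by
    apply Real.le_sqrt_of_sq_le
    apply norm_jacobiSum_sq_le
    rintro ⟨ha, hb⟩
    rw [nchar_eq_one_iff] at ha hb
    exact hx (Prod.ext ha hb)
  have h4 : 0 ≤ ‖jacobiSum (nchar x.1 : MulChar F ℂ) (nchar x.2)‖ := norm_nonneg _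
  have h5 : 0 ≤ ‖(nchar x.1 : MulChar F ℂ) 2‖ := norm_nonneg _
  have h6 : 0 ≤ ‖(nchar x.2 : MulChar F ℂ) 2‖ := norm_nonneg _
  calc ‖(nchar x.1 : MulChar F ℂ) 2‖ * ‖(nchar x.2 : MulChar F ℂ) 2‖ *
        ‖jacobiSum (nchar x.1 : MulChar F ℂ) (nchar x.2)‖
      ≤ 1 * 1 * ‖jacobiSum (nchar x.1 : MulChar F ℂ) (nchar x.2)‖ := by
        apply mul_le_mul_of_nonneg_right _ h4
        exact mul_le_mul h1 h2 h6 zero_le_one
    _ ≤ Real.sqrt (Fintype.card F) := by rw [one_mul, one_mul]; exact h3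

theorem main_ineq (h2 : (2 : F) ≠ 0) :
    ((Fintype.card F : ℝ) - 2) - (((p : ℝ) - 1) ^ 2 - 1) * Real.sqrt (Fintype.card F) ≤
      ((p : ℝ) - 1) ^ 2 * ((Finset.univ.filter (fun a : F =>
        Algebra.norm (ZMod p) a = 1 ∧ Algebra.norm (ZMod p) (2 - a) = 1)).card : ℝ) := by
  set n := (Finset.univ.filter (fun a : F =>
        Algebra.norm (ZMod p) a = 1 ∧ Algebra.norm (ZMod p) (2 - a) = 1)).card with hn
  have hc := count_eq (p := p) (F := F) h2
  rw [← hn] at hc
  have hprod : ∑ χ : DirichletCharacter ℂ p, ∑ ψ : DirichletCharacter ℂ p,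
        nchar χ (2 : F) * nchar ψ (2 : F) * jacobiSum (nchar χ : MulChar F ℂ) (nchar ψ) =
      ∑ x ∈ (Finset.univ : Finset (DirichletCharacter ℂ p × DirichletCharacter ℂ p)),
        term (F := F) x := by
    rw [← Finset.univ_product_univ, Finset.sum_product]
    rfl
  rw [hprod, ← Finset.add_sum_erase _ _ (Finset.mem_univ ((1 : DirichletCharacter ℂ p),
    (1 : DirichletCharacter ℂ p))), term_one h2] at hc
  have hcardX : Fintype.card (DirichletCharacter ℂ p) = p - 1 := by
    rw [Fintype.card_eq_nat_card, DirichletCharacter.card_eq_totient_of_hasEnoughRootsOfUnity ℂ p,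
      Nat.totient_prime (Fact.out : p.Prime)]
  have hp1 : 1 ≤ p := (Fact.out : p.Prime).one_le
  have hbound : ‖∑ x ∈ (Finset.univ : Finset (DirichletCharacter ℂ p ×
      DirichletCharacter ℂ p)).erase (1, 1), term (F := F) x‖ ≤
      (((p : ℝ) - 1) ^ 2 - 1) * Real.sqrt (Fintype.card F) := by
    refine (norm_sum_le _ _).trans ?_
    refine (Finset.sum_le_card_nsmul _ _ (Real.sqrt (Fintype.card F)) ?_).trans ?_
    · intro x hx
      exact norm_term_le x (Finset.ne_of_mem_erase hx)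
    · rw [Finset.card_erase_of_mem (Finset.mem_univ _), Finset.card_univ, Fintype.card_prod,
        hcardX, nsmul_eq_mul]
      apply mul_le_mul_of_nonneg_right _ (Real.sqrt_nonneg _)
      have h1 : 1 ≤ (p - 1) * (p - 1) ∨ (p - 1) * (p - 1) = 0 := by
        rcases Nat.eq_zero_or_pos ((p - 1) * (p - 1)) with h | h
        · right; exact h
        · left; exact h
      rcases h1 with h1 | h1
      · rw [Nat.cast_sub h1, Nat.cast_mul, Nat.cast_sub hp1]
        simp
        ring_nf
        rfl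
      · exfalso
        have := (Fact.out : p.Prime).two_le
        have : p - 1 = 0 := by
          rcases Nat.mul_eq_zero.mp h1 with h | h <;> exact h
        omega
  -- real-ness
  have hT : ∑ x ∈ (Finset.univ : Finset (DirichletCharacter ℂ p ×
      DirichletCharacter ℂ p)).erase (1, 1), term (F := F) x =
      (((((p : ℝ) - 1) ^ 2 * (n : ℝ) - ((Fintype.card F : ℝ) - 2)) : ℝ) : ℂ) := by
    push_cast
    rw [hc]
    ring
  rw [hT, Complex.norm_real, Real.norm_eq_abs] at hbound
  have := (abs_le.mp hbound).1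
  linarith

theorem two_le_card (h2 : (2 : F) ≠ 0) (hp3 : 3 ≤ p) (q : ℕ) (hq : 4 ≤ q)
    (hcard : Fintype.card F = p ^ q) :
    2 ≤ (Finset.univ.filter (fun a : F =>
        Algebra.norm (ZMod p) a = 1 ∧ Algebra.norm (ZMod p) (2 - a) = 1)).card := by
  by_contra hlt
  push Not at hlt
  have hmain := main_ineq (p := p) (F := F) h2
  set n := (Finset.univ.filter (fun a : F =>
        Algebra.norm (ZMod p) a = 1 ∧ Algebra.norm (ZMod p) (2 - a) = 1)).card with hn
  have hn1 : (n : ℝ) ≤ 1 := by exact_mod_cast Nat.lt_succ_iff.mp hlt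
  have hn0 : (0 : ℝ) ≤ n := Nat.cast_nonneg _
  set s := Real.sqrt (Fintype.card F) with hs
  have hs2 : s ^ 2 = (Fintype.card F : ℝ) := Real.sq_sqrt (Nat.cast_nonneg _)
  have hP : (3 : ℝ) ≤ p := by exact_mod_cast hp3
  have hsp : (p : ℝ) ^ 2 ≤ s := by
    apply Real.le_sqrt_of_sq_le
    rw [hcard]
    push_cast
    rw [← pow_mul]
    exact pow_le_pow_right₀ (by linarith) (by omega)
  have hs0 : 0 ≤ s := Real.sqrt_nonneg _
  rw [← hs2] at hmain
  have h1 : ((p : ℝ) - 1) ^ 2 * n ≤ ((p : ℝ) - 1) ^ 2 := by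
    have : 0 ≤ ((p : ℝ) - 1) ^ 2 := sq_nonneg _
    nlinarith
  have h3 : 0 ≤ s * (s - (p : ℝ) ^ 2) := mul_nonneg hs0 (by linarith)
  have h4 : 0 ≤ (p : ℝ) * (s - (p : ℝ) ^ 2) := mul_nonneg (by linarith) (by linarith)
  nlinarith [mul_nonneg (by linarith : (0 : ℝ) ≤ (p : ℝ) - 3) (sq_nonneg (p : ℝ)),
    mul_nonneg (by linarith : (0 : ℝ) ≤ (p : ℝ) - 3) (by linarith : (0 : ℝ) ≤ (p : ℝ))]

end

end Cfsg.Agent.Lib.Helper99.NormPair
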