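import Mathlib

/-!
# Dimensions of invariant subspaces of an endomorphism killed by a polynomial (helper99)

`Inv φ U` : `U` is `φ`-invariant.  If all irreducible factors of `g` have degree `i`, invariant
subspaces inside `ker g(φ)` grow in steps of exactly `i` (`step`, `extend`), and every invariant
subspace of `ker g(φ)` has dimension divisible by `i` (`dvd_finrank`).  For coprime `g₁, g₂` with
`(g₁ g₂)(φ) = 0` this describes the dimensions of invariant flags `U ≤ W` (`flag_ex`, `flag_nec`).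
-/

set_option autoImplicit false

namespace Cfsg.Agent.Lib.Helper99.InvDim

open Polynomial Module

variable {F : Type*} [Field F] {V : Type*} [AddCommGroup V] [Module F V]

/-- `U` is invariant under `φ`. -/
def Inv (φ : Module.End F V) (U : Submodule F V) : Prop := ∀ u ∈ U, φ u ∈ U

theorem Inv.pow {φ : Module.End F V} {U : Submodule F V} (hU : Inv φ U) (k : ℕ) :
    ∀ u ∈ U, (φ ^ k) u ∈ U := by
  induction k with
  | zero => intro u hu; simpa using hu
  | succ k ih =>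
    intro u hu
    rw [pow_succ', Module.End.mul_apply]
    exact hU _ (ih u hu)

theorem Inv.aeval {φ : Module.End F V} {U : Submodule F V} (hU : Inv φ U) (f : F[X]) :
    ∀ u ∈ U, aeval φ f u ∈ U := by
  intro u hu
  induction f using Polynomial.induction_on' with
  | add p q hp hq =>
    rw [map_add, LinearMap.add_apply]
    exact U.add_mem hp hq
  | monomial k a =>
    rw [← C_mul_X_pow_eq_monomial, map_mul, aeval_C, map_pow, aeval_X, Module.End.mul_apply,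
      Module.algebraMap_end_apply]
    exact U.smul_mem a (hU.pow k u hu)

theorem aeval_mul_apply (φ : Module.End F V) (f g : F[X]) (v : V) :
    aeval φ (f * g) v = aeval φ f (aeval φ g v) := by
  rw [map_mul, Module.End.mul_apply]

theorem aeval_comm (φ : Module.End F V) (f g : F[X]) (v : V) :
    aeval φ f (aeval φ g v) = aeval φ g (aeval φ f v) := by
  rw [← aeval_mul_apply, ← aeval_mul_apply, mul_comm]

theorem inv_ker (φ : Module.End F V) (g : F[X]) : Inv φ (LinearMap.ker (aeval φ g)) := by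
  intro u hu
  rw [LinearMap.mem_ker] at hu ⊢
  have h := aeval_comm φ g X u
  rw [aeval_X] at h
  rw [h, hu, map_zero]

theorem Inv.sup {φ : Module.End F V} {U W : Submodule F V} (hU : Inv φ U) (hW : Inv φ W) :
    Inv φ (U ⊔ W) := by
  intro x hx
  obtain ⟨u, hu, w, hw, rfl⟩ := Submodule.mem_sup.mp hx
  rw [map_add]
  exact Submodule.add_mem_sup (hU u hu) (hW w hw)

theorem Inv.inf {φ : Module.End F V} {U W : Submodule F V} (hU : Inv φ U) (hW : Inv φ W) :
    Inv φ (U ⊓ W) := fun x hx => ⟨hU x hx.1, hW x hx.2⟩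

theorem inv_bot (φ : Module.End F V) : Inv φ ⊥ := by
  intro u hu
  rw [Submodule.mem_bot] at hu ⊢
  rw [hu, map_zero]

theorem inv_top (φ : Module.End F V) : Inv φ ⊤ := fun _ _ => Submodule.mem_top

theorem inv_smul_iff {φ : Module.End F V} {U : Submodule F V} (c : F) (hc : c ≠ 0) :
    Inv (c • φ) U ↔ Inv φ U := by
  constructor
  · intro h u hu
    have := U.smul_mem c⁻¹ (h u hu)
    rwa [LinearMap.smul_apply, smul_smul, inv_mul_cancel₀ hc, one_smul] at this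
  · intro h u hu
    rw [LinearMap.smul_apply]
    exact U.smul_mem c (h u hu)

/-- The basic step: an invariant subspace properly inside `K ≤ ker g(φ)` can be enlarged inside
`K` by exactly `i` dimensions, when all irreducible factors of `g` have degree `i`. -/
theorem step [FiniteDimensional F V] {φ : Module.End F V} (g : F[X]) (i : ℕ)
    (hg : ∀ m : F[X], Irreducible m → m ∣ g → m.natDegree = i)
    {K U : Submodule F V} (hK : Inv φ K) (hKg : ∀ v ∈ K, aeval φ g v = 0) (hg0 : g ≠ 0)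
    (hU : Inv φ U) (hUK : U < K) :
    ∃ U' : Submodule F V, Inv φ U' ∧ U ≤ U' ∧ U' ≤ K ∧ finrank F U' = finrank F U + i := by
  classical
  obtain ⟨v, hvK, hvU⟩ := SetLike.exists_of_lt hUK
  have hex : ∃ d : ℕ, ∃ f : F[X], f ≠ 0 ∧ aeval φ f v ∈ U ∧ f.natDegree = d :=
    ⟨g.natDegree, g, hg0, by rw [hKg v hvK]; exact U.zero_mem, rfl⟩
  obtain ⟨h, hh0, hhv, hhd⟩ := Nat.find_spec hex
  have hmin : ∀ f : F[X], f ≠ 0 → aeval φ f v ∈ U → h.natDegree ≤ f.natDegree := by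
    intro f hf0 hfv
    rw [hhd]
    exact Nat.find_min' hex ⟨f, hf0, hfv, rfl⟩
  have hdvd : h ∣ g := by
    rw [← EuclideanDomain.mod_eq_zero]
    by_contra hne
    have hlt : (g % h).natDegree < h.natDegree := by
      have h1 : (g % h).degree < h.degree := EuclideanDomain.mod_lt g hh0
      exact natDegree_lt_natDegree hne h1
    have hmem : aeval φ (g % h) v ∈ U := by
      rw [EuclideanDomain.mod_eq_sub_mul_div, map_sub, LinearMap.sub_apply, hKg v hvK, zero_sub,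
        mul_comm h (g / h), aeval_mul_apply]
      exact U.neg_mem (hU.aeval _ _ hhv)
    have := hmin _ hne hmem
    omega
  have hnu : ¬ IsUnit h := by
    intro hu
    obtain ⟨c, hc, hch⟩ := Polynomial.isUnit_iff.mp hu
    rw [← hch, aeval_C, Module.algebraMap_end_apply] at hhv
    apply hvU
    have := U.smul_mem (c⁻¹) hhv
    rwa [smul_smul, inv_mul_cancel₀ hc.ne_zero, one_smul] at this
  obtain ⟨m, hmirr, h', hmh⟩ := WfDvdMonoid.exists_irreducible_factor hnu hh0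
  have hm0 : m ≠ 0 := hmirr.ne_zero
  have hh'0 : h' ≠ 0 := by
    rintro rfl
    rw [mul_zero] at hmh
    exact hh0 hmh
  have hmdeg : m.natDegree = i := hg m hmirr (dvd_trans ⟨h', hmh⟩ hdvd)
  have hmpos : 0 < m.natDegree :=
    Polynomial.natDegree_pos_iff_degree_pos.mpr (Polynomial.degree_pos_of_irreducible hmirr)
  have hdeg : h.natDegree = m.natDegree + h'.natDegree := by
    rw [hmh]
    exact natDegree_mul hm0 hh'0
  set w := aeval φ h' v with hw
  have hwU : w ∉ U := by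
    intro hwU
    have := hmin h' hh'0 hwU
    omega
  have hwK : w ∈ K := hK.aeval h' v hvK
  have hmw : aeval φ m w ∈ U := by
    rw [hw, ← aeval_mul_apply, ← hmh]
    exact hhv
  clear_value w
  have key : ∀ f : F[X], f.degree < i → aeval φ f w ∈ U → f = 0 := by
    intro f hfd hfw
    by_contra hf0
    have hnd : ¬ m ∣ f := by
      intro hd
      have h1 := Polynomial.natDegree_le_of_dvd hd hf0
      have h2 : f.natDegree < i := (Polynomial.natDegree_lt_iff_degree_lt hf0).mpr hfd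
      omega
    obtain ⟨a, b, hab⟩ := (hmirr.coprime_iff_not_dvd).mpr hnd
    apply hwU
    have h1 : aeval φ (a * m) w + aeval φ (b * f) w = w := by
      rw [← LinearMap.add_apply, ← map_add, hab]
      simp
    rw [← h1, aeval_mul_apply, aeval_mul_apply]
    exact U.add_mem (hU.aeval a _ hmw) (hU.aeval b _ hfw)
  let E : F[X] →ₗ[F] V := (LinearMap.applyₗ w).comp (Polynomial.aeval φ).toLinearMap
  have hE : ∀ f, E f = aeval φ f w := fun f => rfl
  set M : Submodule F V := (degreeLT F i).map E with hM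
  have hMmem : ∀ x, x ∈ M ↔ ∃ f : F[X], f.degree < i ∧ aeval φ f w = x := by
    intro x
    rw [hM, Submodule.mem_map]
    constructor
    · rintro ⟨f, hf, rfl⟩
      exact ⟨f, mem_degreeLT.mp hf, rfl⟩
    · rintro ⟨f, hf, rfl⟩
      exact ⟨f, mem_degreeLT.mpr hf, rfl⟩
  have hdisj : U ⊓ M = ⊥ := by
    rw [eq_bot_iff]
    rintro x ⟨hxU, hxM⟩
    obtain ⟨f, hf, rfl⟩ := (hMmem x).mp hxM
    rw [key f hf hxU]
    simp
  have hinj : Function.Injective (E.comp (degreeLT F i).subtype) := by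
    rw [← LinearMap.ker_eq_bot, LinearMap.ker_eq_bot']
    intro f hf
    have hf' : aeval φ (f : F[X]) w = 0 := hf
    have : (f : F[X]) = 0 := key f (mem_degreeLT.mp f.2) (by rw [hf']; exact U.zero_mem)
    exact Subtype.ext this
  have hMrank : finrank F M = i := by
    have h1 : M = LinearMap.range (E.comp (degreeLT F i).subtype) := by
      rw [LinearMap.range_comp, Submodule.range_subtype]
    rw [h1, LinearMap.finrank_range_of_inj hinj, (degreeLTEquiv F i).finrank_eq,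
      Module.finrank_fin_fun]
  have hrank : finrank F (U ⊔ M : Submodule F V) = finrank F U + i := by
    have := Submodule.finrank_sup_add_finrank_inf_eq U M
    rw [hdisj, finrank_bot, add_zero, hMrank] at this
    exact this
  have hMK : M ≤ K := by
    intro x hx
    obtain ⟨f, -, rfl⟩ := (hMmem x).mp hx
    exact hK.aeval f w hwK
  have hinvM : ∀ x ∈ M, φ x ∈ U ⊔ M := by
    intro x hx
    obtain ⟨f, hf, rfl⟩ := (hMmem x).mp hx
    have h1 : φ (aeval φ f w) = aeval φ (X * f) w := by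
      rw [aeval_mul_apply, aeval_X]
    have h2 : aeval φ (X * f) w
        = aeval φ ((X * f) / m) (aeval φ m w) + aeval φ ((X * f) % m) w := by
      rw [← aeval_mul_apply, ← LinearMap.add_apply, ← map_add, mul_comm ((X * f) / m) m,
        EuclideanDomain.div_add_mod]
    rw [h1, h2]
    apply Submodule.add_mem_sup
    · exact hU.aeval _ _ hmw
    · rw [hMmem]
      refine ⟨(X * f) % m, ?_, rfl⟩
      have : ((X * f) % m).degree < m.degree := EuclideanDomain.mod_lt _ hm0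
      rwa [Polynomial.degree_eq_natDegree hm0, hmdeg] at this
  refine ⟨U ⊔ M, ?_, le_sup_left, sup_le hUK.le hMK, hrank⟩
  intro x hx
  obtain ⟨u, hu, z, hz, rfl⟩ := Submodule.mem_sup.mp hx
  rw [map_add]
  exact (U ⊔ M).add_mem (Submodule.mem_sup_left (hU u hu)) (hinvM z hz)

/-- Iterating `step`. -/
theorem extend [FiniteDimensional F V] {φ : Module.End F V} (g : F[X]) (i : ℕ) (hi : 0 < i)
    (hg : ∀ m : F[X], Irreducible m → m ∣ g → m.natDegree = i)
    {K : Submodule F V} (hK : Inv φ K) (hKg : ∀ v ∈ K, aeval φ g v = 0) (hg0 : g ≠ 0)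
    {U : Submodule F V} (hU : Inv φ U) (hUK : U ≤ K) (t : ℕ)
    (ht : finrank F U + i * t ≤ finrank F K) :
    ∃ U' : Submodule F V, Inv φ U' ∧ U ≤ U' ∧ U' ≤ K ∧
      finrank F U' = finrank F U + i * t := by
  induction t with
  | zero => exact ⟨U, hU, le_rfl, hUK, by simp⟩
  | succ t ih =>
    rw [Nat.mul_succ] at ht
    obtain ⟨U₁, hU₁, hUU₁, hU₁K, hr₁⟩ := ih (by omega)
    have hlt : U₁ < K := by
      refine lt_of_le_of_ne hU₁K ?_
      intro heq
      rw [heq] at hr₁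
      omega
    obtain ⟨U₂, hU₂, hU₁U₂, hU₂K, hr₂⟩ := step g i hg hK hKg hg0 hU₁ hlt
    refine ⟨U₂, hU₂, hUU₁.trans hU₁U₂, hU₂K, ?_⟩
    rw [hr₂, hr₁, Nat.mul_succ]
    omega

/-- Every invariant subspace killed by `g(φ)` has dimension divisible by `i`. -/
theorem dvd_finrank [FiniteDimensional F V] {φ : Module.End F V} (g : F[X]) (i : ℕ) (hi : 0 < i)
    (hg : ∀ m : F[X], Irreducible m → m ∣ g → m.natDegree = i)
    {K : Submodule F V} (hK : Inv φ K) (hKg : ∀ v ∈ K, aeval φ g v = 0) (hg0 : g ≠ 0) :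
    i ∣ finrank F K := by
  obtain ⟨U, hU, -, hUK, hr⟩ := extend g i hi hg hK hKg hg0 (inv_bot φ) bot_le (finrank F K / i)
    (by rw [finrank_bot, zero_add]; exact Nat.mul_div_le _ _)
  rw [finrank_bot, zero_add] at hr
  by_cases h : U = K
  · rw [← h, hr]
    exact dvd_mul_right _ _
  · exfalso
    obtain ⟨U₂, -, -, hU₂K, hr₂⟩ := step g i hg hK hKg hg0 hU (lt_of_le_of_ne hUK h)
    have h1 := Submodule.finrank_mono hU₂K
    have h2 := Nat.lt_mul_div_succ (finrank F K) hi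
    rw [hr₂, hr] at h1
    rw [mul_add_one] at h2
    omega

theorem ker_inf_ker (φ : Module.End F V) (g₁ g₂ : F[X]) (hcop : IsCoprime g₁ g₂) :
    LinearMap.ker (aeval φ g₁) ⊓ LinearMap.ker (aeval φ g₂) = ⊥ := by
  obtain ⟨a, b, hab⟩ := hcop
  rw [eq_bot_iff]
  rintro x ⟨h1, h2⟩
  rw [SetLike.mem_coe, LinearMap.mem_ker] at h1 h2
  have h3 : aeval φ (a * g₁) x + aeval φ (b * g₂) x = x := by
    rw [← LinearMap.add_apply, ← map_add, hab]
    simp
  rw [aeval_mul_apply, aeval_mul_apply, h1, h2, map_zero, map_zero, add_zero] at h3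
  rw [Submodule.mem_bot, ← h3]

/-- An invariant subspace killed by `(g₁ g₂)(φ)` with `g₁, g₂` coprime splits. -/
theorem decomp {φ : Module.End F V} (g₁ g₂ : F[X]) (hcop : IsCoprime g₁ g₂)
    {W : Submodule F V} (hW : Inv φ W) (hkill : ∀ v ∈ W, aeval φ (g₁ * g₂) v = 0) :
    W = (W ⊓ LinearMap.ker (aeval φ g₁)) ⊔ (W ⊓ LinearMap.ker (aeval φ g₂)) := by
  obtain ⟨a, b, hab⟩ := hcop
  apply le_antisymm
  · intro w hw
    have h1 : aeval φ (b * g₂) w + aeval φ (a * g₁) w = w := by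
      rw [← LinearMap.add_apply, ← map_add, add_comm, hab]
      simp
    rw [← h1]
    apply Submodule.add_mem_sup
    · refine ⟨hW.aeval _ w hw, ?_⟩
      rw [SetLike.mem_coe, LinearMap.mem_ker, ← aeval_mul_apply]
      have : g₁ * (b * g₂) = b * (g₁ * g₂) := by ring
      rw [this, aeval_mul_apply, hkill w hw, map_zero]
    · refine ⟨hW.aeval _ w hw, ?_⟩
      rw [SetLike.mem_coe, LinearMap.mem_ker, ← aeval_mul_apply]
      have : g₂ * (a * g₁) = a * (g₁ * g₂) := by ring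
      rw [this, aeval_mul_apply, hkill w hw, map_zero]
  · exact sup_le inf_le_left inf_le_left

theorem finrank_decomp [FiniteDimensional F V] {φ : Module.End F V} (g₁ g₂ : F[X])
    (hcop : IsCoprime g₁ g₂) {W : Submodule F V} (hW : Inv φ W)
    (hkill : ∀ v ∈ W, aeval φ (g₁ * g₂) v = 0) :
    finrank F W = finrank F (W ⊓ LinearMap.ker (aeval φ g₁) : Submodule F V) +
      finrank F (W ⊓ LinearMap.ker (aeval φ g₂) : Submodule F V) := by
  have h1 := Submodule.finrank_sup_add_finrank_inf_eq (W ⊓ LinearMap.ker (aeval φ g₁))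
    (W ⊓ LinearMap.ker (aeval φ g₂))
  have h2 : (W ⊓ LinearMap.ker (aeval φ g₁)) ⊓ (W ⊓ LinearMap.ker (aeval φ g₂)) = ⊥ := by
    rw [eq_bot_iff, ← ker_inf_ker φ g₁ g₂ hcop]
    exact inf_le_inf inf_le_right inf_le_right
  rw [h2, finrank_bot, add_zero, ← decomp g₁ g₂ hcop hW hkill] at h1
  exact h1

/-- Existence of invariant flags with prescribed dimensions. -/
theorem flag_ex [FiniteDimensional F V] {φ : Module.End F V} (g₁ g₂ : F[X]) (i₁ i₂ : ℕ)
    (hi₁ : 0 < i₁) (hi₂ : 0 < i₂) (hg₁0 : g₁ ≠ 0) (hg₂0 : g₂ ≠ 0)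
    (hg₁ : ∀ m : F[X], Irreducible m → m ∣ g₁ → m.natDegree = i₁)
    (hg₂ : ∀ m : F[X], Irreducible m → m ∣ g₂ → m.natDegree = i₂)
    (hcop : IsCoprime g₁ g₂) (a₁ a₂ c₁ c₂ : ℕ) (ha : a₁ ≤ a₂) (hc : c₁ ≤ c₂)
    (ha₂ : i₁ * a₂ ≤ finrank F (LinearMap.ker (aeval φ g₁)))
    (hc₂ : i₂ * c₂ ≤ finrank F (LinearMap.ker (aeval φ g₂))) :
    ∃ U W : Submodule F V, U ≤ W ∧ Inv φ U ∧ Inv φ W ∧
      finrank F U = i₁ * a₁ + i₂ * c₁ ∧ finrank F W = i₁ * a₂ + i₂ * c₂ := by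
  set K₁ := LinearMap.ker (aeval φ g₁) with hK₁
  set K₂ := LinearMap.ker (aeval φ g₂) with hK₂
  have hK₁i : Inv φ K₁ := inv_ker φ g₁
  have hK₂i : Inv φ K₂ := inv_ker φ g₂
  have hk₁ : ∀ v ∈ K₁, aeval φ g₁ v = 0 := fun v hv => LinearMap.mem_ker.mp hv
  have hk₂ : ∀ v ∈ K₂, aeval φ g₂ v = 0 := fun v hv => LinearMap.mem_ker.mp hv
  have hle₁ : i₁ * a₁ ≤ i₁ * a₂ := Nat.mul_le_mul_left _ ha
  have hle₂ : i₂ * c₁ ≤ i₂ * c₂ := Nat.mul_le_mul_left _ hc
  obtain ⟨A₁, hA₁, -, hA₁K, hrA₁⟩ := extend g₁ i₁ hi₁ hg₁ hK₁i hk₁ hg₁0 (inv_bot φ) bot_le a₁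
    (by rw [finrank_bot, zero_add]; omega)
  rw [finrank_bot, zero_add] at hrA₁
  obtain ⟨A₂, hA₂, hA₁₂, hA₂K, hrA₂⟩ := extend g₁ i₁ hi₁ hg₁ hK₁i hk₁ hg₁0 hA₁ hA₁K (a₂ - a₁)
    (by rw [hrA₁, ← Nat.mul_add, Nat.add_sub_cancel' ha]; exact ha₂)
  rw [hrA₁, ← Nat.mul_add, Nat.add_sub_cancel' ha] at hrA₂
  obtain ⟨C₁, hC₁, -, hC₁K, hrC₁⟩ := extend g₂ i₂ hi₂ hg₂ hK₂i hk₂ hg₂0 (inv_bot φ) bot_le c₁
    (by rw [finrank_bot, zero_add]; omega)
  rw [finrank_bot, zero_add] at hrC₁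
  obtain ⟨C₂, hC₂, hC₁₂, hC₂K, hrC₂⟩ := extend g₂ i₂ hi₂ hg₂ hK₂i hk₂ hg₂0 hC₁ hC₁K (c₂ - c₁)
    (by rw [hrC₁, ← Nat.mul_add, Nat.add_sub_cancel' hc]; exact hc₂)
  rw [hrC₁, ← Nat.mul_add, Nat.add_sub_cancel' hc] at hrC₂
  have hsum : ∀ A C : Submodule F V, A ≤ K₁ → C ≤ K₂ →
      finrank F (A ⊔ C : Submodule F V) = finrank F A + finrank F C := by
    intro A C hA hC
    have h1 := Submodule.finrank_sup_add_finrank_inf_eq A C
    have h2 : A ⊓ C = ⊥ := by
      rw [eq_bot_iff, ← ker_inf_ker φ g₁ g₂ hcop]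
      exact inf_le_inf hA hC
    rw [h2, finrank_bot, add_zero] at h1
    exact h1
  refine ⟨A₁ ⊔ C₁, A₂ ⊔ C₂, sup_le_sup hA₁₂ hC₁₂, hA₁.sup hC₁, hA₂.sup hC₂, ?_, ?_⟩
  · rw [hsum A₁ C₁ hA₁K hC₁K, hrA₁, hrC₁]
  · rw [hsum A₂ C₂ hA₂K hC₂K, hrA₂, hrC₂]

/-- Dimensions of an invariant flag. -/
theorem flag_nec [FiniteDimensional F V] {φ : Module.End F V} (g₁ g₂ : F[X]) (i₁ i₂ : ℕ)
    (hi₁ : 0 < i₁) (hi₂ : 0 < i₂) (hg₁0 : g₁ ≠ 0) (hg₂0 : g₂ ≠ 0)
    (hg₁ : ∀ m : F[X], Irreducible m → m ∣ g₁ → m.natDegree = i₁)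
    (hg₂ : ∀ m : F[X], Irreducible m → m ∣ g₂ → m.natDegree = i₂)
    (hcop : IsCoprime g₁ g₂) (hkill : aeval φ (g₁ * g₂) = 0)
    {U W : Submodule F V} (hUW : U ≤ W) (hU : Inv φ U) (hW : Inv φ W) :
    ∃ a₁ a₂ c₁ c₂ : ℕ, a₁ ≤ a₂ ∧ c₁ ≤ c₂ ∧
      i₁ * a₂ ≤ finrank F (LinearMap.ker (aeval φ g₁)) ∧
      i₂ * c₂ ≤ finrank F (LinearMap.ker (aeval φ g₂)) ∧
      finrank F U = i₁ * a₁ + i₂ * c₁ ∧ finrank F W = i₁ * a₂ + i₂ * c₂ := by
  set K₁ := LinearMap.ker (aeval φ g₁) with hK₁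
  set K₂ := LinearMap.ker (aeval φ g₂) with hK₂
  have hkillU : ∀ (Z : Submodule F V), ∀ v ∈ Z, aeval φ (g₁ * g₂) v = 0 := by
    intro Z v _
    rw [hkill, LinearMap.zero_apply]
  have hd : ∀ Z : Submodule F V, Inv φ Z →
      i₁ ∣ finrank F (Z ⊓ K₁ : Submodule F V) ∧ i₂ ∣ finrank F (Z ⊓ K₂ : Submodule F V) := by
    intro Z hZ
    constructor
    · exact dvd_finrank g₁ i₁ hi₁ hg₁ (hZ.inf (inv_ker φ g₁))
        (fun v hv => LinearMap.mem_ker.mp hv.2) hg₁0
    · exact dvd_finrank g₂ i₂ hi₂ hg₂ (hZ.inf (inv_ker φ g₂))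
        (fun v hv => LinearMap.mem_ker.mp hv.2) hg₂0
  obtain ⟨⟨a₁, ha₁⟩, ⟨c₁, hc₁⟩⟩ := hd U hU
  obtain ⟨⟨a₂, ha₂⟩, ⟨c₂, hc₂⟩⟩ := hd W hW
  have hU₁ := finrank_decomp g₁ g₂ hcop hU (hkillU U)
  have hW₁ := finrank_decomp g₁ g₂ hcop hW (hkillU W)
  have m₁ : finrank F (U ⊓ K₁ : Submodule F V) ≤ finrank F (W ⊓ K₁ : Submodule F V) :=
    Submodule.finrank_mono (inf_le_inf_right _ hUW)
  have m₂ : finrank F (U ⊓ K₂ : Submodule F V) ≤ finrank F (W ⊓ K₂ : Submodule F V) :=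
    Submodule.finrank_mono (inf_le_inf_right _ hUW)
  have n₁ : finrank F (W ⊓ K₁ : Submodule F V) ≤ finrank F K₁ :=
    Submodule.finrank_mono inf_le_right
  have n₂ : finrank F (W ⊓ K₂ : Submodule F V) ≤ finrank F K₂ :=
    Submodule.finrank_mono inf_le_right
  refine ⟨a₁, a₂, c₁, c₂, ?_, ?_, ?_, ?_, ?_, ?_⟩
  · rw [ha₁, ha₂] at m₁
    exact Nat.le_of_mul_le_mul_left m₁ hi₁
  · rw [hc₁, hc₂] at m₂
    exact Nat.le_of_mul_le_mul_left m₂ hi₂
  · rw [← ha₂]; exact n₁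
  · rw [← hc₂]; exact n₂
  · rw [hU₁, ha₁, hc₁]
  · rw [hW₁, ha₂, hc₂]

/-- Total dimension. -/
theorem finrank_total [FiniteDimensional F V] {φ : Module.End F V} (g₁ g₂ : F[X])
    (hcop : IsCoprime g₁ g₂) (hkill : aeval φ (g₁ * g₂) = 0) :
    finrank F V = finrank F (LinearMap.ker (aeval φ g₁)) +
      finrank F (LinearMap.ker (aeval φ g₂)) := by
  have h := finrank_decomp g₁ g₂ hcop (inv_top φ)
    (fun v _ => by rw [hkill, LinearMap.zero_apply])
  rw [top_inf_eq, top_inf_eq, finrank_top] at h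
  exact h

end Cfsg.Agent.Lib.Helper99.InvDim
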