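import Mathlib
import Cfsg.Prelude.Def_GeometricClasses
import Cfsg.Agent.Lib.Helper99.InvDim
import Cfsg.Agent.Lib.Helper40.NilpotentJordan

/-!
# Normalizers of maximal subfields of the matrix algebra (helper99)

`K` a subalgebra of `M_n(F)` that is a field of degree `n` over `F` (a Singer field).
* `mem_of_commute` : the centralizer of `K` is `K`.
* `commute_of_commute_nonscalar` : for `n` prime, anything commuting with a non-scalar element of
  `K` commutes with `K`.
* `finrank_ker_le_one` : for `n` prime, a non-scalar element of the normalizer of `K` has all its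
  eigenspaces of dimension at most one.
-/

set_option autoImplicit false

namespace Cfsg.Agent.Lib.Helper99.FieldNorm

open Module Polynomial Cfsg.Geo Matrix

variable {F : Type*} [Field F] {n : ℕ} {K : Subalgebra F (Matrix (Fin n) (Fin n) F)}

theorem exists_inv (hK : IsFieldSubalgebra n K) {a : Matrix (Fin n) (Fin n) F} (ha : a ∈ K)
    (ha0 : a ≠ 0) : ∃ b ∈ K, a * b = 1 ∧ b * a = 1 := by
  obtain ⟨b, hb, hab⟩ := hK.inv a ha ha0
  exact ⟨b, hb, hab, by rw [hK.comm b hb a ha]; exact hab⟩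

theorem mulVec_eq_zero (hK : IsFieldSubalgebra n K) {a : Matrix (Fin n) (Fin n) F} (ha : a ∈ K)
    (ha0 : a ≠ 0) {v : Fin n → F} (h : a *ᵥ v = 0) : v = 0 := by
  obtain ⟨b, -, -, hba⟩ := exists_inv hK ha ha0
  calc v = (b * a) *ᵥ v := by rw [hba, Matrix.one_mulVec]
    _ = 0 := by rw [← Matrix.mulVec_mulVec, h, Matrix.mulVec_zero]

theorem noZeroDiv (hK : IsFieldSubalgebra n K) : NoZeroDivisors ↥K := ⟨by
  intro x y h
  by_cases hx : x = 0
  · exact Or.inl hx
  · right
    obtain ⟨z, -, -, hzx⟩ := exists_inv hK x.2 (fun h0 => hx (Subtype.ext h0))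
    apply Subtype.ext
    have h' : x.1 * y.1 = 0 := congrArg Subtype.val h
    calc y.1 = (z * x.1) * y.1 := by rw [hzx, one_mul]
      _ = 0 := by rw [mul_assoc, h', mul_zero]⟩

/-- `a ↦ a v`. -/
def orbitMap (K : Subalgebra F (Matrix (Fin n) (Fin n) F)) (v : Fin n → F) :
    ↥K →ₗ[F] (Fin n → F) where
  toFun a := (a : Matrix (Fin n) (Fin n) F) *ᵥ v
  map_add' a b := by simp [Matrix.add_mulVec]
  map_smul' c a := by simp [Matrix.smul_mulVec]

@[simp] theorem orbitMap_apply (v : Fin n → F) (a : ↥K) :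
    orbitMap K v a = (a : Matrix (Fin n) (Fin n) F) *ᵥ v := rfl

theorem orbitMap_bijective (hK : IsFieldSubalgebra n K) {v : Fin n → F} (hv : v ≠ 0) :
    Function.Bijective (orbitMap K v) := by
  have hinj : Function.Injective (orbitMap K v) := by
    rw [← LinearMap.ker_eq_bot, LinearMap.ker_eq_bot']
    intro a ha
    by_contra ha0
    exact hv (mulVec_eq_zero hK a.2 (fun h0 => ha0 (Subtype.ext h0)) ha)
  refine ⟨hinj, ?_⟩
  have hfr : finrank F ↥K = finrank F (Fin n → F) := by
    rw [hK.finrank_eq, Module.finrank_fin_fun]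
  exact (LinearMap.injective_iff_surjective_of_finrank_eq_finrank hfr).mp hinj

/-- The centralizer of `K` in the matrix algebra is `K`. -/
theorem mem_of_commute (hK : IsFieldSubalgebra n K) (hn : 0 < n)
    (g : Matrix (Fin n) (Fin n) F) (hg : ∀ a ∈ K, g * a = a * g) : g ∈ K := by
  have hv₀ : (Pi.single ⟨0, hn⟩ 1 : Fin n → F) ≠ 0 := by
    intro h
    have := congrFun h ⟨0, hn⟩
    simp at this
  obtain ⟨a₀, ha₀⟩ := (orbitMap_bijective hK hv₀).2 (g *ᵥ Pi.single ⟨0, hn⟩ 1)
  rw [orbitMap_apply] at ha₀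
  have : g = a₀.1 := by
    apply Matrix.toLin'.injective
    apply LinearMap.ext
    intro w
    obtain ⟨b, rfl⟩ := (orbitMap_bijective hK hv₀).2 w
    rw [orbitMap_apply, Matrix.toLin'_apply, Matrix.toLin'_apply, Matrix.mulVec_mulVec,
      Matrix.mulVec_mulVec, hg b.1 b.2, ← Matrix.mulVec_mulVec, ← ha₀, Matrix.mulVec_mulVec,
      hK.comm b.1 b.2 a₀.1 a₀.2]
  rw [this]
  exact a₀.2

/-- For `n` prime, whatever commutes with a non-scalar element of `K` commutes with `K`. -/
theorem commute_of_commute_nonscalar (hK : IsFieldSubalgebra n K) (hnp : n.Prime)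
    {a : Matrix (Fin n) (Fin n) F} (ha : a ∈ K)
    (hsc : ∀ c : F, a ≠ c • (1 : Matrix (Fin n) (Fin n) F))
    (g : Matrix (Fin n) (Fin n) F) (hga : g * a = a * g) : ∀ b ∈ K, g * b = b * g := by
  have hn : 0 < n := hnp.pos
  have hne : Nonempty (Fin n) := ⟨⟨0, hn⟩⟩
  have hnzd := noZeroDiv hK
  have hdom : IsDomain ↥K := NoZeroDivisors.to_isDomain _
  have hfin : Module.Finite F ↥K := inferInstance
  obtain ⟨a', ha'⟩ : ∃ a' : ↥K, a'.1 = a := ⟨⟨a, ha⟩, rfl⟩
  have hint : IsIntegral F a' := IsIntegral.of_finite F a'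
  have hirr : Irreducible (minpoly F a') := minpoly.irreducible hint
  have hmonic : (minpoly F a').Monic := minpoly.monic hint
  have hμa : aeval a (minpoly F a') = 0 := by
    have := congrArg Subtype.val (minpoly.aeval F a')
    rw [aeval_subalgebra_coe, ha'] at this
    exact this
  have hmpos : 0 < (minpoly F a').natDegree := minpoly.natDegree_pos hint
  have hdvd : (minpoly F a').natDegree ∣ n := by
    have hkill : aeval (Matrix.toLin' a) (minpoly F a') = 0 := by
      have h1 : Matrix.toLin' a = Matrix.toLinAlgEquiv' a := rfl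
      rw [h1, aeval_algHom_apply, hμa, map_zero]
    have := InvDim.dvd_finrank (φ := Matrix.toLin' a) (minpoly F a') (minpoly F a').natDegree
      hmpos (fun m hm hd => Polynomial.natDegree_eq_of_degree_eq (Polynomial.degree_eq_degree_of_associated (hm.associated_of_dvd hirr hd))) (InvDim.inv_top _)
      (fun v _ => by rw [hkill, LinearMap.zero_apply]) hirr.ne_zero
    rwa [finrank_top, Module.finrank_fin_fun] at this
  have hm1 : (minpoly F a').natDegree ≠ 1 := by
    intro h1
    have h2 := hmonic.eq_X_add_C h1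
    rw [h2, map_add, aeval_X, aeval_C, Algebra.algebraMap_eq_smul_one] at hμa
    apply hsc (-(minpoly F a').coeff 0)
    rw [neg_smul]
    exact eq_neg_of_add_eq_zero_left hμa
  have hmn : (minpoly F a').natDegree = n :=
    ((Nat.Prime.eq_one_or_self_of_dvd hnp _ hdvd).resolve_left hm1)
  have hLI := linearIndependent_pow (K := F) a'
  have hspan : Submodule.span F (Set.range fun i : Fin (minpoly F a').natDegree => a' ^ (i : ℕ))
      = ⊤ := by
    apply hLI.span_eq_top_of_card_eq_finrank'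
    rw [Fintype.card_fin, hmn, hK.finrank_eq]
  let T : Submodule F ↥K :=
    { carrier := {b | g * b.1 = b.1 * g}
      add_mem' := by
        intro x y hx hy
        simp only [Set.mem_ofPred_eq] at hx hy ⊢
        rw [Subalgebra.coe_add, mul_add, add_mul, hx, hy]
      zero_mem' := by simp
      smul_mem' := by
        intro c x hx
        simp only [Set.mem_ofPred_eq] at hx ⊢
        rw [Subalgebra.coe_smul, mul_smul_comm, smul_mul_assoc, hx] }
  have hT : (⊤ : Submodule F ↥K) ≤ T := by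
    rw [← hspan, Submodule.span_le]
    rintro _ ⟨i, rfl⟩
    show g * ((a' ^ (i : ℕ) : ↥K) : Matrix (Fin n) (Fin n) F) = _ * g
    rw [SubmonoidClass.coe_pow, ha']
    exact ((show Commute g a from hga).pow_right i)
  intro b hb
  exact hT (Submodule.mem_top (x := (⟨b, hb⟩ : ↥K)))

/-- Eigenspaces of non-scalar elements of the normalizer of `K` are at most one-dimensional. -/
theorem finrank_ker_le_one (hK : IsFieldSubalgebra n K) (hnp : n.Prime) (g : GL (Fin n) F)
    (hg : g ∈ subalgebraNormalizer K)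
    (hns : ∀ c : F, (g : Matrix (Fin n) (Fin n) F) ≠ c • (1 : Matrix (Fin n) (Fin n) F))
    (lam : F) :
    finrank F (LinearMap.ker (Matrix.toLin' (g : Matrix (Fin n) (Fin n) F)
      - lam • (1 : Module.End F (Fin n → F)))) ≤ 1 := by
  have hg' : ∀ k : Matrix (Fin n) (Fin n) F, k ∈ K ↔
      (g : Matrix (Fin n) (Fin n) F) * k * ((g⁻¹ : GL (Fin n) F) : Matrix (Fin n) (Fin n) F) ∈ K :=
    hg
  set W := LinearMap.ker (Matrix.toLin' (g : Matrix (Fin n) (Fin n) F)
      - lam • (1 : Module.End F (Fin n → F))) with hW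
  have hmemW : ∀ w, w ∈ W ↔ (g : Matrix (Fin n) (Fin n) F) *ᵥ w = lam • w := by
    intro w
    rw [hW, LinearMap.mem_ker, LinearMap.sub_apply, LinearMap.smul_apply, Module.End.one_apply,
      Matrix.toLin'_apply, sub_eq_zero]
  by_cases hbot : W = ⊥
  · rw [hbot, finrank_bot]
    exact Nat.zero_le 1
  obtain ⟨w₁, hw₁W, hw₁⟩ := Submodule.exists_mem_ne_zero_of_ne_bot hbot
  have hgw₁ := (hmemW w₁).mp hw₁W
  have hlam : lam ≠ 0 := by
    rintro rfl
    rw [zero_smul] at hgw₁
    apply hw₁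
    calc w₁ = ((g⁻¹ : GL (Fin n) F) : Matrix (Fin n) (Fin n) F) *ᵥ
          ((g : Matrix (Fin n) (Fin n) F) *ᵥ w₁) := by
          rw [Matrix.mulVec_mulVec, ← Units.val_mul, inv_mul_cancel, Units.val_one,
            Matrix.one_mulVec]
      _ = 0 := by rw [hgw₁, Matrix.mulVec_zero]
  have key : ∀ w ∈ W, ∃ c : F, w = c • w₁ := by
    intro w hwW
    have hgw := (hmemW w).mp hwW
    obtain ⟨a, ha⟩ := (orbitMap_bijective hK hw₁).2 w
    rw [orbitMap_apply] at ha
    have ha'K := (hg' a.1).mp a.2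
    obtain ⟨a', ha'⟩ : ∃ a' : Matrix (Fin n) (Fin n) F, a' = (g : Matrix (Fin n) (Fin n) F) * a.1 *
        ((g⁻¹ : GL (Fin n) F) : Matrix (Fin n) (Fin n) F) := ⟨_, rfl⟩
    rw [← ha'] at ha'K
    have hga : (g : Matrix (Fin n) (Fin n) F) * a.1 = a' * (g : Matrix (Fin n) (Fin n) F) := by
      rw [ha', mul_assoc, ← Units.val_mul, inv_mul_cancel, Units.val_one, mul_one]
    have h1 : lam • (a' *ᵥ w₁) = lam • (a.1 *ᵥ w₁) := by
      calc lam • (a' *ᵥ w₁) = a' *ᵥ (lam • w₁) := (Matrix.mulVec_smul _ _ _).symm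
        _ = a' *ᵥ ((g : Matrix (Fin n) (Fin n) F) *ᵥ w₁) := by rw [hgw₁]
        _ = ((g : Matrix (Fin n) (Fin n) F) * a.1) *ᵥ w₁ := by rw [Matrix.mulVec_mulVec, hga]
        _ = (g : Matrix (Fin n) (Fin n) F) *ᵥ w := by rw [← Matrix.mulVec_mulVec, ha]
        _ = lam • w := hgw
        _ = lam • (a.1 *ᵥ w₁) := by rw [ha]
    have h2 : (a' - a.1) *ᵥ w₁ = 0 := by
      rw [Matrix.sub_mulVec, sub_eq_zero]
      exact smul_right_injective _ hlam h1
    have h3 : a' = a.1 := by
      by_contra hne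
      exact hw₁ (mulVec_eq_zero hK (K.sub_mem ha'K a.2) (sub_ne_zero.mpr hne) h2)
    have hcomm : (g : Matrix (Fin n) (Fin n) F) * a.1 = a.1 * (g : Matrix (Fin n) (Fin n) F) := by
      rw [hga, h3]
    by_cases hsc : ∃ c : F, a.1 = c • (1 : Matrix (Fin n) (Fin n) F)
    · obtain ⟨c, hc⟩ := hsc
      refine ⟨c, ?_⟩
      rw [← ha, hc, Matrix.smul_mulVec, Matrix.one_mulVec]
    · exfalso
      have hall := commute_of_commute_nonscalar hK hnp a.2 (fun c hc => hsc ⟨c, hc⟩) _ hcomm
      have hgK : (g : Matrix (Fin n) (Fin n) F) ∈ K := mem_of_commute hK hnp.pos _ hall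
      have h4 : (g : Matrix (Fin n) (Fin n) F) - lam • 1 ∈ K :=
        K.sub_mem hgK (K.smul_mem K.one_mem lam)
      have h5 : ((g : Matrix (Fin n) (Fin n) F) - lam • 1) *ᵥ w₁ = 0 := by
        rw [Matrix.sub_mulVec, hgw₁, Matrix.smul_mulVec, Matrix.one_mulVec, sub_self]
      exact hw₁ (mulVec_eq_zero hK h4 (sub_ne_zero.mpr (hns lam)) h5)
  have hle : W ≤ Submodule.span F {w₁} := by
    intro w hw
    obtain ⟨c, rfl⟩ := key w hw
    exact Submodule.smul_mem _ _ (Submodule.mem_span_singleton_self w₁)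
  calc finrank F W ≤ finrank F (Submodule.span F {w₁}) := Submodule.finrank_mono hle
    _ = 1 := finrank_span_singleton hw₁

/-- Eigenspace dimensions are invariant under conjugation. -/
theorem finrank_ker_conj (A : Matrix (Fin n) (Fin n) F) (P : GL (Fin n) F) (lam : F) :
    finrank F (LinearMap.ker (Matrix.toLin' (((P⁻¹ : GL (Fin n) F) : Matrix (Fin n) (Fin n) F) * A *
        (P : Matrix (Fin n) (Fin n) F)) - lam • (1 : Module.End F (Fin n → F)))) =
      finrank F (LinearMap.ker (Matrix.toLin' A - lam • (1 : Module.End F (Fin n → F)))) := by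
  have h : LinearMap.ker (Matrix.toLin' (((P⁻¹ : GL (Fin n) F) : Matrix (Fin n) (Fin n) F) * A *
        (P : Matrix (Fin n) (Fin n) F)) - lam • (1 : Module.End F (Fin n → F))) =
      (LinearMap.ker (Matrix.toLin' A - lam • (1 : Module.End F (Fin n → F)))).comap
        ((Cfsg.Agent.Lib.Helper40.glEquiv P : (Fin n → F) ≃ₗ[F] (Fin n → F)) :
          (Fin n → F) →ₗ[F] (Fin n → F)) := by
    ext w
    rw [Submodule.mem_comap, LinearMap.mem_ker, LinearMap.mem_ker, LinearEquiv.coe_coe,
      Cfsg.Agent.Lib.Helper40.glEquiv_apply]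
    have h1 : (Matrix.toLin' A - lam • (1 : Module.End F (Fin n → F)))
        (Matrix.toLin' (P : Matrix (Fin n) (Fin n) F) w) =
        Matrix.toLin' (P : Matrix (Fin n) (Fin n) F)
          ((Matrix.toLin' (((P⁻¹ : GL (Fin n) F) : Matrix (Fin n) (Fin n) F) * A *
            (P : Matrix (Fin n) (Fin n) F)) - lam • (1 : Module.End F (Fin n → F))) w) := by
      simp only [LinearMap.sub_apply, LinearMap.smul_apply, Module.End.one_apply,
        Matrix.toLin'_apply, Matrix.mulVec_sub, Matrix.mulVec_smul, Matrix.mulVec_mulVec]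
      rw [← mul_assoc, ← mul_assoc, ← Units.val_mul, mul_inv_cancel, Units.val_one, one_mul]
    rw [h1, ← Cfsg.Agent.Lib.Helper40.glEquiv_apply, LinearEquiv.map_eq_zero_iff]
  rw [h]
  exact (LinearEquiv.ofSubmodule' (Cfsg.Agent.Lib.Helper40.glEquiv P) _).finrank_eq

end Cfsg.Agent.Lib.Helper99.FieldNorm
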