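import Mathlib
import Cfsg.Agent.Lib.Helper99.FieldNorm

/-!
# The Frobenius element of the normalizer of a Singer field (helper99)

For a subalgebra `K` of `M_n(F)` (`F` finite) that is a field of degree `n` over `F`, the
normalizer of `K` in `GL_n(F)` contains an element with characteristic polynomial `X ^ n - 1`
(the Frobenius automorphism of `K` in a basis of `F^n ≅ K`).
-/

set_option autoImplicit false

namespace Cfsg.Agent.Lib.Helper99.FieldNorm

open Module Polynomial Cfsg.Geo Matrix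

variable {F : Type*} [Field F] [Fintype F] {n : ℕ} {K : Subalgebra F (Matrix (Fin n) (Fin n) F)}

/-- The field structure on `K`. -/
@[reducible] noncomputable def fieldK (hK : IsFieldSubalgebra n K) (hn : 0 < n) : Field ↥K := by
  classical
  haveI : Nonempty (Fin n) := ⟨⟨0, hn⟩⟩
  exact
  { (inferInstance : Ring ↥K) with
    mul_comm := fun x y => Subtype.ext (hK.comm x.1 x.2 y.1 y.2)
    inv := fun x => if hx : x = 0 then 0 else
      ⟨(hK.inv x.1 x.2 (fun h0 => hx (Subtype.ext h0))).choose,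
       (hK.inv x.1 x.2 (fun h0 => hx (Subtype.ext h0))).choose_spec.1⟩
    exists_pair_ne := ⟨0, 1, zero_ne_one⟩
    mul_inv_cancel := fun x hx => by
      simp only [dif_neg hx]
      exact Subtype.ext (hK.inv x.1 x.2 (fun h0 => hx (Subtype.ext h0))).choose_spec.2
    inv_zero := by simp
    nnqsmul := _
    nnqsmul_def := fun _ _ => rfl
    qsmul := _
    qsmul_def := fun _ _ => rfl }

/-- The Frobenius `a ↦ a ^ q` of `K` as an `F`-linear map. -/
noncomputable def frobK (hK : IsFieldSubalgebra n K) (hn : 0 < n) : ↥K →ₗ[F] ↥K :=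
  letI := fieldK hK hn
  (FiniteField.frobeniusAlgHom F ↥K).toLinearMap

theorem frobK_apply (hK : IsFieldSubalgebra n K) (hn : 0 < n) (a : ↥K) :
    ((frobK hK hn a : ↥K) : Matrix (Fin n) (Fin n) F) = a.1 ^ Fintype.card F := by
  rfl

theorem charpoly_frobK (hK : IsFieldSubalgebra n K) (hn : 0 < n) :
    (frobK hK hn).charpoly = X ^ n - 1 := by
  letI := fieldK hK hn
  have h1 : minpoly F (frobK hK hn) = X ^ n - 1 := by
    have := FiniteField.minpoly_frobeniusAlgHom F ↥K
    rw [hK.finrank_eq] at this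
    exact this
  have hm : (X ^ n - 1 : F[X]).Monic := by
    rw [← C_1]; exact monic_X_pow_sub_C 1 hn.ne'
  have hdeg : (X ^ n - 1 : F[X]).natDegree = n := by
    rw [← C_1]; exact natDegree_X_pow_sub_C
  apply eq_of_monic_of_dvd_of_natDegree_le hm (LinearMap.charpoly_monic _)
  · rw [← h1]
    exact LinearMap.minpoly_dvd_charpoly _
  · rw [LinearMap.charpoly_natDegree, hK.finrank_eq, hdeg]

theorem exists_frob (hK : IsFieldSubalgebra n K) (hn : 0 < n) :
    ∃ G : GL (Fin n) F, G ∈ subalgebraNormalizer K ∧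
      (G : Matrix (Fin n) (Fin n) F).charpoly = X ^ n - 1 := by
  classical
  have hv₀ : (Pi.single ⟨0, hn⟩ 1 : Fin n → F) ≠ 0 := by
    intro h
    have := congrFun h ⟨0, hn⟩
    simp at this
  obtain ⟨v₀, hv₀def⟩ : ∃ v₀ : Fin n → F, v₀ = Pi.single ⟨0, hn⟩ 1 := ⟨_, rfl⟩
  rw [← hv₀def] at hv₀
  let e : ↥K ≃ₗ[F] (Fin n → F) := LinearEquiv.ofBijective (orbitMap K v₀) (orbitMap_bijective hK hv₀)
  have he : ∀ a : ↥K, e a = a.1 *ᵥ v₀ := fun a => rfl
  obtain ⟨S, hS⟩ : ∃ S : Matrix (Fin n) (Fin n) F, S = LinearMap.toMatrix' (e.conj (frobK hK hn)) :=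
    ⟨_, rfl⟩
  have hSlin : Matrix.toLin' S = e.conj (frobK hK hn) := by rw [hS, Matrix.toLin'_toMatrix']
  have hSe : ∀ a : ↥K, S *ᵥ (a.1 *ᵥ v₀) = (a.1 ^ Fintype.card F) *ᵥ v₀ := by
    intro a
    rw [← Matrix.toLin'_apply, hSlin, ← he, LinearEquiv.conj_apply_apply,
      LinearEquiv.symm_apply_apply, he, frobK_apply]
  have hchar : S.charpoly = X ^ n - 1 := by
    rw [← Matrix.charpoly_toLin', hSlin, LinearEquiv.charpoly_conj, charpoly_frobK]
  have hSn : S ^ n = 1 := by
    have := Matrix.aeval_self_charpoly S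
    rw [hchar, map_sub, map_pow, aeval_X, map_one, sub_eq_zero] at this
    exact this
  -- the conjugation rule
  have hconj : ∀ b ∈ K, S * b = b ^ Fintype.card F * S := by
    intro b hb
    apply Matrix.toLin'.injective
    apply LinearMap.ext
    intro w
    obtain ⟨a, rfl⟩ := e.surjective w
    rw [he, Matrix.toLin'_apply, Matrix.toLin'_apply, ← Matrix.mulVec_mulVec,
      ← Matrix.mulVec_mulVec]
    have h1 := hSe (⟨b, hb⟩ * a)
    rw [Subalgebra.coe_mul] at h1
    calc S *ᵥ (b *ᵥ (a.1 *ᵥ v₀)) = S *ᵥ ((b * a.1) *ᵥ v₀) := by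
          rw [Matrix.mulVec_mulVec v₀ b a.1]
      _ = (b * a.1) ^ Fintype.card F *ᵥ v₀ := h1
      _ = (b ^ Fintype.card F * a.1 ^ Fintype.card F) *ᵥ v₀ := by
        rw [(show Commute b a.1 from hK.comm b hb a.1 a.2).mul_pow]
      _ = b ^ Fintype.card F *ᵥ (a.1 ^ Fintype.card F *ᵥ v₀) := by rw [Matrix.mulVec_mulVec]
      _ = b ^ Fintype.card F *ᵥ (S *ᵥ (a.1 *ᵥ v₀)) := by rw [hSe]
  have hconj' : ∀ j : ℕ, ∀ b ∈ K, S ^ j * b = b ^ (Fintype.card F ^ j) * S ^ j := by
    intro j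
    induction j with
    | zero => intro b _; simp
    | succ j ih =>
      intro b hb
      rw [pow_succ, mul_assoc, hconj b hb, ← mul_assoc, ih _ (K.pow_mem hb _), ← pow_mul,
        mul_assoc, ← pow_succ, ← pow_succ']
  obtain ⟨m, hm⟩ : ∃ m, n = m + 1 := ⟨n - 1, by omega⟩
  have hSS : S * S ^ m = 1 := by rw [← pow_succ', ← hm, hSn]
  have hSS' : S ^ m * S = 1 := by rw [← pow_succ, ← hm, hSn]
  refine ⟨⟨S, S ^ m, hSS, hSS'⟩, ?_, hchar⟩
  intro k
  show k ∈ K ↔ S * k * S ^ m ∈ K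
  constructor
  · intro hk
    rw [hconj k hk, mul_assoc, hSS, mul_one]
    exact K.pow_mem hk _
  · intro hk
    have h1 := hconj' m _ hk
    have h2 : k = S ^ m * (S * k * S ^ m) * S := by
      rw [← mul_assoc, ← mul_assoc, hSS', one_mul, mul_assoc, hSS', mul_one]
    rw [h2, h1, mul_assoc, hSS', mul_one]
    exact K.pow_mem hk _

end Cfsg.Agent.Lib.Helper99.FieldNorm
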