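import Mathlib
import Cfsg.Prelude.Def_GeometricClasses
import Cfsg.Agent.Lib.Helper99.AschDefs
import Cfsg.Agent.Lib.Helper47.AschKronNormFinal
import Cfsg.Agent.Lib.Helper11.AschResid
import Cfsg.Agent.S3762

/-!
# An absolutely irreducible group of symplectic type has order `|Z(R)| · n²`

Bridge between the class-6 disjuncts of the frozen class predicates (which only record `|R| = r^(1+2k)`) and the
dimension: P. Hall's theorem (S3762) shows that a group `R` with `IsSymplecticTypeGroup r R` has `R' ≤ Z(R)`; if `R` is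
absolutely irreducible its centre consists of scalars, and then `|R| = |Z(R)| · n²` (ASCH-[BASIS]).
-/

set_option autoImplicit false

namespace Cfsg.Agent.Lib.Helper99.SympTypeCard

open Cfsg Cfsg.Geo Cfsg.Agent.Lib.Helper99.Asch
open scoped MatrixGroups Matrix commutatorElement

/-- abstract part: exponent dividing 4 kills the dihedral / quaternion / quasidihedral factors of order ≥ 16,
so all commutators are central. -/
theorem commutator_mem_center_of_symplecticType {G : Type*} [Group G] [Finite G] {p : ℕ} [Fact p.Prime]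
    (hG : IsPGroup p G)
    (hsymp : ∀ A : Subgroup G, A.Characteristic → IsMulCommutative A → IsCyclic A)
    (hexp : p = 2 → ∀ x : G, x ^ 4 = 1) (x y : G) : ⁅x, y⁆ ∈ Subgroup.center G := by
  obtain ⟨E, R, hcomm, hsup, hE, hR⟩ := Cfsg.Agent.S3762.result hG hsymp
  -- `R` is commutative
  have hRcomm : ∀ a ∈ R, ∀ b ∈ R, a * b = b * a := by
    rcases hR with hcyc | ⟨hp2, h16, hcases⟩
    · intro a ha b hb
      have hc : IsCyclic R := hcyc
      have := (IsCyclic.commGroup (α := R)).mul_comm ⟨a, ha⟩ ⟨b, hb⟩
      exact congrArg Subtype.val this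
    · exfalso
      have h4 : ∀ z : R, orderOf z ∣ 4 := by
        intro z
        apply orderOf_dvd_of_pow_eq_one
        apply Subtype.ext
        have := hexp hp2 (z : G)
        simpa using this
      rcases hcases with ⟨m, ⟨e⟩⟩ | ⟨m, ⟨e⟩⟩ | ⟨k, hk, -, z, -, hz, -, -⟩
      · -- dihedral
        have hcard : Nat.card R = 2 * m := by
          rw [Nat.card_congr e.toEquiv, DihedralGroup.nat_card]
        have hm : 8 ≤ m := by omega
        have ho : orderOf (e.symm (DihedralGroup.r 1)) = m := by
          rw [MulEquiv.orderOf_eq, DihedralGroup.orderOf_r_one]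
        have := Nat.le_of_dvd (by norm_num) (ho ▸ h4 (e.symm (DihedralGroup.r 1)))
        omega
      · -- quaternion
        have ho : orderOf (e.symm (QuaternionGroup.a 1)) = 2 * m := by
          rw [MulEquiv.orderOf_eq, QuaternionGroup.orderOf_a_one]
        have hle := Nat.le_of_dvd (by norm_num) (ho ▸ h4 (e.symm (QuaternionGroup.a 1)))
        have hm0 : m ≠ 0 := by
          rintro rfl
          have := ho ▸ h4 (e.symm (QuaternionGroup.a 1))
          simp at this
        haveI : NeZero m := ⟨hm0⟩
        have hcard : Nat.card R = 4 * m := by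
          rw [Nat.card_congr e.toEquiv, Nat.card_eq_fintype_card, QuaternionGroup.card]
        omega
      · -- quasidihedral
        have h8 : 8 ≤ 2 ^ k := by
          calc 8 = 2 ^ 3 := by norm_num
            _ ≤ 2 ^ k := Nat.pow_le_pow_right (by norm_num) hk
        have := Nat.le_of_dvd (by norm_num) (hz ▸ h4 z)
        omega
  -- `R` is central
  have hRcen : R ≤ Subgroup.center G := by
    intro z hz
    rw [Subgroup.mem_center_iff]
    intro g
    have hg : g ∈ E ⊔ R := by rw [hsup]; exact Subgroup.mem_top g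
    have hle : E ⊔ R ≤ Subgroup.centralizer ({z} : Set G) := by
      apply sup_le
      · intro e he
        rw [Subgroup.mem_centralizer_iff]
        intro w hw
        rw [Set.mem_singleton_iff] at hw
        subst hw
        exact (hcomm e he w hz).symm
      · intro b hb
        rw [Subgroup.mem_centralizer_iff]
        intro w hw
        rw [Set.mem_singleton_iff] at hw
        subst hw
        exact hRcomm w hz b hb
    have := Subgroup.mem_centralizer_iff.mp (hle hg) z (Set.mem_singleton z)
    exact this.symm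
  -- decompose `x`, `y`
  haveI : R.Normal := by
    constructor
    intro n hn g
    have := Subgroup.mem_center_iff.mp (hRcen hn) g
    have h1 : g * n * g⁻¹ = n := by rw [this]; group
    rw [h1]; exact hn
  have hdec : ∀ g : G, ∃ e ∈ E, ∃ z ∈ R, g = e * z := by
    intro g
    have hg : g ∈ E ⊔ R := by rw [hsup]; exact Subgroup.mem_top g
    have : (g : G) ∈ ((E ⊔ R : Subgroup G) : Set G) := hg
    rw [Subgroup.mul_normal E R] at this
    obtain ⟨e, he, z, hz, rfl⟩ := this
    exact ⟨e, he, z, hz, rfl⟩
  obtain ⟨e₁, he₁, z₁, hz₁, rfl⟩ := hdec x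
  obtain ⟨e₂, he₂, z₂, hz₂, rfl⟩ := hdec y
  have hc1 : ∀ g, z₁ * g = g * z₁ := fun g => (Subgroup.mem_center_iff.mp (hRcen hz₁) g).symm
  have hc2 : ∀ g, z₂ * g = g * z₂ := fun g => (Subgroup.mem_center_iff.mp (hRcen hz₂) g).symm
  have hcomm_eq : ⁅e₁ * z₁, e₂ * z₂⁆ = ⁅e₁, e₂⁆ := by
    rw [← hc1 e₁, ← hc2 e₂, Cfsg.Agent.Lib.Helper11.AschResid.commutatorElement_central_mul_left hc1,
      Cfsg.Agent.Lib.Helper11.AschResid.commutatorElement_central_mul_right hc2]
  rw [hcomm_eq]
  -- `⁅e₁, e₂⁆` is central in `E`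
  rcases hE with hbot | hext
  · subst hbot
    rw [Subgroup.mem_bot] at he₁ he₂
    subst he₁ he₂
    simp
  · have hspec : commutator E = Subgroup.center E := hext.1.2.2
    have hmem : ⁅(⟨e₁, he₁⟩ : E), ⟨e₂, he₂⟩⁆ ∈ Subgroup.center E := by
      rw [← hspec]
      exact Subgroup.commutator_mem_commutator (Subgroup.mem_top _) (Subgroup.mem_top _)
    have hval : ((⁅(⟨e₁, he₁⟩ : E), ⟨e₂, he₂⟩⁆ : E) : G) = ⁅e₁, e₂⁆ :=
      map_commutatorElement E.subtype _ _
    have hcE : ⁅e₁, e₂⁆ ∈ E := by rw [← hval]; exact Subtype.property _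
    rw [Subgroup.mem_center_iff]
    intro g
    have hg : g ∈ E ⊔ R := by rw [hsup]; exact Subgroup.mem_top g
    have hle : E ⊔ R ≤ Subgroup.centralizer ({⁅e₁, e₂⁆} : Set G) := by
      apply sup_le
      · intro e he
        rw [Subgroup.mem_centralizer_iff]
        intro w hw
        rw [Set.mem_singleton_iff] at hw
        subst hw
        have := Subgroup.mem_center_iff.mp hmem ⟨e, he⟩
        have h2 := congrArg (Subtype.val) this
        simp only [Subgroup.coe_mul, hval] at h2
        exact h2.symm
      · intro b hb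
        rw [Subgroup.mem_centralizer_iff]
        intro w hw
        rw [Set.mem_singleton_iff] at hw
        subst hw
        exact hcomm _ hcE b hb
    have := Subgroup.mem_centralizer_iff.mp (hle hg) _ (Set.mem_singleton _)
    exact this.symm

variable {n : ℕ} {F : Type*} [Field F] [Fintype F]

/-- an absolutely irreducible group of symplectic type has scalar commutators -/
theorem commScalar_of_isSymplecticTypeGroup (hn : 0 < n) (r : ℕ) (R : Subgroup (GL (Fin n) F))
    (hR : IsSymplecticTypeGroup r R) (habs : ActsAbsolutelyIrreducibly (matrixSet R)) :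
    CommScalar R := by
  haveI : Fact r.Prime := ⟨hR.prime⟩
  haveI : Nonempty (Fin n) := ⟨⟨0, hn⟩⟩
  have hexp : r = 2 → ∀ x : R, x ^ 4 = 1 := by
    intro h2 x
    have h4 : Monoid.exponent R = 4 := by rw [hR.exponent_eq, h2]; norm_num
    rw [← h4]
    exact Monoid.pow_exponent_eq_one x
  intro x hx y hy
  have hmem := commutator_mem_center_of_symplecticType hR.pGroup hR.cyclic_of_characteristic hexp
    ⟨x, hx⟩ ⟨y, hy⟩
  have hval : ((⁅(⟨x, hx⟩ : R), ⟨y, hy⟩⁆ : R) : GL (Fin n) F) = x * y * x⁻¹ * y⁻¹ := by
    rw [commutatorElement_def]; rfl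
  rw [← hval]
  apply Cfsg.Agent.Lib.Helper11.AschResid.mem_scalars_of_commute habs
  intro z hz
  have := Subgroup.mem_center_iff.mp hmem ⟨z, hz⟩
  have h2 := congrArg (Subtype.val) this
  simp only [Subgroup.coe_mul] at h2
  exact h2.symm

/-- the centre of an absolutely irreducible subgroup is its scalar part -/
theorem card_center_eq_card_inf_scalars (hn : 0 < n) (R : Subgroup (GL (Fin n) F))
    (habs : ActsAbsolutelyIrreducibly (matrixSet R)) :
    Nat.card (Subgroup.center R) = Nat.card (R ⊓ scalars (Fin n) F : Subgroup (GL (Fin n) F)) := by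
  haveI : Nonempty (Fin n) := ⟨⟨0, hn⟩⟩
  have hmap : (Subgroup.center R).map R.subtype = R ⊓ scalars (Fin n) F := by
    ext g
    constructor
    · rintro ⟨c, hc, rfl⟩
      refine ⟨c.2, ?_⟩
      apply Cfsg.Agent.Lib.Helper11.AschResid.mem_scalars_of_commute habs
      intro z hz
      have := Subgroup.mem_center_iff.mp hc ⟨z, hz⟩
      have h2 := congrArg (Subtype.val) this
      simp only [Subgroup.coe_mul] at h2
      exact h2.symm
    · rintro ⟨hgR, hgs⟩
      refine ⟨⟨g, hgR⟩, Subgroup.mem_center_iff.mpr ?_, rfl⟩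
      intro z
      apply Subtype.ext
      simp only [Subgroup.coe_mul]
      exact (Cfsg.Agent.Lib.Helper11.AschResid.scalars_comm hgs (z : GL (Fin n) F)).symm
  rw [← hmap]
  exact Nat.card_congr ((Subgroup.center R).equivMapOfInjective R.subtype
    (Subgroup.subtype_injective R)).toEquiv

/-- **Order of an absolutely irreducible group of symplectic type**: `|R| = |Z(R)| · n²`. -/
theorem card_eq_of_isSymplecticTypeGroup (hn : 0 < n) (r : ℕ) (R : Subgroup (GL (Fin n) F))
    (hR : IsSymplecticTypeGroup r R) (habs : ActsAbsolutelyIrreducibly (matrixSet R)) :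
    Nat.card R = Nat.card (Subgroup.center R) * n ^ 2 := by
  rw [card_center_eq_card_inf_scalars hn R habs]
  exact card_eq_of_commScalar hn R habs (commScalar_of_isSymplecticTypeGroup hn r R hR habs)

/-- consequence used by the row sheets: `|R| = r^a`, `|Z(R)| = r^b` ⇒ `n = r^m` with `a = b + 2m`. -/
theorem dim_eq_pow_of_isSymplecticTypeGroup (hn : 0 < n) (r : ℕ) (R : Subgroup (GL (Fin n) F))
    (hR : IsSymplecticTypeGroup r R) (habs : ActsAbsolutelyIrreducibly (matrixSet R)) (a b : ℕ)
    (ha : Nat.card R = r ^ a) (hb : Nat.card (Subgroup.center R) = r ^ b) :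
    ∃ m : ℕ, n = r ^ m ∧ a = b + 2 * m := by
  have hr : r.Prime := hR.prime
  have h := card_eq_of_isSymplecticTypeGroup hn r R hR habs
  rw [ha, hb] at h
  have hdvd : n ∣ r ^ a := by
    rw [h]
    exact Dvd.dvd.mul_left (Dvd.intro_left (n ^ 1) (by ring)) _
  obtain ⟨m, -, hm⟩ := (Nat.dvd_prime_pow hr).1 hdvd
  refine ⟨m, hm, ?_⟩
  rw [hm, ← pow_mul, ← pow_add] at h
  have := Nat.pow_right_injective hr.two_le h
  omega

end Cfsg.Agent.Lib.Helper99.SympTypeCard
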