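/-
helper99: counting lemmas for the number of conjugacy classes of `GL_n(q)`:
tuples `(h_1, …, h_n)` of monic polynomials with nonzero constant term and `∑ j * deg h_j = n`
number at most `q ^ n`.
-/
import Mathlib

set_option autoImplicit false

namespace Cfsg.Agent.Lib.Helper99.GLClass

open Finset Polynomial

/-- number of monic polynomials of degree `d` with nonzero constant term over a field with `q` elements -/
def Mq (q d : ℕ) : ℕ := if d = 0 then 1 else q ^ d - q ^ (d - 1)

theorem Mq_zero (q : ℕ) : Mq q 0 = 1 := by simp [Mq]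

theorem Mq_succ (q d : ℕ) : Mq q (d + 1) = q ^ (d + 1) - q ^ d := by simp [Mq]

theorem sum_Mq (q : ℕ) (hq : 1 ≤ q) (u : ℕ) : ∑ j ∈ range (u + 1), Mq q j = q ^ u := by
  induction u with
  | zero => simp [Mq]
  | succ u ih =>
    rw [sum_range_succ, ih, Mq_succ]
    have : q ^ u ≤ q ^ (u + 1) := Nat.pow_le_pow_right hq (Nat.le_succ u)
    omega

theorem Mq_mul_pow (q : ℕ) (_hq : 1 ≤ q) (b u : ℕ) (hb : 1 ≤ b) : Mq q b * q ^ u = Mq q (b + u) := by
  obtain ⟨b, rfl⟩ : ∃ b', b = b' + 1 := ⟨b - 1, by omega⟩
  rw [show b + 1 + u = (b + u) + 1 by ring, Mq_succ, Mq_succ, Nat.sub_mul]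
  congr 1 <;> ring

/-- the recursive count -/
def gcnt (q : ℕ) : ℕ → ℕ → ℕ → ℕ
  | 0, u, b => if u = 0 then Mq q b else 0
  | (K + 1), u, b => ∑ u' ∈ range (u + 1), if u' ≤ b then Mq q (u - u') * gcnt q K u' (b - u') else 0

theorem gcnt_zero_left (q K b : ℕ) : gcnt q K 0 b = Mq q b := by
  induction K generalizing b with
  | zero => simp [gcnt]
  | succ K ih => simp [gcnt, ih, Mq_zero]

theorem gcnt_le (q : ℕ) (hq : 1 ≤ q) (K u b : ℕ) (hu : 1 ≤ u) : gcnt q K u b ≤ Mq q (u + b) := by
  induction K generalizing u b with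
  | zero =>
    have : u ≠ 0 := by omega
    simp [gcnt, this]
  | succ K ih =>
    rw [gcnt]
    rcases Nat.eq_zero_or_pos b with hb | hb
    · subst hb
      -- only u' = 0 contributes
      have : ∀ u' ∈ range (u + 1), (if u' ≤ 0 then Mq q (u - u') * gcnt q K u' (0 - u') else 0)
          = if u' = 0 then Mq q u else 0 := by
        intro u' _
        by_cases h : u' = 0
        · subst h; simp [gcnt_zero_left, Mq_zero]
        · have : ¬ u' ≤ 0 := by omega
          simp [h, this]
      rw [sum_congr rfl this]
      simp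
    · -- each term ≤ Mq (u-u') * Mq b
      have hterm : ∀ u' ∈ range (u + 1), (if u' ≤ b then Mq q (u - u') * gcnt q K u' (b - u') else 0)
          ≤ Mq q (u - u') * Mq q b := by
        intro u' _
        split_ifs with h
        · apply Nat.mul_le_mul_left
          rcases Nat.eq_zero_or_pos u' with h0 | h0
          · subst h0; simp [gcnt_zero_left]
          · have := ih u' (b - u') h0
            rwa [show u' + (b - u') = b by omega] at this
        · exact Nat.zero_le _
      calc _ ≤ ∑ u' ∈ range (u + 1), Mq q (u - u') * Mq q b := sum_le_sum hterm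
        _ = (∑ u' ∈ range (u + 1), Mq q (u - u')) * Mq q b := by rw [sum_mul]
        _ = (∑ j ∈ range (u + 1), Mq q j) * Mq q b := by
            rw [← sum_range_reflect]
            congr 1
            apply sum_congr rfl
            intro j hj
            rw [mem_range] at hj
            congr 1; omega
        _ = q ^ u * Mq q b := by rw [sum_Mq q hq]
        _ = Mq q (u + b) := by rw [mul_comm, Mq_mul_pow q hq b u hb, add_comm]

theorem sum_gcnt_le (q : ℕ) (hq : 1 ≤ q) (K n : ℕ) :
    ∑ u ∈ range (n / 2 + 1), gcnt q K u (n - 2 * u) ≤ q ^ n := by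
  have h1 : ∀ u ∈ range (n / 2 + 1), gcnt q K u (n - 2 * u) ≤ Mq q (n - u) := by
    intro u hu
    rw [mem_range] at hu
    rcases Nat.eq_zero_or_pos u with h0 | h0
    · subst h0; simp [gcnt_zero_left]
    · have := gcnt_le q hq K u (n - 2 * u) h0
      have h2 : 2 * u ≤ n := by
        have := Nat.div_mul_le_self n 2
        omega
      rwa [show u + (n - 2 * u) = n - u by omega] at this
  calc _ ≤ ∑ u ∈ range (n / 2 + 1), Mq q (n - u) := sum_le_sum h1
    _ ≤ ∑ u ∈ range (n + 1), Mq q (n - u) := by
        apply sum_le_sum_of_subset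
        intro x hx
        rw [mem_range] at hx ⊢
        have := Nat.div_le_self n 2
        omega
    _ = ∑ j ∈ range (n + 1), Mq q j := by
        rw [← sum_range_reflect]
        apply sum_congr rfl
        intro j hj
        rw [mem_range] at hj
        congr 1; omega
    _ = q ^ n := sum_Mq q hq n

variable {F : Type*} [Field F]

/-- the monic polynomial of degree `d` with prescribed lower coefficients -/
noncomputable def monicOf (d : ℕ) (c : Fin d → F) : F[X] :=
  X ^ d + ∑ i : Fin d, C (c i) * X ^ (i : ℕ)

theorem monicOf_lower_degree (d : ℕ) (c : Fin d → F) :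
    (∑ i : Fin d, C (c i) * X ^ (i : ℕ) : F[X]).degree < d := by
  apply lt_of_le_of_lt (degree_sum_le _ _)
  rw [Finset.sup_lt_iff (by exact WithBot.bot_lt_coe d)]
  intro i _
  apply lt_of_le_of_lt (degree_C_mul_X_pow_le _ _)
  exact_mod_cast i.2

theorem monicOf_monic (d : ℕ) (c : Fin d → F) : (monicOf d c).Monic := by
  unfold monicOf
  exact monic_X_pow_add (monicOf_lower_degree d c)

theorem monicOf_natDegree (d : ℕ) (c : Fin d → F) : (monicOf d c).natDegree = d := by
  unfold monicOf
  rw [natDegree_add_eq_left_of_degree_lt, natDegree_X_pow]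
  rw [degree_X_pow]
  exact monicOf_lower_degree d c

theorem monicOf_coeff (d : ℕ) (c : Fin d → F) (i : Fin d) : (monicOf d c).coeff i = c i := by
  unfold monicOf
  rw [coeff_add, coeff_X_pow, if_neg (by have := i.2; omega), zero_add, finsetSum_coeff]
  rw [Finset.sum_eq_single i]
  · simp
  · intro j _ hj
    rw [coeff_C_mul, coeff_X_pow, if_neg, mul_zero]
    intro h
    exact hj (Fin.ext h.symm)
  · intro h; exact absurd (Finset.mem_univ i) h

theorem monicOf_injective (d : ℕ) : Function.Injective (monicOf (F := F) d) := by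
  intro c c' h
  funext i
  rw [← monicOf_coeff d c i, ← monicOf_coeff d c' i, h]

theorem eq_monicOf (f : F[X]) (hf : f.Monic) : f = monicOf f.natDegree (fun i => f.coeff i) := by
  unfold monicOf
  conv_lhs => rw [hf.as_sum]
  congr 1
  rw [Fin.sum_univ_eq_sum_range (fun i => C (f.coeff i) * X ^ i) f.natDegree]

variable [Fintype F]

open Classical in
theorem card_filter_head_ne_zero (d : ℕ) :
    (Finset.univ.filter (fun c : Fin d → F => ∀ h : 0 < d, c ⟨0, h⟩ ≠ 0)).card = Mq (Fintype.card F) d := by
  classical
  cases d with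
  | zero => simp [Mq]
  | succ d =>
    have h1 : (Finset.univ.filter (fun c : Fin (d + 1) → F => ∀ h : 0 < d + 1, c ⟨0, h⟩ ≠ 0))
        = Finset.univ.filter (fun c : Fin (d + 1) → F => ¬ c 0 = 0) := by
      apply Finset.filter_congr
      intro c _
      constructor
      · intro h; exact h (Nat.succ_pos d)
      · intro h _; exact h
    rw [h1]
    have h2 := Finset.card_filter_add_card_filter_not (s := (Finset.univ : Finset (Fin (d + 1) → F)))
      (fun c : Fin (d + 1) → F => c 0 = 0)
    have h3 : (Finset.univ.filter (fun c : Fin (d + 1) → F => c 0 = 0)).card = Fintype.card F ^ d := by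
      rw [← Fintype.card_subtype]
      have e : {c : Fin (d + 1) → F // c 0 = 0} ≃ (Fin d → F) :=
        { toFun := fun c => Fin.tail c.1
          invFun := fun t => ⟨Fin.cons 0 t, by simp⟩
          left_inv := by
            intro c
            apply Subtype.ext
            simp only
            conv_rhs => rw [← Fin.cons_self_tail c.1]
            rw [c.2]
          right_inv := by intro t; simp }
      rw [Fintype.card_congr e]
      simp
    have h4 : (Finset.univ : Finset (Fin (d + 1) → F)).card = Fintype.card F ^ (d + 1) := by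
      simp
    simp only [Mq, Nat.succ_ne_zero, if_false, Nat.add_sub_cancel]
    omega

open Classical in
/-- monic polynomials of degree `d` with nonzero constant coefficient -/
noncomputable def Pset (F : Type*) [Field F] [Fintype F] (d : ℕ) : Finset F[X] :=
  (Finset.univ.filter (fun c : Fin d → F => ∀ h : 0 < d, c ⟨0, h⟩ ≠ 0)).image (monicOf d)

theorem mem_Pset (d : ℕ) (f : F[X]) :
    f ∈ Pset F d ↔ f.Monic ∧ f.natDegree = d ∧ f.coeff 0 ≠ 0 := by
  classical
  unfold Pset
  rw [Finset.mem_image]
  constructor
  · rintro ⟨c, hc, rfl⟩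
    rw [Finset.mem_filter] at hc
    refine ⟨monicOf_monic d c, monicOf_natDegree d c, ?_⟩
    rcases Nat.eq_zero_or_pos d with h0 | h0
    · subst h0
      have : monicOf 0 c = 1 := by simp [monicOf]
      rw [this]; simp
    · have := monicOf_coeff d c ⟨0, h0⟩
      simp only at this
      rw [this]
      exact hc.2 h0
  · rintro ⟨hm, hd, h0⟩
    subst hd
    refine ⟨fun i => f.coeff i, ?_, (eq_monicOf f hm).symm⟩
    rw [Finset.mem_filter]
    exact ⟨Finset.mem_univ _, fun _ => h0⟩

theorem card_Pset (d : ℕ) : (Pset F d).card = Mq (Fintype.card F) d := by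
  classical
  unfold Pset
  rw [Finset.card_image_of_injective _ (monicOf_injective d), card_filter_head_ne_zero]

open Classical in
/-- pairs `(f, h)`: all entries monic with nonzero constant term, `∑ deg h j = u`,
`deg f + ∑ j * deg h j = b` -/
noncomputable def Uset (F : Type*) [Field F] [Fintype F] : (K : ℕ) → ℕ → ℕ → Finset (F[X] × (Fin K → F[X]))
  | 0, u, b => if u = 0 then (Pset F b).image (fun f => (f, fun i => i.elim0)) else ∅
  | (K + 1), u, b => ((Finset.range (u + 1)).filter (· ≤ b)).biUnion fun u' =>
      ((Pset F (u - u')) ×ˢ (Uset F K u' (b - u'))).image (fun x => (x.2.1, Fin.cons x.1 x.2.2))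

theorem card_Uset_le (K u b : ℕ) : (Uset F K u b).card ≤ gcnt (Fintype.card F) K u b := by
  classical
  induction K generalizing u b with
  | zero =>
    unfold Uset gcnt
    split_ifs with h
    · exact le_trans Finset.card_image_le (le_of_eq (card_Pset b))
    · simp
  | succ K ih =>
    unfold Uset gcnt
    refine le_trans Finset.card_biUnion_le ?_
    rw [Finset.sum_filter]
    apply Finset.sum_le_sum
    intro u' _
    split_ifs with h
    · refine le_trans Finset.card_image_le ?_
      rw [Finset.card_product, card_Pset]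
      exact Nat.mul_le_mul_left _ (ih u' (b - u'))
    · exact le_refl _

theorem mem_Uset (K u b : ℕ) (f : F[X]) (h : Fin K → F[X]) (hf : f.Monic ∧ f.coeff 0 ≠ 0)
    (hh : ∀ j, (h j).Monic ∧ (h j).coeff 0 ≠ 0) (hu : ∑ j, (h j).natDegree = u)
    (hb : f.natDegree + ∑ j : Fin K, (j : ℕ) * (h j).natDegree = b) : (f, h) ∈ Uset F K u b := by
  classical
  induction K generalizing u b with
  | zero =>
    unfold Uset
    have hu0 : u = 0 := by rw [← hu]; simp
    rw [if_pos hu0, Finset.mem_image]
    refine ⟨f, ?_, ?_⟩
    · rw [mem_Pset]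
      refine ⟨hf.1, ?_, hf.2⟩
      rw [← hb]; simp
    · congr 1
      funext i
      exact i.elim0
  | succ K ih =>
    unfold Uset
    rw [Finset.mem_biUnion]
    set u' := ∑ j : Fin K, (Fin.tail h j).natDegree with hu'
    have hsum1 : u = (h 0).natDegree + u' := by
      rw [← hu, Fin.sum_univ_succ]; rfl
    have hsum2 : b = f.natDegree + ∑ j : Fin K, (j : ℕ) * (Fin.tail h j).natDegree + u' := by
      rw [← hb, Fin.sum_univ_succ]
      simp only [Fin.val_zero, zero_mul, zero_add, Fin.val_succ]
      rw [hu', add_assoc, ← Finset.sum_add_distrib]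
      congr 1
      apply Finset.sum_congr rfl
      intro j _
      simp only [Fin.tail]
      ring
    refine ⟨u', ?_, ?_⟩
    · rw [Finset.mem_filter, Finset.mem_range]
      constructor <;> omega
    · rw [Finset.mem_image]
      refine ⟨(h 0, (f, Fin.tail h)), ?_, ?_⟩
      · rw [Finset.mem_product]
        constructor
        · rw [mem_Pset]
          refine ⟨(hh 0).1, ?_, (hh 0).2⟩
          show (h 0).natDegree = u - u'
          omega
        · apply ih
          · intro j; exact hh j.succ
          · rfl
          · omega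
      · simp only [Fin.cons_self_tail]

theorem card_le_of_injective_tuples {α : Type*} (n : ℕ) (hn : 1 ≤ n) (φ : α → (Fin n → F[X]))
    (hφ : Function.Injective φ) (hgood : ∀ a j, (φ a j).Monic ∧ (φ a j).coeff 0 ≠ 0)
    (hsum : ∀ a, ∑ j : Fin n, ((j : ℕ) + 1) * (φ a j).natDegree = n) :
    Finite α ∧ Nat.card α ≤ Fintype.card F ^ n := by
  classical
  obtain ⟨K, rfl⟩ : ∃ K, n = K + 1 := ⟨n - 1, by omega⟩
  set W : Finset (F[X] × (Fin K → F[X])) :=
    (Finset.range ((K + 1) / 2 + 1)).biUnion fun u => Uset F K u (K + 1 - 2 * u) with hW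
  have hWcard : W.card ≤ Fintype.card F ^ (K + 1) := by
    refine le_trans Finset.card_biUnion_le ?_
    refine le_trans (Finset.sum_le_sum fun u _ => card_Uset_le K u (K + 1 - 2 * u)) ?_
    exact sum_gcnt_le _ Fintype.card_pos K (K + 1)
  have hmem : ∀ a, (φ a 0, Fin.tail (φ a)) ∈ W := by
    intro a
    rw [hW, Finset.mem_biUnion]
    set u := ∑ j : Fin K, (Fin.tail (φ a) j).natDegree with hu
    have h1 : K + 1 = (φ a 0).natDegree + ∑ j : Fin K, (j : ℕ) * (Fin.tail (φ a) j).natDegree + 2 * u := by
      have := hsum a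
      rw [Fin.sum_univ_succ] at this
      simp only [Fin.val_zero, zero_add, one_mul, Fin.val_succ] at this
      rw [hu, Finset.mul_sum, add_assoc, ← Finset.sum_add_distrib]
      conv_lhs => rw [← this]
      congr 1
      apply Finset.sum_congr rfl
      intro j _
      simp only [Fin.tail]
      ring
    refine ⟨u, ?_, ?_⟩
    · rw [Finset.mem_range]
      have : u ≤ (K + 1) / 2 := by
        rw [Nat.le_div_iff_mul_le (by norm_num)]
        omega
      omega
    · apply mem_Uset
      · exact hgood a 0
      · intro j; exact hgood a j.succ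
      · rfl
      · omega
  set ψ : α → W := fun a => ⟨(φ a 0, Fin.tail (φ a)), hmem a⟩ with hψ
  have hψinj : Function.Injective ψ := by
    intro a a' h
    apply hφ
    have h' := congrArg Subtype.val h
    simp only [hψ, Prod.mk.injEq] at h'
    rw [← Fin.cons_self_tail (φ a), ← Fin.cons_self_tail (φ a'), h'.1, h'.2]
  have : Finite α := Finite.of_injective ψ hψinj
  refine ⟨this, ?_⟩
  calc Nat.card α ≤ Nat.card W := Nat.card_le_card_of_injective ψ hψinj
    _ = W.card := by simp
    _ ≤ _ := hWcard

end Cfsg.Agent.Lib.Helper99.GLClass
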