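/-
helper99: modules [SMALL] and [SPLIT] for helper40's S2362 plan: a unipotent isometry in dimension at most 2
is trivial; splitting a quadratic space along a self-adjoint idempotent, in matrix form.
-/
import Mathlib

set_option autoImplicit false

namespace Cfsg.Agent.Lib.Helper99.OrthSplit

open Matrix Module

variable {F : Type*} [Field F] {ι : Type*} [Fintype ι] [DecidableEq ι]

/-- the idempotent `diag(1,0)` -/
abbrev dg (F : Type*) [Field F] (k₁ k₂ : ℕ) : Matrix (Fin k₁ ⊕ Fin k₂) (Fin k₁ ⊕ Fin k₂) F :=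
  fromBlocks 1 0 0 0

lemma fromBlocks_one_zero_mul {k₁ k₂ : ℕ} (a : Matrix (Fin k₁) (Fin k₁) F) (b : Matrix (Fin k₁) (Fin k₂) F)
    (c : Matrix (Fin k₂) (Fin k₁) F) (d : Matrix (Fin k₂) (Fin k₂) F) :
    dg F k₁ k₂ * fromBlocks a b c d =
      fromBlocks a b 0 0 := by
  rw [fromBlocks_multiply]
  simp

lemma mul_fromBlocks_one_zero {k₁ k₂ : ℕ} (a : Matrix (Fin k₁) (Fin k₁) F) (b : Matrix (Fin k₁) (Fin k₂) F)
    (c : Matrix (Fin k₂) (Fin k₁) F) (d : Matrix (Fin k₂) (Fin k₂) F) :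
    fromBlocks a b c d * dg F k₁ k₂ =
      fromBlocks a 0 c 0 := by
  rw [fromBlocks_multiply]
  simp

/-- a matrix commuting with `diag(1,0)` is block diagonal -/
lemma blockDiag_of_comm {k₁ k₂ : ℕ} (Y : Matrix (Fin k₁ ⊕ Fin k₂) (Fin k₁ ⊕ Fin k₂) F)
    (h : Y * dg F k₁ k₂ =
      dg F k₁ k₂ * Y) :
    Y = fromBlocks Y.toBlocks₁₁ 0 0 Y.toBlocks₂₂ := by
  have hY := (fromBlocks_toBlocks Y).symm
  rw [hY, mul_fromBlocks_one_zero, fromBlocks_one_zero_mul, fromBlocks_inj] at h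
  obtain ⟨_, h12, h21, _⟩ := h
  conv_lhs => rw [hY]
  rw [← h12, h21]

/-- [SPLIT] splitting a space along a self-adjoint idempotent, in matrix form. -/
theorem exists_orth_split (B e : Matrix ι ι F) (hBs : Bᵀ = B) (hBdet : B.det ≠ 0)
    (he : e * e = e) (hes : eᵀ * B = B * e) :
    ∃ (k₁ k₂ : ℕ) (T : Matrix (Fin k₁ ⊕ Fin k₂) ι F) (T' : Matrix ι (Fin k₁ ⊕ Fin k₂) F)
      (G₁ : Matrix (Fin k₁) (Fin k₁) F) (G₂ : Matrix (Fin k₂) (Fin k₂) F),
      k₁ + k₂ = Fintype.card ι ∧ T * T' = 1 ∧ T' * T = 1 ∧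
      T * e * T' = fromBlocks 1 0 0 0 ∧ T'ᵀ * B * T' = fromBlocks G₁ 0 0 G₂ ∧
      G₁ᵀ = G₁ ∧ G₂ᵀ = G₂ ∧ G₁.det ≠ 0 ∧ G₂.det ≠ 0 ∧
      ∀ y : Matrix ι ι F, y * e = e * y →
        ∃ (y₁ : Matrix (Fin k₁) (Fin k₁) F) (y₂ : Matrix (Fin k₂) (Fin k₂) F),
          T * y * T' = fromBlocks y₁ 0 0 y₂ ∧
          (yᵀ * B * y = B → y₁ᵀ * G₁ * y₁ = G₁ ∧ y₂ᵀ * G₂ * y₂ = G₂) := by
  classical
  set E : (ι → F) →ₗ[F] (ι → F) := Matrix.toLin' e with hE
  have hEid : IsIdempotentElem E := by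
    show E * E = E
    rw [Module.End.mul_eq_comp, hE, ← Matrix.toLin'_mul, he]
  have hcompl : IsCompl (LinearMap.range E) (LinearMap.ker E) :=
    LinearMap.IsIdempotentElem.isCompl hEid
  obtain ⟨k₁, hk₁⟩ : ∃ k₁, k₁ = Module.finrank F (LinearMap.range E) := ⟨_, rfl⟩
  obtain ⟨k₂, hk₂⟩ : ∃ k₂, k₂ = Module.finrank F (LinearMap.ker E) := ⟨_, rfl⟩
  let b₁ : Basis (Fin k₁) F (LinearMap.range E) := (Module.finBasis F _).reindex (finCongr hk₁.symm)
  let b₂ : Basis (Fin k₂) F (LinearMap.ker E) := (Module.finBasis F _).reindex (finCongr hk₂.symm)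
  let b : Basis (Fin k₁ ⊕ Fin k₂) F (ι → F) :=
    (b₁.prod b₂).map (Submodule.prodEquivOfIsCompl _ _ hcompl)
  have hb1 : ∀ a, E (b (Sum.inl a)) = b (Sum.inl a) := by
    intro a
    have h1 : b (Sum.inl a) = (b₁ a : ι → F) := by
      show (Submodule.prodEquivOfIsCompl _ _ hcompl) ((b₁.prod b₂) (Sum.inl a)) = _
      rw [Submodule.coe_prodEquivOfIsCompl', Basis.prod_apply_inl_fst, Basis.prod_apply_inl_snd]
      simp
    rw [h1]
    exact (LinearMap.IsIdempotentElem.mem_range_iff hEid).1 (b₁ a).2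
  have hb2 : ∀ a, E (b (Sum.inr a)) = 0 := by
    intro a
    have h1 : b (Sum.inr a) = (b₂ a : ι → F) := by
      show (Submodule.prodEquivOfIsCompl _ _ hcompl) ((b₁.prod b₂) (Sum.inr a)) = _
      rw [Submodule.coe_prodEquivOfIsCompl', Basis.prod_apply_inr_fst, Basis.prod_apply_inr_snd]
      simp
    rw [h1]
    exact LinearMap.mem_ker.1 (b₂ a).2
  set T' : Matrix ι (Fin k₁ ⊕ Fin k₂) F := (Pi.basisFun F ι).toMatrix b with hT'
  set T : Matrix (Fin k₁ ⊕ Fin k₂) ι F := b.toMatrix (Pi.basisFun F ι) with hT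
  have hTT' : T * T' = 1 := Basis.toMatrix_mul_toMatrix_flip _ _
  have hT'T : T' * T = 1 := Basis.toMatrix_mul_toMatrix_flip _ _
  have hD : T * e * T' = dg F k₁ k₂ := by
    have h1 : T * e * T' = LinearMap.toMatrix b b E := by
      rw [← basis_toMatrix_mul_linearMap_toMatrix_mul_basis_toMatrix b (Pi.basisFun F ι) b
        (Pi.basisFun F ι) E, LinearMap.toMatrix_eq_toMatrix', hE, LinearMap.toMatrix'_toLin']
    rw [h1]
    ext s t
    rw [LinearMap.toMatrix_apply]
    unfold dg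
    rcases t with a | a
    · rw [hb1, Basis.repr_self]
      rcases s with a' | a'
      · rw [fromBlocks_apply₁₁, Matrix.one_apply, Finsupp.single_apply]
        simp [eq_comm]
      · rw [fromBlocks_apply₂₁, Finsupp.single_apply]
        simp
    · rw [hb2, map_zero]
      rcases s with a' | a'
      · rw [fromBlocks_apply₁₂]; simp
      · rw [fromBlocks_apply₂₂]; simp
  have heT' : (e * T' : Matrix ι (Fin k₁ ⊕ Fin k₂) F) = T' * dg F k₁ k₂ := by
    rw [← hD, ← Matrix.mul_assoc, ← Matrix.mul_assoc, hT'T, Matrix.one_mul]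
  set B' : Matrix (Fin k₁ ⊕ Fin k₂) (Fin k₁ ⊕ Fin k₂) F := T'ᵀ * B * T' with hB'
  have hDt : (dg F k₁ k₂)ᵀ = dg F k₁ k₂ := by
    unfold dg
    rw [fromBlocks_transpose]; simp
  have hB'comm : B' * dg F k₁ k₂ =
      dg F k₁ k₂ * B' := by
    have h1 : (T'ᵀ * eᵀ : Matrix (Fin k₁ ⊕ Fin k₂) ι F) = dg F k₁ k₂ * T'ᵀ := by
      rw [← Matrix.transpose_mul, heT', Matrix.transpose_mul, hDt]
    rw [hB', Matrix.mul_assoc, ← heT', Matrix.mul_assoc T'ᵀ B, ← Matrix.mul_assoc B, ← hes,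
      ← Matrix.mul_assoc, ← Matrix.mul_assoc, ← Matrix.mul_assoc, h1]
    simp only [Matrix.mul_assoc]
  have hB'bd := blockDiag_of_comm B' hB'comm
  have hB'sym : B'ᵀ = B' := by
    rw [hB', Matrix.transpose_mul, Matrix.transpose_mul, Matrix.transpose_transpose, hBs,
      Matrix.mul_assoc]
  have hB'inv : B' * (T * B⁻¹ * Tᵀ) = 1 := by
    have hBu : IsUnit B.det := isUnit_iff_ne_zero.2 hBdet
    have h1 : T'ᵀ * Tᵀ = 1 := by rw [← Matrix.transpose_mul, hTT', Matrix.transpose_one]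
    calc B' * (T * B⁻¹ * Tᵀ) = T'ᵀ * B * (T' * T) * B⁻¹ * Tᵀ := by
          rw [hB']; simp only [Matrix.mul_assoc]
      _ = 1 := by
          rw [hT'T, Matrix.mul_one, Matrix.mul_assoc T'ᵀ, Matrix.mul_nonsing_inv _ hBu,
            Matrix.mul_one, h1]
  have hB'det : B'.det ≠ 0 := by
    have := Matrix.isUnit_det_of_right_inverse hB'inv
    exact this.ne_zero
  have hsym := hB'sym
  rw [hB'bd, fromBlocks_transpose, fromBlocks_inj] at hsym
  have hdet2 : B'.toBlocks₁₁.det * B'.toBlocks₂₂.det ≠ 0 := by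
    rw [← Matrix.det_fromBlocks_zero₂₁, ← hB'bd]
    exact hB'det
  refine ⟨k₁, k₂, T, T', B'.toBlocks₁₁, B'.toBlocks₂₂, ?_, hTT', hT'T, hD, hB'bd, hsym.1,
    hsym.2.2.2, left_ne_zero_of_mul hdet2, right_ne_zero_of_mul hdet2, ?_⟩
  · rw [hk₁, hk₂, LinearMap.finrank_range_add_finrank_ker, Module.finrank_fintype_fun_eq_card]
  · intro y hy
    set Y : Matrix (Fin k₁ ⊕ Fin k₂) (Fin k₁ ⊕ Fin k₂) F := T * y * T' with hY
    have hYcomm : Y * dg F k₁ k₂ =
        dg F k₁ k₂ * Y := by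
      rw [hY, Matrix.mul_assoc, ← heT', ← Matrix.mul_assoc, Matrix.mul_assoc T, hy, ← hD]
      have : T * e * T' * (T * y * T') = T * e * (T' * T) * y * T' := by
        simp only [Matrix.mul_assoc]
      rw [this, hT'T, Matrix.mul_one]
      simp only [Matrix.mul_assoc]
    have hYbd := blockDiag_of_comm Y hYcomm
    refine ⟨Y.toBlocks₁₁, Y.toBlocks₂₂, hYbd, fun hiso => ?_⟩
    have h1 : Yᵀ * B' * Y = B' := by
      have h2 : Tᵀ * T'ᵀ = 1 := by rw [← Matrix.transpose_mul, hT'T, Matrix.transpose_one]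
      calc Yᵀ * B' * Y = T'ᵀ * yᵀ * (Tᵀ * T'ᵀ) * B * (T' * T) * y * T' := by
            rw [hY, hB', Matrix.transpose_mul, Matrix.transpose_mul]
            simp only [Matrix.mul_assoc]
        _ = T'ᵀ * (yᵀ * B * y) * T' := by
            rw [h2, hT'T, Matrix.mul_one, Matrix.mul_one]
            simp only [Matrix.mul_assoc]
        _ = B' := by rw [hiso]
    rw [hYbd, hB'bd, fromBlocks_transpose, fromBlocks_multiply, fromBlocks_multiply,
      fromBlocks_inj] at h1
    simp only [Matrix.transpose_zero, Matrix.zero_mul, Matrix.mul_zero, add_zero, zero_add] at h1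
    exact ⟨h1.1, h1.2.2.2⟩

/-- [SMALL] a unipotent isometry of a nondegenerate symmetric form in dimension ≤ 2 is trivial. -/
theorem eq_one_of_unipotent_isometry_small {F : Type*} [Field F] (h2 : (2 : F) ≠ 0) {k : ℕ}
    (hk : k ≤ 2) (G u : Matrix (Fin k) (Fin k) F) (hGs : Gᵀ = G) (hGdet : G.det ≠ 0)
    (hu : uᵀ * G * u = G) (hnil : IsNilpotent (u - 1)) : u = 1 := by
  interval_cases k
  · exact Subsingleton.elim _ _
  · have hdet : (u - 1).det = 0 := by
      obtain ⟨j, hj⟩ := hnil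
      have h1 : IsNilpotent (u - 1).det := ⟨j, by rw [← Matrix.det_pow, hj, Matrix.det_zero]⟩
      exact h1.eq_zero
    rw [Matrix.det_fin_one] at hdet
    ext i j
    fin_cases i; fin_cases j
    simp only [Matrix.sub_apply, Matrix.one_apply_eq] at hdet
    simpa [sub_eq_zero] using hdet
  · set n : Matrix (Fin 2) (Fin 2) F := u - 1 with hn
    have hun : u = 1 + n := by rw [hn]; abel
    have hdet : n.det = 0 := by
      obtain ⟨j, hj⟩ := hnil
      have h1 : IsNilpotent n.det := ⟨j, by rw [← Matrix.det_pow, hj, Matrix.det_zero]⟩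
      exact h1.eq_zero
    have htr : n.trace = 0 := (Matrix.isNilpotent_trace_of_isNilpotent hnil).eq_zero
    have hCH : n * n = n.trace • n - n.det • (1 : Matrix (Fin 2) (Fin 2) F) := by
      ext i j
      fin_cases i <;> fin_cases j <;>
        simp [Matrix.mul_apply, Fin.sum_univ_two, Matrix.det_fin_two, Matrix.trace_fin_two] <;> ring
    have hnn : n * n = 0 := by rw [hCH, htr, hdet, zero_smul, zero_smul, sub_zero]
    have h1 : u * (1 - n) = 1 := by
      rw [hun]
      have : (1 + n) * (1 - n) = 1 - n * n := by noncomm_ring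
      rw [this, hnn, sub_zero]
    have h3 : uᵀ * G = G - G * n := by
      have : uᵀ * G * u * (1 - n) = G * (1 - n) := by rw [hu]
      rw [Matrix.mul_assoc, h1, Matrix.mul_one] at this
      rw [this, Matrix.mul_sub, Matrix.mul_one]
    have h4 : nᵀ * G = -(G * n) := by
      rw [hun, Matrix.transpose_add, Matrix.transpose_one, Matrix.add_mul, Matrix.one_mul] at h3
      have : nᵀ * G = (G + nᵀ * G) - G := by abel
      rw [this, h3]; abel
    set A : Matrix (Fin 2) (Fin 2) F := G * n with hA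
    have hAt : Aᵀ = -A := by
      rw [hA, Matrix.transpose_mul, hGs, h4]
    have hdiag : ∀ i, A i i = 0 := by
      intro i
      have := congrFun (congrFun hAt i) i
      rw [Matrix.transpose_apply, Matrix.neg_apply] at this
      have h5 : (2 : F) * A i i = 0 := by linear_combination this
      rcases mul_eq_zero.1 h5 with h | h
      · exact absurd h h2
      · exact h
    have h10 : A 1 0 = -A 0 1 := by
      have := congrFun (congrFun hAt 0) 1
      rw [Matrix.transpose_apply, Matrix.neg_apply] at this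
      exact this
    have hAdet : A.det = 0 := by rw [hA, Matrix.det_mul, hdet, mul_zero]
    rw [Matrix.det_fin_two, hdiag 0, hdiag 1, h10] at hAdet
    have h01 : A 0 1 = 0 := by
      have : A 0 1 * A 0 1 = 0 := by linear_combination hAdet
      exact mul_self_eq_zero.1 this
    have hA0 : A = 0 := by
      ext i j
      fin_cases i <;> fin_cases j
      · exact hdiag 0
      · exact h01
      · show A 1 0 = 0
        rw [h10, h01, neg_zero]
      · exact hdiag 1
    have hn0 : n = 0 := by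
      have hGu : IsUnit G.det := isUnit_iff_ne_zero.2 hGdet
      have : n = G⁻¹ * (G * n) := by
        rw [← Matrix.mul_assoc, Matrix.nonsing_inv_mul _ hGu, Matrix.one_mul]
      rw [this, ← hA, hA0, Matrix.mul_zero]
    rw [hun, hn0, add_zero]

end Cfsg.Agent.Lib.Helper99.OrthSplit
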