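/-
helper99: modules [THREE] and [NOIDEM] (auxiliary form) for helper40's S2362 plan, on top of [SPLIT] and
[SMALL]: an isometry commuting involution splits the space; consequences.
-/
import Mathlib
import Cfsg.Agent.Lib.Helper99.OrthSplit

set_option autoImplicit false

namespace Cfsg.Agent.Lib.Helper99.OrthSplit

open Matrix

variable {F : Type*} [Field F]

/-- powers of an isometry are isometries -/
lemma isometry_pow {ι : Type*} [Fintype ι] [DecidableEq ι] (G h : Matrix ι ι F)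
    (hh : hᵀ * G * h = G) (j : ℕ) : (h ^ j)ᵀ * G * h ^ j = G := by
  induction j with
  | zero => simp
  | succ j ih =>
    rw [pow_succ, Matrix.transpose_mul]
    calc hᵀ * (h ^ j)ᵀ * G * (h ^ j * h) = hᵀ * ((h ^ j)ᵀ * G * h ^ j) * h := by
          simp only [Matrix.mul_assoc]
      _ = G := by rw [ih, hh]

/-- powers of a conjugate by a rectangular inverse pair -/
lemma conj_pow {ι κ : Type*} [Fintype ι] [DecidableEq ι] [Fintype κ] [DecidableEq κ]
    (T : Matrix κ ι F) (T' : Matrix ι κ F) (hTT' : T * T' = 1) (hT'T : T' * T = 1)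
    (A : Matrix ι ι F) (j : ℕ) : (T * A * T') ^ j = T * A ^ j * T' := by
  induction j with
  | zero => simp [hTT']
  | succ j ih =>
    rw [pow_succ, ih, pow_succ]
    calc T * A ^ j * T' * (T * A * T') = T * A ^ j * (T' * T) * A * T' := by
          simp only [Matrix.mul_assoc]
      _ = T * (A ^ j * A) * T' := by
          rw [hT'T, Matrix.mul_one]; simp only [Matrix.mul_assoc]

lemma conj_conj {ι κ : Type*} [Fintype ι] [DecidableEq ι] [Fintype κ] [DecidableEq κ]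
    (T : Matrix κ ι F) (T' : Matrix ι κ F) (hT'T : T' * T = 1) (A : Matrix ι ι F) :
    A = T' * (T * A * T') * T := by
  calc A = (T' * T) * A * (T' * T) := by rw [hT'T, Matrix.one_mul, Matrix.mul_one]
    _ = T' * (T * A * T') * T := by simp only [Matrix.mul_assoc]

lemma fromBlocks_sub_one {k₁ k₂ : ℕ} (a : Matrix (Fin k₁) (Fin k₁) F)
    (d : Matrix (Fin k₂) (Fin k₂) F) :
    (fromBlocks a 0 0 d : Matrix (Fin k₁ ⊕ Fin k₂) (Fin k₁ ⊕ Fin k₂) F) - 1 =
      fromBlocks (a - 1) 0 0 (d - 1) := by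
  ext i j
  rcases i with i | i <;> rcases j with j | j <;> simp [Matrix.one_apply]

/-- an involutory isometry (char ≠ 2) splits the space orthogonally into its `1`- and `-1`-eigenspaces -/
theorem invol_split (h2 : (2 : F) ≠ 0) {ι : Type*} [Fintype ι] [DecidableEq ι] (G z : Matrix ι ι F)
    (hGs : Gᵀ = G) (hGdet : G.det ≠ 0) (hz2 : z * z = 1) (hz : zᵀ * G * z = G) :
    ∃ (k₁ k₂ : ℕ) (T : Matrix (Fin k₁ ⊕ Fin k₂) ι F) (T' : Matrix ι (Fin k₁ ⊕ Fin k₂) F)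
      (G₁ : Matrix (Fin k₁) (Fin k₁) F) (G₂ : Matrix (Fin k₂) (Fin k₂) F),
      k₁ + k₂ = Fintype.card ι ∧ T * T' = 1 ∧ T' * T = 1 ∧ (k₂ = 0 → z = 1) ∧ (k₁ = 0 → z = -1) ∧
      G₁ᵀ = G₁ ∧ G₂ᵀ = G₂ ∧ G₁.det ≠ 0 ∧ G₂.det ≠ 0 ∧
      ∀ y : Matrix ι ι F, y * z = z * y →
        ∃ (y₁ : Matrix (Fin k₁) (Fin k₁) F) (y₂ : Matrix (Fin k₂) (Fin k₂) F),
          T * y * T' = fromBlocks y₁ 0 0 y₂ ∧
          (yᵀ * G * y = G → y₁ᵀ * G₁ * y₁ = G₁ ∧ y₂ᵀ * G₂ * y₂ = G₂) := by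
  set E : Matrix ι ι F := (2 : F)⁻¹ • (1 + z) with hE
  have hzG : zᵀ * G = G * z := by
    have : zᵀ * G * z * z = G * z := by rw [hz]
    rwa [Matrix.mul_assoc, hz2, Matrix.mul_one] at this
  have hEE : E * E = E := by
    rw [hE, Matrix.smul_mul, Matrix.mul_smul, smul_smul]
    have : (1 + z) * (1 + z) = (2 : F) • (1 + z) := by
      rw [add_mul, mul_add, mul_add, hz2, one_mul, one_mul, mul_one, two_smul]; abel
    rw [this, smul_smul]
    congr 1
    field_simp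
  have hEs : Eᵀ * G = G * E := by
    rw [hE, Matrix.transpose_smul, Matrix.transpose_add, Matrix.transpose_one, Matrix.smul_mul,
      Matrix.mul_smul, Matrix.add_mul, Matrix.mul_add, Matrix.one_mul, Matrix.mul_one, hzG]
  obtain ⟨k₁, k₂, T, T', G₁, G₂, hk, hTT', hT'T, hD, hB', hG1, hG2, hd1, hd2, hy⟩ :=
    exists_orth_split G E hGs hGdet hEE hEs
  have hEz : z = (2 : F) • E - 1 := by
    rw [hE, smul_smul, mul_inv_cancel₀ h2, one_smul]; abel
  refine ⟨k₁, k₂, T, T', G₁, G₂, hk, hTT', hT'T, ?_, ?_, hG1, hG2, hd1, hd2, ?_⟩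
  · intro hk2
    subst hk2
    have hD1 : (fromBlocks 1 0 0 0 : Matrix (Fin k₁ ⊕ Fin 0) (Fin k₁ ⊕ Fin 0) F) = 1 := by
      ext i j
      rcases i with i | i
      · rcases j with j | j
        · simp [Matrix.one_apply]
        · exact Fin.elim0 j
      · exact Fin.elim0 i
    have hE1 : E = 1 := by
      rw [conj_conj T T' hT'T E, hD, hD1, Matrix.mul_one, hT'T]
    rw [hEz, hE1, two_smul]; abel
  · intro hk1
    subst hk1
    have hD0 : (fromBlocks 1 0 0 0 : Matrix (Fin 0 ⊕ Fin k₂) (Fin 0 ⊕ Fin k₂) F) = 0 := by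
      ext i j
      rcases i with i | i
      · exact Fin.elim0 i
      · rcases j with j | j
        · exact Fin.elim0 j
        · simp
    have hE0 : E = 0 := by
      rw [conj_conj T T' hT'T E, hD, hD0, Matrix.mul_zero, Matrix.zero_mul]
    rw [hEz, hE0, smul_zero, zero_sub]
  · intro y hyz
    apply hy
    rw [hE, Matrix.mul_smul, Matrix.smul_mul, Matrix.mul_add, Matrix.add_mul, Matrix.mul_one,
      Matrix.one_mul, hyz]

/-- [THREE] -/
theorem pow_half_eq_pm_one_of_three (p : ℕ) [Fact p.Prime] [CharP F p]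
    (hp2 : p ≠ 2) (G h : Matrix (Fin 3) (Fin 3) F) (hGs : Gᵀ = G) (hGdet : G.det ≠ 0)
    (hh : hᵀ * G * h = G) (M : ℕ) (hM : Even M) (hhN : h ^ (p * M) = 1) (hhM : h ^ M ≠ 1) :
    h ^ (p * M / 2) = 1 ∨ h ^ (p * M / 2) = -1 := by
  have hp := (Fact.out : p.Prime)
  have h2 : (2 : F) ≠ 0 := by
    intro h0
    have : ((2 : ℕ) : F) = 0 := by exact_mod_cast h0
    rw [CharP.cast_eq_zero_iff F p] at this
    exact hp2 ((Nat.prime_dvd_prime_iff_eq hp Nat.prime_two).1 this)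
  obtain ⟨M', rfl⟩ := hM
  have hexp : p * (M' + M') / 2 = p * M' := by
    rw [← two_mul, mul_left_comm, Nat.mul_div_cancel_left _ (by norm_num)]
  rw [hexp]
  set z := h ^ (p * M') with hz
  have hzz : z * z = 1 := by rw [hz, ← pow_add, ← mul_add, hhN]
  have hziso : zᵀ * G * z = G := isometry_pow G h hh _
  set y := h ^ (M' + M') with hy
  have hyp : y ^ p = 1 := by rw [hy, ← pow_mul, mul_comm, hhN]
  have hyp1 : (y - 1) ^ p = 0 := by
    rw [sub_pow_char_of_commute _ (Commute.one_right y), hyp, one_pow, sub_self]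
  have hyz : y * z = z * y := by
    rw [hy, hz, ← pow_add, ← pow_add, add_comm]
  have hyiso : yᵀ * G * y = G := isometry_pow G h hh _
  obtain ⟨k₁, k₂, T, T', G₁, G₂, hk, hTT', hT'T, hz1, hz0, hG1, hG2, hd1, hd2, hsplit⟩ :=
    invol_split h2 G z hGs hGdet hzz hziso
  obtain ⟨y₁, y₂, hyb, hyi⟩ := hsplit y hyz
  obtain ⟨hy1, hy2⟩ := hyi hyiso
  rw [Fintype.card_fin] at hk
  have hnil : (fromBlocks (y₁ - 1) 0 0 (y₂ - 1) :
      Matrix (Fin k₁ ⊕ Fin k₂) (Fin k₁ ⊕ Fin k₂) F) ^ p = 0 := by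
    have h1 : T * (y - 1) * T' = fromBlocks (y₁ - 1) 0 0 (y₂ - 1) := by
      rw [Matrix.mul_sub, Matrix.sub_mul, hyb, Matrix.mul_one, hTT', fromBlocks_sub_one]
    rw [← h1, conj_pow T T' hTT' hT'T, hyp1, Matrix.mul_zero, Matrix.zero_mul]
  rw [fromBlocks_diagonal_pow, ← fromBlocks_zero, fromBlocks_inj] at hnil
  by_cases hk1 : k₁ ≤ 2
  · by_cases hk2 : k₂ ≤ 2
    · exfalso
      have e1 := eq_one_of_unipotent_isometry_small h2 hk1 G₁ y₁ hG1 hd1 hy1 ⟨p, hnil.1⟩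
      have e2 := eq_one_of_unipotent_isometry_small h2 hk2 G₂ y₂ hG2 hd2 hy2 ⟨p, hnil.2.2.2⟩
      rw [e1, e2, fromBlocks_one] at hyb
      apply hhM
      rw [conj_conj T T' hT'T y, hyb, Matrix.mul_one, hT'T]
    · right; exact hz0 (by omega)
  · left; exact hz1 (by omega)

/-- [NOIDEM], with the block-size lemma as a hypothesis -/
theorem eq_one_or_neg_one_of_commute_of_ppd_aux (h2 : (2 : F) ≠ 0) {k m r : ℕ} (hk4 : k < 4 * m)
    (hblock : ∀ (k' : ℕ) (G' X' : Matrix (Fin k') (Fin k') F), G'.det ≠ 0 → X'ᵀ * G' * X' = G' →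
      X' ^ r = 1 → (X' - 1).det ≠ 0 → 1 ≤ k' → 2 * m ≤ k')
    (G X : Matrix (Fin k) (Fin k) F) (hGs : Gᵀ = G) (hGdet : G.det ≠ 0) (hX : Xᵀ * G * X = G)
    (hXr : X ^ r = 1) (hX1 : (X - 1).det ≠ 0)
    (Y : Matrix (Fin k) (Fin k) F) (hY2 : Y * Y = 1) (hYX : Y * X = X * Y)
    (hY : Yᵀ * G * Y = G) : Y = 1 ∨ Y = -1 := by
  obtain ⟨k₁, k₂, T, T', G₁, G₂, hk, hTT', hT'T, hz1, hz0, hG1, hG2, hd1, hd2, hsplit⟩ :=
    invol_split h2 G Y hGs hGdet hY2 hY
  obtain ⟨X₁, X₂, hXb, hXi⟩ := hsplit X hYX.symm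
  obtain ⟨hX1i, hX2i⟩ := hXi hX
  rw [Fintype.card_fin] at hk
  have hpow : (fromBlocks (X₁ ^ r) 0 0 (X₂ ^ r) :
      Matrix (Fin k₁ ⊕ Fin k₂) (Fin k₁ ⊕ Fin k₂) F) = 1 := by
    rw [← fromBlocks_diagonal_pow, ← hXb, conj_pow T T' hTT' hT'T, hXr, Matrix.mul_one, hTT']
  rw [← fromBlocks_one, fromBlocks_inj] at hpow
  have hdet : (X₁ - 1).det * (X₂ - 1).det ≠ 0 := by
    have h1 : T * (X - 1) * T' = fromBlocks (X₁ - 1) 0 0 (X₂ - 1) := by
      rw [Matrix.mul_sub, Matrix.sub_mul, hXb, Matrix.mul_one, hTT', fromBlocks_sub_one]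
    rw [← Matrix.det_fromBlocks_zero₂₁, ← h1, Matrix.det_conj_of_mul_eq_one hTT' hT'T]
    exact hX1
  by_cases hk1 : 1 ≤ k₁
  · by_cases hk2 : 1 ≤ k₂
    · exfalso
      have a1 := hblock k₁ G₁ X₁ hd1 hX1i hpow.1 (left_ne_zero_of_mul hdet) hk1
      have a2 := hblock k₂ G₂ X₂ hd2 hX2i hpow.2.2.2 (right_ne_zero_of_mul hdet) hk2
      omega
    · left; exact hz1 (by omega)
  · right; exact hz0 (by omega)

end Cfsg.Agent.Lib.Helper99.OrthSplit
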