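/-
helper99: the number of conjugacy classes of `GL_n(q)` lies between `q^n - q^(n-1)` and `q^n`.
Upper bound: the `F[X]`-module of a matrix is a direct sum of `F[X]/(p^e)` (structure theorem over a PID);
the class is determined by the tuple `h_j = ∏_{e_i = j} p_i`, `j = 1..n`, and these tuples are counted in
`GLClassCount`. Lower bound: distinct characteristic polynomials give distinct classes.
-/
import Cfsg.Agent.Lib.Helper99.GLClassCount

set_option autoImplicit false

universe u

namespace Cfsg.Agent.Lib.Helper99.GLClass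

open Polynomial DirectSum

theorem exists_equiv_of_card_fiber_eq {α β γ : Type*} [Fintype α] [Fintype β] [DecidableEq γ]
    (f : α → γ) (g : β → γ)
    (h : ∀ c, Fintype.card {a // f a = c} = Fintype.card {b // g b = c}) :
    ∃ σ : α ≃ β, ∀ a, g (σ a) = f a := by
  classical
  refine ⟨(Equiv.sigmaFiberEquiv f).symm.trans
    ((Equiv.sigmaCongrRight fun c => Fintype.equivOfCardEq (h c)).trans (Equiv.sigmaFiberEquiv g)), ?_⟩
  intro a
  simp only [Equiv.trans_apply, Equiv.sigmaCongrRight_apply, Equiv.sigmaFiberEquiv_apply]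
  exact ((Fintype.equivOfCardEq (h (f a))) ⟨a, rfl⟩).2

section drop

variable {R : Type*} [Ring R] {ι : Type*} [DecidableEq ι] (N : ι → Type*)
  [∀ i, AddCommGroup (N i)] [∀ i, Module R (N i)]

/-- dropping zero summands of a direct sum -/
noncomputable def dropEquiv (s : ι → Prop) [DecidablePred s] (hs : ∀ i, ¬ s i → Subsingleton (N i)) :
    (⨁ i, N i) ≃ₗ[R] ⨁ i : Subtype s, N i.1 := by
  refine LinearEquiv.ofBijective (DFinsupp.subtypeDomainLinearMap (γ := R) (β := N) s) ⟨?_, ?_⟩
  · rw [← LinearMap.ker_eq_bot, LinearMap.ker_eq_bot']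
    intro x hx
    apply DFinsupp.ext
    intro i
    by_cases hi : s i
    · have := DFunLike.congr_fun hx ⟨i, hi⟩
      simpa using this
    · have := hs i hi
      exact Subsingleton.elim _ _
  · intro y
    refine ⟨DirectSum.toModule R (Subtype s) (⨁ i, N i) (fun i => DirectSum.lof R ι N i.1) y, ?_⟩
    induction y using DirectSum.induction_on with
    | zero => simp
    | of i x =>
      rw [← DirectSum.lof_eq_of R, DirectSum.toModule_lof]
      apply DFinsupp.ext
      intro j
      simp only [DFinsupp.subtypeDomainLinearMap_apply, DFinsupp.subtypeDomain_apply]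
      by_cases hij : i = j
      · subst hij
        simp [DirectSum.lof_eq_of, DirectSum.of_eq_same]
      · have hij' : (i : ι) ≠ (j : ι) := fun h => hij (Subtype.ext h)
        rw [DirectSum.lof_eq_of, DirectSum.lof_eq_of]
        rw [DirectSum.of_eq_of_ne _ _ _ hij'.symm, DirectSum.of_eq_of_ne _ _ _ (Ne.symm hij)]
    | add x y hx hy =>
      rw [map_add, map_add, hx, hy]

end drop

section reindex
variable {R : Type*} [CommRing R] {ι ι' : Type*} [DecidableEq ι] [DecidableEq ι']
noncomputable def reindexEquiv (I : ι → Submodule R R) (I' : ι' → Submodule R R) (σ : ι ≃ ι')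
    (h : ∀ i, I i = I' (σ i)) : (⨁ i, R ⧸ I i) ≃ₗ[R] ⨁ i', R ⧸ I' i' :=
  (DFinsupp.mapRange.linearEquiv (R := R) (β₁ := fun i => R ⧸ I i) (β₂ := fun i => R ⧸ I' (σ i))
      fun i => Submodule.quotEquivOfEq _ _ (h i)).trans
    (DirectSum.lequivCongrLeft R (M := fun k => R ⧸ I' k) σ.symm).symm
end reindex

variable {F : Type u} [Field F] {n : ℕ}

/-- the `F[X]`-module of a matrix -/
abbrev matMod (A : Matrix (Fin n) (Fin n) F) : Type _ := Module.AEval' (Matrix.toLin' A)

theorem isConj_of_equiv (a b : Matrix.GeneralLinearGroup (Fin n) F)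
    (e : matMod (a : Matrix (Fin n) (Fin n) F) ≃ₗ[F[X]] matMod (b : Matrix (Fin n) (Fin n) F)) :
    IsConj a b := by
  classical
  set A : Matrix (Fin n) (Fin n) F := (a : Matrix (Fin n) (Fin n) F) with hA
  set B : Matrix (Fin n) (Fin n) F := (b : Matrix (Fin n) (Fin n) F) with hB
  let oA := Module.AEval'.of (Matrix.toLin' A)
  let oB := Module.AEval'.of (Matrix.toLin' B)
  let L : (Fin n → F) ≃ₗ[F] (Fin n → F) := (oA.trans (e.restrictScalars F)).trans oB.symm
  have hL : ∀ v, L (A.mulVec v) = B.mulVec (L v) := by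
    intro v
    show oB.symm (e (oA (A.mulVec v))) = B.mulVec (oB.symm (e (oA v)))
    have h1 : oA (A.mulVec v) = (X : F[X]) • oA v := by
      rw [Module.AEval'.X_smul_of, Matrix.toLin'_apply]
    rw [h1, map_smul, Module.AEval'.of_symm_X_smul, Matrix.toLin'_apply]
  let P : Matrix (Fin n) (Fin n) F := LinearMap.toMatrix' (L : (Fin n → F) →ₗ[F] (Fin n → F))
  let Q : Matrix (Fin n) (Fin n) F := LinearMap.toMatrix' (L.symm : (Fin n → F) →ₗ[F] (Fin n → F))
  have hPQ : P * Q = 1 := by
    rw [← LinearMap.toMatrix'_comp, ← LinearMap.toMatrix'_id]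
    congr 1
    ext v : 1
    simp
  have hQP : Q * P = 1 := by
    rw [← LinearMap.toMatrix'_comp, ← LinearMap.toMatrix'_id]
    congr 1
    ext v : 1
    simp
  have hPA : P * A = B * P := by
    have h1 : P * A = LinearMap.toMatrix' ((L : (Fin n → F) →ₗ[F] (Fin n → F)).comp (Matrix.toLin' A)) := by
      rw [LinearMap.toMatrix'_comp, LinearMap.toMatrix'_toLin']
    have h2 : B * P = LinearMap.toMatrix' ((Matrix.toLin' B).comp (L : (Fin n → F) →ₗ[F] (Fin n → F))) := by
      rw [LinearMap.toMatrix'_comp, LinearMap.toMatrix'_toLin']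
    rw [h1, h2]
    congr 1
    apply LinearMap.ext
    intro v
    show L (Matrix.toLin' A v) = Matrix.toLin' B (L v)
    rw [Matrix.toLin'_apply, Matrix.toLin'_apply]
    exact hL v
  let g : Matrix.GeneralLinearGroup (Fin n) F := ⟨P, Q, hPQ, hQP⟩
  rw [isConj_iff]
  refine ⟨g, ?_⟩
  apply Units.ext
  rw [Units.val_mul, Units.val_mul]
  show P * A * Q = B
  rw [hPA, mul_assoc, hPQ, mul_one]

theorem finrank_matMod (A : Matrix (Fin n) (Fin n) F) : Module.finrank F (matMod A) = n := by
  rw [← (Module.AEval'.of (Matrix.toLin' A)).finrank_eq, Module.finrank_fin_fun]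

theorem finrank_quot_pow (p : F[X]) (e : ℕ) :
    Module.finrank F (F[X] ⧸ (F[X] ∙ p ^ e)) = e * p.natDegree := by
  have := finrank_quotient_span_eq_natDegree (f := p ^ e)
  rw [natDegree_pow] at this
  exact this

theorem finite_quot_pow (p : F[X]) (hp : p ≠ 0) (e : ℕ) :
    Module.Finite F (F[X] ⧸ (F[X] ∙ p ^ e)) :=
  (AdjoinRoot.powerBasis (pow_ne_zero e hp)).finite

theorem sum_deg_eq (A : Matrix (Fin n) (Fin n) F) {ι : Type*} [Fintype ι] [DecidableEq ι]
    (p : ι → F[X]) (e : ι → ℕ) (hp : ∀ i, p i ≠ 0)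
    (eq : matMod A ≃ₗ[F[X]] ⨁ i, F[X] ⧸ (F[X] ∙ p i ^ e i)) :
    ∑ i, e i * (p i).natDegree = n := by
  have : ∀ i, Module.Finite F (F[X] ⧸ (F[X] ∙ p i ^ e i)) := fun i => finite_quot_pow (p i) (hp i) (e i)
  have h1 := (eq.restrictScalars F).finrank_eq
  rw [finrank_matMod, Module.finrank_directSum] at h1
  rw [h1]
  apply Finset.sum_congr rfl
  intro i _
  rw [finrank_quot_pow]

theorem coeff_zero_ne_zero_of_equiv (a : Matrix.GeneralLinearGroup (Fin n) F) {ι : Type*}
    [DecidableEq ι] (p : ι → F[X]) (e : ι → ℕ)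
    (eq : matMod (a : Matrix (Fin n) (Fin n) F) ≃ₗ[F[X]] ⨁ i, F[X] ⧸ (F[X] ∙ p i ^ e i))
    (i : ι) (hi : e i ≠ 0) : (p i).coeff 0 ≠ 0 := by
  intro h0
  have hXp : (X : F[X]) ∣ p i := X_dvd_iff.mpr h0
  set A : Matrix (Fin n) (Fin n) F := (a : Matrix (Fin n) (Fin n) F) with hA
  let o := Module.AEval'.of (Matrix.toLin' A)
  let y : F[X] ⧸ (F[X] ∙ p i ^ e i) := Submodule.Quotient.mk 1
  let z := eq.symm (DirectSum.lof F[X] ι (fun i => F[X] ⧸ (F[X] ∙ p i ^ e i)) i y)
  let v := o.symm z
  let w := ((a⁻¹ : Matrix.GeneralLinearGroup (Fin n) F) : Matrix (Fin n) (Fin n) F).mulVec v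
  have hw : A.mulVec w = v := by
    show A.mulVec (((a⁻¹ : Matrix.GeneralLinearGroup (Fin n) F) : Matrix (Fin n) (Fin n) F).mulVec v) = v
    rw [Matrix.mulVec_mulVec, hA, ← Units.val_mul, mul_inv_cancel, Units.val_one, Matrix.one_mulVec]
  have hm : (X : F[X]) • o w = z := by
    rw [Module.AEval'.X_smul_of, Matrix.toLin'_apply, hw]
    exact o.apply_symm_apply z
  have ht : (X : F[X]) • eq (o w) = DirectSum.lof F[X] ι (fun i => F[X] ⧸ (F[X] ∙ p i ^ e i)) i y := by
    rw [← map_smul, hm]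
    exact eq.apply_symm_apply _
  have hti : (X : F[X]) • (eq (o w) i) = y := by
    have := DFunLike.congr_fun ht i
    rw [DirectSum.lof_eq_of, DirectSum.of_eq_same] at this
    rw [← this]
    rfl
  obtain ⟨g, hg⟩ := Submodule.Quotient.mk_surjective _ (eq (o w) i)
  rw [← hg] at hti
  have h1 : (X * g - 1 : F[X]) ∈ (F[X] ∙ p i ^ e i) := by
    rw [← Submodule.Quotient.eq]
    exact hti
  rw [Submodule.mem_span_singleton] at h1
  obtain ⟨c, hc⟩ := h1
  have h2 : (X : F[X]) ∣ X * g - 1 := by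
    rw [← hc]
    exact Dvd.dvd.mul_left (dvd_trans hXp (dvd_pow_self _ hi)) c
  have h3 : (X : F[X]) ∣ 1 := by
    have := (dvd_sub_right (dvd_mul_right X g)).mp h2
    exact this
  exact Polynomial.not_isUnit_X (isUnit_of_dvd_one h3)

/-- the monic associate -/
noncomputable def mon (p : F[X]) : F[X] := p * C p.leadingCoeff⁻¹

theorem mon_monic (p : F[X]) (hp : p ≠ 0) : (mon p).Monic := monic_mul_leadingCoeff_inv hp

theorem mon_associated (p : F[X]) (hp : p ≠ 0) : Associated p (mon p) := by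
  have hu : IsUnit (C p.leadingCoeff⁻¹ : F[X]) :=
    isUnit_C.mpr (IsUnit.mk0 _ (inv_ne_zero (mt leadingCoeff_eq_zero.1 hp)))
  exact ⟨hu.unit, rfl⟩

theorem mon_natDegree (p : F[X]) (hp : p ≠ 0) : (mon p).natDegree = p.natDegree :=
  natDegree_mul_leadingCoeff_inv p hp

theorem mon_irreducible (p : F[X]) (hp : Irreducible p) : Irreducible (mon p) :=
  (mon_associated p hp.ne_zero).irreducible hp

theorem mon_coeff_zero (p : F[X]) (hp : p ≠ 0) (h0 : p.coeff 0 ≠ 0) : (mon p).coeff 0 ≠ 0 := by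
  unfold mon
  rw [coeff_mul_C]
  exact mul_ne_zero h0 (inv_ne_zero (mt leadingCoeff_eq_zero.1 hp))

/-- `H` is an invariant tuple of `a`, computed from some primary decomposition -/
def IsInv (a : Matrix.GeneralLinearGroup (Fin n) F) (H : Fin n → F[X]) : Prop :=
  ∃ (ι : Type u) (_ : Fintype ι) (_ : DecidableEq ι) (p : ι → F[X]) (e : ι → ℕ),
    (∀ i, Irreducible (p i)) ∧
    Nonempty (matMod (a : Matrix (Fin n) (Fin n) F) ≃ₗ[F[X]] ⨁ i, F[X] ⧸ (F[X] ∙ p i ^ e i)) ∧
    ∀ j : Fin n, H j = ∏ i ∈ Finset.univ.filter (fun i => e i = (j : ℕ) + 1), mon (p i)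

theorem exists_isInv (a : Matrix.GeneralLinearGroup (Fin n) F) : ∃ H, IsInv a H := by
  classical
  have htors : Module.IsTorsion F[X] (matMod (a : Matrix (Fin n) (Fin n) F)) :=
    Module.AEval.isTorsion_of_finiteDimensional F (Fin n → F) _
  obtain ⟨ι, hι, p, hp, e, ⟨eq⟩⟩ := Module.equiv_directSum_of_isTorsion htors
  exact ⟨fun j => ∏ i ∈ Finset.univ.filter (fun i => e i = (j : ℕ) + 1), mon (p i),
    ι, hι, inferInstance, p, e, hp, ⟨eq⟩, fun j => rfl⟩

theorem IsInv.good {a : Matrix.GeneralLinearGroup (Fin n) F} {H : Fin n → F[X]} (h : IsInv a H) :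
    (∀ j, (H j).Monic ∧ (H j).coeff 0 ≠ 0) ∧ ∑ j : Fin n, ((j : ℕ) + 1) * (H j).natDegree = n := by
  obtain ⟨ι, hι, hdec, p, e, hp, ⟨eq⟩, hH⟩ := h
  have hp0 : ∀ i, p i ≠ 0 := fun i => (hp i).ne_zero
  have hsum := sum_deg_eq (a : Matrix (Fin n) (Fin n) F) p e hp0 eq
  have hdeg : ∀ i, 1 ≤ (p i).natDegree := fun i => (hp i).natDegree_pos
  have hle : ∀ i, e i ≤ n := by
    intro i
    calc e i ≤ e i * (p i).natDegree := Nat.le_mul_of_pos_right _ (hdeg i)
      _ ≤ ∑ i, e i * (p i).natDegree :=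
        Finset.single_le_sum (f := fun i => e i * (p i).natDegree) (fun _ _ => Nat.zero_le _) (Finset.mem_univ i)
      _ = n := hsum
  refine ⟨fun j => ⟨?_, ?_⟩, ?_⟩
  · rw [hH]
    exact monic_prod_of_monic _ _ (fun i _ => mon_monic _ (hp0 i))
  · rw [hH, coeff_zero_prod, Finset.prod_ne_zero_iff]
    intro i hi
    rw [Finset.mem_filter] at hi
    apply mon_coeff_zero _ (hp0 i)
    apply coeff_zero_ne_zero_of_equiv a p e eq i
    rw [hi.2]; omega
  · have h1 : ∀ j : Fin n, ((j : ℕ) + 1) * (H j).natDegree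
        = ∑ i, if e i = (j : ℕ) + 1 then e i * (p i).natDegree else 0 := by
      intro j
      rw [hH, natDegree_prod_of_monic _ _ (fun i _ => mon_monic _ (hp0 i)), Finset.mul_sum,
        Finset.sum_filter]
      apply Finset.sum_congr rfl
      intro i _
      split_ifs with h
      · rw [mon_natDegree _ (hp0 i), h]
      · rfl
    rw [Finset.sum_congr rfl (fun j _ => h1 j), Finset.sum_comm]
    refine Eq.trans ?_ hsum
    apply Finset.sum_congr rfl
    intro i _
    rcases Nat.eq_zero_or_pos (e i) with h0 | h0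
    · rw [h0]
      simp
    · have hj : e i - 1 < n := by have := hle i; omega
      have key := Fintype.sum_eq_single
        (f := fun x : Fin n => if e i = (x : ℕ) + 1 then e i * (p i).natDegree else 0)
        (⟨e i - 1, hj⟩ : Fin n) (by
          intro j hj'
          rw [if_neg]
          intro h
          apply hj'
          apply Fin.ext
          simp only
          omega)
      refine key.trans ?_
      rw [if_pos]
      simp only
      omega

open Classical in
theorem card_filter_eq_count {ι : Type*} [Fintype ι] (p : ι → F[X]) (e : ι → ℕ)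
    (hp : ∀ i, Irreducible (p i)) (m : ℕ) (P : F[X]) :
    (Finset.univ.filter (fun i => e i = m ∧ mon (p i) = P)).card =
      Multiset.count P (UniqueFactorizationMonoid.normalizedFactors
        (∏ i ∈ Finset.univ.filter (fun i => e i = m), mon (p i))) := by
  rw [Finset.prod_eq_multiset_prod, UniqueFactorizationMonoid.normalizedFactors_prod_eq]
  · rw [Multiset.map_map, Multiset.count_map]
    rw [← Finset.filter_filter, Finset.card_def, Finset.filter_val]
    congr 1
    apply Multiset.filter_congr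
    intro i _
    simp only [Function.comp_apply]
    rw [(mon_monic (p i) (hp i).ne_zero).normalize_eq_self]
    exact eq_comm
  · intro a ha
    rw [Multiset.mem_map] at ha
    obtain ⟨i, _, rfl⟩ := ha
    exact mon_irreducible _ (hp i)


open Classical in
/-- the fibre cardinalities of `(mon p, e)` on the indices with `e ≠ 0` are determined by the invariant tuple -/
theorem card_fiber_eq {a : Matrix.GeneralLinearGroup (Fin n) F} {H : Fin n → F[X]}
    {ι : Type u} [Fintype ι] [DecidableEq ι] (p : ι → F[X]) (e : ι → ℕ)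
    (hp : ∀ i, Irreducible (p i))
    (eq : matMod (a : Matrix (Fin n) (Fin n) F) ≃ₗ[F[X]] ⨁ i, F[X] ⧸ (F[X] ∙ p i ^ e i))
    (hH : ∀ j : Fin n, H j = ∏ i ∈ Finset.univ.filter (fun i => e i = (j : ℕ) + 1), mon (p i))
    (c : F[X] × ℕ) :
    Fintype.card {x : {i // e i ≠ 0} // (mon (p x.1), e x.1) = c} =
      if h : 1 ≤ c.2 ∧ c.2 ≤ n then
        Multiset.count c.1 (UniqueFactorizationMonoid.normalizedFactors (H ⟨c.2 - 1, by omega⟩))
      else 0 := by
  obtain ⟨P, m⟩ := c
  have hp0 : ∀ i, p i ≠ 0 := fun i => (hp i).ne_zero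
  have hsum := sum_deg_eq (a : Matrix (Fin n) (Fin n) F) p e hp0 eq
  have hdeg : ∀ i, 1 ≤ (p i).natDegree := fun i => (hp i).natDegree_pos
  have hle : ∀ i, e i ≤ n := by
    intro i
    calc e i ≤ e i * (p i).natDegree := Nat.le_mul_of_pos_right _ (hdeg i)
      _ ≤ ∑ i, e i * (p i).natDegree :=
        Finset.single_le_sum (f := fun i => e i * (p i).natDegree) (fun _ _ => Nat.zero_le _) (Finset.mem_univ i)
      _ = n := hsum
  rw [Fintype.card_congr (Equiv.subtypeSubtypeEquivSubtypeInter (fun i => e i ≠ 0)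
    (fun i => (mon (p i), e i) = (P, m))), Fintype.card_subtype]
  simp only
  split_ifs with h
  · have hj : (H ⟨m - 1, by omega⟩) = ∏ i ∈ Finset.univ.filter (fun i => e i = m), mon (p i) := by
      rw [hH]
      simp only
      have : m - 1 + 1 = m := by omega
      rw [this]
    rw [hj, ← card_filter_eq_count p e hp m P]
    congr 1
    apply Finset.filter_congr
    intro i _
    simp only [Prod.mk.injEq]
    constructor
    · rintro ⟨_, h1, h2⟩; exact ⟨h2, h1⟩
    · rintro ⟨h1, h2⟩; exact ⟨by omega, h2, h1⟩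
  · rw [Finset.card_eq_zero, Finset.filter_eq_empty_iff]
    intro i _
    simp only [Prod.mk.injEq]
    rintro ⟨h1, _, h3⟩
    have := hle i
    apply h
    omega

theorem IsInv.isConj {a b : Matrix.GeneralLinearGroup (Fin n) F} {H : Fin n → F[X]}
    (ha : IsInv a H) (hb : IsInv b H) : IsConj a b := by
  classical
  obtain ⟨ι, hι, hdec, p, e, hp, ⟨eq⟩, hH⟩ := ha
  obtain ⟨ι', hι', hdec', p', e', hp', ⟨eq'⟩, hH'⟩ := hb
  obtain ⟨σ, hσ⟩ := exists_equiv_of_card_fiber_eq
    (fun x : {i // e i ≠ 0} => (mon (p x.1), e x.1))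
    (fun x : {i // e' i ≠ 0} => (mon (p' x.1), e' x.1))
    (fun c => by rw [card_fiber_eq p e hp eq hH c, card_fiber_eq p' e' hp' eq' hH' c])
  have hI : ∀ x : {i // e i ≠ 0},
      (F[X] ∙ p x.1 ^ e x.1 : Submodule F[X] F[X]) = F[X] ∙ p' (σ x).1 ^ e' (σ x).1 := by
    intro x
    have h1 := hσ x
    simp only [Prod.mk.injEq] at h1
    have hass : Associated (p x.1) (p' (σ x).1) :=
      ((mon_associated _ (hp x.1).ne_zero).trans (h1.1 ▸ Associated.refl _)).trans
        (mon_associated _ (hp' (σ x).1).ne_zero).symm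
    rw [h1.2]
    exact Ideal.span_singleton_eq_span_singleton.mpr (hass.pow_pow)
  have hs : ∀ i, ¬ (e i ≠ 0) → Subsingleton (F[X] ⧸ (F[X] ∙ p i ^ e i)) := by
    intro i hi
    rw [not_not] at hi
    rw [hi, pow_zero, Submodule.Quotient.subsingleton_iff]
    exact Ideal.span_singleton_one
  have hs' : ∀ i, ¬ (e' i ≠ 0) → Subsingleton (F[X] ⧸ (F[X] ∙ p' i ^ e' i)) := by
    intro i hi
    rw [not_not] at hi
    rw [hi, pow_zero, Submodule.Quotient.subsingleton_iff]
    exact Ideal.span_singleton_one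
  let E1 := dropEquiv (R := F[X]) (fun i => F[X] ⧸ (F[X] ∙ p i ^ e i)) (fun i => e i ≠ 0) hs
  let E3 := dropEquiv (R := F[X]) (fun i => F[X] ⧸ (F[X] ∙ p' i ^ e' i)) (fun i => e' i ≠ 0) hs'
  let E2 := reindexEquiv (R := F[X]) (fun x : {i // e i ≠ 0} => (F[X] ∙ p x.1 ^ e x.1 : Submodule F[X] F[X]))
    (fun x : {i // e' i ≠ 0} => (F[X] ∙ p' x.1 ^ e' x.1 : Submodule F[X] F[X])) σ hI
  exact isConj_of_equiv a b (((eq.trans E1).trans E2).trans (E3.symm.trans eq'.symm))

variable [Fintype F]

omit [Fintype F] in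
/-- a matrix with prescribed monic characteristic polynomial -/
theorem exists_matrix_charpoly (n : ℕ) (f : F[X]) (hf : f.Monic) (hd : f.natDegree = n) :
    ∃ A : Matrix (Fin n) (Fin n) F, A.charpoly = f := by
  classical
  let pb := AdjoinRoot.powerBasis' hf
  have hdim : pb.dim = n := by rw [AdjoinRoot.powerBasis'_dim, hd]
  refine ⟨Matrix.reindex (finCongr hdim) (finCongr hdim) (Algebra.leftMulMatrix pb.basis pb.gen), ?_⟩
  rw [Matrix.charpoly_reindex, charpoly_leftMulMatrix, AdjoinRoot.powerBasis'_gen,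
    AdjoinRoot.minpoly_root hf.ne_zero, hf.leadingCoeff]
  simp

omit [Fintype F] in
theorem conj_charpoly_eq {n : ℕ} (a b : Matrix.GeneralLinearGroup (Fin n) F)
    (h : ConjClasses.mk a = ConjClasses.mk b) :
    (a : Matrix (Fin n) (Fin n) F).charpoly = (b : Matrix (Fin n) (Fin n) F).charpoly := by
  rw [ConjClasses.mk_eq_mk_iff_isConj, isConj_iff] at h
  obtain ⟨g, hg⟩ := h
  rw [← hg]
  simp only [Units.val_mul]
  rw [Matrix.coe_units_inv, Matrix.charpoly_units_conj]


theorem card_conjClasses_ge (n : ℕ) :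
    Mq (Fintype.card F) n ≤ Nat.card (ConjClasses (Matrix.GeneralLinearGroup (Fin n) F)) := by
  classical
  rw [← card_Pset (F := F) n]
  -- for each f in Pset choose a GL element
  have hex : ∀ f : Pset F n, ∃ g : Matrix.GeneralLinearGroup (Fin n) F,
      (g : Matrix (Fin n) (Fin n) F).charpoly = f.1 := by
    rintro ⟨f, hf⟩
    rw [mem_Pset] at hf
    obtain ⟨A, hA⟩ := exists_matrix_charpoly n f hf.1 hf.2.1
    have hdet : A.det ≠ 0 := by
      rw [Matrix.det_eq_sign_charpoly_coeff, hA]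
      exact mul_ne_zero (pow_ne_zero _ (by norm_num)) hf.2.2
    exact ⟨Matrix.GeneralLinearGroup.mkOfDetNeZero A hdet, hA⟩
  choose g hg using hex
  have hinj : Function.Injective (fun f : Pset F n => ConjClasses.mk (g f)) := by
    intro f f' h
    have := conj_charpoly_eq _ _ h
    rw [hg, hg] at this
    exact Subtype.ext this
  have := Nat.card_le_card_of_injective _ hinj
  simpa using this

theorem card_conjClasses_le (n : ℕ) (hn : 1 ≤ n) :
    Nat.card (ConjClasses (Matrix.GeneralLinearGroup (Fin n) F)) ≤ Fintype.card F ^ n := by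
  classical
  let φ : ConjClasses (Matrix.GeneralLinearGroup (Fin n) F) → (Fin n → F[X]) :=
    fun c => (exists_isInv (Quotient.out c)).choose
  have hφ : ∀ c, IsInv (Quotient.out c) (φ c) := fun c => (exists_isInv (Quotient.out c)).choose_spec
  have hinj : Function.Injective φ := by
    intro c c' h
    have h1 := hφ c
    have h2 := hφ c'
    rw [← h] at h2
    have h3 := IsInv.isConj h1 h2
    rw [← ConjClasses.mk_eq_mk_iff_isConj] at h3
    have e1 : ConjClasses.mk (Quotient.out c) = c := Quotient.out_eq c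
    have e2 : ConjClasses.mk (Quotient.out c') = c' := Quotient.out_eq c'
    rw [← e1, ← e2, h3]
  exact (card_le_of_injective_tuples n hn φ hinj (fun c j => (hφ c).good.1 j)
    (fun c => (hφ c).good.2)).2

theorem card_conjClasses_bounds (n : ℕ) (hn : 1 ≤ n) :
    Fintype.card F ^ n - Fintype.card F ^ (n - 1) ≤
        Nat.card (ConjClasses (Matrix.GeneralLinearGroup (Fin n) F)) ∧
      Nat.card (ConjClasses (Matrix.GeneralLinearGroup (Fin n) F)) ≤ Fintype.card F ^ n := by
  refine ⟨?_, card_conjClasses_le n hn⟩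
  have := card_conjClasses_ge (F := F) n
  unfold Mq at this
  rw [if_neg (by omega)] at this
  exact this

end Cfsg.Agent.Lib.Helper99.GLClass
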