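import Mathlib
import Cfsg.Prelude.Def_GeometricClasses
import Cfsg.Agent.Lib.Helper99.AschDefs
import Cfsg.Agent.Lib.Helper99.AschUtil
import Cfsg.Agent.Lib.Helper99.SympTypeCard

/-!
# `|R| = |Z(R)| · |ι|²` for an absolutely irreducible group of symplectic type, any finite index type `ι`

General-index version of `Cfsg.Agent.Lib.Helper99.SympTypeCard` (transport along `glReindex`), for the symplectic
(`Fin m ⊕ Fin m`) and orthogonal (`Unit ⊕ (Fin m ⊕ Fin m)`, …) class predicates.
-/

set_option autoImplicit false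

namespace Cfsg.Agent.Lib.Helper99.SympTypeCard

open Cfsg Cfsg.Geo Cfsg.Agent.Lib.Helper99.Asch Cfsg.Agent.Lib.Helper99.AschUtil
open scoped MatrixGroups Matrix commutatorElement

variable {ι : Type} [Fintype ι] [DecidableEq ι] {F : Type*} [Field F] [Fintype F]

/-- an absolutely irreducible group of symplectic type has scalar commutators (any index type) -/
theorem commScalar_of_isSymplecticTypeGroup_gen [Nonempty ι] (r : ℕ) (R : Subgroup (GL ι F))
    (hR : IsSymplecticTypeGroup r R) (habs : ActsAbsolutelyIrreducibly (matrixSet R)) :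
    CommScalar R := by
  haveI : Fact r.Prime := ⟨hR.prime⟩
  have hexp : r = 2 → ∀ x : R, x ^ 4 = 1 := by
    intro h2 x
    have h4 : Monoid.exponent R = 4 := by rw [hR.exponent_eq, h2]; norm_num
    rw [← h4]
    exact Monoid.pow_exponent_eq_one x
  intro x hx y hy
  have hmem := commutator_mem_center_of_symplecticType hR.pGroup hR.cyclic_of_characteristic hexp
    ⟨x, hx⟩ ⟨y, hy⟩
  have hval : ((⁅(⟨x, hx⟩ : R), ⟨y, hy⟩⁆ : R) : GL ι F) = x * y * x⁻¹ * y⁻¹ := by
    rw [commutatorElement_def]; rfl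
  rw [← hval]
  apply Cfsg.Agent.Lib.Helper11.AschResid.mem_scalars_of_commute habs
  intro z hz
  have := Subgroup.mem_center_iff.mp hmem ⟨z, hz⟩
  have h2 := congrArg (Subtype.val) this
  simp only [Subgroup.coe_mul] at h2
  exact h2.symm

/-- the centre of an absolutely irreducible subgroup is its scalar part (any index type) -/
theorem card_center_eq_card_inf_scalars_gen [Nonempty ι] (R : Subgroup (GL ι F))
    (habs : ActsAbsolutelyIrreducibly (matrixSet R)) :
    Nat.card (Subgroup.center R) = Nat.card (R ⊓ scalars ι F : Subgroup (GL ι F)) := by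
  have hmap : (Subgroup.center R).map R.subtype = R ⊓ scalars ι F := by
    ext g
    constructor
    · rintro ⟨c, hc, rfl⟩
      refine ⟨c.2, ?_⟩
      apply Cfsg.Agent.Lib.Helper11.AschResid.mem_scalars_of_commute habs
      intro z hz
      have := Subgroup.mem_center_iff.mp hc ⟨z, hz⟩
      have h2 := congrArg (Subtype.val) this
      simp only [Subgroup.coe_mul] at h2
      exact h2.symm
    · rintro ⟨hgR, hgs⟩
      refine ⟨⟨g, hgR⟩, Subgroup.mem_center_iff.mpr ?_, rfl⟩
      intro z
      apply Subtype.ext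
      simp only [Subgroup.coe_mul]
      exact (Cfsg.Agent.Lib.Helper11.AschResid.scalars_comm hgs (z : GL ι F)).symm
  rw [← hmap]
  exact Nat.card_congr ((Subgroup.center R).equivMapOfInjective R.subtype
    (Subgroup.subtype_injective R)).toEquiv

section transport

variable {κ : Type} [Fintype κ] [DecidableEq κ]

theorem coe_glReindex' (e : ι ≃ κ) (g : GL ι F) :
    ((glReindex e g : GL κ F) : Matrix κ κ F) = Matrix.reindex e e (g : Matrix ι ι F) := rfl

/-- `glReindex` preserves scalar matrices, in both directions -/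
theorem glReindex_mem_scalars_iff (e : ι ≃ κ) (g : GL ι F) :
    glReindex e g ∈ scalars κ F ↔ g ∈ scalars ι F := by
  rw [mem_scalars_iff, mem_scalars_iff]
  constructor
  · rintro ⟨c, hc⟩
    refine ⟨c, ?_⟩
    rw [coe_glReindex'] at hc
    have := congrArg (Matrix.reindex e.symm e.symm) hc
    simp only [Matrix.reindex_apply, Matrix.submatrix_submatrix, Equiv.symm_symm,
      Equiv.symm_comp_self, Matrix.submatrix_id_id, Matrix.submatrix_smul,
      Matrix.submatrix_one_equiv] at this
    simpa using this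
  · rintro ⟨c, hc⟩
    refine ⟨c, ?_⟩
    rw [coe_glReindex', hc]
    simp [Matrix.reindex_apply, Matrix.submatrix_smul]

/-- the order formula transported to an arbitrary index type -/
theorem card_eq_of_commScalar_gen [Nonempty ι] (S : Subgroup (GL ι F))
    (hS : ActsAbsolutelyIrreducibly (matrixSet S)) (hc : CommScalar S) :
    Nat.card S = Nat.card (S ⊓ scalars ι F : Subgroup (GL ι F)) * Fintype.card ι ^ 2 := by
  classical
  set n := Fintype.card ι with hn
  have hnpos : 0 < n := Fintype.card_pos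
  let e : ι ≃ Fin n := Fintype.equivFin ι
  let φ : GL ι F ≃* GL (Fin n) F := glReindex e
  set S' : Subgroup (GL (Fin n) F) := S.map φ.toMonoidHom with hS'
  have hφinj : Function.Injective φ.toMonoidHom := φ.injective
  -- transport of the hypotheses
  have hc' : CommScalar S' := by
    rintro _ ⟨x, hx, rfl⟩ _ ⟨y, hy, rfl⟩
    have h1 : φ.toMonoidHom x * φ.toMonoidHom y * (φ.toMonoidHom x)⁻¹ * (φ.toMonoidHom y)⁻¹ =
        φ (x * y * x⁻¹ * y⁻¹) := by
      simp [map_mul, map_inv]
    rw [h1]
    exact (glReindex_mem_scalars_iff e _).mpr (hc x hx y hy)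
  have habs' : ActsAbsolutelyIrreducibly (matrixSet S') := by
    refine absIrred_transport (matrixSet S') (matrixSet S)
      (LinearEquiv.funCongrLeft F F e.symm) ?_ hS
    rintro _ ⟨x, hx, rfl⟩
    refine ⟨((φ x : GL (Fin n) F) : Matrix (Fin n) (Fin n) F), ⟨φ x, ⟨x, hx, rfl⟩, rfl⟩, ?_⟩
    intro u
    show Matrix.reindex e e (x : Matrix ι ι F) *ᵥ (LinearEquiv.funCongrLeft F F e.symm u) =
      LinearEquiv.funCongrLeft F F e.symm ((x : Matrix ι ι F) *ᵥ u)
    ext i
    simp only [Matrix.reindex_apply, LinearEquiv.funCongrLeft_apply, LinearMap.funLeft_apply]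
    rw [Matrix.submatrix_mulVec_equiv]
    simp [Function.comp_def]
  have hcard := card_eq_of_commScalar hnpos S' habs' hc'
  have h1 : Nat.card S' = Nat.card S :=
    (Nat.card_congr (S.equivMapOfInjective φ.toMonoidHom hφinj).toEquiv).symm
  have hmap : (S ⊓ scalars ι F).map φ.toMonoidHom = S' ⊓ scalars (Fin n) F := by
    ext g
    constructor
    · rintro ⟨x, ⟨hxS, hxs⟩, rfl⟩
      exact ⟨⟨x, hxS, rfl⟩, (glReindex_mem_scalars_iff e x).mpr hxs⟩
    · rintro ⟨⟨x, hxS, rfl⟩, hgs⟩
      exact ⟨x, ⟨hxS, (glReindex_mem_scalars_iff e x).mp hgs⟩, rfl⟩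
  have h2 : Nat.card (S' ⊓ scalars (Fin n) F : Subgroup (GL (Fin n) F)) =
      Nat.card (S ⊓ scalars ι F : Subgroup (GL ι F)) := by
    rw [← hmap]
    exact (Nat.card_congr ((S ⊓ scalars ι F).equivMapOfInjective φ.toMonoidHom hφinj).toEquiv).symm
  rw [← h1, hcard, h2]

end transport

/-- **Order of an absolutely irreducible group of symplectic type**, any index type:
`|R| = |Z(R)| · |ι|²`. -/
theorem card_eq_of_isSymplecticTypeGroup_gen [Nonempty ι] (r : ℕ) (R : Subgroup (GL ι F))
    (hR : IsSymplecticTypeGroup r R) (habs : ActsAbsolutelyIrreducibly (matrixSet R)) :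
    Nat.card R = Nat.card (Subgroup.center R) * Fintype.card ι ^ 2 := by
  rw [card_center_eq_card_inf_scalars_gen R habs]
  exact card_eq_of_commScalar_gen R habs (commScalar_of_isSymplecticTypeGroup_gen r R hR habs)

/-- `|R| = r^a`, `|Z(R)| = r^b` ⇒ `|ι| = r^m` with `a = b + 2m`. -/
theorem dim_eq_pow_of_isSymplecticTypeGroup_gen [Nonempty ι] (r : ℕ) (R : Subgroup (GL ι F))
    (hR : IsSymplecticTypeGroup r R) (habs : ActsAbsolutelyIrreducibly (matrixSet R)) (a b : ℕ)
    (ha : Nat.card R = r ^ a) (hb : Nat.card (Subgroup.center R) = r ^ b) :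
    ∃ m : ℕ, Fintype.card ι = r ^ m ∧ a = b + 2 * m := by
  have hr : r.Prime := hR.prime
  have h := card_eq_of_isSymplecticTypeGroup_gen r R hR habs
  rw [ha, hb] at h
  have hdvd : Fintype.card ι ∣ r ^ a := by
    rw [h]
    exact Dvd.dvd.mul_left (Dvd.intro_left (Fintype.card ι ^ 1) (by ring)) _
  obtain ⟨m, -, hm⟩ := (Nat.dvd_prime_pow hr).1 hdvd
  refine ⟨m, hm, ?_⟩
  rw [hm, ← pow_mul, ← pow_add] at h
  have := Nat.pow_right_injective hr.two_le h
  omega

end Cfsg.Agent.Lib.Helper99.SympTypeCard
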