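import Mathlib

set_option autoImplicit false
set_option linter.style.haveILetI false

namespace Cfsg.Agent.Lib.Helper99

open Polynomial Module

/-- `GL(V)` is transitive on nonzero vectors. -/
lemma exists_linearEquiv_apply_eq {K V : Type*} [Field K] [AddCommGroup V] [Module K V]
    {v v' : V} (hv : v ≠ 0) (hv' : v' ≠ 0) : ∃ g : V ≃ₗ[K] V, g v = v' := by
  let f : (Submodule.span K {v}) ≃ₗ[K] (Submodule.span K {v'}) :=
    (LinearEquiv.toSpanNonzeroSingleton K V v hv).symm ≪≫ₗ
      (LinearEquiv.toSpanNonzeroSingleton K V v' hv')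
  obtain ⟨g, hg⟩ := Submodule.exists_linearEquiv_restrict_eq f
  refine ⟨g, ?_⟩
  have h1 := hg ⟨v, Submodule.mem_span_singleton_self v⟩
  have h2 : (LinearEquiv.toSpanNonzeroSingleton K V v hv).symm
      ⟨v, Submodule.mem_span_singleton_self v⟩ = 1 := by
    rw [LinearEquiv.symm_apply_eq]
    ext
    simp
  have h3 : f ⟨v, Submodule.mem_span_singleton_self v⟩ = ⟨v', Submodule.mem_span_singleton_self v'⟩ := by
    show (LinearEquiv.toSpanNonzeroSingleton K V v' hv')
      ((LinearEquiv.toSpanNonzeroSingleton K V v hv).symm ⟨v, _⟩) = _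
    rw [h2]
    ext
    simp
  rw [h3] at h1
  exact h1.symm

/-- A Frobenius-semilinear bijection of a vector space over a finite field of characteristic `p`. -/
lemma exists_frobenius_semilinear {p : ℕ} [hp : Fact p.Prime] {K V : Type*} [Field K] [Finite K]
    [Algebra (ZMod p) K] [AddCommGroup V] [Module (ZMod p) V] [Module K V]
    [IsScalarTower (ZMod p) K V] :
    ∃ τ : V ≃ₗ[ZMod p] V, ∀ (c : K) (w : V), τ (c • w) = c ^ p • τ w := by
  haveI : CharP K p := charP_of_injective_algebraMap (algebraMap (ZMod p) K).injective p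
  haveI : ExpChar K p := ExpChar.prime hp.out
  -- Frobenius as a `ZMod p`-linear equivalence of `K`
  let Fr : K ≃ₗ[ZMod p] K :=
    { (frobeniusEquiv K p).toAddEquiv with
      map_smul' := by
        intro a x
        simp only [RingHom.id_apply]
        show frobeniusEquiv K p (a • x) = a • frobeniusEquiv K p x
        rw [Algebra.smul_def, map_mul, Algebra.smul_def]
        congr 1
        rw [frobeniusEquiv_apply, frobenius_def, ← map_pow, ZMod.pow_card] }
  have hFr : ∀ x : K, Fr x = x ^ p := fun x => by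
    show frobeniusEquiv K p x = x ^ p
    rw [frobeniusEquiv_apply, frobenius_def]
  let b := Module.Free.chooseBasis K V
  let e : V ≃ₗ[ZMod p] (Module.Free.ChooseBasisIndex K V →₀ K) := b.repr.restrictScalars (ZMod p)
  let M : (Module.Free.ChooseBasisIndex K V →₀ K) ≃ₗ[ZMod p] (Module.Free.ChooseBasisIndex K V →₀ K) :=
    Finsupp.mapRange.linearEquiv Fr
  refine ⟨e ≪≫ₗ M ≪≫ₗ e.symm, ?_⟩
  intro c w
  show e.symm (M (e (c • w))) = c ^ p • e.symm (M (e w))
  have h1 : e (c • w) = c • e w := by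
    show b.repr (c • w) = c • b.repr w
    exact map_smul _ _ _
  have h2 : M (c • e w) = c ^ p • M (e w) := by
    ext i
    show Fr ((c • e w) i) = (c ^ p • M (e w)) i
    rw [Finsupp.smul_apply, Finsupp.smul_apply, smul_eq_mul, smul_eq_mul, hFr, mul_pow]
    congr 1
  have h3 : ∀ (k : K) (x : Module.Free.ChooseBasisIndex K V →₀ K), e.symm (k • x) = k • e.symm x := by
    intro k x
    show b.repr.symm (k • x) = k • b.repr.symm x
    exact map_smul _ _ _
  rw [h1, h2, h3]

theorem exists_equiv_of_primitive_root {p q : ℕ} [hp : Fact p.Prime] [hq : Fact q.Prime] (hpq : p ≠ q)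
    {V : Type*} [AddCommGroup V] [Module (ZMod p) V] [Finite V]
    (σ : Module.End (ZMod p) V) (hσ : σ ^ q = 1) (hfpf : ∀ v, σ v = v → v = 0)
    (hprim : orderOf (p : ZMod q) = q - 1) :
    (∀ v v' : V, v ≠ 0 → v' ≠ 0 → ∃ τ : V ≃ₗ[ZMod p] V, (∀ w, τ (σ w) = σ (τ w)) ∧ τ v = v') ∧
    (∃ τ : V ≃ₗ[ZMod p] V, ∀ w, τ (σ w) = (σ ^ p) (τ w)) := by
  -- (1) the cyclotomic polynomial kills σ
  have h1 : aeval σ (cyclotomic q (ZMod p)) = 0 := by
    have hmul : aeval σ (cyclotomic q (ZMod p)) * (σ - 1) = 0 := by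
      have : aeval σ (cyclotomic q (ZMod p) * (X - 1)) = 0 := by
        rw [cyclotomic_prime_mul_X_sub_one]
        simp [hσ]
      simpa using this
    have hinj : Function.Injective (σ - 1 : Module.End (ZMod p) V) := by
      rw [← LinearMap.ker_eq_bot, LinearMap.ker_eq_bot']
      intro v hv
      apply hfpf
      have : σ v - v = 0 := by simpa using hv
      exact sub_eq_zero.mp this
    have hsurj : Function.Surjective (σ - 1 : Module.End (ZMod p) V) :=
      Finite.injective_iff_surjective.mp hinj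
    ext w
    obtain ⟨u, rfl⟩ := hsurj w
    have := congrArg (fun T : Module.End (ZMod p) V => T u) hmul
    simpa using this
  -- (2) irreducibility
  have hndvd : ¬ p ∣ q := fun h => hpq ((Nat.prime_dvd_prime_iff_eq hp.out hq.out).mp h)
  have hirr : Irreducible (cyclotomic q (ZMod p)) := by
    apply ZMod.irreducible_of_dvd_cyclotomic_of_natDegree hndvd dvd_rfl
    rw [natDegree_cyclotomic, Nat.totient_prime hq.out, ← hprim, ← orderOf_units,
      ZMod.coe_unitOfCoprime]
  haveI : Fact (Irreducible (cyclotomic q (ZMod p))) := ⟨hirr⟩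
  -- (3) the field K and the K-module structure
  have hI : ∀ a : (ZMod p)[X], a ∈ Ideal.span {cyclotomic q (ZMod p)} → aeval σ a = 0 := by
    intro a ha
    obtain ⟨c, rfl⟩ := Ideal.mem_span_singleton.mp ha
    rw [map_mul, h1, zero_mul]
  let φ : AdjoinRoot (cyclotomic q (ZMod p)) →ₐ[ZMod p] Module.End (ZMod p) V :=
    Ideal.Quotient.liftₐ (Ideal.span {cyclotomic q (ZMod p)}) (aeval σ) hI
  letI : Module (AdjoinRoot (cyclotomic q (ZMod p))) V :=
    Module.compHom V (φ : AdjoinRoot (cyclotomic q (ZMod p)) →+* Module.End (ZMod p) V)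
  have hsmul : ∀ (k : AdjoinRoot (cyclotomic q (ZMod p))) (w : V), k • w = φ k w := fun _ _ => rfl
  haveI : IsScalarTower (ZMod p) (AdjoinRoot (cyclotomic q (ZMod p))) V := by
    refine ⟨fun a k w => ?_⟩
    rw [hsmul, hsmul, map_smul, LinearMap.smul_apply]
  have hroot : φ (AdjoinRoot.root _) = σ := by
    have := AlgHom.congr_fun
      (Ideal.Quotient.liftₐ_comp (Ideal.span {cyclotomic q (ZMod p)}) (aeval σ) hI) X
    rw [aeval_X] at this
    exact this
  haveI : Finite (AdjoinRoot (cyclotomic q (ZMod p))) := by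
    haveI : Module.Finite (ZMod p) (AdjoinRoot (cyclotomic q (ZMod p))) :=
      (cyclotomic.monic q (ZMod p)).finite_adjoinRoot
    exact Module.finite_of_finite (ZMod p)
  refine ⟨?_, ?_⟩
  · intro v v' hv hv'
    obtain ⟨g, hg⟩ := exists_linearEquiv_apply_eq (K := AdjoinRoot (cyclotomic q (ZMod p))) hv hv'
    refine ⟨g.restrictScalars (ZMod p), ?_, hg⟩
    intro w
    show g (σ w) = σ (g w)
    rw [← hroot, ← hsmul, ← hsmul, map_smul]
  · obtain ⟨τ, hτ⟩ := exists_frobenius_semilinear (p := p)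
      (K := AdjoinRoot (cyclotomic q (ZMod p))) (V := V)
    refine ⟨τ, ?_⟩
    intro w
    have := hτ (AdjoinRoot.root _) w
    rw [hsmul, hsmul, hroot, map_pow, hroot] at this
    exact this

end Cfsg.Agent.Lib.Helper99
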