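import Mathlib
import Cfsg.Prelude.Def_KGroupFacts

/-!
# Generic lemmas for the computation of `Out(M12)`

* `card_out_congr`: the order of the outer automorphism group is an isomorphism invariant;
* orbit/stabilizer bookkeeping for subgroups of `Equiv.Perm X`;
* the cycle structure of an element of prime order on an invariant finite set.
-/

set_option autoImplicit false

namespace Cfsg.Agent.Lib.Helper99.M12Out

theorem card_out_congr {G H : Type*} [Group G] [Group H] (e : G ≃* H) :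
    Nat.card (Cfsg.Out G) = Nat.card (Cfsg.Out H) := by
  have hmap : (Cfsg.Inn G).map (MulAut.congr e : MulAut G ≃* MulAut H) = Cfsg.Inn H := by
    ext φ
    constructor
    · rintro ⟨ψ, ⟨g, rfl⟩, rfl⟩
      refine ⟨e g, ?_⟩
      ext h
      simp [MulAut.congr, MulAut.conj_apply]
    · rintro ⟨h, rfl⟩
      refine ⟨MulAut.conj (e.symm h), ⟨e.symm h, rfl⟩, ?_⟩
      ext x
      simp [MulAut.congr, MulAut.conj_apply]
  exact Nat.card_congr (QuotientGroup.congr (Cfsg.Inn G) (Cfsg.Inn H) (MulAut.congr e) hmap).toEquiv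

section perm
variable {X : Type*}

/-- The stabilizer of a point in a subgroup of a symmetric group. -/
def stb (K : Subgroup (Equiv.Perm X)) (b : X) : Subgroup (Equiv.Perm X) :=
  K ⊓ MulAction.stabilizer (Equiv.Perm X) b

theorem mem_stb {K : Subgroup (Equiv.Perm X)} {b : X} {g : Equiv.Perm X} :
    g ∈ stb K b ↔ g ∈ K ∧ g b = b := by
  simp [stb, MulAction.mem_stabilizer_iff]

theorem stb_le (K : Subgroup (Equiv.Perm X)) (b : X) : stb K b ≤ K := inf_le_left

variable [Fintype X]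

open Classical in
/-- The orbit of a point under a subgroup of a symmetric group, as a finset. -/
noncomputable def orb (K : Subgroup (Equiv.Perm X)) (b : X) : Finset X :=
  Finset.univ.filter fun q => ∃ g ∈ K, g b = q

theorem mem_orb {K : Subgroup (Equiv.Perm X)} {b q : X} : q ∈ orb K b ↔ ∃ g ∈ K, g b = q := by
  classical
  simp [orb]

theorem self_mem_orb (K : Subgroup (Equiv.Perm X)) (b : X) : b ∈ orb K b :=
  mem_orb.mpr ⟨1, K.one_mem, rfl⟩

theorem apply_mem_orb {K : Subgroup (Equiv.Perm X)} {b q : X} {g : Equiv.Perm X} (hg : g ∈ K)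
    (hq : q ∈ orb K b) : g q ∈ orb K b := by
  obtain ⟨h, hh, rfl⟩ := mem_orb.mp hq
  exact mem_orb.mpr ⟨g * h, K.mul_mem hg hh, rfl⟩

/-- Orbit-stabilizer. -/
theorem card_eq_orb_mul (K : Subgroup (Equiv.Perm X)) (b : X) :
    Nat.card K = (orb K b).card * Nat.card (stb K b) := by
  classical
  let L : Subgroup (Equiv.Perm X) := stb K b
  have h2' : ∀ q : orb K b, ∃ u : Equiv.Perm X, u ∈ K ∧ u (q : X) = b := fun q => by
    obtain ⟨g, hg, hgq⟩ := mem_orb.mp q.2
    exact ⟨g⁻¹, K.inv_mem hg, by rw [← hgq]; simp⟩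
  choose u hu using h2'
  let e : K ≃ orb K b × L :=
    { toFun := fun g => (⟨(g : Equiv.Perm X) b, mem_orb.mpr ⟨g, g.2, rfl⟩⟩,
        ⟨u ⟨(g : Equiv.Perm X) b, mem_orb.mpr ⟨g, g.2, rfl⟩⟩ * g, by
          refine mem_stb.mpr ⟨K.mul_mem (hu _).1 g.2, ?_⟩
          rw [Equiv.Perm.mul_apply]
          exact (hu _).2⟩)
      invFun := fun ql => ⟨(u ql.1)⁻¹ * (ql.2 : Equiv.Perm X),
        K.mul_mem (K.inv_mem (hu _).1) (mem_stb.mp ql.2.2).1⟩
      left_inv := by
        intro g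
        apply Subtype.ext
        simp
      right_inv := by
        rintro ⟨q, l⟩
        have hl : (l : Equiv.Perm X) b = b := (mem_stb.mp l.2).2
        have hq : ((u q)⁻¹ * (l : Equiv.Perm X)) b = (q : X) := by
          rw [Equiv.Perm.mul_apply, hl, Equiv.Perm.inv_eq_iff_eq]
          exact ((hu q).2).symm
        apply Prod.ext
        · apply Subtype.ext
          exact hq
        · apply Subtype.ext
          simp only
          have : (⟨((u q)⁻¹ * (l : Equiv.Perm X)) b, mem_orb.mpr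
              ⟨_, K.mul_mem (K.inv_mem (hu _).1) (mem_stb.mp l.2).1, rfl⟩⟩ : orb K b) = q :=
            Subtype.ext hq
          rw [this]
          group }
  rw [Nat.card_congr e, Nat.card_prod, Nat.card_eq_fintype_card, Fintype.card_coe]

omit [Fintype X] in
theorem card_stb_dvd (K : Subgroup (Equiv.Perm X)) (b : X) : Nat.card (stb K b) ∣ Nat.card K :=
  Subgroup.card_dvd_of_le (stb_le K b)

theorem card_le_mul_card_stb (K : Subgroup (Equiv.Perm X)) (b : X) (S : Finset X)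
    (hS : ∀ g ∈ K, g b ∈ S) : Nat.card K ≤ S.card * Nat.card (stb K b) := by
  rw [card_eq_orb_mul K b]
  apply Nat.mul_le_mul_right
  apply Finset.card_le_card
  intro q hq
  obtain ⟨g, hg, rfl⟩ := mem_orb.mp hq
  exact hS g hg


theorem orb_eq_of_mem {K : Subgroup (Equiv.Perm X)} {b q : X} (h : q ∈ orb K b) :
    orb K q = orb K b := by
  obtain ⟨g, hg, rfl⟩ := mem_orb.mp h
  ext r
  rw [mem_orb, mem_orb]
  constructor
  · rintro ⟨k, hk, rfl⟩
    exact ⟨k * g, K.mul_mem hk hg, rfl⟩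
  · rintro ⟨k, hk, rfl⟩
    exact ⟨k * g⁻¹, K.mul_mem hk (K.inv_mem hg), by simp⟩

omit [Fintype X] in
/-- Conjugation as an equivalence between two subgroups. -/
def conjEquivOfIff (a : Equiv.Perm X) (L L' : Subgroup (Equiv.Perm X))
    (h : ∀ g, a * g * a⁻¹ ∈ L' ↔ g ∈ L) : L ≃ L' where
  toFun g := ⟨a * g * a⁻¹, (h g).mpr g.2⟩
  invFun g := ⟨a⁻¹ * g * a, (h _).mp (by
    have : a * (a⁻¹ * (g : Equiv.Perm X) * a) * a⁻¹ = g := by group
    rw [this]; exact g.2)⟩
  left_inv g := by apply Subtype.ext; simp only; group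
  right_inv g := by apply Subtype.ext; simp only; group

omit [Fintype X] in
/-- Conjugation as an isomorphism between two subgroups. -/
def conjMulEquivOfIff (a : Equiv.Perm X) (L L' : Subgroup (Equiv.Perm X))
    (h : ∀ g, a * g * a⁻¹ ∈ L' ↔ g ∈ L) : L ≃* L' :=
  { conjEquivOfIff a L L' h with
    map_mul' := by
      intro g k
      apply Subtype.ext
      show a * ((g : Equiv.Perm X) * (k : Equiv.Perm X)) * a⁻¹ =
        (a * (g : Equiv.Perm X) * a⁻¹) * (a * (k : Equiv.Perm X) * a⁻¹)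
      group }

omit [Fintype X] in
theorem conjMulEquivOfIff_apply (a : Equiv.Perm X) (L L' : Subgroup (Equiv.Perm X))
    (h : ∀ g, a * g * a⁻¹ ∈ L' ↔ g ∈ L) (g : L) :
    ((conjMulEquivOfIff a L L' h g : L') : Equiv.Perm X) = a * g * a⁻¹ := rfl

variable [DecidableEq X]

omit [Fintype X] in
theorem card_fixed_eq {x : Equiv.Perm X} {s : Finset X} (hs : ∀ p, x p ∈ s ↔ p ∈ s) :
    ((x.subtypePerm (p := fun p => p ∈ s) hs).supportᶜ).card =
      (s.filter fun p => x p = p).card := by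
  apply Finset.card_bij (fun a _ => a.1)
  · intro a ha
    simp only [Finset.mem_compl, Equiv.Perm.mem_support, not_not] at ha
    simp only [Finset.mem_filter]
    exact ⟨a.2, congrArg Subtype.val ha⟩
  · intro a _ b _ h
    exact Subtype.ext h
  · intro p hp
    simp only [Finset.mem_filter] at hp
    refine ⟨⟨p, hp.1⟩, ?_, rfl⟩
    simp only [Finset.mem_compl, Equiv.Perm.mem_support, not_not]
    exact Subtype.ext hp.2

omit [Fintype X] in
theorem card_fixed_modEq {x : Equiv.Perm X} {s : Finset X} (hs : ∀ p, x p ∈ s ↔ p ∈ s)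
    {ℓ : ℕ} [Fact ℓ.Prime] (hx : x ^ ℓ = 1) :
    (s.filter fun p => x p = p).card ≡ s.card [MOD ℓ] := by
  have h1 : (x.subtypePerm (p := fun p => p ∈ s) hs) ^ ℓ ^ 1 = 1 := by
    rw [pow_one]
    ext ⟨a, ha⟩
    simp [Equiv.Perm.subtypePerm_pow, hx]
  have h2 := Equiv.Perm.card_compl_support_modEq h1
  rw [card_fixed_eq hs, Fintype.card_coe] at h2
  exact h2

theorem prime_cycle {x : Equiv.Perm X} {s : Finset X} (hs : ∀ p, x p ∈ s ↔ p ∈ s)
    {ℓ : ℕ} (hℓ : ℓ.Prime) (hx : x ^ ℓ = 1) (hne : ∃ p ∈ s, x p ≠ p)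
    (hcard : s.card = ℓ + 1) :
    ∃ p0 ∈ s, x p0 = p0 ∧ (∀ p ∈ s, p ≠ p0 → x p ≠ p) ∧
      ∀ p ∈ s, ∀ p' ∈ s, p ≠ p0 → p' ≠ p0 → ∃ i : ℕ, (x ^ i) p = p' := by
  set σ := x.subtypePerm (p := fun p => p ∈ s) hs with hσ
  have h1 : σ ^ ℓ = 1 := by
    ext ⟨a, ha⟩
    simp [hσ, Equiv.Perm.subtypePerm_pow, hx]
  have hσne : σ ≠ 1 := by
    obtain ⟨p, hp, hxp⟩ := hne
    intro h
    have := congrArg (fun τ : Equiv.Perm {p // p ∈ s} => (τ ⟨p, hp⟩ : X)) h
    simp [hσ] at this
    exact hxp this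
  have hord : orderOf σ = ℓ := by
    have : Fact ℓ.Prime := ⟨hℓ⟩
    exact orderOf_eq_prime h1 hσne
  have hcyc : σ.IsCycle := by
    apply Equiv.Perm.isCycle_of_prime_order' (hord ▸ hℓ)
    rw [hord, Fintype.card_coe, hcard]
    have := hℓ.two_le
    omega
  have hsupp : σ.support.card = ℓ := by rw [← hcyc.orderOf, hord]
  have hfix : (s.filter fun p => x p = p).card = 1 := by
    rw [← card_fixed_eq hs, Finset.card_compl, Fintype.card_coe, hcard]
    show ℓ + 1 - σ.support.card = 1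
    rw [hsupp]; omega
  obtain ⟨p0, hp0⟩ := Finset.card_eq_one.mp hfix
  have hmem : ∀ p, (p ∈ s ∧ x p = p) ↔ p = p0 := by
    intro p
    have h : p ∈ s.filter (fun p => x p = p) ↔ p ∈ ({p0} : Finset X) := by rw [hp0]
    simpa [Finset.mem_filter] using h
  have hp0s := (hmem p0).mpr rfl
  refine ⟨p0, hp0s.1, hp0s.2, fun p hp hne' hfix' => hne' ((hmem p).mp ⟨hp, hfix'⟩), ?_⟩
  intro p hp p' hp' hpne hp'ne
  have hmv : ∀ q (hq : q ∈ s), q ≠ p0 → σ ⟨q, hq⟩ ≠ ⟨q, hq⟩ := by
    intro q hq hq0 h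
    apply hq0
    apply (hmem q).mp
    refine ⟨hq, ?_⟩
    have := congrArg Subtype.val h
    simpa [hσ] using this
  obtain ⟨i, hi⟩ := hcyc.exists_pow_eq (hmv p hp hpne) (hmv p' hp' hp'ne)
  refine ⟨i, ?_⟩
  have := congrArg Subtype.val hi
  simpa [hσ, Equiv.Perm.subtypePerm_pow] using this

end perm

end Cfsg.Agent.Lib.Helper99.M12Out
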