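import Mathlib

set_option autoImplicit false

namespace Cfsg.Agent.Lib.Helper99.BergerAR

/-- the `p`-part of a number not divisible by `p^2`... helper: `p`-part of a product where `p`
does not divide the second factor. -/
theorem ordProj_mul_le_left (p a b : ℕ) (_hp : p.Prime) (ha : a ≠ 0) (hb : b ≠ 0) (hpb : ¬ p ∣ b) :
    p ^ ((a * b).factorization p) ≤ a := by
  rw [Nat.factorization_mul ha hb]
  simp only [Finsupp.coe_add, Pi.add_apply]
  rw [Nat.factorization_eq_zero_of_not_dvd hpb, add_zero]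
  exact Nat.ordProj_le p ha

theorem ordProj_mul_le_right (p a b : ℕ) (hp : p.Prime) (ha : a ≠ 0) (hb : b ≠ 0) (hpa : ¬ p ∣ a) :
    p ^ ((a * b).factorization p) ≤ b := by
  rw [mul_comm]
  exact ordProj_mul_le_left p b a hp hb ha hpa

/-- [AR] -/
theorem ar_bound (p r : ℕ) (hp : p.Prime) (hr : r.Prime) (hpr : p ≠ r) (q f : ℕ) (hf : 0 < f)
    (hq : q = p ^ f) (hrq : r ∣ q - 1) (t : ℕ) :
    p ^ ((r ^ (2 * (t + 1)) - 1).factorization p) ≤ q ^ (r ^ t * (r - 1)) := by
  have hr2 : 2 ≤ r := hr.two_le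
  have hp2 : 2 ≤ p := hp.two_le
  have hq2 : 2 ≤ q := by
    rw [hq]
    calc 2 ≤ p := hp2
      _ = p ^ 1 := (pow_one p).symm
      _ ≤ p ^ f := Nat.pow_le_pow_right (by omega) hf
  have hqr : r + 1 ≤ q := by
    have := Nat.le_of_dvd (by omega) hrq
    omega
  have hrt : 1 ≤ r ^ t := Nat.one_le_pow _ _ (by omega)
  have hrk2 : 2 ≤ r ^ (t + 1) := by
    rw [pow_succ]
    calc 2 = 1 * 2 := by norm_num
      _ ≤ r ^ t * r := Nat.mul_le_mul hrt hr2
  have hB : r ^ (t + 1) + 1 ≤ q ^ (t + 1) := by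
    calc r ^ (t + 1) + 1 ≤ r ^ t * r + r ^ t := by rw [pow_succ]; omega
      _ = r ^ t * (r + 1) := by ring
      _ ≤ (r + 1) ^ t * (r + 1) := Nat.mul_le_mul_right _ (Nat.pow_le_pow_left (by omega) t)
      _ = (r + 1) ^ (t + 1) := by rw [pow_succ]
      _ ≤ q ^ (t + 1) := Nat.pow_le_pow_left hqr _
  have hfac : r ^ (2 * (t + 1)) - 1 = (r ^ (t + 1) - 1) * (r ^ (t + 1) + 1) := by
    have h1 : r ^ (2 * (t + 1)) = r ^ (t + 1) * r ^ (t + 1) := by ring
    rw [h1]
    obtain ⟨m, hm⟩ : ∃ m, r ^ (t + 1) = m + 1 := ⟨r ^ (t + 1) - 1, by omega⟩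
    rw [hm]
    simp only [Nat.add_sub_cancel]
    have : (m + 1) * (m + 1) = m * (m + 1 + 1) + 1 := by ring
    rw [this, Nat.add_sub_cancel]
  have hA0 : r ^ (t + 1) - 1 ≠ 0 := by omega
  have hB0 : r ^ (t + 1) + 1 ≠ 0 := by omega
  -- `t + 1 ≤ r ^ t * (r - 1)` and, for `r ≥ 3`, `t + 2 ≤ r ^ t * (r - 1)`
  have hbern : ∀ s : ℕ, s + 1 ≤ r ^ s := by
    intro s
    induction s with
    | zero => simp
    | succ s ih =>
      rw [pow_succ]
      calc s + 1 + 1 ≤ (s + 1) * 2 := by omega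
        _ ≤ r ^ s * r := Nat.mul_le_mul ih hr2
  rw [hfac]
  by_cases hp2' : p = 2
  · -- `p = 2`, `r` odd
    subst hp2'
    have hr3 : 3 ≤ r := by
      rcases hr.eq_two_or_odd with h | h
      · exact absurd h.symm hpr
      · omega
    have hrodd : r % 2 = 1 := by
      rcases hr.eq_two_or_odd with h | h
      · exact absurd h.symm hpr
      · exact h
    have hrkodd : r ^ (t + 1) % 2 = 1 := by
      rw [Nat.pow_mod, hrodd]; simp
    have hexp : t + 2 ≤ r ^ t * (r - 1) := by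
      calc t + 2 ≤ (t + 1) * 2 := by omega
        _ ≤ r ^ t * (r - 1) := Nat.mul_le_mul (hbern t) (by omega)
    have key : 2 ^ (((r ^ (t + 1) - 1) * (r ^ (t + 1) + 1)).factorization 2) ≤
        2 * (r ^ (t + 1) + 1) := by
      rw [Nat.factorization_mul hA0 hB0]
      simp only [Finsupp.coe_add, Pi.add_apply]
      rw [pow_add]
      -- one of the two is `≡ 2 mod 4`
      have h4 : r ^ (t + 1) % 4 = 1 ∨ r ^ (t + 1) % 4 = 3 := by omega
      have small : ∀ n : ℕ, n % 4 = 2 → 2 ^ (n.factorization 2) ≤ 2 := by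
        intro n hn
        by_contra hcon
        push Not at hcon
        have h2 : 2 ≤ n.factorization 2 := by
          by_contra h'
          push Not at h'
          have : 2 ^ (n.factorization 2) ≤ 2 ^ 1 := Nat.pow_le_pow_right (by norm_num) (by omega)
          omega
        have hd : 2 ^ 2 ∣ n := (pow_dvd_pow 2 h2).trans (Nat.ordProj_dvd n 2)
        omega
      rcases h4 with h4 | h4
      · -- `r^k + 1 ≡ 2 mod 4`
        have h1 := small (r ^ (t + 1) + 1) (by omega)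
        have h2 := Nat.ordProj_le 2 hA0
        calc 2 ^ ((r ^ (t + 1) - 1).factorization 2) * 2 ^ ((r ^ (t + 1) + 1).factorization 2)
            ≤ (r ^ (t + 1) - 1) * 2 := Nat.mul_le_mul h2 h1
          _ ≤ 2 * (r ^ (t + 1) + 1) := by omega
      · have h1 := small (r ^ (t + 1) - 1) (by omega)
        have h2 := Nat.ordProj_le 2 hB0
        exact Nat.mul_le_mul h1 h2
    calc 2 ^ (((r ^ (t + 1) - 1) * (r ^ (t + 1) + 1)).factorization 2)
        ≤ 2 * (r ^ (t + 1) + 1) := key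
      _ ≤ q * q ^ (t + 1) := Nat.mul_le_mul hq2 hB
      _ = q ^ (t + 2) := by ring
      _ ≤ q ^ (r ^ t * (r - 1)) := Nat.pow_le_pow_right (by omega) hexp
  · -- `p` odd: `p` divides at most one of the factors
    have hp3 : 3 ≤ p := by omega
    have hexp : t + 1 ≤ r ^ t * (r - 1) := by
      calc t + 1 = (t + 1) * 1 := by ring
        _ ≤ r ^ t * (r - 1) := Nat.mul_le_mul (hbern t) (by omega)
    have key : p ^ (((r ^ (t + 1) - 1) * (r ^ (t + 1) + 1)).factorization p) ≤
        r ^ (t + 1) + 1 := by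
      by_cases hpB : p ∣ r ^ (t + 1) + 1
      · have hpA : ¬ p ∣ r ^ (t + 1) - 1 := by
          intro hpA
          have h2 : p ∣ (r ^ (t + 1) + 1) - (r ^ (t + 1) - 1) := Nat.dvd_sub hpB hpA
          have h3 : (r ^ (t + 1) + 1) - (r ^ (t + 1) - 1) = 2 := by omega
          rw [h3] at h2
          have := Nat.le_of_dvd (by norm_num) h2
          omega
        exact ordProj_mul_le_right p _ _ hp hA0 hB0 hpA
      · exact (ordProj_mul_le_left p _ _ hp hA0 hB0 hpB).trans (by omega)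
    calc p ^ (((r ^ (t + 1) - 1) * (r ^ (t + 1) + 1)).factorization p)
        ≤ r ^ (t + 1) + 1 := key
      _ ≤ q ^ (t + 1) := hB
      _ ≤ q ^ (r ^ t * (r - 1)) := Nat.pow_le_pow_right (by omega) hexp

end Cfsg.Agent.Lib.Helper99.BergerAR
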