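import Mathlib

set_option autoImplicit false

namespace Cfsg.Agent.Lib.Helper99.BergerSP

universe u

open scoped commutatorElement

section Comm

variable {E : Type u} [Group E]

theorem comm_mul_right (hcl : ∀ a b : E, ⁅a, b⁆ ∈ Subgroup.center E) (a b c : E) :
    ⁅a, b * c⁆ = ⁅a, b⁆ * ⁅a, c⁆ := by
  have h : b⁻¹ * ⁅a, c⁆ = ⁅a, c⁆ * b⁻¹ := Subgroup.mem_center_iff.1 (hcl a c) b⁻¹
  have e1 : ⁅a, b * c⁆ = a * b * a⁻¹ * (⁅a, c⁆ * b⁻¹) := by
    simp only [commutatorElement_def]; group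
  rw [e1, ← h]
  simp only [commutatorElement_def]; group

/-- `g ↦ ⁅u, g⁆` as a homomorphism into the center. -/
def cR (hcl : ∀ a b : E, ⁅a, b⁆ ∈ Subgroup.center E) (u : E) : E →* Subgroup.center E where
  toFun g := ⟨⁅u, g⁆, hcl u g⟩
  map_one' := Subtype.ext (by simp)
  map_mul' b c := Subtype.ext (comm_mul_right hcl u b c)

theorem cR_coe (hcl : ∀ a b : E, ⁅a, b⁆ ∈ Subgroup.center E) (u g : E) :
    ((cR hcl u g : Subgroup.center E) : E) = ⁅u, g⁆ := rfl

theorem comm_pow_right (hcl : ∀ a b : E, ⁅a, b⁆ ∈ Subgroup.center E) (u g : E) (k : ℕ) :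
    ⁅u, g ^ k⁆ = ⁅u, g⁆ ^ k := by
  have := congrArg Subtype.val (map_pow (cR hcl u) g k)
  exact this.trans (Subgroup.coe_pow _ _ _)

theorem comm_zpow_right (hcl : ∀ a b : E, ⁅a, b⁆ ∈ Subgroup.center E) (u g : E) (k : ℤ) :
    ⁅u, g ^ k⁆ = ⁅u, g⁆ ^ k := by
  have := congrArg Subtype.val (map_zpow (cR hcl u) g k)
  exact this.trans (Subgroup.coe_zpow _ _ _)

theorem comm_pow_left (hcl : ∀ a b : E, ⁅a, b⁆ ∈ Subgroup.center E) (u g : E) (k : ℕ) :
    ⁅u ^ k, g⁆ = ⁅u, g⁆ ^ k := by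
  rw [← commutatorElement_inv g (u ^ k), comm_pow_right hcl, ← inv_pow, commutatorElement_inv]

theorem comm_mul_left (hcl : ∀ a b : E, ⁅a, b⁆ ∈ Subgroup.center E) (a b c : E) :
    ⁅a * b, c⁆ = ⁅a, c⁆ * ⁅b, c⁆ := by
  rw [← commutatorElement_inv c (a * b), comm_mul_right hcl, mul_inv_rev, commutatorElement_inv,
    commutatorElement_inv]
  exact (Subgroup.mem_center_iff.1 (hcl a c) _)

theorem comm_of_mem_center_right {u z : E} (hz : z ∈ Subgroup.center E) : ⁅u, z⁆ = 1 := by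
  rw [commutatorElement_eq_one_iff_commute]
  exact (Subgroup.mem_center_iff.1 hz u)

theorem comm_of_mem_center_left {u z : E} (hz : z ∈ Subgroup.center E) : ⁅z, u⁆ = 1 := by
  rw [commutatorElement_eq_one_iff_commute]
  exact (Subgroup.mem_center_iff.1 hz u).symm

/-- an element outside the center has a nontrivial commutator -/
theorem exists_comm_ne_one {u : E} (hu : u ∉ Subgroup.center E) : ∃ g : E, ⁅u, g⁆ ≠ 1 := by
  by_contra hcon
  push Not at hcon
  apply hu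
  rw [Subgroup.mem_center_iff]
  intro g
  have := hcon g
  rw [commutatorElement_eq_one_iff_commute] at this
  exact this.eq.symm

/-- coprime exponent extraction from the squarefree hypothesis -/
theorem exists_coprime_pow (hsq : ∀ a : E, ∃ s : ℕ, Squarefree s ∧ a ^ s ∈ Subgroup.center E)
    {r : ℕ} (hr : r.Prime) (g : E) :
    ∃ s' : ℕ, Nat.Coprime s' r ∧ (g ^ s') ^ r ∈ Subgroup.center E := by
  obtain ⟨s, hs, hgs⟩ := hsq g
  by_cases hrs : r ∣ s
  · obtain ⟨s', rfl⟩ := hrs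
    rw [Nat.squarefree_mul_iff] at hs
    refine ⟨s', hs.1.symm, ?_⟩
    rw [← pow_mul, mul_comm]
    exact hgs
  · refine ⟨s, ((Nat.Prime.coprime_iff_not_dvd hr).2 hrs).symm, ?_⟩
    exact Subgroup.pow_mem _ hgs r

end Comm

section Count

/-- a finite `p`-group acting on a finite set whose size is not divisible by `p ^ (v+1)` has a
point stabilizer of index at most `p ^ v`. -/
theorem exists_stab_card_le {G : Type*} {α : Type*} [Group G] [Finite G] [MulAction G α]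
    [Finite α] (p : ℕ) [hp : Fact p.Prime] (hG : IsPGroup p G) (v : ℕ)
    (hv : ¬ p ^ (v + 1) ∣ Nat.card α) :
    ∃ a : α, Nat.card G ≤ p ^ v * Nat.card (MulAction.stabilizer G a) := by
  classical
  by_contra hcon
  push Not at hcon
  apply hv
  haveI := Fintype.ofFinite (MulAction.orbitRel.Quotient G α)
  rw [Nat.card_congr (MulAction.selfEquivSigmaOrbits G α), Nat.card_sigma]
  apply Finset.dvd_sum
  intro ω _
  have h1 : (MulAction.stabilizer G ω.out).index = Nat.card (MulAction.orbit G ω.out) := by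
    rw [MulAction.index_stabilizer, Nat.card_coe_set_eq]
  have h2 := Subgroup.card_mul_index (MulAction.stabilizer G ω.out)
  obtain ⟨n, hn⟩ := IsPGroup.iff_card.1 hG
  have hidx : (MulAction.stabilizer G ω.out).index ∣ p ^ n := by
    rw [← hn]; exact Subgroup.index_dvd_card _
  obtain ⟨k, hk, hidxk⟩ := (Nat.dvd_prime_pow hp.out).1 hidx
  rw [← h1, hidxk]
  apply pow_dvd_pow
  by_contra hlt
  push Not at hlt
  have h3 := hcon ω.out
  rw [← h2, hidxk] at h3
  have h4 : p ^ k ≤ p ^ v := Nat.pow_le_pow_right hp.out.pos (by omega)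
  have h5 : Nat.card (MulAction.stabilizer G ω.out) * p ^ k ≤
      p ^ v * Nat.card (MulAction.stabilizer G ω.out) := by
    rw [mul_comm]; exact Nat.mul_le_mul_right _ h4
  omega

/-- fibers of a homomorphism over points of the range have the size of the kernel -/
theorem card_fiber {G H : Type*} [Group G] [Group H] (f : G →* H) (g₀ : G) :
    Nat.card {g : G // f g = f g₀} = Nat.card f.ker := by
  apply Nat.card_congr
  exact
    { toFun := fun g => ⟨g₀⁻¹ * g.1, by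
        rw [MonoidHom.mem_ker, map_mul, map_inv, g.2, inv_mul_cancel]⟩
      invFun := fun k => ⟨g₀ * k.1, by rw [map_mul, (MonoidHom.mem_ker).1 k.2, mul_one]⟩
      left_inv := fun g => Subtype.ext (by simp)
      right_inv := fun k => Subtype.ext (by simp) }

end Count

section Struct

variable {E : Type u} [Group E] [Finite E]

/-- the preimage `W` of the Sylow `r`-subgroup of `E / Z(E)`. -/
theorem exists_W (hcl : ∀ a b : E, ⁅a, b⁆ ∈ Subgroup.center E)
    (hsq : ∀ a : E, ∃ s : ℕ, Squarefree s ∧ a ^ s ∈ Subgroup.center E)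
    (hne : Subgroup.center E ≠ ⊤) :
    ∃ (r : ℕ) (W : Subgroup E), r.Prime ∧
      Subgroup.center E ≤ W ∧
      0 < (Subgroup.center E).index.factorization r ∧
      Nat.card W =
        Nat.card (Subgroup.center E) * r ^ ((Subgroup.center E).index.factorization r) ∧
      (∀ u : E, u ∈ W ↔ u ^ r ∈ Subgroup.center E) := by
  classical
  set Z := Subgroup.center E with hZ
  have hidx : Z.index ≠ 1 := by rwa [Ne, Subgroup.index_eq_one]
  obtain ⟨r, hr, hrdvd⟩ := Nat.exists_prime_and_dvd hidx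
  haveI : Fact r.Prime := ⟨hr⟩
  have hidx0 : Z.index ≠ 0 := Subgroup.index_ne_zero_of_finite
  have hm : 0 < Z.index.factorization r := hr.factorization_pos_of_dvd hidx0 hrdvd
  let π : E →* E ⧸ Z := QuotientGroup.mk' Z
  have hπ : Function.Surjective π := QuotientGroup.mk'_surjective Z
  have hπ1 : ∀ g : E, π g = 1 ↔ g ∈ Z := fun g => QuotientGroup.eq_one_iff g
  have hcomm : ∀ a b : E ⧸ Z, a * b = b * a := by
    intro a b
    obtain ⟨a, rfl⟩ := hπ a
    obtain ⟨b, rfl⟩ := hπ b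
    rw [← map_mul, ← map_mul]
    apply (QuotientGroup.eq).2
    have : (a * b)⁻¹ * (b * a) = ⁅b⁻¹, a⁻¹⁆ := by
      simp only [commutatorElement_def]; group
    rw [this]; exact hcl _ _
  let S : Sylow r (E ⧸ Z) := default
  have hSn : (S : Subgroup (E ⧸ Z)).Normal :=
    ⟨fun n hn g => by rw [hcomm g n, mul_inv_cancel_right]; exact hn⟩
  haveI : Subsingleton (Sylow r (E ⧸ Z)) := (Sylow.unique_of_normal S hSn).instSubsingleton
  have hScard : Nat.card S = r ^ Z.index.factorization r := by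
    rw [S.card_eq_multiplicity, Subgroup.index_eq_card]
  refine ⟨r, (S : Subgroup (E ⧸ Z)).comap π, hr, ?_, hm, ?_, ?_⟩
  · intro z hz
    rw [Subgroup.mem_comap, (hπ1 z).2 hz]
    exact Subgroup.one_mem _
  · have h1 : ((S : Subgroup (E ⧸ Z)).comap π).index = (S : Subgroup (E ⧸ Z)).index :=
      Subgroup.index_comap_of_surjective _ hπ
    have h2 := Subgroup.card_mul_index ((S : Subgroup (E ⧸ Z)).comap π)
    have h3 := Subgroup.card_mul_index (S : Subgroup (E ⧸ Z))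
    have h4 := Subgroup.card_mul_index Z
    rw [Subgroup.index_eq_card Z] at h4
    have hpos : 0 < (S : Subgroup (E ⧸ Z)).index :=
      Nat.pos_of_ne_zero Subgroup.index_ne_zero_of_finite
    apply Nat.eq_of_mul_eq_mul_right hpos
    calc Nat.card ((S : Subgroup (E ⧸ Z)).comap π) * (S : Subgroup (E ⧸ Z)).index
        = Nat.card E := by rw [← h1]; exact h2
      _ = Nat.card Z * Nat.card (E ⧸ Z) := h4.symm
      _ = Nat.card Z * (Nat.card S * (S : Subgroup (E ⧸ Z)).index) := by rw [h3]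
      _ = Nat.card Z * r ^ Z.index.factorization r * (S : Subgroup (E ⧸ Z)).index := by
          rw [hScard]; ring
  · intro u
    rw [Subgroup.mem_comap]
    constructor
    · intro hu
      obtain ⟨s', hs', hus⟩ := exists_coprime_pow hsq hr u
      obtain ⟨k, hk⟩ := (S.isPGroup' : IsPGroup r S) ⟨π u, hu⟩
      have hk' : (π u) ^ (r ^ k) = 1 := by simpa using congrArg Subtype.val hk
      have h1 : ((π u) ^ r) ^ s' = 1 := by
        rw [← pow_mul, mul_comm, pow_mul, ← map_pow, ← map_pow]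
        exact (hπ1 _).2 hus
      have h2 : ((π u) ^ r) ^ (r ^ k) = 1 := by
        rw [← pow_mul, mul_comm, pow_mul, hk', one_pow]
      have h3 : orderOf ((π u) ^ r) ∣ Nat.gcd s' (r ^ k) :=
        Nat.dvd_gcd (orderOf_dvd_of_pow_eq_one h1) (orderOf_dvd_of_pow_eq_one h2)
      have h4 : Nat.gcd s' (r ^ k) = 1 := Nat.Coprime.pow_right k hs'
      rw [h4, Nat.dvd_one, orderOf_eq_one_iff, ← map_pow] at h3
      exact (hπ1 _).1 h3
    · intro hu
      have hx : (π u) ^ r = 1 := by rw [← map_pow]; exact (hπ1 _).2 hu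
      have hp : IsPGroup r (Subgroup.zpowers (π u)) := by
        rintro ⟨y, hy⟩
        refine ⟨1, ?_⟩
        obtain ⟨k, rfl⟩ := Subgroup.mem_zpowers_iff.1 hy
        apply Subtype.ext
        simp only [pow_one, Subgroup.coe_pow, Subgroup.coe_one]
        rw [← zpow_natCast, ← zpow_mul, mul_comm, zpow_mul, zpow_natCast, hx, one_zpow]
      obtain ⟨S', hS'⟩ := hp.exists_le_sylow
      rw [Subsingleton.elim S' S] at hS'
      exact hS' (Subgroup.mem_zpowers _)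

/-- in a cyclic group, the solutions of `z ^ r = 1` are the powers of any element of order `r`. -/
theorem mem_zpowers_of_pow_eq_one {Z : Type u} [Group Z] [Finite Z] [IsCyclic Z] {r : ℕ}
    (hr : 0 < r) (z₀ z : Z) (h0 : orderOf z₀ = r) (hz : z ^ r = 1) : z ∈ Subgroup.zpowers z₀ := by
  classical
  haveI := Fintype.ofFinite Z
  have hle : ({a : Z | a ^ r = 1} : Set Z).ncard ≤ r := by
    have := IsCyclic.card_pow_eq_one_le (α := Z) hr
    rw [Set.ncard_eq_toFinset_card']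
    simpa using this
  have hsub : (Subgroup.zpowers z₀ : Set Z) ⊆ {a : Z | a ^ r = 1} := by
    intro y hy
    obtain ⟨k, rfl⟩ := Subgroup.mem_zpowers_iff.1 hy
    show (z₀ ^ k) ^ r = 1
    rw [← zpow_natCast, ← zpow_mul, mul_comm, zpow_mul, zpow_natCast, ← h0, pow_orderOf_eq_one,
      one_zpow]
  have hcard : (Subgroup.zpowers z₀ : Set Z).ncard = r := by
    rw [← h0, ← Nat.card_zpowers]; rfl
  have := Set.eq_of_subset_of_ncard_le hsub (by rw [hcard]; exact hle)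
  have hz' : z ∈ ({a : Z | a ^ r = 1} : Set Z) := hz
  rw [← this] at hz'
  exact hz'

theorem exists_z0 (hcyc : IsCyclic (Subgroup.center E))
    (hcl : ∀ a b : E, ⁅a, b⁆ ∈ Subgroup.center E)
    (hsq : ∀ a : E, ∃ s : ℕ, Squarefree s ∧ a ^ s ∈ Subgroup.center E)
    (r : ℕ) (W : Subgroup E) (hr : r.Prime) (hZW : Subgroup.center E ≤ W) (m : ℕ) (hm : 0 < m)
    (hcard : Nat.card W = Nat.card (Subgroup.center E) * r ^ m)
    (hW : ∀ u : E, u ∈ W ↔ u ^ r ∈ Subgroup.center E) :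
    ∃ z₀ : E, z₀ ∈ Subgroup.center E ∧ orderOf z₀ = r ∧
      (∀ z ∈ Subgroup.center E, z ^ r = 1 → z ∈ Subgroup.zpowers z₀) ∧
      (∀ u ∈ W, u ∉ Subgroup.center E → ∃ w ∈ W, ⁅u, w⁆ = z₀) := by
  classical
  haveI : Fact r.Prime := ⟨hr⟩
  -- an element of `W` outside the center
  obtain ⟨u₀, hu₀W, hu₀Z⟩ : ∃ u₀ ∈ W, u₀ ∉ Subgroup.center E := by
    by_contra hcon
    push Not at hcon
    have hWZ : W = Subgroup.center E := le_antisymm hcon hZW
    rw [hWZ] at hcard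
    have hpos : 0 < Nat.card (Subgroup.center E) := Nat.card_pos
    have h1 : r ^ m = 1 := by
      have : Nat.card (Subgroup.center E) * 1 = Nat.card (Subgroup.center E) * r ^ m := by
        rw [mul_one]; exact hcard
      exact (Nat.eq_of_mul_eq_mul_left hpos this).symm
    have h2 : 2 ≤ r ^ m := by
      calc 2 ≤ r := hr.two_le
        _ = r ^ 1 := (pow_one r).symm
        _ ≤ r ^ m := Nat.pow_le_pow_right hr.pos hm
    omega
  obtain ⟨g₀, hg₀⟩ := exists_comm_ne_one hu₀Z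
  have hz₀r : ⁅u₀, g₀⁆ ^ r = 1 := by
    rw [← comm_pow_left hcl]
    exact comm_of_mem_center_left ((hW u₀).1 hu₀W)
  have hord : orderOf ⁅u₀, g₀⁆ = r := orderOf_eq_prime hz₀r hg₀
  have hcycl : ∀ z ∈ Subgroup.center E, z ^ r = 1 → z ∈ Subgroup.zpowers ⁅u₀, g₀⁆ := by
    intro z hz hzr
    have := mem_zpowers_of_pow_eq_one (Z := Subgroup.center E) hr.pos ⟨⁅u₀, g₀⁆, hcl _ _⟩ ⟨z, hz⟩
      (by rw [← hord]; exact Subgroup.orderOf_mk _ _) (Subtype.ext (by simpa using hzr))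
    obtain ⟨k, hk⟩ := Subgroup.mem_zpowers_iff.1 this
    refine Subgroup.mem_zpowers_iff.2 ⟨k, ?_⟩
    have := congrArg Subtype.val hk
    simpa using this
  refine ⟨⁅u₀, g₀⁆, hcl _ _, hord, hcycl, ?_⟩
  intro u huW huZ
  obtain ⟨g, hg⟩ := exists_comm_ne_one huZ
  have hcr : ⁅u, g⁆ ^ r = 1 := by
    rw [← comm_pow_left hcl]
    exact comm_of_mem_center_left ((hW u).1 huW)
  obtain ⟨s', hs', hgs⟩ := exists_coprime_pow hsq hr g
  have hg'W : g ^ s' ∈ W := (hW _).2 hgs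
  have hc' : ⁅u, g ^ s'⁆ = ⁅u, g⁆ ^ s' := comm_pow_right hcl u g s'
  have hc'ne : ⁅u, g ^ s'⁆ ≠ 1 := by
    rw [hc']
    intro h1
    have h3 : orderOf ⁅u, g⁆ ∣ Nat.gcd s' r :=
      Nat.dvd_gcd (orderOf_dvd_of_pow_eq_one h1) (orderOf_dvd_of_pow_eq_one hcr)
    rw [hs', Nat.dvd_one, orderOf_eq_one_iff] at h3
    exact hg h3
  have hc'r : ⁅u, g ^ s'⁆ ^ r = 1 := by
    rw [hc', ← pow_mul, mul_comm, pow_mul, hcr, one_pow]
  have hc'mem : ⁅u, g ^ s'⁆ ∈ Subgroup.zpowers ⁅u₀, g₀⁆ := hcycl _ (hcl _ _) hc'r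
  -- in the group `zpowers z₀` of prime order, `c'` is a generator
  have hcardz : Nat.card (Subgroup.zpowers ⁅u₀, g₀⁆) = r := by rw [Nat.card_zpowers, hord]
  have hgen := zpowers_eq_top_of_prime_card hcardz
    (g := (⟨⁅u, g ^ s'⁆, hc'mem⟩ : Subgroup.zpowers ⁅u₀, g₀⁆))
    (by intro h; exact hc'ne (congrArg Subtype.val h))
  have hmem : (⟨⁅u₀, g₀⁆, Subgroup.mem_zpowers _⟩ : Subgroup.zpowers ⁅u₀, g₀⁆) ∈
      Subgroup.zpowers (⟨⁅u, g ^ s'⁆, hc'mem⟩ : Subgroup.zpowers ⁅u₀, g₀⁆) := by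
    rw [hgen]; exact Subgroup.mem_top _
  obtain ⟨k, hk⟩ := Subgroup.mem_zpowers_iff.1 hmem
  have hk' : ⁅u, g ^ s'⁆ ^ k = ⁅u₀, g₀⁆ := by
    have := congrArg Subtype.val hk
    simpa using this
  refine ⟨(g ^ s') ^ k, Subgroup.zpow_mem _ hg'W k, ?_⟩
  rw [comm_zpow_right hcl, hk']

/-- the fibre of `w ↦ ⁅u, w⁆` on `W` over `z₀` has `|W| / r` elements. -/
theorem card_fiber_mul (hcl : ∀ a b : E, ⁅a, b⁆ ∈ Subgroup.center E)
    (r : ℕ) (W : Subgroup E) (hW : ∀ u : E, u ∈ W ↔ u ^ r ∈ Subgroup.center E)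
    (z₀ : E) (hz₀ : z₀ ∈ Subgroup.center E) (hord : orderOf z₀ = r)
    (hcycl : ∀ z ∈ Subgroup.center E, z ^ r = 1 → z ∈ Subgroup.zpowers z₀)
    (u : E) (huW : u ∈ W) (hex : ∃ w ∈ W, ⁅u, w⁆ = z₀) :
    Nat.card {w : E // w ∈ W ∧ ⁅u, w⁆ = z₀} * r = Nat.card W := by
  classical
  obtain ⟨w₀, hw₀W, hw₀⟩ := hex
  let f : W →* Subgroup.center E := (cR hcl u).comp W.subtype
  have hf : ∀ w : W, ((f w : Subgroup.center E) : E) = ⁅u, (w : E)⁆ := fun w => rfl
  have hfw₀ : f ⟨w₀, hw₀W⟩ = ⟨z₀, hz₀⟩ := Subtype.ext hw₀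
  -- the range of `f` is `zpowers z₀`
  have hrange : f.range = Subgroup.zpowers (⟨z₀, hz₀⟩ : Subgroup.center E) := by
    apply le_antisymm
    · rintro _ ⟨w, rfl⟩
      have h1 : ⁅u, (w : E)⁆ ^ r = 1 := by
        rw [← comm_pow_left hcl]
        exact comm_of_mem_center_left ((hW u).1 huW)
      obtain ⟨k, hk⟩ := Subgroup.mem_zpowers_iff.1 (hcycl _ (hcl _ _) h1)
      refine Subgroup.mem_zpowers_iff.2 ⟨k, Subtype.ext ?_⟩
      rw [Subgroup.coe_zpow, hf]
      exact hk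
    · rw [Subgroup.zpowers_le]
      exact ⟨⟨w₀, hw₀W⟩, hfw₀⟩
  have hcardrange : Nat.card f.range = r := by
    rw [hrange, Nat.card_zpowers, Subgroup.orderOf_mk, hord]
  have h1 : Nat.card {w : W // f w = f ⟨w₀, hw₀W⟩} = Nat.card f.ker := card_fiber f _
  have h2 : Nat.card {w : E // w ∈ W ∧ ⁅u, w⁆ = z₀} = Nat.card {w : W // f w = f ⟨w₀, hw₀W⟩} := by
    apply Nat.card_congr
    exact
      { toFun := fun x => ⟨⟨x.1, x.2.1⟩, by rw [hfw₀]; exact Subtype.ext x.2.2⟩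
        invFun := fun y => ⟨y.1.1, y.1.2, by
          have := congrArg Subtype.val (y.2.trans hfw₀)
          exact this⟩
        left_inv := fun x => rfl
        right_inv := fun y => rfl }
  rw [h2, h1, ← hcardrange, ← Subgroup.index_ker]
  exact Subgroup.card_mul_index f.ker

/-- the centralizer `E'` of a hyperbolic pair `u₁, w₁`. -/
theorem exists_E' (hcl : ∀ a b : E, ⁅a, b⁆ ∈ Subgroup.center E)
    (r : ℕ) (W : Subgroup E) (hW : ∀ u : E, u ∈ W ↔ u ^ r ∈ Subgroup.center E)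
    (z₀ : E) (hz₀ : z₀ ∈ Subgroup.center E) (hord : orderOf z₀ = r)
    (hcycl : ∀ z ∈ Subgroup.center E, z ^ r = 1 → z ∈ Subgroup.zpowers z₀)
    (u₁ w₁ : E) (hu₁ : u₁ ∈ W) (hw₁ : w₁ ∈ W) (huw : ⁅u₁, w₁⁆ = z₀) :
    ∃ E' : Subgroup E, (∀ g : E, g ∈ E' ↔ ⁅u₁, g⁆ = 1 ∧ ⁅w₁, g⁆ = 1) ∧
      Subgroup.center E ≤ E' ∧ E'.index = r ^ 2 ∧
      (∀ g : E, ∃ i j : ℤ, ∃ e ∈ E', g = w₁ ^ i * u₁ ^ j * e) := by
  classical
  let ψ : E →* Subgroup.center E × Subgroup.center E := (cR hcl u₁).prod (cR hcl w₁)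
  have hψ : ∀ g : E, ψ g = (cR hcl u₁ g, cR hcl w₁ g) := fun g => rfl
  have hψw : ψ w₁ = (⟨z₀, hz₀⟩, 1) := by
    rw [hψ]
    refine Prod.ext (Subtype.ext huw) (Subtype.ext ?_)
    show ⁅w₁, w₁⁆ = 1
    exact commutatorElement_self w₁
  have hψu : ψ u₁ = (1, (⟨z₀, hz₀⟩ : Subgroup.center E)⁻¹) := by
    rw [hψ]
    refine Prod.ext (Subtype.ext ?_) (Subtype.ext ?_)
    · show ⁅u₁, u₁⁆ = 1
      exact commutatorElement_self u₁
    · show ⁅w₁, u₁⁆ = z₀⁻¹
      rw [← huw, commutatorElement_inv]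
  have hin : ∀ (x : E), x ∈ W → ∀ g : E,
      cR hcl x g ∈ Subgroup.zpowers (⟨z₀, hz₀⟩ : Subgroup.center E) := by
    intro x hx g
    have h1 : ⁅x, g⁆ ^ r = 1 := by
      rw [← comm_pow_left hcl]
      exact comm_of_mem_center_left ((hW x).1 hx)
    obtain ⟨k, hk⟩ := Subgroup.mem_zpowers_iff.1 (hcycl _ (hcl _ _) h1)
    refine Subgroup.mem_zpowers_iff.2 ⟨k, Subtype.ext ?_⟩
    rw [Subgroup.coe_zpow]
    exact hk
  have hgen : ∀ i j : ℤ, ψ (w₁ ^ i * u₁ ^ j) =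
      ((⟨z₀, hz₀⟩ : Subgroup.center E) ^ i, (⟨z₀, hz₀⟩ : Subgroup.center E) ^ (-j)) := by
    intro i j
    rw [map_mul, map_zpow, map_zpow, hψw, hψu]
    refine Prod.ext ?_ ?_
    · simp
    · simp
  have hsurj : ∀ g : E, ∃ i j : ℤ, ψ g = ψ (w₁ ^ i * u₁ ^ j) := by
    intro g
    obtain ⟨i, hi⟩ := Subgroup.mem_zpowers_iff.1 (hin u₁ hu₁ g)
    obtain ⟨j, hj⟩ := Subgroup.mem_zpowers_iff.1 (hin w₁ hw₁ g)
    refine ⟨i, -j, ?_⟩
    rw [hgen, hψ, neg_neg, hi, hj]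
  have hmem : ∀ g : E, g ∈ ψ.ker ↔ ⁅u₁, g⁆ = 1 ∧ ⁅w₁, g⁆ = 1 := by
    intro g
    rw [MonoidHom.mem_ker, hψ, Prod.ext_iff]
    constructor
    · rintro ⟨h1, h2⟩
      exact ⟨congrArg Subtype.val h1, congrArg Subtype.val h2⟩
    · rintro ⟨h1, h2⟩
      exact ⟨Subtype.ext h1, Subtype.ext h2⟩
  refine ⟨ψ.ker, hmem, ?_, ?_, ?_⟩
  · intro z hz
    rw [hmem]
    exact ⟨comm_of_mem_center_right hz, comm_of_mem_center_right hz⟩
  · rw [Subgroup.index_ker]
    have hset : (ψ.range : Set (Subgroup.center E × Subgroup.center E)) =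
        (Subgroup.zpowers (⟨z₀, hz₀⟩ : Subgroup.center E) : Set (Subgroup.center E)) ×ˢ
          (Subgroup.zpowers (⟨z₀, hz₀⟩ : Subgroup.center E) : Set (Subgroup.center E)) := by
      ext ⟨a, b⟩
      simp only [SetLike.mem_coe, MonoidHom.mem_range, Set.mem_prod]
      constructor
      · rintro ⟨g, hg⟩
        rw [hψ, Prod.ext_iff] at hg
        have h1 : cR hcl u₁ g = a := hg.1
        have h2 : cR hcl w₁ g = b := hg.2
        exact ⟨h1 ▸ hin u₁ hu₁ g, h2 ▸ hin w₁ hw₁ g⟩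
      · rintro ⟨ha, hb⟩
        obtain ⟨i, rfl⟩ := Subgroup.mem_zpowers_iff.1 ha
        obtain ⟨j, rfl⟩ := Subgroup.mem_zpowers_iff.1 hb
        exact ⟨w₁ ^ i * u₁ ^ (-j), by rw [hgen, neg_neg]⟩
    have hcz : (Subgroup.zpowers (⟨z₀, hz₀⟩ : Subgroup.center E) : Set (Subgroup.center E)).ncard
        = r := by
      rw [← Nat.card_coe_set_eq]
      show Nat.card (Subgroup.zpowers (⟨z₀, hz₀⟩ : Subgroup.center E)) = r
      rw [Nat.card_zpowers, Subgroup.orderOf_mk, hord]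
    have hcoe : Nat.card ψ.range =
        (ψ.range : Set (Subgroup.center E × Subgroup.center E)).ncard :=
      Nat.card_coe_set_eq (ψ.range : Set (Subgroup.center E × Subgroup.center E))
    rw [hcoe, hset, Set.ncard_prod, hcz, sq]
  · intro g
    obtain ⟨i, j, hij⟩ := hsurj g
    refine ⟨i, j, (w₁ ^ i * u₁ ^ j)⁻¹ * g, ?_, by group⟩
    rw [MonoidHom.mem_ker, map_mul, map_inv, hij, inv_mul_cancel]

end Struct

section Main

/-- the action of `P` (through `φ`) on a `φ`-invariant subset of `E`. -/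
@[reducible] def actSet {P E : Type*} [Group P] [Group E] (φ : P →* MulAut E) (s : Set E)
    (hs : ∀ x : P, ∀ u ∈ s, φ x u ∈ s) : MulAction P s where
  smul x u := ⟨φ x u.1, hs x u.1 u.2⟩
  one_smul u := Subtype.ext (by show φ 1 u.1 = u.1; rw [map_one]; rfl)
  mul_smul x y u := Subtype.ext (by show φ (x * y) u.1 = φ x (φ y u.1); rw [map_mul]; rfl)

/-- [SP-STEP] -/
theorem sp_step (p : ℕ) [Fact p.Prime] {E : Type u} [Group E] [Finite E] {P : Type u} [Group P]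
    [Finite P] (φ : P →* MulAut E) (hcyc : IsCyclic (Subgroup.center E))
    (hcop : (Nat.card (Subgroup.center E)).Coprime p)
    (hcl : ∀ a b : E, ⁅a, b⁆ ∈ Subgroup.center E)
    (hsq : ∀ a : E, ∃ s : ℕ, Squarefree s ∧ a ^ s ∈ Subgroup.center E)
    (hP : IsPGroup p P) (hφ : Function.Injective φ)
    (hfix : ∀ x : P, ∀ z ∈ Subgroup.center E, φ x z = z) (hne : Subgroup.center E ≠ ⊤) :
    ∃ (r : ℕ) (E' : Subgroup E) (P' : Subgroup P), r.Prime ∧ r ∣ Nat.card (Subgroup.center E) ∧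
      Subgroup.center E ≤ E' ∧ E'.index = r ^ 2 ∧
      (∀ y ∈ E', (∀ g ∈ E', y * g = g * y) → y ∈ Subgroup.center E) ∧
      (∀ x ∈ P', ∀ g ∈ E', φ x g ∈ E') ∧
      (∀ x ∈ P', (∀ g ∈ E', φ x g = g) → x = 1) ∧
      Nat.card P ≤
        p ^ ((r ^ ((Subgroup.center E).index.factorization r) - 1).factorization p) *
          Nat.card P' := by
  classical
  have hp : p.Prime := Fact.out
  obtain ⟨r, W, hr, hZW, hm, hcardW, hW⟩ := exists_W hcl hsq hne
  obtain ⟨z₀, hz₀, hord, hcycl, hex⟩ := exists_z0 hcyc hcl hsq r W hr hZW _ hm hcardW hW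
  set m := (Subgroup.center E).index.factorization r with hmdef
  have hrZ : r ∣ Nat.card (Subgroup.center E) := by
    have := orderOf_dvd_natCard (⟨z₀, hz₀⟩ : Subgroup.center E)
    rwa [Subgroup.orderOf_mk, hord] at this
  have hpZ : ¬ p ∣ Nat.card (Subgroup.center E) := (Nat.Prime.coprime_iff_not_dvd hp).1 hcop.symm
  have hrp : r ≠ p := by
    rintro rfl
    exact hpZ hrZ
  have hrm2 : 2 ≤ r ^ m := by
    calc 2 ≤ r := hr.two_le
      _ = r ^ 1 := (pow_one r).symm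
      _ ≤ r ^ m := Nat.pow_le_pow_right hr.pos hm
  -- invariance under `φ`
  have hφW : ∀ x : P, ∀ u : E, u ∈ W → φ x u ∈ W := by
    intro x u hu
    rw [hW] at hu ⊢
    rw [← map_pow, hfix x _ hu]; exact hu
  have hφZ : ∀ x : P, ∀ u : E, φ x u ∈ Subgroup.center E → u ∈ Subgroup.center E := by
    intro x u hu
    have h1 : φ x⁻¹ (φ x u) = u := by rw [map_inv]; exact MulAut.inv_apply_self _ _ _
    rw [← h1, hfix x⁻¹ _ hu]; exact hu
  -- Step A : the action on `W \ Z`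
  have hsA : ∀ x : P, ∀ u ∈ ({u | u ∈ W ∧ u ∉ Subgroup.center E} : Set E),
      φ x u ∈ ({u | u ∈ W ∧ u ∉ Subgroup.center E} : Set E) :=
    fun x u hu => ⟨hφW x u hu.1, fun h => hu.2 (hφZ x u h)⟩
  letI actA := actSet φ ({u | u ∈ W ∧ u ∉ Subgroup.center E} : Set E) hsA
  have hcardA : Nat.card ({u | u ∈ W ∧ u ∉ Subgroup.center E} : Set E) =
      Nat.card (Subgroup.center E) * (r ^ m - 1) := by
    rw [Nat.card_coe_set_eq]
    have h1 : ({u | u ∈ W ∧ u ∉ Subgroup.center E} : Set E) =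
        (W : Set E) \ (Subgroup.center E : Set E) := rfl
    rw [h1, Set.ncard_sdiff (by exact_mod_cast hZW)]
    have h2 : (W : Set E).ncard = Nat.card W := (Nat.card_coe_set_eq (W : Set E)).symm
    have h3 : ((Subgroup.center E : Subgroup E) : Set E).ncard = Nat.card (Subgroup.center E) :=
      (Nat.card_coe_set_eq ((Subgroup.center E : Subgroup E) : Set E)).symm
    rw [h2, h3, hcardW, Nat.mul_sub_one]
  have hR0 : r ^ m - 1 ≠ 0 := by omega
  have hv : ¬ p ^ ((r ^ m - 1).factorization p + 1) ∣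
      Nat.card ({u | u ∈ W ∧ u ∉ Subgroup.center E} : Set E) := by
    rw [hcardA]
    intro h
    have h1 : p ^ ((r ^ m - 1).factorization p + 1) ∣ r ^ m - 1 :=
      Nat.Coprime.dvd_of_dvd_mul_left (Nat.Coprime.pow_left _ hcop.symm) h
    exact Nat.pow_succ_factorization_not_dvd hR0 hp h1
  obtain ⟨a, ha⟩ := exists_stab_card_le (G := P)
    (α := ({u | u ∈ W ∧ u ∉ Subgroup.center E} : Set E)) p hP _ hv
  have hP'fix : ∀ x ∈ MulAction.stabilizer P a, φ x a.1 = a.1 := fun x hx =>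
    congrArg Subtype.val (MulAction.mem_stabilizer_iff.1 hx)
  -- Step B : the stabilizer acts on the fibre
  have hsB : ∀ x : MulAction.stabilizer P a, ∀ w ∈ ({w | w ∈ W ∧ ⁅a.1, w⁆ = z₀} : Set E),
      (φ.comp (MulAction.stabilizer P a).subtype) x w ∈ ({w | w ∈ W ∧ ⁅a.1, w⁆ = z₀} : Set E) := by
    intro x w hw
    refine ⟨hφW _ _ hw.1, ?_⟩
    show ⁅a.1, φ x.1 w⁆ = z₀
    calc ⁅a.1, φ x.1 w⁆ = ⁅φ x.1 a.1, φ x.1 w⁆ := by rw [hP'fix x.1 x.2]
      _ = φ x.1 ⁅a.1, w⁆ := (map_commutatorElement _ _ _).symm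
      _ = φ x.1 z₀ := by rw [hw.2]
      _ = z₀ := hfix _ _ hz₀
  letI actB := actSet (φ.comp (MulAction.stabilizer P a).subtype)
    ({w | w ∈ W ∧ ⁅a.1, w⁆ = z₀} : Set E) hsB
  have hcardB : Nat.card ({w | w ∈ W ∧ ⁅a.1, w⁆ = z₀} : Set E) * r = Nat.card W :=
    card_fiber_mul hcl r W hW z₀ hz₀ hord hcycl a.1 a.2.1 (hex a.1 a.2.1 a.2.2)
  have hpB : ¬ p ∣ Nat.card ({w | w ∈ W ∧ ⁅a.1, w⁆ = z₀} : Set E) := by
    intro h
    have h1 : p ∣ Nat.card W := by rw [← hcardB]; exact dvd_mul_of_dvd_left h r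
    rw [hcardW] at h1
    rcases (Nat.Prime.dvd_mul hp).1 h1 with h2 | h2
    · exact hpZ h2
    · exact hrp ((Nat.prime_dvd_prime_iff_eq hp hr).1 (hp.dvd_of_dvd_pow h2)).symm
  obtain ⟨b, hb⟩ := (hP.to_subgroup (MulAction.stabilizer P a)).nonempty_fixed_point_of_prime_not_dvd_card
    ({w | w ∈ W ∧ ⁅a.1, w⁆ = z₀} : Set E) hpB
  have hP'fixw : ∀ x ∈ MulAction.stabilizer P a, φ x b.1 = b.1 := fun x hx =>
    congrArg Subtype.val (hb ⟨x, hx⟩)
  obtain ⟨E', hE'mem, hZE', hidx, hgenE⟩ :=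
    exists_E' hcl r W hW z₀ hz₀ hord hcycl a.1 b.1 a.2.1 b.2.1 b.2.2
  refine ⟨r, E', MulAction.stabilizer P a, hr, hrZ, hZE', hidx, ?_, ?_, ?_, ha⟩
  · intro y hy hcomm
    rw [Subgroup.mem_center_iff]
    intro g
    obtain ⟨i, j, e, he, rfl⟩ := hgenE g
    have hyu : Commute y a.1 :=
      (commutatorElement_eq_one_iff_commute.1 ((hE'mem y).1 hy).1).symm
    have hyw : Commute y b.1 :=
      (commutatorElement_eq_one_iff_commute.1 ((hE'mem y).1 hy).2).symm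
    have hye : Commute y e := hcomm e he
    exact ((((hyw.zpow_right i).mul_right (hyu.zpow_right j)).mul_right hye).eq).symm
  · intro x hx g hg
    rw [hE'mem] at hg ⊢
    constructor
    · calc ⁅a.1, φ x g⁆ = ⁅φ x a.1, φ x g⁆ := by rw [hP'fix x hx]
        _ = φ x ⁅a.1, g⁆ := (map_commutatorElement _ _ _).symm
        _ = 1 := by rw [hg.1, map_one]
    · calc ⁅b.1, φ x g⁆ = ⁅φ x b.1, φ x g⁆ := by rw [hP'fixw x hx]
        _ = φ x ⁅b.1, g⁆ := (map_commutatorElement _ _ _).symm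
        _ = 1 := by rw [hg.2, map_one]
  · intro x hx htriv
    apply hφ
    rw [map_one]
    ext g
    obtain ⟨i, j, e, he, rfl⟩ := hgenE g
    rw [map_mul, map_mul, map_zpow, map_zpow, hP'fix x hx, hP'fixw x hx, htriv e he]
    rfl

end Main

end Cfsg.Agent.Lib.Helper99.BergerSP
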