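import Mathlib

set_option autoImplicit false

namespace Cfsg.Agent.Lib.Helper99

open Equiv

/-- a prime dividing the lcm of a multiset divides one of its members -/
lemma exists_mem_dvd_of_prime_dvd_lcm {p : ℕ} (hp : p.Prime) (m : Multiset ℕ) (h : p ∣ m.lcm) :
    ∃ a ∈ m, p ∣ a := by
  induction m using Multiset.induction_on with
  | empty =>
    simp only [Multiset.lcm_zero, Nat.dvd_one] at h
    exact absurd h hp.ne_one
  | cons a s ih =>
    rw [Multiset.lcm_cons] at h
    have h2 : p ∣ a * s.lcm := h.trans (Nat.lcm_dvd_mul a s.lcm)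
    rcases (Nat.Prime.dvd_mul hp).mp h2 with h3 | h3
    · exact ⟨a, Multiset.mem_cons_self a s, h3⟩
    · obtain ⟨b, hb, hpb⟩ := ih h3
      exact ⟨b, Multiset.mem_cons_of_mem hb, hpb⟩

/-- `S_n` has no element of order `p r` when `p + r > n` (`p ≠ r` primes). -/
lemma orderOf_perm_ne_mul {n p r : ℕ} (hp : p.Prime) (hr : r.Prime) (hpr : p ≠ r) (h : n < p + r)
    (σ : Perm (Fin n)) : orderOf σ ≠ p * r := by
  intro hσ
  have hlcm := Equiv.Perm.lcm_cycleType σ
  rw [hσ] at hlcm
  obtain ⟨a, ha, hpa⟩ := exists_mem_dvd_of_prime_dvd_lcm hp σ.cycleType (hlcm ▸ Dvd.intro r rfl)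
  obtain ⟨b, hb, hrb⟩ := exists_mem_dvd_of_prime_dvd_lcm hr σ.cycleType (hlcm ▸ Dvd.intro_left p rfl)
  have hsum : σ.cycleType.sum ≤ n := by
    have := Equiv.Perm.sum_cycleType_le σ
    simpa using this
  have ha0 : 0 < a := by have := Equiv.Perm.two_le_of_mem_cycleType ha; omega
  have hb0 : 0 < b := by have := Equiv.Perm.two_le_of_mem_cycleType hb; omega
  have hpa' : p ≤ a := Nat.le_of_dvd ha0 hpa
  have hrb' : r ≤ b := Nat.le_of_dvd hb0 hrb
  obtain ⟨t, ht⟩ := Multiset.exists_cons_of_mem ha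
  by_cases hab : a = b
  · subst hab
    have hcop : Nat.Coprime p r := (Nat.coprime_primes hp hr).mpr hpr
    have hdvd : p * r ∣ a := hcop.mul_dvd_of_dvd_of_dvd hpa hrb
    have hle : p * r ≤ a := Nat.le_of_dvd ha0 hdvd
    have hale : a ≤ σ.cycleType.sum := Multiset.single_le_sum (fun _ _ => Nat.zero_le _) a ha
    have h2p := hp.two_le
    have h2r := hr.two_le
    nlinarith
  · rw [ht, Multiset.mem_cons] at hb
    rcases hb with hb | hb
    · exact hab hb.symm
    · obtain ⟨t', ht'⟩ := Multiset.exists_cons_of_mem hb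
      rw [ht, ht', Multiset.sum_cons, Multiset.sum_cons] at hsum
      omega

/-- an element of prime order `r'` normalizing a group of prime order `p` with `r' ∤ p - 1`
centralizes it -/
lemma commute_of_conj_mem_zpowers {G : Type*} [Group G] {x y : G} {p r : ℕ} (hp : p.Prime)
    (hx : orderOf x = p) (hy : y ^ r = 1) (hnorm : y * x * y⁻¹ ∈ Subgroup.zpowers x)
    (hrp : Nat.Coprime r (p - 1)) : Commute x y := by
  have : Fact p.Prime := ⟨hp⟩
  have hfin : IsOfFinOrder x := by
    rw [← orderOf_pos_iff, hx]; exact hp.pos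
  rw [← hfin.mem_powers_iff_mem_zpowers] at hnorm
  obtain ⟨k, hk⟩ := hnorm
  have hk' : y * x * y⁻¹ = x ^ k := hk.symm
  -- conjugation by y^i
  have hiter : ∀ i : ℕ, y ^ i * x * (y ^ i)⁻¹ = x ^ (k ^ i) := by
    intro i
    induction i with
    | zero => simp
    | succ i ih =>
      have h1 : y ^ (i + 1) * x * (y ^ (i + 1))⁻¹ = y * (y ^ i * x * (y ^ i)⁻¹) * y⁻¹ := by
        rw [pow_succ']
        group
      rw [h1, ih]
      have h2 : y * x ^ (k ^ i) * y⁻¹ = (y * x * y⁻¹) ^ (k ^ i) := by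
        rw [conj_pow]
      rw [h2, hk', ← pow_mul, pow_succ']
  have h3 := hiter r
  rw [hy] at h3
  simp only [one_mul, inv_one, mul_one] at h3
  -- x^1 = x^(k^r)
  have h4 : x ^ 1 = x ^ (k ^ r) := by rw [pow_one]; exact h3
  rw [pow_eq_pow_iff_modEq, hx] at h4
  have h5 : ((k : ZMod p)) ^ r = 1 := by
    have := (ZMod.natCast_eq_natCast_iff _ _ _).mpr h4
    push_cast at this
    exact this.symm
  have hk0 : (k : ZMod p) ≠ 0 := by
    intro h0
    rw [ZMod.natCast_eq_zero_iff] at h0
    have hxk : x ^ k = 1 := by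
      rw [← hx] at h0
      exact orderOf_dvd_iff_pow_eq_one.mp h0
    rw [hxk] at hk'
    have hx1 : x = 1 := by
      have : x = y⁻¹ * (y * x * y⁻¹) * y := by group
      rw [this, hk']; group
    rw [hx1, orderOf_one] at hx
    exact hp.ne_one hx.symm
  have h6 : (k : ZMod p) ^ (p - 1) = 1 := ZMod.pow_card_sub_one_eq_one hk0
  have h7 : orderOf (k : ZMod p) ∣ Nat.gcd r (p - 1) :=
    Nat.dvd_gcd (orderOf_dvd_of_pow_eq_one h5) (orderOf_dvd_of_pow_eq_one h6)
  rw [hrp.gcd_eq_one, Nat.dvd_one, orderOf_eq_one_iff] at h7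
  have h8 : k ≡ 1 [MOD p] := by
    rw [← ZMod.natCast_eq_natCast_iff]
    simpa using h7
  have h9 : x ^ k = x ^ 1 := by
    rw [pow_eq_pow_iff_modEq, hx]
    exact h8
  rw [pow_one] at h9
  rw [h9] at hk'
  show x * y = y * x
  calc x * y = (y * x * y⁻¹) * y := by rw [hk']
    _ = y * x := by group

/-- Frattini-argument lemma -/
lemma exists_orderOf_eq_mul_of_normal {G : Type*} [Group G] [Finite G] (K : Subgroup G) [K.Normal]
    {s t : ℕ} (hs : s.Prime) (ht : t.Prime) (hst : s ≠ t)
    (hsK : s ∣ Nat.card K) (hs2 : ¬ s ^ 2 ∣ Nat.card K) (htK : ¬ t ∣ Nat.card K)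
    (htG : t ∣ Nat.card G) (hts : ¬ t ∣ s - 1) : ∃ g : G, orderOf g = s * t := by
  have : Fact s.Prime := ⟨hs⟩
  have : Fact t.Prime := ⟨ht⟩
  obtain S : Sylow s K := default
  have hScard : Nat.card (S : Subgroup K) = s := by
    rw [Sylow.card_eq_multiplicity]
    have h1 : (Nat.card K).factorization s = 1 := by
      have hK0 : Nat.card K ≠ 0 := Nat.card_pos.ne'
      have hge : 1 ≤ (Nat.card K).factorization s :=
        (hs.dvd_iff_one_le_factorization hK0).mp hsK
      have hlt : ¬ 2 ≤ (Nat.card K).factorization s := by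
        intro h2
        exact hs2 ((hs.pow_dvd_iff_le_factorization hK0).mpr h2)
      omega
    rw [h1, pow_one]
  set P : Subgroup G := (S : Subgroup K).map K.subtype with hP
  have hPcard : Nat.card P = s := by
    rw [hP, Subgroup.card_map_of_injective K.subtype_injective, hScard]
  have hsup : Subgroup.normalizer (P : Set G) ⊔ K = ⊤ := Sylow.normalizer_sup_eq_top S
  set M : Subgroup G := Subgroup.normalizer (P : Set G) with hM
  -- surjection M → G ⧸ K
  let f : M →* G ⧸ K := (QuotientGroup.mk' K).comp M.subtype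
  have hf : Function.Surjective f := by
    intro q
    obtain ⟨g, rfl⟩ := QuotientGroup.mk'_surjective K q
    have hg : g ∈ ((M ⊔ K : Subgroup G) : Set G) := by rw [hsup]; trivial
    rw [Subgroup.mul_normal] at hg
    obtain ⟨m, hm, k, hk, rfl⟩ := Set.mem_mul.mp hg
    refine ⟨⟨m, hm⟩, ?_⟩
    simp only [f, MonoidHom.comp_apply, Subgroup.coe_subtype, QuotientGroup.mk'_apply]
    rw [QuotientGroup.eq]
    simpa using hk
  have hdvd : Nat.card (G ⧸ K) ∣ Nat.card M := Subgroup.card_dvd_of_surjective f hf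
  have htidx : t ∣ Nat.card (G ⧸ K) := by
    rw [← Subgroup.index_eq_card]
    have h1 := Subgroup.card_mul_index K
    rw [← h1] at htG
    exact ((Nat.Prime.dvd_mul ht).mp htG).resolve_left htK
  have htM : t ∣ Nat.card M := htidx.trans hdvd
  obtain ⟨y, hy⟩ := exists_prime_orderOf_dvd_card' t htM
  obtain ⟨x, hx⟩ := exists_prime_orderOf_dvd_card' s (hPcard ▸ dvd_refl s : s ∣ Nat.card P)
  have hx1 : x ≠ 1 := by
    rintro rfl
    rw [orderOf_one] at hx
    exact hs.ne_one hx.symm
  have hxG : orderOf (x : G) = s := by rw [Subgroup.orderOf_coe, hx]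
  have hyG : orderOf (y : G) = t := by rw [Subgroup.orderOf_coe, hy]
  have hnorm : (y : G) * (x : G) * (y : G)⁻¹ ∈ Subgroup.zpowers (x : G) := by
    have hmem : (y : G) * (x : G) * (y : G)⁻¹ ∈ P :=
      (Subgroup.mem_normalizer_iff.mp y.2 (x : G)).mp x.2
    have h2 : (⟨_, hmem⟩ : P) ∈ Subgroup.zpowers x := mem_zpowers_of_prime_card hPcard hx1
    obtain ⟨k, hk⟩ := Subgroup.mem_zpowers_iff.mp h2
    refine Subgroup.mem_zpowers_iff.mpr ⟨k, ?_⟩
    have := congrArg (Subtype.val) hk
    simpa using this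
  have hcomm : Commute (x : G) (y : G) :=
    commute_of_conj_mem_zpowers hs hxG (by rw [← hyG]; exact pow_orderOf_eq_one _) hnorm
      ((Nat.Prime.coprime_iff_not_dvd ht).mpr hts)
  refine ⟨(x : G) * (y : G), ?_⟩
  rw [hcomm.orderOf_mul_eq_mul_orderOf_of_coprime, hxG, hyG]
  rw [hxG, hyG]
  exact (Nat.coprime_primes hs ht).mpr hst


/-- in a group of order `p^a r` whose Sylow `r`-subgroup is forced normal by counting,
there is an element of order `r p` provided `p ∤ r - 1` -/
lemma exists_orderOf_eq_mul_of_card {H : Type*} [Group H] [Finite H] {p r a : ℕ} (hp : p.Prime)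
    (hr : r.Prime) (hpr : p ≠ r) (hcard : Nat.card H = p ^ a * r) (ha : 0 < a)
    (hdiv : ∀ d, d ∣ p ^ a → d % r = 1 → d = 1) (hpr1 : ¬ p ∣ r - 1) :
    ∃ g : H, orderOf g = r * p := by
  have : Fact r.Prime := ⟨hr⟩
  obtain P : Sylow r H := default
  have hrp : ¬ r ∣ p ^ a := by
    intro h
    exact hpr ((Nat.prime_dvd_prime_iff_eq hr hp).mp (hr.dvd_of_dvd_pow h)).symm
  have hPcard : Nat.card (P : Subgroup H) = r := by
    rw [Sylow.card_eq_multiplicity, hcard,
      Nat.factorization_mul (pow_ne_zero _ hp.ne_zero) hr.ne_zero]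
    simp only [Finsupp.coe_add, Pi.add_apply]
    rw [Nat.factorization_eq_zero_of_not_dvd hrp, hr.factorization_self, zero_add, pow_one]
  have hidx : (P : Subgroup H).index = p ^ a := by
    have h1 := Subgroup.card_mul_index (P : Subgroup H)
    rw [hPcard, hcard, mul_comm] at h1
    exact Nat.eq_of_mul_eq_mul_right hr.pos h1
  have hone : Nat.card (Sylow r H) = 1 := by
    apply hdiv
    · rw [← hidx]; exact Sylow.card_dvd_index P
    · have := card_sylow_modEq_one r H
      rw [Nat.ModEq, Nat.mod_eq_of_lt hr.one_lt] at this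
      exact this
  have : Subsingleton (Sylow r H) := (Nat.card_eq_one_iff_unique.mp hone).1
  have hnorm : (P : Subgroup H).Normal := Sylow.normal_of_subsingleton P
  refine exists_orderOf_eq_mul_of_normal (P : Subgroup H) hr hp hpr.symm ?_ ?_ ?_ ?_ hpr1
  · rw [hPcard]
  · rw [hPcard]
    intro h
    have := Nat.le_of_dvd hr.pos h
    have h2 := hr.two_le
    nlinarith
  · rw [hPcard]
    intro h
    exact hpr ((Nat.prime_dvd_prime_iff_eq hp hr).mp h)
  · rw [hcard]
    exact Dvd.dvd.mul_right (dvd_pow_self p ha.ne') r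


end Cfsg.Agent.Lib.Helper99
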