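import Mathlib
import Cfsg.Agent.Lib.Helper99.AltSpectrum

set_option autoImplicit false

namespace Cfsg.Agent.Lib.Helper99

open Nat

lemma two_mul_card_alt (n : ℕ) (hn : 2 ≤ n) :
    2 * Nat.card (alternatingGroup (Fin n)) = n ! := by
  have : Nontrivial (Fin n) := Fin.nontrivial_iff_two_le.mpr hn
  rw [two_mul_nat_card_alternatingGroup, Nat.card_perm, Nat.card_fin]

lemma prime_dvd_card_alt {n q : ℕ} (hq : q.Prime) (hq2 : q ≠ 2) (hqn : q ≤ n) :
    q ∣ Nat.card (alternatingGroup (Fin n)) := by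
  have h2n : 2 ≤ n := hq.two_le.trans hqn
  have h1 : q ∣ 2 * Nat.card (alternatingGroup (Fin n)) := by
    rw [two_mul_card_alt n h2n]
    exact hq.dvd_factorial.mpr hqn
  rcases (Nat.Prime.dvd_mul hq).mp h1 with h | h
  · exact absurd ((Nat.prime_dvd_prime_iff_eq hq Nat.prime_two).mp h) hq2
  · exact h

lemma prime_sq_not_dvd_factorial {n q : ℕ} (hq : q.Prime) (hqn : q ≤ n) (hn2q : n < 2 * q) :
    ¬ q ^ 2 ∣ n ! := by
  have : Fact q.Prime := ⟨hq⟩
  rw [padicValNat_dvd_iff_le (Nat.factorial_ne_zero n)]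
  have hlog : Nat.log q n < 2 := by
    apply Nat.log_lt_of_lt_pow (by have := hq.pos; omega)
    have := hq.two_le
    nlinarith
  rw [padicValNat_factorial hlog]
  have : Finset.Ico 1 2 = {1} := by decide
  rw [this, Finset.sum_singleton, pow_one]
  have : n / q = 1 := by
    apply Nat.div_eq_of_lt_le
    · simpa using hqn
    · simpa [two_mul, Nat.succ_mul] using hn2q
  omega

lemma prime_sq_not_dvd_card_alt {n q : ℕ} (hq : q.Prime) (hqn : q ≤ n) (hn2q : n < 2 * q) :
    ¬ q ^ 2 ∣ Nat.card (alternatingGroup (Fin n)) := by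
  intro h
  have h2n : 2 ≤ n := hq.two_le.trans hqn
  apply prime_sq_not_dvd_factorial hq hqn hn2q
  rw [← two_mul_card_alt n h2n]
  exact Dvd.dvd.mul_left h 2

/-- A group with the spectrum of `A_n` has no element of order `p r` when `n < p + r`. -/
lemma orderOf_ne_mul_of_spec {G : Type*} [Group G] {n p r : ℕ}
    (hspec : Set.range (orderOf : G → ℕ) =
      Set.range (orderOf : ↥(alternatingGroup (Fin n)) → ℕ))
    (hp : p.Prime) (hr : r.Prime) (hpr : p ≠ r) (h : n < p + r) (g : G) :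
    orderOf g ≠ p * r := by
  intro hg
  have hmem : orderOf g ∈ Set.range (orderOf : ↥(alternatingGroup (Fin n)) → ℕ) := by
    rw [← hspec]; exact ⟨g, rfl⟩
  obtain ⟨σ, hσ⟩ := hmem
  have : orderOf (σ : Equiv.Perm (Fin n)) = p * r := by
    rw [Subgroup.orderOf_coe, hσ, hg]
  exact orderOf_perm_ne_mul hp hr hpr h _ this

/-- two distinct odd primes in `(n/2, n]`: neither divides the other minus one -/
lemma not_dvd_sub_one_of_half {n q q' : ℕ} (hq : q.Prime) (hq' : q'.Prime)
    (hq2 : q ≠ 2) (hq'2 : q' ≠ 2) (hnq : n < 2 * q) (hq'n : q' ≤ n) : ¬ q ∣ q' - 1 := by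
  rintro ⟨k, hk⟩
  have hqodd : q % 2 = 1 := hq.eq_two_or_odd.resolve_left hq2
  have hq'odd : q' % 2 = 1 := hq'.eq_two_or_odd.resolve_left hq'2
  have hq'2le := hq'.two_le
  rcases Nat.lt_or_ge k 2 with hk2 | hk2
  · interval_cases k
    · omega
    · omega
  · have : 2 * q ≤ q * k := by nlinarith
    omega

end Cfsg.Agent.Lib.Helper99
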