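import Mathlib
import Cfsg.Agent.S2119
import Cfsg.Agent.Lib.Helper99.AltOrder

set_option autoImplicit false

namespace Cfsg.Agent.Lib.Helper99

open Equiv Equiv.Perm


/-- a finite group whose order divides a prime is commutative -/
lemma mul_comm_of_card_dvd_prime {K : Type*} [Group K] [Finite K] {r : ℕ} (hr : r.Prime)
    (h : Nat.card K ∣ r) (a b : K) : a * b = b * a := by
  rcases (Nat.dvd_prime hr).mp h with h1 | h1
  · have : Subsingleton K := (Nat.card_eq_one_iff_unique.mp h1).1
    exact Subsingleton.elim _ _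
  · have : Fact r.Prime := ⟨hr⟩
    have : IsCyclic K := isCyclic_of_prime_card h1
    exact (IsCyclic.isMulCommutative (α := K)).is_comm.comm a b

/-- an `r`-subgroup of `S_n` with `n < r^2` is commutative -/
lemma comm_of_isPGroup_perm {n r : ℕ} (hr : r.Prime) (hn : n < r ^ 2)
    (S : Subgroup (Perm (Fin n))) (hS : IsPGroup r S) (x y : Perm (Fin n)) (hx : x ∈ S)
    (hy : y ∈ S) : x * y = y * x := by
  have : Fact r.Prime := ⟨hr⟩
  refine Equiv.ext fun a => ?_
  -- the orbit of a
  let O := MulAction.orbit S a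
  let φ : S →* Perm O := MulAction.toPermHom S O
  have hOcard : Nat.card O = 1 ∨ Nat.card O = r := by
    obtain ⟨k, hk⟩ := hS.card_orbit a
    have hle : Nat.card O ≤ n := by
      have := Nat.card_le_card_of_injective (Subtype.val : O → Fin n) Subtype.val_injective
      simpa using this
    have hk' : Nat.card O = r ^ k := hk
    rcases Nat.lt_or_ge k 2 with h2 | h2
    · interval_cases k
      · left; simpa using hk'
      · right; simpa using hk'
    · exfalso
      have : r ^ 2 ≤ r ^ k := Nat.pow_le_pow_right hr.pos h2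
      omega
  have hrange_pgroup : IsPGroup r φ.range :=
    hS.of_surjective φ.rangeRestrict φ.rangeRestrict_surjective
  obtain ⟨k, hk⟩ := IsPGroup.iff_card.mp hrange_pgroup
  have hdvd : Nat.card φ.range ∣ (Nat.card O).factorial := by
    rw [← Nat.card_perm]
    exact Subgroup.card_subgroup_dvd_card _
  have hcard_dvd : Nat.card φ.range ∣ r := by
    rw [hk] at hdvd ⊢
    rcases hOcard with h1 | h1
    · rw [h1, Nat.factorial_one, Nat.dvd_one] at hdvd
      rw [hdvd]; exact one_dvd _
    · rw [h1] at hdvd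
      rcases Nat.lt_or_ge k 2 with h2 | h2
      · interval_cases k
        · simp
        · simp
      · exfalso
        exact prime_sq_not_dvd_factorial hr le_rfl (by have := hr.pos; omega)
          ((pow_dvd_pow r h2).trans hdvd)
  have hcomm := mul_comm_of_card_dvd_prime hr hcard_dvd
    (⟨φ ⟨x, hx⟩, ⟨_, rfl⟩⟩ : φ.range) ⟨φ ⟨y, hy⟩, ⟨_, rfl⟩⟩
  have h1 : φ ⟨x, hx⟩ * φ ⟨y, hy⟩ = φ ⟨y, hy⟩ * φ ⟨x, hx⟩ := congrArg Subtype.val hcomm
  have h2 := congrArg (fun g : Perm O => g ⟨a, MulAction.mem_orbit_self a⟩) h1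
  exact congrArg Subtype.val h2


/-- `A_n` has an element of order `p q` for odd primes `p ≠ q` with `p + q ≤ n` -/
lemma exists_orderOf_alt_odd {n p q : ℕ} (hp : p.Prime) (hq : q.Prime) (hpq : p ≠ q)
    (hp2 : p ≠ 2) (hq2 : q ≠ 2) (h : p + q ≤ n) :
    ∃ σ : alternatingGroup (Fin n), orderOf σ = p * q := by
  obtain ⟨g, hg⟩ := (Equiv.Perm.exists_with_cycleType_iff (α := Fin n) (m := {p, q})).mpr
    ⟨by simpa using h, by
      intro a ha
      simp only [Multiset.insert_eq_cons, Multiset.mem_cons, Multiset.mem_singleton] at ha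
      rcases ha with rfl | rfl
      · exact hp.two_le
      · exact hq.two_le⟩
  have hsign : Perm.sign g = 1 := by
    rw [Perm.sign_of_cycleType, hg]
    have hpo : Odd p := hp.odd_of_ne_two hp2
    have hqo : Odd q := hq.odd_of_ne_two hq2
    have : Even (p + q + 2) := by
      have := hpo.add_odd hqo
      exact this.add (by decide)
    simpa using this.neg_one_pow
  refine ⟨⟨g, Perm.mem_alternatingGroup.mpr hsign⟩, ?_⟩
  rw [← Subgroup.orderOf_coe]
  show orderOf g = p * q
  rw [← Perm.lcm_cycleType, hg]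
  have hcop : Nat.Coprime p q := (Nat.coprime_primes hp hq).mpr hpq
  simp only [Multiset.insert_eq_cons, Multiset.lcm_cons, Multiset.lcm_singleton, normalize_eq,
    lcm_eq_nat_lcm]
  exact hcop.lcm_eq_mul

/-- `A_n` has an element of order `2 q` for an odd prime `q` with `q + 4 ≤ n` -/
lemma exists_orderOf_alt_two {n q : ℕ} (hq : q.Prime) (hq2 : q ≠ 2) (h : q + 4 ≤ n) :
    ∃ σ : alternatingGroup (Fin n), orderOf σ = 2 * q := by
  obtain ⟨g, hg⟩ := (Equiv.Perm.exists_with_cycleType_iff (α := Fin n) (m := {2, 2, q})).mpr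
    ⟨by simp; omega, by
      intro a ha
      simp only [Multiset.insert_eq_cons, Multiset.mem_cons, Multiset.mem_singleton] at ha
      rcases ha with rfl | rfl | rfl
      · exact le_rfl
      · exact le_rfl
      · exact hq.two_le⟩
  have hsign : Perm.sign g = 1 := by
    rw [Perm.sign_of_cycleType, hg]
    have hqo : Odd q := hq.odd_of_ne_two hq2
    have : Even (2 + (2 + q) + 3) := by
      obtain ⟨k, hk⟩ := hqo
      exact ⟨k + 4, by omega⟩
    simpa using this.neg_one_pow
  refine ⟨⟨g, Perm.mem_alternatingGroup.mpr hsign⟩, ?_⟩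
  rw [← Subgroup.orderOf_coe]
  show orderOf g = 2 * q
  rw [← Perm.lcm_cycleType, hg]
  have hcop : Nat.Coprime 2 q := (Nat.coprime_primes Nat.prime_two hq).mpr (Ne.symm hq2)
  simp only [Multiset.insert_eq_cons, Multiset.lcm_cons, Multiset.lcm_singleton, normalize_eq,
    lcm_eq_nat_lcm]
  rw [hcop.lcm_eq_mul]
  exact Nat.lcm_eq_right (Dvd.intro q rfl)

/-- conjugation `A_n → Aut(A_n)` is injective for `n ≥ 4` -/
lemma conj_alt_injective {n : ℕ} (hn : 4 ≤ n) :
    Function.Injective (MulAut.conj : alternatingGroup (Fin n) →* MulAut (alternatingGroup (Fin n))) := by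
  rw [injective_iff_map_eq_one]
  intro σ hσ
  have hc : σ ∈ Subgroup.center (alternatingGroup (Fin n)) := by
    rw [Subgroup.mem_center_iff]
    intro g
    have := congrArg (fun f : MulAut (alternatingGroup (Fin n)) => f g) hσ
    simp only [MulAut.conj_apply, MulAut.one_apply] at this
    calc g * σ = (σ * g * σ⁻¹) * σ := by rw [this]
      _ = σ * g := by group
  rw [alternatingGroup.center_eq_bot (by simpa using hn)] at hc
  exact Subgroup.mem_bot.mp hc


/-- an element of order 3 of `S_6` has cycle type `{3}` or `{3,3}` -/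
lemma cycleType_of_orderOf_three (g : Perm (Fin 6)) (h : orderOf g = 3) :
    g.cycleType = {3} ∨ g.cycleType = {3, 3} := by
  obtain ⟨k, hk⟩ := cycleType_prime_order (σ := g) (by rw [h]; norm_num)
  rw [h] at hk
  have hsum : g.cycleType.sum ≤ 6 := by
    have := Equiv.Perm.sum_cycleType_le g
    simpa using this
  rw [hk, Multiset.sum_replicate, smul_eq_mul] at hsum
  have hk1 : k = 0 ∨ k = 1 := by omega
  rcases hk1 with rfl | rfl
  · left; rw [hk]; rfl
  · right; rw [hk]; rfl

/-- two elements of `A_6` of cycle type `{3,3}` are conjugate in `A_6` -/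
lemma isConj_of_cycleType_three_three (d1 d2 : alternatingGroup (Fin 6))
    (h1 : (d1 : Perm (Fin 6)).cycleType = {3, 3}) (h2 : (d2 : Perm (Fin 6)).cycleType = {3, 3}) :
    IsConj d1 d2 := by
  have hc : IsConj (d1 : Perm (Fin 6)) (d2 : Perm (Fin 6)) :=
    isConj_iff_cycleType_eq.mpr (h1.trans h2.symm)
  obtain ⟨π, hπ⟩ := isConj_iff.mp hc
  rcases Int.units_eq_one_or (Perm.sign π) with hs | hs
  · rw [isConj_iff]
    exact ⟨⟨π, mem_alternatingGroup.mpr hs⟩, Subtype.ext hπ⟩
  · -- find an odd element of the centralizer of d1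
    have hnot : ¬ Subgroup.centralizer {(d1 : Perm (Fin 6))} ≤ alternatingGroup (Fin 6) := by
      rw [centralizer_le_alternating_iff]
      rintro ⟨-, -, h3⟩
      have := h3 3
      rw [h1] at this
      simp at this
    rw [SetLike.not_le_iff_exists] at hnot
    obtain ⟨τ, hτc, hτa⟩ := hnot
    have hτs : Perm.sign τ = -1 := by
      rcases Int.units_eq_one_or (Perm.sign τ) with h | h
      · exact absurd (mem_alternatingGroup.mpr h) hτa
      · exact h
    have hcomm : τ * (d1 : Perm (Fin 6)) = (d1 : Perm (Fin 6)) * τ := by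
      have := Subgroup.mem_centralizer_iff.mp hτc (d1 : Perm (Fin 6)) (Set.mem_singleton _)
      exact this.symm
    rw [isConj_iff]
    refine ⟨⟨π * τ, mem_alternatingGroup.mpr (by rw [map_mul, hs, hτs]; rfl)⟩, Subtype.ext ?_⟩
    show π * τ * (d1 : Perm (Fin 6)) * (π * τ)⁻¹ = d2
    rw [← hπ, mul_inv_rev]
    calc π * τ * ↑d1 * (τ⁻¹ * π⁻¹) = π * (τ * ↑d1) * τ⁻¹ * π⁻¹ := by group
      _ = π * (↑d1 * τ) * τ⁻¹ * π⁻¹ := by rw [hcomm]
      _ = π * ↑d1 * π⁻¹ := by group

/-- automorphisms preserve cycle types of conjugate elements -/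
lemma cycleType_map_of_isConj {n : ℕ} (f : alternatingGroup (Fin n) ≃* alternatingGroup (Fin n))
    {g h : alternatingGroup (Fin n)} (hc : IsConj g h) :
    ((f g : alternatingGroup (Fin n)) : Perm (Fin n)).cycleType =
      ((f h : alternatingGroup (Fin n)) : Perm (Fin n)).cycleType := by
  obtain ⟨c, hc⟩ := isConj_iff.mp hc
  apply isConj_iff_cycleType_eq.mp
  rw [isConj_iff]
  refine ⟨((f c : alternatingGroup (Fin n)) : Perm (Fin n)), ?_⟩
  rw [← hc]
  simp

lemma orderOf_map_coe {n : ℕ} (f : alternatingGroup (Fin n) ≃* alternatingGroup (Fin n))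
    (g : alternatingGroup (Fin n)) :
    orderOf ((f g : alternatingGroup (Fin n)) : Perm (Fin n)) = orderOf (g : Perm (Fin n)) := by
  rw [Subgroup.orderOf_coe, MulEquiv.orderOf_eq, Subgroup.orderOf_coe]

/-- the square of an automorphism of `A_6` preserves 3-cycles -/
lemma sq_preserves_threeCycle (f : alternatingGroup (Fin 6) ≃* alternatingGroup (Fin 6))
    (g : alternatingGroup (Fin 6)) (hg : IsThreeCycle (g : Perm (Fin 6))) :
    IsThreeCycle ((f (f g) : alternatingGroup (Fin 6)) : Perm (Fin 6)) := by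
  by_cases hP : ∀ g : alternatingGroup (Fin 6), IsThreeCycle (g : Perm (Fin 6)) →
      IsThreeCycle ((f g : alternatingGroup (Fin 6)) : Perm (Fin 6))
  · exact hP _ (hP _ hg)
  · push Not at hP
    obtain ⟨g0, hg0, hfg0⟩ := hP
    have h33 : ((f g0 : alternatingGroup (Fin 6)) : Perm (Fin 6)).cycleType = {3, 3} := by
      have ho : orderOf ((f g0 : alternatingGroup (Fin 6)) : Perm (Fin 6)) = 3 := by
        rw [orderOf_map_coe, hg0.orderOf]
      rcases cycleType_of_orderOf_three _ ho with h | h
      · exact absurd h hfg0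
      · exact h
    have claim1 : ∀ t : alternatingGroup (Fin 6), IsThreeCycle (t : Perm (Fin 6)) →
        ((f t : alternatingGroup (Fin 6)) : Perm (Fin 6)).cycleType = {3, 3} := by
      intro t ht
      rw [cycleType_map_of_isConj f (alternatingGroup.isThreeCycle_isConj (by simp) ht hg0), h33]
    have claim2 : ∀ d : alternatingGroup (Fin 6), (d : Perm (Fin 6)).cycleType = {3, 3} →
        IsThreeCycle ((f d : alternatingGroup (Fin 6)) : Perm (Fin 6)) := by
      intro d hd
      by_contra hnot
      have hfd : ((f d : alternatingGroup (Fin 6)) : Perm (Fin 6)).cycleType = {3, 3} := by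
        have ho : orderOf ((f d : alternatingGroup (Fin 6)) : Perm (Fin 6)) = 3 := by
          rw [orderOf_map_coe, ← lcm_cycleType, hd]; rfl
        rcases cycleType_of_orderOf_three _ ho with h | h
        · exact absurd h hnot
        · exact h
      -- then every element of order 3 maps to type {3,3}
      have hall : ∀ x : alternatingGroup (Fin 6), orderOf (x : Perm (Fin 6)) = 3 →
          ((f x : alternatingGroup (Fin 6)) : Perm (Fin 6)).cycleType = {3, 3} := by
        intro x hx
        rcases cycleType_of_orderOf_three _ hx with h | h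
        · exact claim1 x h
        · rw [cycleType_map_of_isConj f (isConj_of_cycleType_three_three x d h hd), hfd]
      have hx : orderOf ((f.symm g0 : alternatingGroup (Fin 6)) : Perm (Fin 6)) = 3 := by
        rw [orderOf_map_coe, hg0.orderOf]
      have := hall (f.symm g0) hx
      rw [MulEquiv.apply_symm_apply] at this
      have h3 : (g0 : Perm (Fin 6)).cycleType = {3} := hg0
      rw [h3] at this
      exact absurd this (by decide)
    exact claim2 _ (claim1 g hg)

/-- an automorphism of `A_6` of odd order preserves 3-cycles -/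
lemma preserves_threeCycle_of_odd (f : MulAut (alternatingGroup (Fin 6))) (hodd : Odd (orderOf f))
    (g : alternatingGroup (Fin 6)) (hg : IsThreeCycle (g : Perm (Fin 6))) :
    IsThreeCycle ((f g : alternatingGroup (Fin 6)) : Perm (Fin 6)) := by
  obtain ⟨j, hj⟩ := hodd
  have hpow : ∀ k : ℕ, ∀ g : alternatingGroup (Fin 6), IsThreeCycle (g : Perm (Fin 6)) →
      IsThreeCycle ((((f * f) ^ k) g : alternatingGroup (Fin 6)) : Perm (Fin 6)) := by
    intro k
    induction k with
    | zero => intro g hg; simpa using hg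
    | succ k ih =>
      intro g hg
      rw [pow_succ, MulAut.mul_apply]
      apply ih
      rw [MulAut.mul_apply]
      exact sq_preserves_threeCycle f g hg
  have hf : f = (f * f) ^ (j + 1) := by
    rw [← pow_two, ← pow_mul]
    have : 2 * (j + 1) = orderOf f + 1 := by omega
    rw [this, pow_succ, pow_orderOf_eq_one, one_mul]
  rw [hf]
  exact hpow _ g hg

/-- elements of odd prime power order of `Aut(A_n)` are induced by permutations -/
lemma mem_range_conjNormal_of_prime_pow {n : ℕ} (hn : 5 ≤ n) {r : ℕ} (hr : r.Prime) (hr2 : r ≠ 2)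
    (f : MulAut (alternatingGroup (Fin n))) (hf : ∃ k : ℕ, orderOf f = r ^ k) :
    f ∈ (MulAut.conjNormal : Perm (Fin n) →* MulAut (alternatingGroup (Fin n))).range := by
  by_cases h6 : n = 6
  · subst h6
    obtain ⟨k, hk⟩ := hf
    have hodd : Odd (orderOf f) := by
      rw [hk]; exact (hr.odd_of_ne_two hr2).pow
    obtain ⟨σ, hσ⟩ := Cfsg.Agent.S2119.exists_conj (α := Fin 6) f
      (fun g hg => preserves_threeCycle_of_odd f hodd g hg)
      (p := 0) (q := 1) (i0 := 2) (i1 := 3) (by decide) (by decide) (by decide) (by decide)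
      (by decide) (by decide)
    exact ⟨σ, MulEquiv.ext fun g => (hσ g).symm⟩
  · exact (Cfsg.Agent.S2119.result n (by omega) h6).2 f


end Cfsg.Agent.Lib.Helper99
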