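import Mathlib
import Cfsg.Prelude.Def_GeometricClasses
import Cfsg.Agent.Lib.Helper99.AschDefs
import Cfsg.Agent.Lib.Helper99.AschDefsR
import Cfsg.Agent.Lib.Helper99.AschRKit
import Cfsg.Agent.Lib.Helper93.AschExpr
import Cfsg.Agent.Lib.Helper70.AschRtwo
import Cfsg.Agent.Lib.Helper70.AschRodd
import Cfsg.Agent.Lib.Helper66.AschArith
import Cfsg.Agent.Lib.Helper93.AschTraces
import Cfsg.Agent.Lib.Helper83.AschDescent
import Cfsg.Agent.Lib.Helper49.AschNDesc
import Cfsg.Agent.Lib.Helper37.AschDualform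
import Cfsg.Agent.Lib.Helper37.AschC8R

/-!
# Project ASCH, Part II A: a minimal normalised subgroup with scalar commutators gives a geometric class
(classes 5, 6, 8), refined form.
-/

set_option autoImplicit false

namespace Cfsg.Agent.Lib.Helper99.AschR

open Cfsg Cfsg.Geo Cfsg.Agent.Lib.Helper99.Asch
open scoped MatrixGroups Matrix Kronecker

variable {n : ℕ} {F : Type*} [Field F] [Fintype F]

/-- a symplectic-type output whose scalars lie in a proper subfield: class 5 -/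
theorem geoR_of_sympOut_subfield (H R : Subgroup (GL (Fin n) F)) (r z : ℕ) (hR : SympOut H R r z)
    (F₀ : Subfield F) (hF₀ : F₀ ≠ ⊤) (hμ : ∀ c : F, c ^ z = 1 → c ∈ F₀) : GeoR H :=
  geo_of_realisable_R H R hR.absIrred hR.nrm F₀ hF₀
    (realisable_of_trace_mem R hR.absIrred F₀ (trace_mem_of_sympOut H R r z hR F₀ hμ))

/-- a symplectic-type output whose scalars have norm one for an involution: unitary class -/
theorem geoR_of_sympOut_involution (hn : 3 ≤ n) (H R : Subgroup (GL (Fin n) F)) (r z : ℕ)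
    (hR : SympOut H R r z) (σ : F ≃+* F) (hσ : σ ≠ RingEquiv.refl F) (hinv : ∀ a, σ (σ a) = a)
    (hz : ∀ c : F, c ^ z = 1 → σ c * c = 1) : GeoR H := by
  obtain ⟨f, hf, hfix⟩ := fixes_unitary_of_sympOut hn H R r z hR σ hσ hinv hz
  exact geo_of_fixes_unitary_R hn H R hR.absIrred hR.nrm σ f hf hfix

/-- Part II A -/
theorem partIIA_R (hn : 3 ≤ n) (H N : Subgroup (GL (Fin n) F)) (hNAI : NAI H)
    (hN : IsMinNrm H N) (hab : CommScalar N) : GeoR H := by
  obtain ⟨r, hr, hexp⟩ := exists_prime_exponent (by omega) H N hN hab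
  rcases hr.eq_two_or_odd' with h2 | hodd
  · subst h2
    obtain ⟨R, hR | hR⟩ := sympOut_two hn H N hNAI hN hab hexp
    · rcases fixes_bilinear_of_sympOut hn H R hR with ⟨f, hf, hfix⟩ | ⟨Q, hQ, hfix⟩
      · exact geo_of_fixes_symplectic_R hn H R hR.absIrred hR.nrm f hf hfix
      · exact geo_of_fixes_quadratic_R hn H R hR.absIrred hR.nrm Q hQ hfix
    · rcases field_cases_four (F := F) hR.dvd with ⟨F₀, hF₀, hμ⟩ | ⟨σ, hσ, hinv, hz⟩ | ⟨p, h2p, hmin⟩
      · exact geoR_of_sympOut_subfield H R 2 4 hR F₀ hF₀ hμ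
      · exact geoR_of_sympOut_involution hn H R 2 4 hR σ hσ hinv hz
      · exact geoR_of_sympOut_four hn H R hR p h2p hmin
  · obtain ⟨R, hR⟩ := sympOut_odd hn H N hNAI hN hab r hr hodd hexp
    rcases field_cases_odd (F := F) r hr hodd hR.dvd with
      ⟨F₀, hF₀, hμ⟩ | ⟨σ, hσ, hinv, hz⟩ | ⟨p, e, hrp, hmin, he⟩
    · exact geoR_of_sympOut_subfield H R r r hR F₀ hF₀ hμ
    · exact geoR_of_sympOut_involution hn H R r r hR σ hσ hinv hz
    · exact geoR_of_sympOut_odd hn H R r hR hodd p e hrp hmin he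

end Cfsg.Agent.Lib.Helper99.AschR
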