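import Mathlib
import Cfsg.Prelude.Def_GeometricClasses
import Cfsg.Agent.Lib.Helper99.AschDefs
import Cfsg.Agent.Lib.Helper99.AschDefsR
import Cfsg.Agent.Lib.Helper99.AschRKit
import Cfsg.Agent.Lib.Helper99.AschUtil4
import Cfsg.Agent.Lib.Helper99.AschPartB
import Cfsg.Agent.Lib.Helper66.AschSS
import Cfsg.Agent.Lib.Helper80.AschIsoR
import Cfsg.Agent.Lib.Helper51.AschField
import Cfsg.Agent.Lib.Helper47.AschKronNormFinal
import Cfsg.Agent.Lib.Helper25.AschC4

/-!
# Project ASCH, Part I: an irreducible subgroup is in a geometric class (2, 3, 4, 7, 8) or every subgroup it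
normalises is scalar or absolutely irreducible; refined form, with the statement of ASCH-[NF] as hypothesis.
-/

set_option autoImplicit false

namespace Cfsg.Agent.Lib.Helper99.AschR

open Cfsg Cfsg.Geo Cfsg.Agent.Lib.Helper99.Asch Cfsg.Agent.Lib.Helper99.AschUtil
open scoped MatrixGroups Matrix Kronecker

variable {n : ℕ} {F : Type*} [Field F] [Fintype F]

/-- Part I -/
theorem partI_R_of (hNF : NFStmt F) (hn : 3 ≤ n) (H : Subgroup (GL (Fin n) F))
    (hirr : ActsIrreducibly (matrixSet H)) : GeoR H ∨ NAI H := by
  by_cases hG : GeoR H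
  · exact Or.inl hG
  right
  intro N hnrm
  have hss := semisimple_of_normalized H N hirr hnrm
  rcases geo_or_isotypic_R H N hirr hnrm with h | hiso
  · exact absurd h hG
  have hinv := commutantCenter_inv (by omega) N hss hiso
  by_cases hsc : ∀ x ∈ commutantCenter N, ∃ c : F, x = c • (1 : Matrix (Fin n) (Fin n) F)
  · obtain ⟨d, e, idx, B, hNFo⟩ := hNF n (by omega) N hss hiso hsc
    have hcard : n = d * e := by
      have := Fintype.card_congr idx
      simpa using this
    have hkr : ∀ h ∈ H, ∃ (a : GL (Fin d) F) (b : GL (Fin e) F),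
        ((B * h * B⁻¹ : GL (Fin n) F) : Matrix (Fin n) (Fin n) F) =
        Matrix.reindex idx.symm idx.symm
          ((a : Matrix (Fin d) (Fin d) F) ⊗ₖ (b : Matrix (Fin e) (Fin e) F)) :=
      fun h hh => kronecker_of_normalizes N d e idx B hNFo h (fun x hx => hnrm h hh x hx)
    by_cases hd : 2 ≤ d
    · by_cases he : 2 ≤ e
      · exact absurd (Cfsg.Agent.Lib.Helper25.AschC4.geo_of_kronecker_aux_R
          (fun H idx B hH => geoR_of_kronecker_two_two H idx B hH) H d e hd he idx B hkr) hG
      · have he1 : e = 1 := by
          rcases Nat.lt_or_ge e 1 with h0 | h1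
          · have : e = 0 := by omega
            subst this; omega
          · omega
        subst he1
        exact Or.inr (absIrred_of_tensorNF_one N d idx B hNFo)
    · have hd1 : d = 1 := by
        rcases Nat.lt_or_ge d 1 with h0 | h1
        · have : d = 0 := by omega
          subst this; omega
        · omega
      subst hd1
      exact Or.inl (scalar_of_tensorNF_one N e idx B hNFo)
  · exfalso
    apply hG
    push Not at hsc
    obtain ⟨x, hx, hxs⟩ := hsc
    refine geoR_of_normalized_field H (commutantCenter N) ?_ hinv ⟨x, hx, hxs⟩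
      (normalizes_commutantCenter H N hnrm)
    intro a ha b hb
    have hb' : b ∈ Subalgebra.centralizer F (commutant N : Set (Matrix (Fin n) (Fin n) F)) := hb.2
    have ha' : a ∈ commutant N := ha.1
    exact (Subalgebra.mem_centralizer_iff F).mp hb' a ha'

end Cfsg.Agent.Lib.Helper99.AschR
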