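import Mathlib
import Cfsg.Prelude.Def_GeometricClasses
import Cfsg.Agent.Lib.Helper99.AschDefs
import Cfsg.Agent.Lib.Helper99.AschDefsR
import Cfsg.Agent.Lib.Helper99.AschPartI
import Cfsg.Agent.Lib.Helper99.AschPartA
import Cfsg.Agent.Lib.Helper99.AschPartB
import Cfsg.Agent.Lib.Helper93.AschSetup
import Cfsg.Agent.Lib.Helper15.AschC1R

/-!
# Project ASCH: Aschbacher's theorem for subgroups of GL_n(F), n ≥ 3, refined form, from the statement of
ASCH-[NF].
-/

set_option autoImplicit false

namespace Cfsg.Agent.Lib.Helper99.AschR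

open Cfsg Cfsg.Geo Cfsg.Agent.Lib.Helper99.Asch
open scoped MatrixGroups Matrix Kronecker

variable {n : ℕ} {F : Type*} [Field F] [Fintype F]

theorem aschbacher_linear_R_of (hNF : NFStmt F) (hn : 3 ≤ n) (H : Subgroup (GL (Fin n) F)) :
    GeoR H ∨ InLinearResidualClass H := by
  by_cases hirr : ActsIrreducibly (matrixSet H)
  · rcases partI_R_of hNF hn H hirr with hG | hNAI
    · exact Or.inl hG
    · obtain ⟨N, hN⟩ := exists_isMinNrm (by omega) H hNAI
      by_cases hab : CommScalar N
      · exact Or.inl (partIIA_R hn H N hNAI hN hab)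
      · exact partIIB_R_of hNF hn H N hNAI hN hab
  · exact Or.inl (geo_of_not_irreducible_R H hirr)

end Cfsg.Agent.Lib.Helper99.AschR
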