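import Mathlib
import Cfsg.Prelude.Def_GeometricClasses
import Cfsg.Agent.Lib.Helper99.AschDefs
import Cfsg.Agent.Lib.Helper99.AschDefsR
import Cfsg.Agent.Lib.Helper99.AschMainOf
import Cfsg.Agent.Lib.Helper51.AschNF

/-!
# Project ASCH: Aschbacher's theorem for subgroups of GL_n(F), F finite, n ≥ 3

`aschbacher_linear_R` : every subgroup of GL_n(F) lies in a member of one of the eight geometric classes (refined
predicate `InLinearClassR`, where class 6 carries `n = r ^ m`) or is in the residual class.
`aschbacher_linear` : the same with the frozen predicate `Cfsg.Geo.InLinearClass`.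
-/

set_option autoImplicit false

namespace Cfsg.Agent.Lib.Helper99.Asch

open Cfsg Cfsg.Geo
open scoped MatrixGroups Matrix Kronecker

variable {n : ℕ} {F : Type*} [Field F] [Fintype F]

/-- ASCH-[MAINR] -/
theorem aschbacher_linear_R (hn : 3 ≤ n) (H : Subgroup (GL (Fin n) F)) :
    GeoR H ∨ InLinearResidualClass H :=
  Cfsg.Agent.Lib.Helper99.AschR.aschbacher_linear_R_of
    (fun _ hn' N hss hiso hsc => tensorNF_of_isotypic hn' N hss hiso hsc) hn H

/-- ASCH-[MAIN] -/
theorem aschbacher_linear (hn : 3 ≤ n) (H : Subgroup (GL (Fin n) F)) :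
    Geo H ∨ InLinearResidualClass H :=
  (aschbacher_linear_R hn H).imp GeoR.geo id

end Cfsg.Agent.Lib.Helper99.Asch
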