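import Cfsg.Agent.Lib.Helper99.ZsigBound2

set_option autoImplicit false

namespace Cfsg.Agent.Lib.Helper99

open Polynomial

/-- `Φ_{np}(a) = Φ_n(a^p)` when `p ∣ n`. -/
lemma cyc_mul_prime_of_dvd {p n : ℕ} (hp : p.Prime) (h : p ∣ n) (a : ℕ) :
    cyc (n * p) a = cyc n (a ^ p) := by
  unfold cyc
  rw [← cyclotomic_expand_eq_cyclotomic hp h ℤ, expand_eval]
  push_cast
  rfl

/-- `Φ_{np}(a) Φ_n(a) = Φ_n(a^p)` when `p ∤ n`. -/
lemma cyc_mul_prime_of_not_dvd {p n : ℕ} (hp : p.Prime) (h : ¬ p ∣ n) (a : ℕ) :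
    cyc (n * p) a * cyc n a = cyc n (a ^ p) := by
  unfold cyc
  rw [← eval_mul, ← cyclotomic_expand_eq_cyclotomic_mul hp h ℤ, expand_eval]
  push_cast
  rfl

/-- `Φ_{p^(k+1) m}(a) = Φ_{pm}(a^(p^k))`. -/
lemma cyc_prime_pow_mul {p : ℕ} (hp : p.Prime) (m k : ℕ) (a : ℕ) :
    cyc (p ^ (k + 1) * m) a = cyc (p * m) (a ^ (p ^ k)) := by
  induction k generalizing a with
  | zero => simp
  | succ k ih =>
    have hdvd : p ∣ p ^ (k + 1) * m := Dvd.dvd.mul_right (dvd_pow_self p (by omega)) m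
    have h1 : p ^ (k + 1 + 1) * m = (p ^ (k + 1) * m) * p := by ring
    rw [h1, cyc_mul_prime_of_dvd hp hdvd, ih, ← pow_mul]
    congr 1
    ring

/-- The core inequality: `(b^p - 1)^φ(m) ≤ Φ_{p^(k+1) m}(a) (b+1)^φ(m)` with `b = a^(p^k)`. -/
lemma core_ineq {p m : ℕ} (hp : p.Prime) (hpm : ¬ p ∣ m) (k : ℕ) {a : ℕ} (ha : 2 ≤ a) :
    ((a ^ (p ^ k)) ^ p - 1) ^ m.totient ≤
      (cyc (p ^ (k + 1) * m) a).natAbs * (a ^ (p ^ k) + 1) ^ m.totient := by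
  set b := a ^ (p ^ k) with hb
  have hb2 : 2 ≤ b := by
    calc 2 ≤ a := ha
      _ = a ^ 1 := (pow_one a).symm
      _ ≤ a ^ (p ^ k) := Nat.pow_le_pow_right (by omega) (Nat.one_le_pow _ _ hp.pos)
  have h1 : cyc (p ^ (k + 1) * m) a = cyc (m * p) b := by
    rw [cyc_prime_pow_mul hp, mul_comm]
  have h2 : cyc (m * p) b * cyc m b = cyc m (b ^ p) := cyc_mul_prime_of_not_dvd hp hpm b
  have hpos : 0 < cyc (m * p) b := cyc_pos _ hb2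
  have hnat : cyc (m * p) b = (((cyc (p ^ (k + 1) * m) a).natAbs : ℕ) : ℤ) := by
    rw [h1, Int.natAbs_of_nonneg hpos.le]
  set Φ := (cyc (p ^ (k + 1) * m) a).natAbs with hΦ
  have hR : ((Φ : ℕ) : ℝ) * ((cyc m b : ℤ) : ℝ) = ((cyc m (b ^ p) : ℤ) : ℝ) := by
    rw [← h2, hnat]; push_cast; ring
  rw [cyc_cast_real, cyc_cast_real] at hR
  have hbp : (1 : ℝ) < ((b ^ p : ℕ) : ℝ) := by
    have : 1 < b ^ p := Nat.one_lt_pow hp.ne_zero (by omega)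
    exact_mod_cast this
  have hb1 : (1 : ℝ) < ((b : ℕ) : ℝ) := by exact_mod_cast (by omega : 1 < b)
  have hlow := sub_one_pow_totient_le_cyclotomic_eval hbp m
  have hup := cyclotomic_eval_le_add_one_pow_totient hb1 m
  have hΦ0 : (0 : ℝ) ≤ ((Φ : ℕ) : ℝ) := by positivity
  have hkey : (((b ^ p : ℕ) : ℝ) - 1) ^ m.totient ≤ ((Φ : ℕ) : ℝ) * (((b : ℕ) : ℝ) + 1) ^ m.totient := by
    calc (((b ^ p : ℕ) : ℝ) - 1) ^ m.totient ≤ eval ((b ^ p : ℕ) : ℝ) (cyclotomic m ℝ) := hlow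
      _ = ((Φ : ℕ) : ℝ) * eval ((b : ℕ) : ℝ) (cyclotomic m ℝ) := hR.symm
      _ ≤ ((Φ : ℕ) : ℝ) * (((b : ℕ) : ℝ) + 1) ^ m.totient := mul_le_mul_of_nonneg_left hup hΦ0
  have h1le : 1 ≤ b ^ p := Nat.one_le_pow _ _ (by omega)
  have : (((b ^ p - 1) ^ m.totient : ℕ) : ℝ) ≤ ((Φ * (b + 1) ^ m.totient : ℕ) : ℝ) := by
    push_cast [Nat.cast_sub h1le]
    push_cast at hkey
    exact hkey
  exact_mod_cast this

/-- monotonicity of `(x^p-1)/(x+1)` in cross-multiplied form -/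
lemma crit_base_mono {b b' : ℕ} (p : ℕ) (hb : 1 ≤ b) (hbb : b ≤ b') :
    (b ^ p - 1) * (b' + 1) ≤ (b' ^ p - 1) * (b + 1) := by
  rcases Nat.eq_zero_or_pos p with rfl | hp
  · simp
  have h1 : 1 ≤ b ^ p := Nat.one_le_pow _ _ hb
  have h2 : 1 ≤ b' ^ p := Nat.one_le_pow _ _ (by omega)
  have h3 : b ^ p ≤ b' ^ p := Nat.pow_le_pow_left hbb p
  obtain ⟨q, rfl⟩ : ∃ q, p = q + 1 := ⟨p - 1, by omega⟩
  have h4 : b ^ q ≤ b' ^ q := Nat.pow_le_pow_left hbb q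
  -- b^p * b' ≤ b'^p * b
  have h5 : b ^ (q + 1) * b' ≤ b' ^ (q + 1) * b := by
    calc b ^ (q + 1) * b' = b ^ q * (b * b') := by ring
      _ ≤ b' ^ q * (b * b') := Nat.mul_le_mul_right _ h4
      _ = b' ^ (q + 1) * b := by ring
  zify [h1, h2]
  have h3' : ((b : ℤ)) ^ (q + 1) ≤ (b' : ℤ) ^ (q + 1) := by exact_mod_cast h3
  have h5' : ((b : ℤ)) ^ (q + 1) * b' ≤ (b' : ℤ) ^ (q + 1) * b := by exact_mod_cast h5
  have hbb' : (b : ℤ) ≤ b' := by exact_mod_cast hbb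
  nlinarith

/-- If the criterion `K (b+1)^t < (b^p-1)^t` holds at `a`, then `K < Φ_n(a')` for all `a' ≥ a`. -/
lemma lt_cyc_of_crit {p m : ℕ} (hp : p.Prime) (hpm : ¬ p ∣ m) (k : ℕ) {a a' : ℕ} (ha : 2 ≤ a)
    (haa : a ≤ a') (K : ℕ)
    (hcrit : K * (a ^ (p ^ k) + 1) ^ m.totient < ((a ^ (p ^ k)) ^ p - 1) ^ m.totient) :
    K < (cyc (p ^ (k + 1) * m) a').natAbs := by
  have hcore := core_ineq hp hpm k (le_trans ha haa)
  set b := a ^ (p ^ k) with hb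
  set b' := a' ^ (p ^ k) with hb'
  set t := m.totient with ht
  set Φ := (cyc (p ^ (k + 1) * m) a').natAbs with hΦ
  have hbb : b ≤ b' := Nat.pow_le_pow_left haa _
  have hb1 : 1 ≤ b := Nat.one_le_pow _ _ (by omega)
  have hmono : ((b ^ p - 1) * (b' + 1)) ^ t ≤ ((b' ^ p - 1) * (b + 1)) ^ t :=
    Nat.pow_le_pow_left (crit_base_mono p hb1 hbb) t
  rw [mul_pow, mul_pow] at hmono
  have hX : 0 < (b + 1) ^ t * (b' + 1) ^ t := by positivity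
  have h1 : K * ((b + 1) ^ t * (b' + 1) ^ t) < Φ * ((b + 1) ^ t * (b' + 1) ^ t) := by
    calc K * ((b + 1) ^ t * (b' + 1) ^ t) = (K * (b + 1) ^ t) * (b' + 1) ^ t := by ring
      _ < (b ^ p - 1) ^ t * (b' + 1) ^ t := Nat.mul_lt_mul_of_pos_right hcrit (by positivity)
      _ ≤ (b' ^ p - 1) ^ t * (b + 1) ^ t := hmono
      _ ≤ (Φ * (b' + 1) ^ t) * (b + 1) ^ t := Nat.mul_le_mul_right _ hcore
      _ = Φ * ((b + 1) ^ t * (b' + 1) ^ t) := by ring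
  exact lt_of_mul_lt_mul_right h1 (Nat.zero_le _)

end Cfsg.Agent.Lib.Helper99
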