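import Cfsg.Agent.Lib.Helper99.Zsigmondy
import Cfsg.Agent.S4422

set_option autoImplicit false

namespace Cfsg.Agent.Lib.Helper99

/-- Decomposition `Φ_n(a) = r * P` with `r = 1` or `r` a prime divisor of `n`, and `P` primitive. -/
lemma exists_primitive_part {a n : ℕ} (ha : 2 ≤ a) (hn : 3 ≤ n) :
    ∃ r P : ℕ, (r = 1 ∨ (r.Prime ∧ r ∣ n)) ∧ (cyc n a).natAbs = r * P ∧ P ∣ a ^ n - 1 ∧
      ∀ i, 1 ≤ i → i < n → Nat.Coprime P (a ^ i - 1) := by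
  have hn0 : 0 < n := by omega
  have ha1 : 1 ≤ a := by omega
  set Φ := (cyc n a).natAbs with hΦ
  have hcyc : cyc n a = (Φ : ℤ) := cyc_eq_natAbs n ha
  have key : ∀ P : ℕ, P ∣ Φ → (∀ s : ℕ, s.Prime → s ∣ P → ¬ s ∣ n) →
      P ∣ a ^ n - 1 ∧ ∀ i, 1 ≤ i → i < n → Nat.Coprime P (a ^ i - 1) := by
    intro P hP hs
    have hPint : (P : ℤ) ∣ cyc n a := by rw [hcyc]; exact_mod_cast hP
    refine ⟨nat_dvd_of_int_dvd_cyc hn0 ha1 hPint, ?_⟩
    intro i hi hin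
    apply Nat.coprime_of_dvd
    intro s hsp hsP hsd
    have : Fact s.Prime := ⟨hsp⟩
    have hsint : (s : ℤ) ∣ cyc n a := by
      rw [hcyc]; exact_mod_cast hsP.trans hP
    exact ppd_of_not_dvd hn0 ha1 hsint (hs s hsp hsP) i (by omega) hin hsd
  by_cases h : ∃ r : ℕ, r.Prime ∧ r ∣ n ∧ r ∣ Φ
  · obtain ⟨r, hr, hrn, hrΦ⟩ := h
    obtain ⟨P, hP⟩ := hrΦ
    have : Fact r.Prime := ⟨hr⟩
    have hrint : (r : ℤ) ∣ cyc n a := by
      rw [hcyc]; exact_mod_cast (Dvd.intro P hP.symm)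
    refine ⟨r, P, Or.inr ⟨hr, hrn⟩, hP, key P (Dvd.intro_left r hP.symm) ?_⟩
    intro s hsp hsP hsn
    have : Fact s.Prime := ⟨hsp⟩
    have hsint : (s : ℤ) ∣ cyc n a := by
      rw [hcyc]; exact_mod_cast hsP.trans (Dvd.intro_left r hP.symm)
    have hsr : s = r := eq_of_both_dvd hn0 ha1 hsint hrint hsn hrn
    subst hsr
    obtain ⟨Q, hQ⟩ := hsP
    apply not_sq_dvd_cyc hn ha hrint hrn
    rw [hcyc]
    refine ⟨(Q : ℤ), ?_⟩
    rw [hP, hQ]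
    push_cast
    ring
  · refine ⟨1, Φ, Or.inl rfl, (one_mul _).symm, key Φ dvd_rfl ?_⟩
    intro s hsp hsP hsn
    exact h ⟨s, hsp, hsn, hsP⟩

/-- If `Φ_n(a) > (2n+1) K` where `K` bounds the prime divisors of `n`, the primitive part of
`a^n - 1` is at least `3n+1`. -/
lemma exists_large_of_lt {a n K : ℕ} (ha : 2 ≤ a) (hn : 3 ≤ n) (hK1 : 1 ≤ K)
    (hK : ∀ r : ℕ, r.Prime → r ∣ n → r ≤ K)
    (h : (2 * n + 1) * K < (cyc n a).natAbs) :
    ∃ m : ℕ, m ∣ a ^ n - 1 ∧ (∀ i, 1 ≤ i → i < n → Nat.Coprime m (a ^ i - 1)) ∧ 3 * n + 1 ≤ m := by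
  obtain ⟨r, P, hr, hΦ, hP, hcop⟩ := exists_primitive_part ha hn
  refine ⟨P, hP, hcop, ?_⟩
  have hrK : r ≤ K := by
    rcases hr with rfl | ⟨hr, hrn⟩
    · exact hK1
    · exact hK r hr hrn
  have hr0 : 0 < r := by
    rcases hr with rfl | ⟨hr, -⟩
    · exact Nat.one_pos
    · exact hr.pos
  rw [hΦ] at h
  have h1 : (2 * n + 1) * r < r * P :=
    lt_of_le_of_lt (Nat.mul_le_mul_left _ hrK) h
  have h2 : 2 * n + 1 < P := by
    rw [mul_comm] at h1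
    exact lt_of_mul_lt_mul_left h1 (Nat.zero_le _)
  have hmod : P % n = 1 % n := Cfsg.Agent.S4422.result a n P ha (by omega) hP hcop
  rw [Nat.mod_eq_of_lt (by omega : 1 < n)] at hmod
  have hdiv := Nat.div_add_mod P n
  rw [hmod] at hdiv
  have hj : 3 ≤ P / n := by
    by_contra hlt
    have : P / n ≤ 2 := by omega
    have : n * (P / n) ≤ n * 2 := Nat.mul_le_mul_left _ this
    omega
  have : n * 3 ≤ n * (P / n) := Nat.mul_le_mul_left _ hj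
  omega

end Cfsg.Agent.Lib.Helper99
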