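import Cfsg.Agent.Lib.Helper99.CycCore
import Cfsg.Agent.Lib.Helper99.PrimPart

set_option autoImplicit false

namespace Cfsg.Agent.Lib.Helper99

/-- kernel-friendly primality test; `s` is a certificate with `p < s * s` -/
def isPrimeB (p s : ℕ) : Bool :=
  Nat.ble 2 p && Nat.blt p (s * s) &&
    (List.range s).all (fun d => Nat.ble d 1 || !(Nat.beq (p % d) 0))

lemma isPrimeB_prime {p s : ℕ} (h : isPrimeB p s = true) : p.Prime := by
  unfold isPrimeB at h
  rw [Bool.and_eq_true, Bool.and_eq_true, List.all_eq_true] at h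
  obtain ⟨⟨h2, hs⟩, hall⟩ := h
  have h2' : 2 ≤ p := Nat.le_of_ble_eq_true h2
  have hs' : p < s * s := by
    have := Nat.le_of_ble_eq_true hs
    omega
  rw [Nat.prime_def_le_sqrt]
  refine ⟨h2', ?_⟩
  intro d hd2 hdle hd
  have hdd : d * d ≤ p := Nat.le_sqrt.mp hdle
  have hdlt : d < s := by
    by_contra hge
    have hge' : s ≤ d := by omega
    have : s * s ≤ d * d := Nat.mul_le_mul hge' hge'
    omega
  have := hall d (List.mem_range.mpr hdlt)
  rw [Bool.or_eq_true] at this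
  rcases this with h | h
  · have hd1 : d ≤ 1 := Nat.le_of_ble_eq_true h
    omega
  · rw [Bool.not_eq_true'] at h
    have := Nat.ne_of_beq_eq_false h
    exact this (Nat.mod_eq_zero_of_dvd hd)

/-- kernel-friendly totient -/
def phiB (m : ℕ) : ℕ := ((List.range m).filter (fun i => Nat.beq (Nat.gcd m i) 1)).length

lemma phiB_eq (m : ℕ) : phiB m = m.totient := by
  unfold phiB
  rw [Nat.totient_eq_card_coprime]
  rw [Finset.card_def, Finset.filter_val, Finset.range_val, Multiset.range, Multiset.filter_coe,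
    Multiset.coe_card]
  congr 1
  apply List.filter_congr
  intro i _
  unfold Nat.Coprime
  by_cases h : Nat.gcd m i = 1
  · simp [h]
  · simp only [h, decide_false]
    cases hb : Nat.beq (Nat.gcd m i) 1
    · rfl
    · exact absurd (Nat.eq_of_beq_eq_true hb) h

/-- the computable criterion -/
def critB (a n p k s : ℕ) : Bool :=
  isPrimeB p s && Nat.beq (p ^ (k + 1) * (n / p ^ (k + 1))) n && !(Nat.beq ((n / p ^ (k + 1)) % p) 0) &&
    Nat.blt ((2 * n + 1) * max p (n / p ^ (k + 1)) * (a ^ (p ^ k) + 1) ^ phiB (n / p ^ (k + 1)))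
      (((a ^ (p ^ k)) ^ p - 1) ^ phiB (n / p ^ (k + 1)))

lemma of_critB {a n p k s : ℕ} (h : critB a n p k s = true) (ha : 2 ≤ a) (hn : 3 ≤ n) {a' : ℕ}
    (haa : a ≤ a') :
    ∃ m : ℕ, m ∣ a' ^ n - 1 ∧ (∀ i, 1 ≤ i → i < n → Nat.Coprime m (a' ^ i - 1)) ∧ 3 * n + 1 ≤ m := by
  unfold critB at h
  simp only [Bool.and_eq_true, Bool.not_eq_true'] at h
  obtain ⟨⟨⟨h1, h2⟩, h3⟩, h4⟩ := h
  set m := n / p ^ (k + 1) with hm
  have hp : p.Prime := isPrimeB_prime h1
  have hnm : p ^ (k + 1) * m = n := Nat.eq_of_beq_eq_true h2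
  have hpm : ¬ p ∣ m := fun hd => Nat.ne_of_beq_eq_false h3 (Nat.mod_eq_zero_of_dvd hd)
  have hcrit : (2 * n + 1) * max p m * (a ^ (p ^ k) + 1) ^ phiB m < ((a ^ (p ^ k)) ^ p - 1) ^ phiB m := by
    have := Nat.le_of_ble_eq_true h4
    omega
  rw [phiB_eq] at hcrit
  have hlt := lt_cyc_of_crit hp hpm k ha haa _ hcrit
  rw [hnm] at hlt
  have hm0 : 0 < m := by
    rcases Nat.eq_zero_or_pos m with h0 | h0
    · rw [h0, mul_zero] at hnm; omega
    · exact h0
  apply exists_large_of_lt (le_trans ha haa) hn (K := max p m) (le_trans hp.one_lt.le (le_max_left _ _)) _ hlt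
  intro r hr hrn
  rw [← hnm] at hrn
  rcases (Nat.Prime.dvd_mul hr).mp hrn with h | h
  · have := Nat.le_of_dvd hp.pos (hr.dvd_of_dvd_pow h)
    exact le_trans this (le_max_left _ _)
  · exact le_trans (Nat.le_of_dvd hm0 h) (le_max_right _ _)

end Cfsg.Agent.Lib.Helper99
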