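import Cfsg.Agent.Lib.Helper99.CycCrit

set_option autoImplicit false

namespace Cfsg.Agent.Lib.Helper99

/-- table of `(p, k, s)` with `p` the largest prime factor of `n`, `p^(k+1) ∥ n` and `s = ⌊√p⌋ + 1`,
for `n = 3, …, 2450` (dummy entries for the sixteen small exceptional `n`) -/
def critTable : List (ℕ × ℕ × ℕ) := [
  (0,0,0), (0,0,0), (0,0,0), (0,0,0), (0,0,0), (0,0,0), (0,0,0), (0,0,0), (11,0,4), (0,0,0), (13,0,4), (0,0,0), (0,0,0), (2,3,2), (17,0,5), (0,0,0),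
  (19,0,5), (0,0,0), (7,0,3), (11,0,4), (23,0,5), (0,0,0), (5,1,3), (13,0,4), (3,2,2), (7,0,3), (29,0,6), (0,0,0), (31,0,6), (2,4,2), (11,0,4), (17,0,5),
  (7,0,3), (3,1,2), (37,0,7), (19,0,5), (13,0,4), (5,0,3), (41,0,7), (7,0,3), (43,0,7), (11,0,4), (5,0,3), (23,0,5), (47,0,7), (0,0,0), (7,1,3), (5,1,3),
  (17,0,5), (13,0,4), (53,0,8), (3,2,2), (11,0,4), (7,0,3), (19,0,5), (29,0,6), (59,0,8), (5,0,3), (61,0,8), (31,0,6), (7,0,3), (2,5,2), (13,0,4), (11,0,4),
  (67,0,9), (17,0,5), (23,0,5), (7,0,3), (71,0,9), (3,1,2), (73,0,9), (37,0,7), (5,1,3), (19,0,5), (11,0,4), (13,0,4), (79,0,9), (5,0,3), (3,3,2), (41,0,7),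
  (83,0,10), (7,0,3), (17,0,5), (43,0,7), (29,0,6), (11,0,4), (89,0,10), (5,0,3), (13,0,4), (23,0,5), (31,0,6), (47,0,7), (19,0,5), (3,0,2), (97,0,10), (7,1,3),
  (11,0,4), (5,1,3), (101,0,11), (17,0,5), (103,0,11), (13,0,4), (7,0,3), (53,0,8), (107,0,11), (3,2,2), (109,0,11), (11,0,4), (37,0,7), (7,0,3), (113,0,11), (19,0,5),
  (23,0,5), (29,0,6), (13,0,4), (59,0,8), (17,0,5), (5,0,3), (11,1,4), (61,0,8), (41,0,7), (31,0,6), (5,2,3), (7,0,3), (127,0,12), (2,6,2), (43,0,7), (13,0,4),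
  (131,0,12), (11,0,4), (19,0,5), (67,0,9), (5,0,3), (17,0,5), (137,0,12), (23,0,5), (139,0,12), (7,0,3), (47,0,7), (71,0,9), (13,0,4), (3,1,2), (29,0,6), (73,0,9),
  (7,1,3), (37,0,7), (149,0,13), (5,1,3), (151,0,13), (19,0,5), (17,0,5), (11,0,4), (31,0,6), (13,0,4), (157,0,13), (79,0,9), (53,0,8), (5,0,3), (23,0,5), (3,3,2),
  (163,0,13), (41,0,7), (11,0,4), (83,0,10), (167,0,13), (7,0,3), (13,1,4), (17,0,5), (19,0,5), (43,0,7), (173,0,14), (29,0,6), (7,0,3), (11,0,4), (59,0,8), (89,0,10),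
  (179,0,14), (5,0,3), (181,0,14), (13,0,4), (61,0,8), (23,0,5), (37,0,7), (31,0,6), (17,0,5), (47,0,7), (7,0,3), (19,0,5), (191,0,14), (3,0,2), (193,0,14), (97,0,10),
  (13,0,4), (7,1,3), (197,0,15), (11,0,4), (199,0,15), (5,1,3), (67,0,9), (101,0,11), (29,0,6), (17,0,5), (41,0,7), (103,0,11), (23,0,5), (13,0,4), (19,0,5), (7,0,3),
  (211,0,15), (53,0,8), (71,0,9), (107,0,11), (43,0,7), (3,2,2), (31,0,6), (109,0,11), (73,0,9), (11,0,4), (17,0,5), (37,0,7), (223,0,15), (7,0,3), (5,1,3), (113,0,11),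
  (227,0,16), (19,0,5), (229,0,16), (23,0,5), (11,0,4), (29,0,6), (233,0,16), (13,0,4), (47,0,7), (59,0,8), (79,0,9), (17,0,5), (239,0,16), (5,0,3), (241,0,16), (11,1,4),
  (3,4,2), (61,0,8), (7,1,3), (41,0,7), (19,0,5), (31,0,6), (83,0,10), (5,2,3), (251,0,16), (7,0,3), (23,0,5), (127,0,12), (17,0,5), (2,7,2), (257,0,17), (43,0,7),
  (37,0,7), (13,0,4), (29,0,6), (131,0,12), (263,0,17), (11,0,4), (53,0,8), (19,0,5), (89,0,10), (67,0,9), (269,0,17), (5,0,3), (271,0,17), (17,0,5), (13,0,4), (137,0,12),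
  (11,0,4), (23,0,5), (277,0,17), (139,0,12), (31,0,6), (7,0,3), (281,0,17), (47,0,7), (283,0,17), (71,0,9), (19,0,5), (13,0,4), (41,0,7), (3,1,2), (17,1,5), (29,0,6),
  (97,0,10), (73,0,9), (293,0,18), (7,1,3), (59,0,8), (37,0,7), (11,0,4), (149,0,13), (23,0,5), (5,1,3), (43,0,7), (151,0,13), (101,0,11), (19,0,5), (61,0,8), (17,0,5),
  (307,0,18), (11,0,4), (103,0,11), (31,0,6), (311,0,18), (13,0,4), (313,0,18), (157,0,13), (7,0,3), (79,0,9), (317,0,18), (53,0,8), (29,0,6), (5,0,3), (107,0,11), (23,0,5),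
  (19,0,5), (3,3,2), (13,0,4), (163,0,13), (109,0,11), (41,0,7), (47,0,7), (11,0,4), (331,0,19), (83,0,10), (37,0,7), (167,0,13), (67,0,9), (7,0,3), (337,0,19), (13,1,4),
  (113,0,11), (17,0,5), (31,0,6), (19,0,5), (7,2,3), (43,0,7), (23,0,5), (173,0,14), (347,0,19), (29,0,6), (349,0,19), (7,0,3), (13,0,4), (11,0,4), (353,0,19), (59,0,8),
  (71,0,9), (89,0,10), (17,0,5), (179,0,14), (359,0,19), (5,0,3), (19,1,5), (181,0,14), (11,1,4), (13,0,4), (73,0,9), (61,0,8), (367,0,20), (23,0,5), (41,0,7), (37,0,7),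
  (53,0,8), (31,0,6), (373,0,20), (17,0,5), (5,2,3), (47,0,7), (29,0,6), (7,0,3), (379,0,20), (19,0,5), (127,0,12), (191,0,14), (383,0,20), (3,0,2), (11,0,4), (193,0,14),
  (43,0,7), (97,0,10), (389,0,20), (13,0,4), (23,0,5), (7,1,3), (131,0,12), (197,0,15), (79,0,9), (11,0,4), (397,0,20), (199,0,15), (19,0,5), (5,1,3), (401,0,21), (67,0,9),
  (31,0,6), (101,0,11), (5,0,3), (29,0,6), (37,0,7), (17,0,5), (409,0,21), (41,0,7), (137,0,12), (103,0,11), (59,0,8), (23,0,5), (83,0,10), (13,0,4), (139,0,12), (19,0,5),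
  (419,0,21), (7,0,3), (421,0,21), (211,0,15), (47,0,7), (53,0,8), (17,0,5), (71,0,9), (61,0,8), (107,0,11), (13,0,4), (43,0,7), (431,0,21), (3,2,2), (433,0,21), (31,0,6),
  (29,0,6), (109,0,11), (23,0,5), (73,0,9), (439,0,21), (11,0,4), (7,1,3), (17,0,5), (443,0,22), (37,0,7), (89,0,10), (223,0,15), (149,0,13), (7,0,3), (449,0,22), (5,1,3),
  (41,0,7), (113,0,11), (151,0,13), (227,0,16), (13,0,4), (19,0,5), (457,0,22), (229,0,16), (17,0,5), (23,0,5), (461,0,22), (11,0,4), (463,0,22), (29,0,6), (31,0,6), (233,0,16),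
  (467,0,22), (13,0,4), (67,0,9), (47,0,7), (157,0,13), (59,0,8), (43,0,7), (79,0,9), (19,0,5), (17,0,5), (53,0,8), (239,0,16), (479,0,22), (5,0,3), (37,0,7), (241,0,16),
  (23,0,5), (11,1,4), (97,0,10), (3,4,2), (487,0,23), (61,0,8), (163,0,13), (7,1,3), (491,0,23), (41,0,7), (29,0,6), (19,0,5), (11,0,4), (31,0,6), (71,0,9), (83,0,10),
  (499,0,23), (5,2,3), (167,0,13), (251,0,16), (503,0,23), (7,0,3), (101,0,11), (23,0,5), (13,1,4), (127,0,12), (509,0,23), (17,0,5), (73,0,9), (2,8,2), (19,0,5), (257,0,17),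
  (103,0,11), (43,0,7), (47,0,7), (37,0,7), (173,0,14), (13,0,4), (521,0,23), (29,0,6), (523,0,23), (131,0,12), (7,0,3), (263,0,17), (31,0,6), (11,0,4), (23,1,5), (53,0,8),
  (59,0,8), (19,0,5), (41,0,7), (89,0,10), (107,0,11), (67,0,9), (179,0,14), (269,0,17), (11,0,4), (5,0,3), (541,0,24), (271,0,17), (181,0,14), (17,0,5), (109,0,11), (13,0,4),
  (547,0,24), (137,0,12), (61,0,8), (11,0,4), (29,0,6), (23,0,5), (79,0,9), (277,0,17), (37,0,7), (139,0,12), (557,0,24), (31,0,6), (43,0,7), (7,0,3), (17,0,5), (281,0,17),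
  (563,0,24), (47,0,7), (113,0,11), (283,0,17), (7,0,3), (71,0,9), (569,0,24), (19,0,5), (571,0,24), (13,0,4), (191,0,14), (41,0,7), (23,0,5), (3,1,2), (577,0,25), (17,1,5),
  (193,0,14), (29,0,6), (83,0,10), (97,0,10), (53,0,8), (73,0,9), (13,0,4), (293,0,18), (587,0,25), (7,1,3), (31,0,6), (59,0,8), (197,0,15), (37,0,7), (593,0,25), (11,0,4),
  (17,0,5), (149,0,13), (199,0,15), (23,0,5), (599,0,25), (5,1,3), (601,0,25), (43,0,7), (67,0,9), (151,0,13), (11,1,4), (101,0,11), (607,0,25), (19,0,5), (29,0,6), (61,0,8),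
  (47,0,7), (17,0,5), (613,0,25), (307,0,18), (41,0,7), (11,0,4), (617,0,25), (103,0,11), (619,0,25), (31,0,6), (23,0,5), (311,0,18), (89,0,10), (13,0,4), (5,3,3), (313,0,18),
  (19,0,5), (157,0,13), (37,0,7), (7,0,3), (631,0,26), (79,0,9), (211,0,15), (317,0,18), (127,0,12), (53,0,8), (13,0,4), (29,0,6), (71,0,9), (5,0,3), (641,0,26), (107,0,11),
  (643,0,26), (23,0,5), (43,0,7), (19,0,5), (647,0,26), (3,3,2), (59,0,8), (13,0,4), (31,0,6), (163,0,13), (653,0,26), (109,0,11), (131,0,12), (41,0,7), (73,0,9), (47,0,7),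
  (659,0,26), (11,0,4), (661,0,26), (331,0,19), (17,0,5), (83,0,10), (19,0,5), (37,0,7), (29,0,6), (167,0,13), (223,0,15), (67,0,9), (61,0,8), (7,0,3), (673,0,26), (337,0,19),
  (5,1,3), (13,1,4), (677,0,27), (113,0,11), (97,0,10), (17,0,5), (227,0,16), (31,0,6), (683,0,27), (19,0,5), (137,0,12), (7,2,3), (229,0,16), (43,0,7), (53,0,8), (23,0,5),
  (691,0,27), (173,0,14), (11,0,4), (347,0,19), (139,0,12), (29,0,6), (41,0,7), (349,0,19), (233,0,16), (7,0,3), (701,0,27), (13,0,4), (37,0,7), (11,0,4), (47,0,7), (353,0,19),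
  (101,0,11), (59,0,8), (709,0,27), (71,0,9), (79,0,9), (89,0,10), (31,0,6), (17,0,5), (13,0,4), (179,0,14), (239,0,16), (359,0,19), (719,0,27), (5,0,3), (103,0,11), (19,1,5),
  (241,0,16), (181,0,14), (29,0,6), (11,1,4), (727,0,27), (13,0,4), (3,5,2), (73,0,9), (43,0,7), (61,0,8), (733,0,28), (367,0,20), (7,1,3), (23,0,5), (67,0,9), (41,0,7),
  (739,0,28), (37,0,7), (19,0,5), (53,0,8), (743,0,28), (31,0,6), (149,0,13), (373,0,20), (83,0,10), (17,0,5), (107,0,11), (5,2,3), (751,0,28), (47,0,7), (251,0,16), (29,0,6),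
  (151,0,13), (7,0,3), (757,0,28), (379,0,20), (23,0,5), (19,0,5), (761,0,28), (127,0,12), (109,0,11), (191,0,14), (17,0,5), (383,0,20), (59,0,8), (3,0,2), (769,0,28), (11,0,4),
  (257,0,17), (193,0,14), (773,0,28), (43,0,7), (31,0,6), (97,0,10), (37,0,7), (389,0,20), (41,0,7), (13,0,4), (71,0,9), (23,0,5), (29,0,6), (7,1,3), (157,0,13), (131,0,12),
  (787,0,29), (197,0,15), (263,0,17), (79,0,9), (113,0,11), (11,0,4), (61,0,8), (397,0,20), (53,0,8), (199,0,15), (797,0,29), (19,0,5), (47,0,7), (5,1,3), (89,0,10), (401,0,21),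
  (73,0,9), (67,0,9), (23,0,5), (31,0,6), (269,0,17), (101,0,11), (809,0,29), (5,0,3), (811,0,29), (29,0,6), (271,0,17), (37,0,7), (163,0,13), (17,0,5), (43,0,7), (409,0,21),
  (13,0,4), (41,0,7), (821,0,29), (137,0,12), (823,0,29), (103,0,11), (11,0,4), (59,0,8), (827,0,29), (23,0,5), (829,0,29), (83,0,10), (277,0,17), (13,0,4), (17,0,5), (139,0,12),
  (167,0,13), (19,0,5), (31,0,6), (419,0,21), (839,0,29), (7,0,3), (29,1,6), (421,0,21), (281,0,17), (211,0,15), (13,1,4), (47,0,7), (11,1,4), (53,0,8), (283,0,17), (17,0,5),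
  (37,0,7), (71,0,9), (853,0,30), (61,0,8), (19,0,5), (107,0,11), (857,0,30), (13,0,4), (859,0,30), (43,0,7), (41,0,7), (431,0,21), (863,0,30), (3,2,2), (173,0,14), (433,0,21),
  (17,1,5), (31,0,6), (79,0,9), (29,0,6), (67,0,9), (109,0,11), (97,0,10), (23,0,5), (7,0,3), (73,0,9), (877,0,30), (439,0,21), (293,0,18), (11,0,4), (881,0,30), (7,1,3),
  (883,0,30), (17,0,5), (59,0,8), (443,0,22), (887,0,30), (37,0,7), (127,0,12), (89,0,10), (11,0,4), (223,0,15), (47,0,7), (149,0,13), (179,0,14), (7,0,3), (23,0,5), (449,0,22),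
  (31,0,6), (5,1,3), (53,0,8), (41,0,7), (43,0,7), (113,0,11), (181,0,14), (151,0,13), (907,0,31), (227,0,16), (101,0,11), (13,0,4), (911,0,31), (19,0,5), (83,0,10), (457,0,22),
  (61,0,8), (229,0,16), (131,0,12), (17,0,5), (919,0,31), (23,0,5), (307,0,18), (461,0,22), (71,0,9), (11,0,4), (37,0,7), (463,0,22), (103,0,11), (29,0,6), (929,0,31), (31,0,6),
  (19,0,5), (233,0,16), (311,0,18), (467,0,22), (17,0,5), (13,0,4), (937,0,31), (67,0,9), (313,0,18), (47,0,7), (941,0,31), (157,0,13), (41,0,7), (59,0,8), (7,0,3), (43,0,7),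
  (947,0,31), (79,0,9), (73,0,9), (19,0,5), (317,0,18), (17,0,5), (953,0,31), (53,0,8), (191,0,14), (239,0,16), (29,0,6), (479,0,22), (137,0,12), (5,0,3), (31,1,6), (37,0,7),
  (107,0,11), (241,0,16), (193,0,14), (23,0,5), (967,0,32), (11,1,4), (19,0,5), (97,0,10), (971,0,32), (3,4,2), (139,0,12), (487,0,23), (13,0,4), (61,0,8), (977,0,32), (163,0,13),
  (89,0,10), (7,1,3), (109,0,11), (491,0,23), (983,0,32), (41,0,7), (197,0,15), (29,0,6), (47,0,7), (19,0,5), (43,0,7), (11,0,4), (991,0,32), (31,0,6), (331,0,19), (71,0,9),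
  (199,0,15), (83,0,10), (997,0,32), (499,0,23), (37,0,7), (5,2,3), (13,0,4), (167,0,13), (59,0,8), (251,0,16), (67,0,9), (503,0,23), (53,0,8), (7,0,3), (1009,0,32), (101,0,11),
  (337,0,19), (23,0,5), (1013,0,32), (13,1,4), (29,0,6), (127,0,12), (113,0,11), (509,0,23), (1019,0,32), (17,0,5), (1021,0,32), (73,0,9), (31,0,6), (2,9,2), (41,0,7), (19,0,5),
  (79,0,9), (257,0,17), (7,2,3), (103,0,11), (1031,0,33), (43,0,7), (1033,0,33), (47,0,7), (23,0,5), (37,0,7), (61,0,8), (173,0,14), (1039,0,33), (13,0,4), (347,0,19), (521,0,23),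
  (149,0,13), (29,0,6), (19,0,5), (523,0,23), (349,0,19), (131,0,12), (1049,0,33), (7,0,3), (1051,0,33), (263,0,17), (13,0,4), (31,0,6), (211,0,15), (11,0,4), (151,0,13), (23,1,5),
  (353,0,19), (53,0,8), (1061,0,33), (59,0,8), (1063,0,33), (19,0,5), (71,0,9), (41,0,7), (97,0,10), (89,0,10), (1069,0,33), (107,0,11), (17,0,5), (67,0,9), (37,0,7), (179,0,14),
  (43,0,7), (269,0,17), (359,0,19), (11,0,4), (83,0,10), (5,0,3), (47,0,7), (541,0,24), (19,1,5), (271,0,17), (31,0,6), (181,0,14), (1087,0,33), (17,0,5), (11,1,4), (109,0,11),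
  (1091,0,34), (13,0,4), (1093,0,34), (547,0,24), (73,0,9), (137,0,12), (1097,0,34), (61,0,8), (157,0,13), (11,0,4), (367,0,20), (29,0,6), (1103,0,34), (23,0,5), (17,0,5), (79,0,9),
  (41,0,7), (277,0,17), (1109,0,34), (37,0,7), (101,0,11), (139,0,12), (53,0,8), (557,0,24), (223,0,15), (31,0,6), (1117,0,34), (43,0,7), (373,0,20), (7,0,3), (59,0,8), (17,0,5),
  (1123,0,34), (281,0,17), (5,2,3), (563,0,24), (23,0,5), (47,0,7), (1129,0,34), (113,0,11), (29,0,6), (283,0,17), (103,0,11), (7,0,3), (227,0,16), (71,0,9), (379,0,20), (569,0,24),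
  (67,0,9), (19,0,5), (163,0,13), (571,0,24), (127,0,12), (13,0,4), (229,0,16), (191,0,14), (37,0,7), (41,0,7), (383,0,20), (23,0,5), (1151,0,34), (3,1,2), (1153,0,34), (577,0,25),
  (11,0,4), (17,1,5), (89,0,10), (193,0,14), (61,0,8), (29,0,6), (43,0,7), (83,0,10), (1163,0,35), (97,0,10), (233,0,16), (53,0,8), (389,0,20), (73,0,9), (167,0,13), (13,0,4),
  (1171,0,35), (293,0,18), (23,0,5), (587,0,25), (47,0,7), (7,1,3), (107,0,11), (31,0,6), (131,0,12), (59,0,8), (1181,0,35), (197,0,15), (13,1,4), (37,0,7), (79,0,9), (593,0,25),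
  (1187,0,35), (11,0,4), (41,0,7), (17,0,5), (397,0,20), (149,0,13), (1193,0,35), (199,0,15), (239,0,16), (23,0,5), (19,0,5), (599,0,25), (109,0,11), (5,1,3), (1201,0,35), (601,0,25),
  (401,0,21), (43,0,7), (241,0,16), (67,0,9), (71,0,9), (151,0,13), (31,0,6), (11,1,4), (173,0,14), (101,0,11), (1213,0,35), (607,0,25), (5,0,3), (19,0,5), (1217,0,35), (29,0,6),
  (53,0,8), (61,0,8), (37,0,7), (47,0,7), (1223,0,35), (17,0,5), (7,1,3), (613,0,25), (409,0,21), (307,0,18), (1229,0,36), (41,0,7), (1231,0,36), (11,0,4), (137,0,12), (617,0,25),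
  (19,0,5), (103,0,11), (1237,0,36), (619,0,25), (59,0,8), (31,0,6), (73,0,9), (23,0,5), (113,0,11), (311,0,18), (83,0,10), (89,0,10), (43,0,7), (13,0,4), (1249,0,36), (5,3,3),
  (139,0,12), (313,0,18), (179,0,14), (19,0,5), (251,0,16), (157,0,13), (419,0,21), (37,0,7), (1259,0,36), (7,0,3), (97,0,10), (631,0,26), (421,0,21), (79,0,9), (23,0,5), (211,0,15),
  (181,0,14), (317,0,18), (47,0,7), (127,0,12), (41,0,7), (53,0,8), (67,0,9), (13,0,4), (17,0,5), (29,0,6), (1277,0,36), (71,0,9), (1279,0,36), (5,0,3), (61,0,8), (641,0,26),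
  (1283,0,36), (107,0,11), (257,0,17), (643,0,26), (13,0,4), (23,0,5), (1289,0,36), (43,0,7), (1291,0,36), (19,0,5), (431,0,21), (647,0,26), (37,0,7), (3,3,2), (1297,0,37), (59,0,8),
  (433,0,21), (13,0,4), (1301,0,37), (31,0,6), (1303,0,37), (163,0,13), (29,0,6), (653,0,26), (1307,0,37), (109,0,11), (17,0,5), (131,0,12), (23,0,5), (41,0,7), (101,0,11), (73,0,9),
  (263,0,17), (47,0,7), (439,0,21), (659,0,26), (1319,0,37), (11,0,4), (1321,0,37), (661,0,26), (7,1,3), (331,0,19), (53,0,8), (17,0,5), (1327,0,37), (83,0,10), (443,0,22), (19,0,5),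
  (11,2,4), (37,0,7), (43,0,7), (29,0,6), (89,0,10), (167,0,13), (191,0,14), (223,0,15), (103,0,11), (67,0,9), (149,0,13), (61,0,8), (79,0,9), (7,0,3), (269,0,17), (673,0,26),
  (449,0,22), (337,0,19), (71,0,9), (5,1,3), (193,0,14), (13,1,4), (41,0,7), (677,0,27), (271,0,17), (113,0,11), (59,0,8), (97,0,10), (151,0,13), (17,0,5), (1361,0,37), (227,0,16),
  (47,0,7), (31,0,6), (13,0,4), (683,0,27), (1367,0,37), (19,0,5), (37,1,7), (137,0,12), (457,0,22), (7,2,3), (1373,0,38), (229,0,16), (11,0,4), (43,0,7), (17,0,5), (53,0,8),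
  (197,0,15), (23,0,5), (1381,0,38), (691,0,27), (461,0,22), (173,0,14), (277,0,17), (11,0,4), (73,0,9), (347,0,19), (463,0,22), (139,0,12), (107,0,11), (29,0,6), (199,0,15), (41,0,7),
  (31,0,6), (349,0,19), (127,0,12), (233,0,16), (1399,0,38), (7,0,3), (467,0,22), (701,0,27), (61,0,8), (13,0,4), (281,0,17), (37,0,7), (67,0,9), (11,0,4), (1409,0,38), (47,0,7),
  (83,0,10), (353,0,19), (157,0,13), (101,0,11), (283,0,17), (59,0,8), (109,0,11), (709,0,27), (43,0,7), (71,0,9), (29,0,6), (79,0,9), (1423,0,38), (89,0,10), (19,0,5), (31,0,6),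
  (1427,0,38), (17,0,5), (1429,0,38), (13,0,4), (53,0,8), (179,0,14), (1433,0,38), (239,0,16), (41,0,7), (359,0,19), (479,0,22), (719,0,27), (1439,0,38), (5,0,3), (131,0,12), (103,0,11),
  (37,0,7), (19,1,5), (17,1,5), (241,0,16), (1447,0,39), (181,0,14), (23,0,5), (29,0,6), (1451,0,39), (11,1,4), (1453,0,39), (727,0,27), (97,0,10), (13,0,4), (47,0,7), (3,5,2),
  (1459,0,39), (73,0,9), (487,0,23), (43,0,7), (19,0,5), (61,0,8), (293,0,18), (733,0,28), (163,0,13), (367,0,20), (113,0,11), (7,1,3), (1471,0,39), (23,0,5), (491,0,23), (67,0,9),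
  (59,0,8), (41,0,7), (211,0,15), (739,0,28), (29,0,6), (37,0,7), (1481,0,39), (19,0,5), (1483,0,39), (53,0,8), (11,0,4), (743,0,28), (1487,0,39), (31,0,6), (1489,0,39), (149,0,13),
  (71,0,9), (373,0,20), (1493,0,39), (83,0,10), (23,0,5), (17,0,5), (499,0,23), (107,0,11), (1499,0,39), (5,2,3), (79,0,9), (751,0,28), (167,0,13), (47,0,7), (43,0,7), (251,0,16),
  (137,0,12), (29,0,6), (503,0,23), (151,0,13), (1511,0,39), (7,0,3), (89,0,10), (757,0,28), (101,0,11), (379,0,20), (41,0,7), (23,0,5), (31,0,6), (19,0,5), (13,1,4), (761,0,28),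
  (1523,0,40), (127,0,12), (61,0,8), (109,0,11), (509,0,23), (191,0,14), (139,0,12), (17,0,5), (1531,0,40), (383,0,20), (73,0,9), (59,0,8), (307,0,18), (3,0,2), (53,0,8), (769,0,28),
  (19,0,5), (11,0,4), (67,0,9), (257,0,17), (1543,0,40), (193,0,14), (103,0,11), (773,0,28), (17,0,5), (43,0,7), (1549,0,40), (31,0,6), (47,0,7), (97,0,10), (1553,0,40), (37,0,7),
  (311,0,18), (389,0,20), (173,0,14), (41,0,7), (1559,0,40), (13,0,4), (223,0,15), (71,0,9), (521,0,23), (23,0,5), (313,0,18), (29,0,6), (1567,0,40), (7,1,3), (523,0,23), (157,0,13),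
  (1571,0,40), (131,0,12), (13,0,4), (787,0,29), (7,0,3), (197,0,15), (83,0,10), (263,0,17), (1579,0,40), (79,0,9), (31,0,6), (113,0,11), (1583,0,40), (11,0,4), (317,0,18), (61,0,8),
  (23,1,5), (397,0,20), (227,0,16), (53,0,8), (43,0,7), (199,0,15), (59,0,8), (797,0,29), (29,0,6), (19,0,5), (1597,0,40), (47,0,7), (41,0,7), (5,1,3), (1601,0,41), (89,0,10),
  (229,0,16), (401,0,21), (107,0,11), (73,0,9), (1607,0,41), (67,0,9), (1609,0,41), (23,0,5), (179,0,14), (31,0,6), (1613,0,41), (269,0,17), (19,0,5), (101,0,11), (11,0,4), (809,0,29),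
  (1619,0,41), (5,0,3), (1621,0,41), (811,0,29), (541,0,24), (29,0,6), (13,0,4), (271,0,17), (1627,0,41), (37,0,7), (181,0,14), (163,0,13), (233,0,16), (17,0,5), (71,0,9), (43,0,7),
  (109,0,11), (409,0,21), (1637,0,41), (13,0,4), (149,0,13), (41,0,7), (547,0,24), (821,0,29), (53,0,8), (137,0,12), (47,0,7), (823,0,29), (61,0,8), (103,0,11), (97,0,10), (11,0,4),
  (127,0,12), (59,0,8), (29,0,6), (827,0,29), (331,0,19), (23,0,5), (1657,0,41), (829,0,29), (79,0,9), (83,0,10), (151,0,13), (277,0,17), (1663,0,41), (13,0,4), (37,0,7), (17,0,5),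
  (1667,0,41), (139,0,12), (1669,0,41), (167,0,13), (557,0,24), (19,0,5), (239,0,16), (31,0,6), (67,0,9), (419,0,21), (43,0,7), (839,0,29), (73,0,9), (7,0,3), (41,1,7), (29,1,6),
  (17,0,5), (421,0,21), (337,0,19), (281,0,17), (241,0,16), (211,0,15), (563,0,24), (13,1,4), (89,0,10), (47,0,7), (1693,0,42), (11,1,4), (113,0,11), (53,0,8), (1697,0,42), (283,0,17),
  (1699,0,42), (17,0,5), (7,0,3), (37,0,7), (131,0,12), (71,0,9), (31,0,6), (853,0,30), (569,0,24), (61,0,8), (1709,0,42), (19,0,5), (59,0,8), (107,0,11), (571,0,24), (857,0,30),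
  (7,2,3), (13,0,4), (101,0,11), (859,0,30), (191,0,14), (43,0,7), (1721,0,42), (41,0,7), (1723,0,42), (431,0,21), (23,0,5), (863,0,30), (157,0,13), (3,2,2), (19,0,5), (173,0,14),
  (577,0,25), (433,0,21), (1733,0,42), (17,1,5), (347,0,19), (31,0,6), (193,0,14), (79,0,9), (47,0,7), (29,0,6), (1741,0,42), (67,0,9), (83,0,10), (109,0,11), (349,0,19), (97,0,10),
  (1747,0,42), (23,0,5), (53,0,8), (7,0,3), (103,0,11), (73,0,9), (1753,0,42), (877,0,30), (13,0,4), (439,0,21), (251,0,16), (293,0,18), (1759,0,42), (11,0,4), (587,0,25), (881,0,30),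
  (43,0,7), (7,1,3), (353,0,19), (883,0,30), (31,0,6), (17,0,5), (61,0,8), (59,0,8), (23,0,5), (443,0,22), (197,0,15), (887,0,30), (71,0,9), (37,0,7), (1777,0,43), (127,0,12),
  (593,0,25), (89,0,10), (137,0,12), (11,0,4), (1783,0,43), (223,0,15), (17,0,5), (47,0,7), (1787,0,43), (149,0,13), (1789,0,43), (179,0,14), (199,0,15), (7,0,3), (163,0,13), (23,0,5),
  (359,0,19), (449,0,22), (599,0,25), (31,0,6), (257,0,17), (5,1,3), (1801,0,43), (53,0,8), (601,0,25), (41,0,7), (19,1,5), (43,0,7), (139,0,12), (113,0,11), (67,0,9), (181,0,14),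
  (1811,0,43), (151,0,13), (37,0,7), (907,0,31), (11,1,4), (227,0,16), (79,0,9), (101,0,11), (107,0,11), (13,0,4), (607,0,25), (911,0,31), (1823,0,43), (19,0,5), (73,0,9), (83,0,10),
  (29,0,6), (457,0,22), (59,0,8), (61,0,8), (1831,0,43), (229,0,16), (47,0,7), (131,0,12), (367,0,20), (17,0,5), (167,0,13), (919,0,31), (613,0,25), (23,0,5), (263,0,17), (307,0,18),
  (97,0,10), (461,0,22), (41,0,7), (71,0,9), (1847,0,43), (11,0,4), (43,1,7), (37,0,7), (617,0,25), (463,0,22), (109,0,11), (103,0,11), (53,0,8), (29,0,6), (619,0,25), (929,0,31),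
  (13,1,4), (31,0,6), (1861,0,44), (19,0,5), (23,0,5), (233,0,16), (373,0,20), (311,0,18), (1867,0,44), (467,0,22), (89,0,10), (17,0,5), (1871,0,44), (13,0,4), (1873,0,44), (937,0,31),
  (5,3,3), (67,0,9), (1877,0,44), (313,0,18), (1879,0,44), (47,0,7), (19,0,5), (941,0,31), (269,0,17), (157,0,13), (29,0,6), (41,0,7), (37,0,7), (59,0,8), (1889,0,44), (7,0,3),
  (61,0,8), (43,0,7), (631,0,26), (947,0,31), (379,0,20), (79,0,9), (271,0,17), (73,0,9), (211,0,15), (19,0,5), (1901,0,44), (317,0,18), (173,0,14), (17,0,5), (127,0,12), (953,0,31),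
  (1907,0,44), (53,0,8), (83,0,10), (191,0,14), (13,0,4), (239,0,16), (1913,0,44), (29,0,6), (383,0,20), (479,0,22), (71,0,9), (137,0,12), (101,0,11), (5,0,3), (113,0,11), (31,1,6),
  (641,0,26), (37,0,7), (11,0,4), (107,0,11), (47,0,7), (241,0,16), (643,0,26), (193,0,14), (1931,0,44), (23,0,5), (1933,0,44), (967,0,32), (43,0,7), (11,1,4), (149,0,13), (19,0,5),
  (277,0,17), (97,0,10), (647,0,26), (971,0,32), (67,0,9), (3,4,2), (389,0,20), (139,0,12), (59,0,8), (487,0,23), (1949,0,45), (13,0,4), (1951,0,45), (61,0,8), (31,0,6), (977,0,32),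
  (23,0,5), (163,0,13), (103,0,11), (89,0,10), (653,0,26), (7,1,3), (53,0,8), (109,0,11), (151,0,13), (491,0,23), (131,0,12), (983,0,32), (281,0,17), (41,0,7), (179,0,14), (197,0,15),
  (73,0,9), (29,0,6), (1973,0,45), (47,0,7), (79,0,9), (19,0,5), (659,0,26), (43,0,7), (1979,0,45), (11,0,4), (283,0,17), (991,0,32), (661,0,26), (31,0,6), (397,0,20), (331,0,19),
  (1987,0,45), (71,0,9), (17,0,5), (199,0,15), (181,0,14), (83,0,10), (1993,0,45), (997,0,32), (19,0,5), (499,0,23), (1997,0,45), (37,0,7), (1999,0,45), (5,2,3), (29,0,6), (13,0,4),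
  (2003,0,45), (167,0,13), (401,0,21), (59,0,8), (223,0,15), (251,0,16), (41,0,7), (67,0,9), (2011,0,45), (503,0,23), (61,0,8), (53,0,8), (31,0,6), (7,0,3), (2017,0,45), (1009,0,32),
  (673,0,26), (101,0,11), (47,0,7), (337,0,19), (17,1,5), (23,0,5), (5,1,3), (1013,0,32), (2027,0,46), (13,1,4), (2029,0,46), (29,0,6), (677,0,27), (127,0,12), (107,0,11), (113,0,11),
  (37,0,7), (509,0,23), (97,0,10), (1019,0,32), (2039,0,46), (17,0,5), (157,0,13), (1021,0,32), (227,0,16), (73,0,9), (409,0,21), (31,0,6), (89,0,10), (2,10,2), (683,0,27), (41,0,7),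
  (293,0,18), (19,0,5), (2053,0,46), (79,0,9), (137,0,12), (257,0,17), (17,0,5), (7,2,3), (71,0,9), (103,0,11), (229,0,16), (1031,0,33), (2063,0,46), (43,0,7), (59,0,8), (1033,0,33),
  (53,0,8), (47,0,7), (2069,0,46), (23,0,5), (109,0,11), (37,0,7), (691,0,27), (61,0,8), (83,0,10), (173,0,14), (67,0,9), (1039,0,33), (11,0,4), (13,0,4), (2081,0,46), (347,0,19),
  (2083,0,46), (521,0,23), (139,0,12), (149,0,13), (2087,0,46), (29,0,6), (2089,0,46), (19,0,5), (41,0,7), (523,0,23), (23,0,5), (349,0,19), (419,0,21), (131,0,12), (233,0,16), (1049,0,33),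
  (2099,0,46), (7,0,3), (191,0,14), (1051,0,33), (701,0,27), (263,0,17), (421,0,21), (13,0,4), (43,0,7), (31,0,6), (37,0,7), (211,0,15), (2111,0,46), (11,0,4), (2113,0,46), (151,0,13),
  (47,0,7), (23,1,5), (73,0,9), (353,0,19), (163,0,13), (53,0,8), (101,0,11), (1061,0,33), (193,0,14), (59,0,8), (17,0,5), (1063,0,33), (709,0,27), (19,0,5), (2129,0,47), (71,0,9),
  (2131,0,47), (41,0,7), (79,0,9), (97,0,10), (61,0,8), (89,0,10), (2137,0,47), (1069,0,33), (31,0,6), (107,0,11), (2141,0,47), (17,0,5), (2143,0,47), (67,0,9), (13,0,4), (37,0,7),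
  (113,0,11), (179,0,14), (307,0,18), (43,0,7), (239,0,16), (269,0,17), (2153,0,47), (359,0,19), (431,0,21), (11,0,4), (719,0,27), (83,0,10), (127,0,12), (5,0,3), (2161,0,47), (47,0,7),
  (103,0,11), (541,0,24), (433,0,21), (19,1,5), (197,0,15), (271,0,17), (241,0,16), (31,0,6), (167,0,13), (181,0,14), (53,0,8), (1087,0,33), (29,0,6), (17,0,5), (311,0,18), (11,1,4),
  (2179,0,47), (109,0,11), (727,0,27), (1091,0,34), (59,0,8), (13,0,4), (23,0,5), (1093,0,34), (3,6,2), (547,0,24), (199,0,15), (73,0,9), (313,0,18), (137,0,12), (43,0,7), (1097,0,34),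
  (439,0,21), (61,0,8), (13,2,4), (157,0,13), (733,0,28), (11,0,4), (71,0,9), (367,0,20), (2203,0,47), (29,0,6), (7,1,3), (1103,0,34), (2207,0,47), (23,0,5), (47,1,7), (17,0,5),
  (67,0,9), (79,0,9), (2213,0,48), (41,0,7), (443,0,22), (277,0,17), (739,0,28), (1109,0,34), (317,0,18), (37,0,7), (2221,0,48), (101,0,11), (19,0,5), (139,0,12), (89,0,10), (53,0,8),
  (131,0,12), (557,0,24), (743,0,28), (223,0,15), (97,0,10), (31,0,6), (29,0,6), (1117,0,34), (149,0,13), (43,0,7), (2237,0,48), (373,0,20), (2239,0,48), (7,0,3), (83,0,10), (59,0,8),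
  (2243,0,48), (17,0,5), (449,0,22), (1123,0,34), (107,0,11), (281,0,17), (173,0,14), (5,2,3), (2251,0,48), (563,0,24), (751,0,28), (23,0,5), (41,0,7), (47,0,7), (61,0,8), (1129,0,34),
  (251,0,16), (113,0,11), (19,0,5), (29,0,6), (73,0,9), (283,0,17), (151,0,13), (103,0,11), (2267,0,48), (7,0,3), (2269,0,48), (227,0,16), (757,0,28), (71,0,9), (2273,0,48), (379,0,20),
  (13,0,4), (569,0,24), (23,0,5), (67,0,9), (53,0,8), (19,0,5), (2281,0,48), (163,0,13), (761,0,28), (571,0,24), (457,0,22), (127,0,12), (2287,0,48), (13,0,4), (109,0,11), (229,0,16),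
  (79,0,9), (191,0,14), (2293,0,48), (37,0,7), (17,0,5), (41,0,7), (2297,0,48), (383,0,20), (19,0,5), (23,0,5), (59,0,8), (1151,0,34), (47,0,7), (3,1,2), (461,0,22), (1153,0,34),
  (769,0,28), (577,0,25), (2309,0,49), (11,0,4), (2311,0,49), (17,1,5), (257,0,17), (89,0,10), (463,0,22), (193,0,14), (331,0,19), (61,0,8), (773,0,28), (29,0,6), (211,0,15), (43,0,7),
  (101,0,11), (83,0,10), (31,0,6), (1163,0,35), (179,0,14), (97,0,10), (137,0,12), (233,0,16), (37,0,7), (53,0,8), (2333,0,49), (389,0,20), (467,0,22), (73,0,9), (41,0,7), (167,0,13),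
  (2339,0,49), (13,0,4), (2341,0,49), (1171,0,35), (71,0,9), (293,0,18), (67,0,9), (23,0,5), (2347,0,49), (587,0,25), (29,0,6), (47,0,7), (2351,0,49), (7,1,3), (181,0,14), (107,0,11),
  (157,0,13), (31,0,6), (2357,0,49), (131,0,12), (337,0,19), (59,0,8), (787,0,29), (1181,0,35), (139,0,12), (197,0,15), (43,0,7), (13,1,4), (263,0,17), (37,0,7), (103,0,11), (79,0,9),
  (2371,0,49), (593,0,25), (113,0,11), (1187,0,35), (19,0,5), (11,0,4), (2377,0,49), (41,0,7), (61,0,8), (17,0,5), (2381,0,49), (397,0,20), (2383,0,49), (149,0,13), (53,0,8), (1193,0,35),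
  (31,0,6), (199,0,15), (2389,0,49), (239,0,16), (797,0,29), (23,0,5), (2393,0,49), (19,0,5), (479,0,22), (599,0,25), (47,0,7), (109,0,11), (2399,0,49), (5,1,3), (7,3,3), (1201,0,35),
  (89,0,10), (601,0,25), (37,0,7), (401,0,21), (83,0,10), (43,0,7), (73,0,9), (241,0,16), (2411,0,50), (67,0,9), (127,0,12), (71,0,9), (23,0,5), (151,0,13), (2417,0,50), (31,0,6),
  (59,0,8), (11,1,4), (269,0,17), (173,0,14), (2423,0,50), (101,0,11), (97,0,10), (1213,0,35), (809,0,29), (607,0,25), (347,0,19), (5,0,3), (17,0,5), (19,0,5), (811,0,29), (1217,0,35),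
  (487,0,23), (29,0,6), (2437,0,50), (53,0,8), (271,0,17), (61,0,8), (2441,0,50), (37,0,7), (349,0,19), (47,0,7), (163,0,13), (1223,0,35), (2447,0,50), (17,0,5), (79,0,9), (7,1,3)]

/-- the sixteen exceptional exponents -/
def critExc : List ℕ := [3, 4, 5, 6, 7, 8, 9, 10, 12, 14, 15, 18, 20, 24, 30, 48]

/-- check the table entries from index `n` on -/
def chkFrom : ℕ → List (ℕ × ℕ × ℕ) → Bool
  | _, [] => true
  | n, e :: l => (critExc.contains n || critB 2 n e.1 e.2.1 e.2.2) && chkFrom (n + 1) l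

lemma chkFrom_spec (l : List (ℕ × ℕ × ℕ)) (n0 : ℕ) (h : chkFrom n0 l = true) (i : ℕ) (hi : i < l.length) :
    critExc.contains (n0 + i) = true ∨
      critB 2 (n0 + i) (l[i]).1 (l[i]).2.1 (l[i]).2.2 = true := by
  induction l generalizing n0 i with
  | nil => simp at hi
  | cons e l ih =>
    unfold chkFrom at h
    rw [Bool.and_eq_true, Bool.or_eq_true] at h
    rcases i with _ | i
    · simpa using h.1
    · have := ih (n0 + 1) h.2 i (by simpa using hi)
      have hidx : n0 + 1 + i = n0 + (i + 1) := by omega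
      rw [hidx] at this
      simpa using this

lemma critTable_length : critTable.length = 2448 := by decide +kernel

set_option maxRecDepth 100000 in
lemma critTable_chk : chkFrom 3 critTable = true := by
  decide +kernel

/-- for `3 ≤ n < 2451` outside the exceptional list, the criterion holds at `a = 2` -/
lemma exists_critB {n : ℕ} (hn : 3 ≤ n) (hn' : n < 2451) (hexc : n ∉ critExc) :
    ∃ p k s : ℕ, critB 2 n p k s = true := by
  have hi : n - 3 < critTable.length := by rw [critTable_length]; omega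
  have := chkFrom_spec critTable 3 critTable_chk (n - 3) hi
  have hidx : 3 + (n - 3) = n := by omega
  rw [hidx] at this
  rcases this with h | h
  · exact absurd (by simpa using h) hexc
  · exact ⟨_, _, _, h⟩

end Cfsg.Agent.Lib.Helper99
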