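import Mathlib
import Cfsg.Prelude.Def_GeometricClasses

/-!
# Field subalgebras of degree two of a matrix algebra and their normalizers (helper99)
-/

set_option autoImplicit false
set_option linter.unusedSectionVars false

namespace Cfsg.Agent.Lib.Helper99.ExtInv

open Module Matrix Cfsg.Geo

variable {F : Type*} [Field F] {n : ℕ} {K : Subalgebra F (Matrix (Fin n) (Fin n) F)}

theorem exists_inv' {r : ℕ} (hK : IsFieldSubalgebra r K) {a : Matrix (Fin n) (Fin n) F}
    (ha : a ∈ K) (ha0 : a ≠ 0) : ∃ b ∈ K, a * b = 1 ∧ b * a = 1 := by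
  obtain ⟨b, hb, hab⟩ := hK.inv a ha ha0
  exact ⟨b, hb, hab, by rw [hK.comm b hb a ha]; exact hab⟩

theorem eq_zero_of_mul_eq_zero {r : ℕ} (hK : IsFieldSubalgebra r K)
    {a b : Matrix (Fin n) (Fin n) F} (ha : a ∈ K) (h : a * b = 0) : a = 0 ∨ b = 0 := by
  by_cases ha0 : a = 0
  · exact Or.inl ha0
  · right
    obtain ⟨c, -, -, hca⟩ := exists_inv' hK ha ha0
    calc b = (c * a) * b := by rw [hca, one_mul]
      _ = 0 := by rw [mul_assoc, h, mul_zero]

theorem mulVec_eq_zero' {r : ℕ} (hK : IsFieldSubalgebra r K) {a : Matrix (Fin n) (Fin n) F}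
    (ha : a ∈ K) (ha0 : a ≠ 0) {v : Fin n → F} (h : a *ᵥ v = 0) : v = 0 := by
  obtain ⟨b, -, -, hba⟩ := exists_inv' hK ha ha0
  calc v = (b * a) *ᵥ v := by rw [hba, Matrix.one_mulVec]
    _ = 0 := by rw [← Matrix.mulVec_mulVec, h, Matrix.mulVec_zero]

/-- A generator of a field subalgebra of degree two, with its minimal equation. -/
theorem exists_gen (hK : IsFieldSubalgebra 2 K) (hn : 0 < n) :
    ∃ (κ : Matrix (Fin n) (Fin n) F) (s d : F), κ ∈ K ∧ κ * κ = s • κ - d • 1 ∧
      (∀ t : F, t * t - s * t + d ≠ 0) ∧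
      (∀ c : F, κ ≠ c • (1 : Matrix (Fin n) (Fin n) F)) ∧
      (∀ a ∈ K, ∃ α β : F, a = α • (1 : Matrix (Fin n) (Fin n) F) + β • κ) := by
  classical
  haveI : Nonempty (Fin n) := ⟨⟨0, hn⟩⟩
  have h1ne : (1 : Matrix (Fin n) (Fin n) F) ≠ 0 := one_ne_zero
  have hfr : finrank F (Subalgebra.toSubmodule K) = 2 := by
    rw [Subalgebra.finrank_toSubmodule]
    exact hK.finrank_eq
  have hex : ∃ κ ∈ K, ∀ c : F, κ ≠ c • (1 : Matrix (Fin n) (Fin n) F) := by
    by_contra hcon
    push Not at hcon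
    have hle : Subalgebra.toSubmodule K ≤ Submodule.span F {(1 : Matrix (Fin n) (Fin n) F)} := by
      intro a ha
      obtain ⟨c, hc⟩ := hcon a ha
      rw [hc]
      exact Submodule.smul_mem _ _ (Submodule.subset_span rfl)
    have h2 := Submodule.finrank_mono hle
    rw [finrank_span_singleton h1ne, hfr] at h2
    omega
  obtain ⟨κ, hκ, hκns⟩ := hex
  have hli : LinearIndependent F ![(1 : Matrix (Fin n) (Fin n) F), κ] := by
    rw [LinearIndependent.pair_iff]
    intro a b hab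
    by_cases hb : b = 0
    · rw [hb, zero_smul, add_zero] at hab
      exact ⟨(smul_eq_zero.mp hab).resolve_right h1ne, hb⟩
    · exfalso
      apply hκns (-(b⁻¹ * a))
      have h3 : b • κ = -(a • (1 : Matrix (Fin n) (Fin n) F)) := eq_neg_of_add_eq_zero_right hab
      calc κ = b⁻¹ • (b • κ) := by rw [smul_smul, inv_mul_cancel₀ hb, one_smul]
        _ = -(b⁻¹ * a) • (1 : Matrix (Fin n) (Fin n) F) := by
          rw [h3, smul_neg, smul_smul, neg_smul]
  have hspan : Submodule.span F {(1 : Matrix (Fin n) (Fin n) F), κ} = Subalgebra.toSubmodule K := by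
    apply Submodule.eq_of_le_of_finrank_eq
    · rw [Submodule.span_le]
      rintro x hx
      rcases hx with rfl | hx
      · exact K.one_mem
      · rw [Set.mem_singleton_iff] at hx
        rw [hx]
        exact hκ
    · have h5 := finrank_span_eq_card hli
      rw [Matrix.range_cons_cons_empty, Fintype.card_fin] at h5
      rw [h5, hfr]
  have hgen : ∀ a ∈ K, ∃ α β : F, a = α • (1 : Matrix (Fin n) (Fin n) F) + β • κ := by
    intro a ha
    have h6 : a ∈ Submodule.span F {(1 : Matrix (Fin n) (Fin n) F), κ} := by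
      rw [hspan]
      exact ha
    obtain ⟨α, β, h7⟩ := Submodule.mem_span_pair.mp h6
    exact ⟨α, β, h7.symm⟩
  obtain ⟨α, β, hκκ⟩ := hgen (κ * κ) (K.mul_mem hκ hκ)
  refine ⟨κ, β, -α, hκ, ?_, ?_, hκns, hgen⟩
  · rw [hκκ, neg_smul, sub_neg_eq_add, add_comm]
  · intro t ht
    have hα : α = t * t - β * t := by linear_combination -ht
    have hprod : (κ - t • (1 : Matrix (Fin n) (Fin n) F)) * (κ - (β - t) • 1) = 0 := by
      have h8 : (κ - t • (1 : Matrix (Fin n) (Fin n) F)) * (κ - (β - t) • 1)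
          = κ * κ - (β - t) • κ - t • κ + (t * (β - t)) • 1 := by
        simp only [sub_mul, mul_sub, smul_mul_assoc, mul_smul_comm, one_mul, mul_one]
        module
      rw [h8, hκκ, hα]
      module
    have hm1 : κ - t • (1 : Matrix (Fin n) (Fin n) F) ∈ K :=
      K.sub_mem hκ (K.smul_mem K.one_mem t)
    rcases eq_zero_of_mul_eq_zero hK hm1 hprod with h9 | h9
    · exact hκns t (sub_eq_zero.mp h9)
    · exact hκns (β - t) (sub_eq_zero.mp h9)

/-- An element of the normalizer centralizes the generator or conjugates it to its conjugate. -/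
theorem conj_gen (hK : IsFieldSubalgebra 2 K) {κ : Matrix (Fin n) (Fin n) F} {s d : F}
    (hκ : κ ∈ K) (hκκ : κ * κ = s • κ - d • 1) (G : GL (Fin n) F)
    (hG : G ∈ subalgebraNormalizer K) :
    (G : Matrix (Fin n) (Fin n) F) * κ = κ * (G : Matrix (Fin n) (Fin n) F) ∨
      (G : Matrix (Fin n) (Fin n) F) * κ
        = (s • (1 : Matrix (Fin n) (Fin n) F) - κ) * (G : Matrix (Fin n) (Fin n) F) := by
  have hGG : (G : Matrix (Fin n) (Fin n) F) * ((G⁻¹ : GL (Fin n) F) : Matrix (Fin n) (Fin n) F)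
      = 1 := by rw [← Units.val_mul, mul_inv_cancel, Units.val_one]
  have hGG' : ((G⁻¹ : GL (Fin n) F) : Matrix (Fin n) (Fin n) F) * (G : Matrix (Fin n) (Fin n) F)
      = 1 := by rw [← Units.val_mul, inv_mul_cancel, Units.val_one]
  obtain ⟨κ', hκ'def⟩ : ∃ κ' : Matrix (Fin n) (Fin n) F, κ' = (G : Matrix (Fin n) (Fin n) F) * κ *
      ((G⁻¹ : GL (Fin n) F) : Matrix (Fin n) (Fin n) F) := ⟨_, rfl⟩
  have hκ'K : κ' ∈ K := by
    rw [hκ'def]
    exact (hG κ).mp hκ
  have hκ'G : κ' * (G : Matrix (Fin n) (Fin n) F) = (G : Matrix (Fin n) (Fin n) F) * κ := by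
    rw [hκ'def, mul_assoc, hGG', mul_one]
  have hκ'κ' : κ' * κ' = s • κ' - d • 1 := by
    have h1 : κ' * κ' = (G : Matrix (Fin n) (Fin n) F) * (κ * κ) *
        ((G⁻¹ : GL (Fin n) F) : Matrix (Fin n) (Fin n) F) := by
      rw [hκ'def]
      calc (G : Matrix (Fin n) (Fin n) F) * κ * ((G⁻¹ : GL (Fin n) F) : Matrix (Fin n) (Fin n) F) *
            ((G : Matrix (Fin n) (Fin n) F) * κ *
              ((G⁻¹ : GL (Fin n) F) : Matrix (Fin n) (Fin n) F))
          = (G : Matrix (Fin n) (Fin n) F) * κ *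
            (((G⁻¹ : GL (Fin n) F) : Matrix (Fin n) (Fin n) F) * (G : Matrix (Fin n) (Fin n) F)) *
              κ * ((G⁻¹ : GL (Fin n) F) : Matrix (Fin n) (Fin n) F) := by
            simp only [mul_assoc]
        _ = (G : Matrix (Fin n) (Fin n) F) * (κ * κ) *
            ((G⁻¹ : GL (Fin n) F) : Matrix (Fin n) (Fin n) F) := by
            rw [hGG', mul_one, mul_assoc (G : Matrix (Fin n) (Fin n) F)]
    rw [h1, hκκ, mul_sub, sub_mul, mul_smul_comm, smul_mul_assoc, ← hκ'def, mul_smul_comm,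
      mul_one, smul_mul_assoc, hGG]
  have hcomm : κ' * κ = κ * κ' := hK.comm κ' hκ'K κ hκ
  have hprod : (κ' - κ) * (κ' + κ - s • (1 : Matrix (Fin n) (Fin n) F)) = 0 := by
    have h8 : (κ' - κ) * (κ' + κ - s • (1 : Matrix (Fin n) (Fin n) F))
        = (κ' * κ' - s • κ') - (κ * κ - s • κ) + (κ' * κ - κ * κ') := by
      simp only [sub_mul, mul_sub, mul_add, mul_smul_comm, mul_one]
      module
    rw [h8, hκ'κ', hκκ, hcomm]
    abel
  rcases eq_zero_of_mul_eq_zero hK (K.sub_mem hκ'K hκ) hprod with h9 | h9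
  · left
    rw [← hκ'G, sub_eq_zero.mp h9]
  · right
    rw [← hκ'G]
    congr 1
    have h10 : κ' + κ = s • (1 : Matrix (Fin n) (Fin n) F) := sub_eq_zero.mp h9
    rw [← h10]
    abel

/-- A criterion for membership in the normalizer of a field subalgebra of degree two. -/
theorem mem_normalizer_of {κ : Matrix (Fin n) (Fin n) F} {s : F} (hκ : κ ∈ K)
    (hgen : ∀ a ∈ K, ∃ α β : F, a = α • (1 : Matrix (Fin n) (Fin n) F) + β • κ)
    (G : GL (Fin n) F)
    (h : (G : Matrix (Fin n) (Fin n) F) * κ = κ * (G : Matrix (Fin n) (Fin n) F) ∨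
      (G : Matrix (Fin n) (Fin n) F) * κ
        = (s • (1 : Matrix (Fin n) (Fin n) F) - κ) * (G : Matrix (Fin n) (Fin n) F)) :
    G ∈ subalgebraNormalizer K := by
  have hGG : (G : Matrix (Fin n) (Fin n) F) * ((G⁻¹ : GL (Fin n) F) : Matrix (Fin n) (Fin n) F)
      = 1 := by rw [← Units.val_mul, mul_inv_cancel, Units.val_one]
  have hGG' : ((G⁻¹ : GL (Fin n) F) : Matrix (Fin n) (Fin n) F) * (G : Matrix (Fin n) (Fin n) F)
      = 1 := by rw [← Units.val_mul, inv_mul_cancel, Units.val_one]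
  have hsκ : s • (1 : Matrix (Fin n) (Fin n) F) - κ ∈ K :=
    K.sub_mem (K.smul_mem K.one_mem s) hκ
  obtain ⟨κ', hκ'K, hκ'⟩ : ∃ κ' ∈ K, (G : Matrix (Fin n) (Fin n) F) * κ
      = κ' * (G : Matrix (Fin n) (Fin n) F) := by
    rcases h with h | h
    · exact ⟨κ, hκ, h⟩
    · exact ⟨_, hsκ, h⟩
  have hinvconj : ∀ κ₁ κ₂ : Matrix (Fin n) (Fin n) F,
      (G : Matrix (Fin n) (Fin n) F) * κ₂ = κ₁ * (G : Matrix (Fin n) (Fin n) F) →
      ((G⁻¹ : GL (Fin n) F) : Matrix (Fin n) (Fin n) F) * κ₁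
        = κ₂ * ((G⁻¹ : GL (Fin n) F) : Matrix (Fin n) (Fin n) F) := by
    intro κ₁ κ₂ h12
    calc ((G⁻¹ : GL (Fin n) F) : Matrix (Fin n) (Fin n) F) * κ₁
        = ((G⁻¹ : GL (Fin n) F) : Matrix (Fin n) (Fin n) F) * (κ₁ * (G : Matrix (Fin n) (Fin n) F))
          * ((G⁻¹ : GL (Fin n) F) : Matrix (Fin n) (Fin n) F) := by
          rw [mul_assoc, mul_assoc, hGG, mul_one]
      _ = ((G⁻¹ : GL (Fin n) F) : Matrix (Fin n) (Fin n) F) * ((G : Matrix (Fin n) (Fin n) F) * κ₂)
          * ((G⁻¹ : GL (Fin n) F) : Matrix (Fin n) (Fin n) F) := by rw [h12]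
      _ = κ₂ * ((G⁻¹ : GL (Fin n) F) : Matrix (Fin n) (Fin n) F) := by
          rw [← mul_assoc, hGG', one_mul]
  obtain ⟨κ'', hκ''K, hκ''⟩ : ∃ κ'' ∈ K, ((G⁻¹ : GL (Fin n) F) : Matrix (Fin n) (Fin n) F) * κ
      = κ'' * ((G⁻¹ : GL (Fin n) F) : Matrix (Fin n) (Fin n) F) := by
    rcases h with h | h
    · exact ⟨κ, hκ, hinvconj κ κ h⟩
    · refine ⟨_, hsκ, hinvconj κ _ ?_⟩
      rw [mul_sub, h, mul_smul_comm, mul_one, sub_mul, smul_mul_assoc, one_mul, sub_sub_cancel]
  intro t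
  show t ∈ K ↔ (G : Matrix (Fin n) (Fin n) F) * t *
    ((G⁻¹ : GL (Fin n) F) : Matrix (Fin n) (Fin n) F) ∈ K
  constructor
  · intro ht
    obtain ⟨α, β, rfl⟩ := hgen t ht
    have h1 : (G : Matrix (Fin n) (Fin n) F) * (α • (1 : Matrix (Fin n) (Fin n) F) + β • κ) *
        ((G⁻¹ : GL (Fin n) F) : Matrix (Fin n) (Fin n) F)
        = α • (1 : Matrix (Fin n) (Fin n) F) + β • κ' := by
      rw [mul_add, add_mul, mul_smul_comm, mul_one, smul_mul_assoc, hGG, mul_smul_comm,
        smul_mul_assoc, hκ', mul_assoc, hGG, mul_one]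
    rw [h1]
    exact K.add_mem (K.smul_mem K.one_mem α) (K.smul_mem hκ'K β)
  · intro ht
    obtain ⟨α, β, hαβ⟩ := hgen _ ht
    have h1 : t = α • (1 : Matrix (Fin n) (Fin n) F) + β • κ'' := by
      calc t = ((G⁻¹ : GL (Fin n) F) : Matrix (Fin n) (Fin n) F) *
            ((G : Matrix (Fin n) (Fin n) F) * t *
              ((G⁻¹ : GL (Fin n) F) : Matrix (Fin n) (Fin n) F)) *
            (G : Matrix (Fin n) (Fin n) F) := by
            rw [mul_assoc, mul_assoc, hGG', mul_one, ← mul_assoc, hGG', one_mul]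
        _ = ((G⁻¹ : GL (Fin n) F) : Matrix (Fin n) (Fin n) F) *
            (α • (1 : Matrix (Fin n) (Fin n) F) + β • κ) * (G : Matrix (Fin n) (Fin n) F) := by
            rw [hαβ]
        _ = α • (1 : Matrix (Fin n) (Fin n) F) + β • κ'' := by
            rw [mul_add, add_mul, mul_smul_comm, mul_one, smul_mul_assoc, hGG', mul_smul_comm,
              smul_mul_assoc, hκ'', mul_assoc, hGG', mul_one]
    rw [h1]
    exact K.add_mem (K.smul_mem K.one_mem α) (K.smul_mem hκ''K β)

/-- An element `G` of the normalizer of a field subalgebra of degree two (in dimension at least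
three) has no `G - c` of rank one. -/
theorem rank_ne_one_of_mem_normalizer (hK : IsFieldSubalgebra 2 K) (hn : 3 ≤ n)
    (G : GL (Fin n) F) (hG : G ∈ subalgebraNormalizer K) (c : F) :
    ((G : Matrix (Fin n) (Fin n) F) - c • (1 : Matrix (Fin n) (Fin n) F)).rank ≠ 1 := by
  classical
  intro hrank
  obtain ⟨κ, s, d, hκ, hκκ, hroot, hκns, hgen⟩ := exists_gen hK (by omega)
  have hGG' : ((G⁻¹ : GL (Fin n) F) : Matrix (Fin n) (Fin n) F) * (G : Matrix (Fin n) (Fin n) F)
      = 1 := by rw [← Units.val_mul, inv_mul_cancel, Units.val_one]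
  set R : Matrix (Fin n) (Fin n) F :=
    (G : Matrix (Fin n) (Fin n) F) - c • (1 : Matrix (Fin n) (Fin n) F) with hR
  set φ : Module.End F (Fin n → F) := Matrix.toLin' R with hφ
  have hrange : finrank F (LinearMap.range φ) = 1 := hrank
  have hκ0 : κ ≠ 0 := by
    intro h
    exact hκns 0 (by rw [h, zero_smul])
  have hcomm_case : (G : Matrix (Fin n) (Fin n) F) * κ = κ * (G : Matrix (Fin n) (Fin n) F) →
      False := by
    intro hcase
    have hRκ : R * κ = κ * R := by
      rw [hR, sub_mul, mul_sub, hcase, smul_mul_assoc, one_mul, mul_smul_comm, mul_one]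
    obtain ⟨w, hw0, hw⟩ := finrank_eq_one_iff'.mp hrange
    have hκw : κ *ᵥ (w : Fin n → F) ∈ LinearMap.range φ := by
      obtain ⟨v, hv⟩ := w.2
      refine ⟨κ *ᵥ v, ?_⟩
      rw [← hv, hφ, Matrix.toLin'_apply, Matrix.toLin'_apply, Matrix.mulVec_mulVec,
        Matrix.mulVec_mulVec, hRκ]
    obtain ⟨t, ht⟩ := hw ⟨_, hκw⟩
    have ht' : t • (w : Fin n → F) = κ *ᵥ (w : Fin n → F) := congrArg Subtype.val ht
    have h1 : (κ - t • (1 : Matrix (Fin n) (Fin n) F)) *ᵥ (w : Fin n → F) = 0 := by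
      rw [Matrix.sub_mulVec, ← ht', Matrix.smul_mulVec, Matrix.one_mulVec, sub_self]
    have h2 : κ - t • (1 : Matrix (Fin n) (Fin n) F) ≠ 0 := fun h => hκns t (sub_eq_zero.mp h)
    have h3 := mulVec_eq_zero' hK (K.sub_mem hκ (K.smul_mem K.one_mem t)) h2 h1
    exact hw0 (Subtype.ext h3)
  rcases conj_gen hK hκ hκκ G hG with hcase | hcase
  · exact hcomm_case hcase
  · by_cases hsame : s • (1 : Matrix (Fin n) (Fin n) F) - κ = κ
    · rw [hsame] at hcase
      exact hcomm_case hcase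
    · have hκd : κ - (s • (1 : Matrix (Fin n) (Fin n) F) - κ) ≠ 0 := by
        intro h
        exact hsame (sub_eq_zero.mp h).symm
      have hκdK : κ - (s • (1 : Matrix (Fin n) (Fin n) F) - κ) ∈ K :=
        K.sub_mem hκ (K.sub_mem (K.smul_mem K.one_mem s) hκ)
      set W : Submodule F (Fin n → F) := LinearMap.ker φ with hW
      have hrn : finrank F (LinearMap.range φ) + finrank F W = finrank F (Fin n → F) :=
        LinearMap.finrank_range_add_finrank_ker φ
      rw [hrange, Module.finrank_fintype_fun_eq_card, Fintype.card_fin] at hrn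
      have hGw : ∀ w ∈ W, (G : Matrix (Fin n) (Fin n) F) *ᵥ w = c • w := by
        intro w hw
        rw [hW, LinearMap.mem_ker, hφ, Matrix.toLin'_apply, hR, Matrix.sub_mulVec,
          Matrix.smul_mulVec, Matrix.one_mulVec, sub_eq_zero] at hw
        exact hw
      have hkey : ∀ w ∈ W, κ *ᵥ w ∈ W → w = 0 := by
        intro w hw hκw
        have h1 := hGw _ hκw
        rw [Matrix.mulVec_mulVec, hcase, ← Matrix.mulVec_mulVec, hGw w hw, Matrix.mulVec_smul]
          at h1
        by_cases hc : c = 0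
        · have h2 := hGw w hw
          rw [hc, zero_smul] at h2
          calc w = (((G⁻¹ : GL (Fin n) F) : Matrix (Fin n) (Fin n) F) *
                (G : Matrix (Fin n) (Fin n) F)) *ᵥ w := by rw [hGG', Matrix.one_mulVec]
            _ = 0 := by rw [← Matrix.mulVec_mulVec, h2, Matrix.mulVec_zero]
        · have h3 : (κ - (s • (1 : Matrix (Fin n) (Fin n) F) - κ)) *ᵥ w = 0 := by
            have h4 : c • ((κ - (s • (1 : Matrix (Fin n) (Fin n) F) - κ)) *ᵥ w) = 0 := by
              rw [Matrix.sub_mulVec, smul_sub, h1, sub_self]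
            exact (smul_eq_zero.mp h4).resolve_left hc
          exact mulVec_eq_zero' hK hκdK hκd h3
      have hinj : Function.Injective (Matrix.toLin' κ) := by
        rw [← LinearMap.ker_eq_bot, LinearMap.ker_eq_bot']
        intro v hv
        rw [Matrix.toLin'_apply] at hv
        exact mulVec_eq_zero' hK hκ hκ0 hv
      set W₂ : Submodule F (Fin n → F) := W.map (Matrix.toLin' κ) with hW₂
      have hfW₂ : finrank F W₂ = finrank F W :=
        (Submodule.equivMapOfInjective (Matrix.toLin' κ) hinj W).finrank_eq.symm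
      have hinf : W ⊓ W₂ = ⊥ := by
        rw [eq_bot_iff]
        rintro v ⟨hvW, w, hwW, rfl⟩
        rw [Matrix.toLin'_apply] at hvW ⊢
        rw [hkey w hwW hvW, Matrix.mulVec_zero]
        exact Submodule.zero_mem _
      have hsum := Submodule.finrank_sup_add_finrank_inf_eq W W₂
      rw [hinf, finrank_bot, add_zero, hfW₂] at hsum
      have hle := Submodule.finrank_le (W ⊔ W₂)
      rw [Module.finrank_fintype_fun_eq_card, Fintype.card_fin] at hle
      omega

end Cfsg.Agent.Lib.Helper99.ExtInv
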