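import Mathlib
import Cfsg.Prelude.Def_GeometricClasses
import Cfsg.Agent.Lib.Helper40.SimReduce
import Cfsg.Agent.Lib.Helper13.SympSplit

/-!
# Involutions of `PSL_n(q)` and symplectic-type subgroups: generalities (helper99)
-/

set_option autoImplicit false
set_option linter.unusedSectionVars false

namespace Cfsg.Agent.Lib.Helper99.SpInv

open Module Matrix Cfsg.Geo

section nt

variable {F : Type*} [Field F] [Fintype F]

/-- There is no `n`-th root of `-1` when `(q - 1)_2 ≤ (n)_2`. -/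
theorem pow_ne_neg_one {q : ℕ} (hq : Fintype.card F = q) (h2 : (2 : F) ≠ 0) {n : ℕ} (hn : 0 < n)
    (hv : padicValNat 2 (q - 1) ≤ padicValNat 2 n) (lam : F) : lam ^ n ≠ -1 := by
  intro h
  have hq1 : q - 1 ≠ 0 := by
    have := Fintype.one_lt_card (α := F)
    omega
  have hlam0 : lam ≠ 0 := by
    rintro rfl
    rw [zero_pow hn.ne'] at h
    exact one_ne_zero (neg_eq_zero.mp h.symm)
  have hsn : ¬ 2 ^ (padicValNat 2 (q - 1) + 1) ∣ q - 1 := pow_succ_padicValNat_not_dvd hq1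
  have hsd : 2 ^ padicValNat 2 (q - 1) ∣ q - 1 := pow_padicValNat_dvd
  have hsd' : 2 ^ padicValNat 2 (q - 1) ∣ n := (pow_dvd_pow 2 hv).trans pow_padicValNat_dvd
  generalize padicValNat 2 (q - 1) = s at hsn hsd hsd'
  obtain ⟨m, hm⟩ := hsd
  have hmodd : Odd m := by
    rw [← Nat.not_even_iff_odd]
    rintro ⟨m', hm'⟩
    exact hsn ⟨m', by rw [hm, hm', pow_succ]; ring⟩
  obtain ⟨n', hn'⟩ := hsd'
  have h1 : lam ^ (q - 1) = 1 := by
    rw [← hq]
    exact FiniteField.pow_card_sub_one_eq_one lam hlam0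
  have h3 : (lam ^ n) ^ m = 1 := by
    have h4 : n * m = (q - 1) * n' := by
      rw [hn', hm]
      ring
    rw [← pow_mul, h4, pow_mul, h1, one_pow]
  rw [h, Odd.neg_one_pow hmodd] at h3
  apply h2
  linear_combination -h3

/-- There is an `n`-th root of `-1` when `(n)_2 < (q - 1)_2`. -/
theorem exists_pow_eq_neg_one {q : ℕ} (hq : Fintype.card F = q) {n : ℕ} (hn : 0 < n)
    (hv : padicValNat 2 n < padicValNat 2 (q - 1)) : ∃ lam : F, lam ^ n = -1 := by
  classical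
  have hq1 : q - 1 ≠ 0 := by
    have := Fintype.one_lt_card (α := F)
    omega
  have htn : ¬ 2 ^ (padicValNat 2 n + 1) ∣ n := pow_succ_padicValNat_not_dvd hn.ne'
  have htd : 2 ^ padicValNat 2 n ∣ n := pow_padicValNat_dvd
  have htd' : 2 ^ (padicValNat 2 n + 1) ∣ q - 1 :=
    (pow_dvd_pow 2 (by omega : padicValNat 2 n + 1 ≤ padicValNat 2 (q - 1))).trans
      pow_padicValNat_dvd
  generalize padicValNat 2 n = t at htn htd htd'
  obtain ⟨n', hn'⟩ := htd
  have hn'odd : Odd n' := by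
    rw [← Nat.not_even_iff_odd]
    rintro ⟨m', hm'⟩
    exact htn ⟨m', by rw [hn', hm', pow_succ]; ring⟩
  obtain ⟨m, hm⟩ := htd'
  have hm0 : 0 < m := by
    rcases Nat.eq_zero_or_pos m with h0 | h0
    · rw [h0, mul_zero] at hm
      exact absurd hm hq1
    · exact h0
  obtain ⟨g, hg⟩ := IsCyclic.exists_generator (α := Fˣ)
  have hord : orderOf g = q - 1 := by
    rw [orderOf_eq_card_of_forall_mem_zpowers hg, Nat.card_eq_fintype_card, Fintype.card_units, hq]
  have hw1 : ((g ^ m) ^ (2 ^ t)) ^ 2 = 1 := by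
    have h4 : m * (2 ^ t * 2) = orderOf g := by
      rw [hord, hm, pow_succ]
      ring
    rw [← pow_mul, ← pow_mul, h4]
    exact pow_orderOf_eq_one g
  have hw2 : (g ^ m) ^ (2 ^ t) ≠ 1 := by
    intro h
    rw [← pow_mul] at h
    have h3 := orderOf_dvd_of_pow_eq_one h
    rw [hord, hm] at h3
    have h4 := Nat.le_of_dvd (by positivity) h3
    rw [pow_succ] at h4
    have h5 : 0 < 2 ^ t := by positivity
    nlinarith
  set y : F := (((g ^ m) ^ (2 ^ t) : Fˣ) : F) with hy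
  have hy2 : y ^ 2 = 1 := by
    rw [hy, ← Units.val_pow_eq_pow_val, hw1, Units.val_one]
  have hy1 : y ≠ 1 := fun h => hw2 (Units.ext h)
  have hy3 : y = -1 := by
    have h7 : (y - 1) * (y + 1) = 0 := by linear_combination hy2
    rcases mul_eq_zero.mp h7 with h8 | h8
    · exact absurd (sub_eq_zero.mp h8) hy1
    · exact eq_neg_of_add_eq_zero_left h8
  refine ⟨((g ^ m : Fˣ) : F), ?_⟩
  rw [hn', pow_mul, ← Units.val_pow_eq_pow_val, ← hy, hy3, Odd.neg_one_pow hn'odd]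

end nt

section crit

variable {F : Type*} [Field F]

/-- Criterion for an element of `SL_{2k}(F)` to be conjugate into the similarity group of a
symplectic form: it acts on some basis as a similitude `Y` of the standard symplectic form, and
the centraliser of `Y` has surjective determinant. -/
theorem exists_sl_conj_of_std {k : ℕ}
    (f : (Fin (k + k) → F) → (Fin (k + k) → F) → F) (hf : IsSymplecticForm f)
    (x : Matrix.SpecialLinearGroup (Fin (k + k)) F)
    (Y : Matrix (Fin k ⊕ Fin k) (Fin k ⊕ Fin k) F) (c : F) (hc : c ≠ 0)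
    (hY : ∀ a a', Cfsg.sympForm k F (Y *ᵥ a) (Y *ᵥ a') = c * Cfsg.sympForm k F a a')
    (θ : (Fin k ⊕ Fin k → F) ≃ₗ[F] (Fin (k + k) → F))
    (hθ : ∀ a, (x : Matrix (Fin (k + k)) (Fin (k + k)) F) *ᵥ (θ a) = θ (Y *ᵥ a))
    (hcent : ∀ δ : F, δ ≠ 0 → ∃ h : Matrix (Fin k ⊕ Fin k) (Fin k ⊕ Fin k) F,
      h * Y = Y * h ∧ h.det = δ) :
    ∃ P : Matrix.SpecialLinearGroup (Fin (k + k)) F, P⁻¹ * x * P ∈
      (similarityGroup f).comap (Matrix.SpecialLinearGroup.toGL :
        Matrix.SpecialLinearGroup (Fin (k + k)) F →* GL (Fin (k + k)) F) := by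
  classical
  have hS := Cfsg.Agent.Lib.Helper94.sympData_bilinOfSymp hf
  have hfr : Module.finrank F (Fin (k + k) → F) = 2 * k := by
    rw [Module.finrank_fintype_fun_eq_card, Fintype.card_fin]
    ring
  obtain ⟨ι, hι⟩ := Cfsg.Agent.Lib.Helper13.exists_symp_coords
    (Cfsg.Agent.Lib.Helper94.bilinOfSymp hf) hS.alt hS.nondeg k hfr
  have hι' : ∀ a a', f (ι a) (ι a') = Cfsg.sympForm k F a a' := hι
  set g₀ : (Fin (k + k) → F) ≃ₗ[F] (Fin (k + k) → F) := ι.symm.trans θ with hg₀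
  have hdet0 : LinearMap.det (g₀ : (Fin (k + k) → F) →ₗ[F] (Fin (k + k) → F)) ≠ 0 :=
    (LinearEquiv.isUnit_det' g₀).ne_zero
  obtain ⟨h, hhY, hhdet⟩ := hcent
    (LinearMap.det (g₀ : (Fin (k + k) → F) →ₗ[F] (Fin (k + k) → F)))⁻¹ (inv_ne_zero hdet0)
  set Pl : (Fin (k + k) → F) →ₗ[F] (Fin (k + k) → F) :=
    (g₀ : (Fin (k + k) → F) →ₗ[F] (Fin (k + k) → F)) ∘ₗ
      ((ι : (Fin k ⊕ Fin k → F) →ₗ[F] (Fin (k + k) → F)) ∘ₗ Matrix.toLin' h ∘ₗ
        (ι.symm : (Fin (k + k) → F) →ₗ[F] (Fin k ⊕ Fin k → F))) with hPl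
  have hPlapp : ∀ v, Pl v = θ (h *ᵥ ι.symm v) := by
    intro v
    simp only [hPl, hg₀, LinearMap.comp_apply, LinearEquiv.coe_coe, LinearEquiv.trans_apply,
      LinearEquiv.symm_apply_apply, Matrix.toLin'_apply]
  have hdetPl : LinearMap.det Pl = 1 := by
    rw [hPl, LinearMap.det_comp, LinearMap.det_conj, LinearMap.det_toLin', hhdet,
      mul_inv_cancel₀ hdet0]
  have hdetP : (LinearMap.toMatrix' Pl).det = 1 := by rw [LinearMap.det_toMatrix', hdetPl]
  obtain ⟨P, hP⟩ : ∃ P : Matrix.SpecialLinearGroup (Fin (k + k)) F,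
      (P : Matrix (Fin (k + k)) (Fin (k + k)) F) = LinearMap.toMatrix' Pl := ⟨⟨_, hdetP⟩, rfl⟩
  set Z : Matrix (Fin (k + k)) (Fin (k + k)) F :=
    LinearMap.toMatrix' ((ι : (Fin k ⊕ Fin k → F) →ₗ[F] (Fin (k + k) → F)) ∘ₗ Matrix.toLin' Y ∘ₗ
      (ι.symm : (Fin (k + k) → F) →ₗ[F] (Fin k ⊕ Fin k → F))) with hZ
  have hZapp : ∀ v, Z *ᵥ v = ι (Y *ᵥ ι.symm v) := by
    intro v
    rw [hZ, LinearMap.toMatrix'_mulVec]
    simp only [LinearMap.comp_apply, LinearEquiv.coe_coe, Matrix.toLin'_apply]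
  have hPapp : ∀ v, (P : Matrix (Fin (k + k)) (Fin (k + k)) F) *ᵥ v = θ (h *ᵥ ι.symm v) := by
    intro v
    rw [hP, LinearMap.toMatrix'_mulVec, hPlapp]
  have hcomm : ∀ w, Y *ᵥ (h *ᵥ w) = h *ᵥ (Y *ᵥ w) := by
    intro w
    rw [Matrix.mulVec_mulVec, Matrix.mulVec_mulVec, hhY]
  have hxP : (x : Matrix (Fin (k + k)) (Fin (k + k)) F) * (P : Matrix (Fin (k + k)) (Fin (k + k)) F)
      = (P : Matrix (Fin (k + k)) (Fin (k + k)) F) * Z := by
    apply Matrix.toLin'.injective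
    apply LinearMap.ext
    intro v
    rw [Matrix.toLin'_apply, Matrix.toLin'_apply, ← Matrix.mulVec_mulVec, ← Matrix.mulVec_mulVec,
      hPapp, hθ, hcomm, hZapp, hPapp, LinearEquiv.symm_apply_apply]
  have hconj : ((P⁻¹ * x * P : Matrix.SpecialLinearGroup (Fin (k + k)) F) :
      Matrix (Fin (k + k)) (Fin (k + k)) F) = Z := by
    rw [Matrix.SpecialLinearGroup.coe_mul, Matrix.SpecialLinearGroup.coe_mul, mul_assoc, hxP,
      ← mul_assoc, ← Matrix.SpecialLinearGroup.coe_mul, inv_mul_cancel,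
      Matrix.SpecialLinearGroup.coe_one, one_mul]
  refine ⟨P, ?_⟩
  rw [Subgroup.mem_comap]
  refine ⟨Units.mk0 c hc, ?_⟩
  intro u v
  rw [Matrix.SpecialLinearGroup.coe_GL_coe_matrix, hconj, hZapp, hZapp, Units.val_mk0, hι', hY,
    ← hι', LinearEquiv.apply_symm_apply, LinearEquiv.apply_symm_apply]

/-- A matrix with square one (characteristic not two) has a basis of eigenvectors, indexed by a
sum type. -/
theorem exists_eigen_sum {n : ℕ} (h2 : (2 : F) ≠ 0) (u : Matrix (Fin n) (Fin n) F)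
    (hu : u * u = 1) :
    ∃ (a b : ℕ) (𝔟 : Basis (Fin a ⊕ Fin b) F (Fin n → F)),
      (∀ i, u *ᵥ 𝔟 (Sum.inl i) = 𝔟 (Sum.inl i)) ∧
      (∀ j, u *ᵥ 𝔟 (Sum.inr j) = - 𝔟 (Sum.inr j)) := by
  classical
  set φ : Module.End F (Fin n → F) := Matrix.toLin' u with hφ
  have hφφ : ∀ v, φ (φ v) = v := by
    intro v
    rw [hφ, ← LinearMap.comp_apply, ← Matrix.toLin'_mul, hu, Matrix.toLin'_one,
      LinearMap.id_apply]
  set Vp : Submodule F (Fin n → F) := LinearMap.ker (φ - LinearMap.id) with hVp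
  set Vm : Submodule F (Fin n → F) := LinearMap.ker (φ + LinearMap.id) with hVm
  have hmemp : ∀ v, v ∈ Vp ↔ φ v = v := by
    intro v
    rw [hVp, LinearMap.mem_ker, LinearMap.sub_apply, LinearMap.id_apply, sub_eq_zero]
  have hmemm : ∀ v, v ∈ Vm ↔ φ v = -v := by
    intro v
    rw [hVm, LinearMap.mem_ker, LinearMap.add_apply, LinearMap.id_apply, add_eq_zero_iff_eq_neg]
  have hc : IsCompl Vp Vm := by
    constructor
    · rw [Submodule.disjoint_def]
      intro v hvp hvm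
      rw [hmemp] at hvp
      rw [hmemm] at hvm
      have h3 : (2 : F) • v = 0 := by
        have h4 : v = -v := hvp.symm.trans hvm
        rw [two_smul]
        nth_rewrite 1 [h4]
        rw [neg_add_cancel]
      exact (smul_eq_zero.mp h3).resolve_left h2
    · rw [codisjoint_iff, Submodule.eq_top_iff']
      intro v
      rw [Submodule.mem_sup]
      refine ⟨(2 : F)⁻¹ • (v + φ v), ?_, (2 : F)⁻¹ • (v - φ v), ?_, ?_⟩
      · rw [hmemp, map_smul, map_add, hφφ, add_comm]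
      · rw [hmemm, map_smul, map_sub, hφφ, ← smul_neg, neg_sub]
      · rw [← smul_add, add_add_sub_cancel, ← two_smul F v, smul_smul, inv_mul_cancel₀ h2,
          one_smul]
  set bp := Module.finBasis F Vp with hbp
  set bm := Module.finBasis F Vm with hbm
  set B₀ : Basis (Fin (finrank F Vp) ⊕ Fin (finrank F Vm)) F (Fin n → F) :=
    (bp.prod bm).map (Submodule.prodEquivOfIsCompl Vp Vm hc) with hB₀
  have hB₀l : ∀ j, B₀ (Sum.inl j) = (bp j : Fin n → F) := by
    intro j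
    rw [hB₀, Basis.map_apply, Basis.prod_apply, Sum.elim_inl, Function.comp_apply,
      Submodule.coe_prodEquivOfIsCompl']
    simp
  have hB₀r : ∀ j, B₀ (Sum.inr j) = (bm j : Fin n → F) := by
    intro j
    rw [hB₀, Basis.map_apply, Basis.prod_apply, Sum.elim_inr, Function.comp_apply,
      Submodule.coe_prodEquivOfIsCompl']
    simp
  refine ⟨_, _, B₀, ?_, ?_⟩
  · intro i
    rw [hB₀l, ← Matrix.toLin'_apply]
    exact (hmemp _).mp (bp i).2
  · intro j
    rw [hB₀r, ← Matrix.toLin'_apply]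
    exact (hmemm _).mp (bm j).2

end crit

end Cfsg.Agent.Lib.Helper99.SpInv
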