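import Mathlib
import Cfsg.Agent.Lib.Helper13.SubfieldBasic
import Cfsg.Agent.Lib.Helper57.CardSL

/-!
# The index of the subfield subgroup of `SL_n(q)` for a subfield of odd index is odd (helper99)
-/

set_option autoImplicit false

namespace Cfsg.Agent.Lib.Helper99.SubInv

open Finset Cfsg.Geo

theorem geom_succ (b k : ℕ) : (b + 1) ^ k = b * (∑ j ∈ range k, (b + 1) ^ j) + 1 := by
  induction k with
  | zero => simp
  | succ k ih =>
    rw [Finset.sum_range_succ, mul_add, pow_succ, ih]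
    ring

theorem odd_geom {a k : ℕ} (ha : Odd a) (hk : Odd k) : Odd (∑ j ∈ range k, a ^ j) := by
  rw [Finset.odd_sum_iff_odd_card_odd]
  have h : (range k).filter (fun j => Odd (a ^ j)) = range k := by
    apply Finset.filter_true_of_mem
    intro j _
    exact ha.pow
  rw [h, Finset.card_range]
  exact hk

theorem factor_eq {y k' i t : ℕ} (hy : 1 ≤ y) :
    (y ^ (k' + 1)) ^ (i + t) - (y ^ (k' + 1)) ^ i =
      (y ^ (i + t) - y ^ i) * (y ^ (k' * i) * ∑ j ∈ range (k' + 1), (y ^ t) ^ j) := by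
  obtain ⟨b, hb⟩ : ∃ b, y ^ t = b + 1 :=
    ⟨y ^ t - 1, by have := Nat.one_le_pow t y hy; omega⟩
  have e1 : (y ^ (k' + 1)) ^ (i + t) = y ^ i * y ^ (k' * i) * (b + 1) ^ (k' + 1) := by
    rw [← hb, ← pow_mul, ← pow_mul, ← pow_add, ← pow_add]
    congr 1
    ring
  have e2 : (y ^ (k' + 1)) ^ i = y ^ i * y ^ (k' * i) := by
    rw [← pow_mul, ← pow_add]
    congr 1
    ring
  have e3 : y ^ (i + t) = y ^ i * (b + 1) := by rw [pow_add, hb]
  rw [e1, e2, e3, hb, geom_succ b (k' + 1)]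
  have h1 : y ^ i * (b + 1) - y ^ i = y ^ i * b := by rw [mul_add, mul_one, Nat.add_sub_cancel]
  have h2 : ∀ M G : ℕ, M * (b * G + 1) - M = M * (b * G) := by
    intro M G
    rw [mul_add, mul_one, Nat.add_sub_cancel]
  rw [h1, h2]
  ring

theorem odd_index_arith {y k n A B I : ℕ} (hy : Odd y) (hy2 : 2 ≤ y) (hk : Odd k)
    (hA : (y ^ k - 1) * A = ∏ i : Fin n, ((y ^ k) ^ n - (y ^ k) ^ (i : ℕ)))
    (hB : (y - 1) * B = ∏ i : Fin n, (y ^ n - y ^ (i : ℕ)))
    (hAB : A = B * I) (hB0 : 0 < B) : Odd I := by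
  obtain ⟨k', rfl⟩ : ∃ k', k = k' + 1 := ⟨k - 1, by have := hk.pos; omega⟩
  set c : Fin n → ℕ := fun i =>
    y ^ (k' * (i : ℕ)) * ∑ j ∈ range (k' + 1), (y ^ (n - (i : ℕ))) ^ j with hc
  have hfac : ∀ i : Fin n, (y ^ (k' + 1)) ^ n - (y ^ (k' + 1)) ^ (i : ℕ) =
      (y ^ n - y ^ (i : ℕ)) * c i := by
    intro i
    have h1 := factor_eq (y := y) (k' := k') (i := (i : ℕ)) (t := n - (i : ℕ)) (by omega)
    have hi : (i : ℕ) + (n - (i : ℕ)) = n := by have := i.2; omega
    rw [hi] at h1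
    exact h1
  have hcodd : ∀ i, Odd (c i) := fun i => (hy.pow).mul (odd_geom hy.pow hk)
  have hprod : ∏ i : Fin n, ((y ^ (k' + 1)) ^ n - (y ^ (k' + 1)) ^ (i : ℕ)) =
      (∏ i : Fin n, (y ^ n - y ^ (i : ℕ))) * ∏ i : Fin n, c i := by
    rw [← Finset.prod_mul_distrib]
    exact Finset.prod_congr rfl (fun i _ => hfac i)
  have hC : Odd (∏ i : Fin n, c i) :=
    Finset.prod_induction _ Odd (fun a b ha hb => ha.mul hb) odd_one (fun i _ => hcodd i)
  obtain ⟨b, hb⟩ : ∃ b, y = b + 1 := ⟨y - 1, by omega⟩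
  have hb' : y - 1 = b := by omega
  have hY : y ^ (k' + 1) - 1 = (y - 1) * ∑ j ∈ range (k' + 1), y ^ j := by
    have h1 := geom_succ b (k' + 1)
    rw [← hb] at h1
    rw [hb', h1, Nat.add_sub_cancel]
  rw [hY, hprod, ← hB, hAB] at hA
  have hpos : 0 < (y - 1) * B := Nat.mul_pos (by omega) hB0
  have h3 : (∑ j ∈ range (k' + 1), y ^ j) * I = ∏ i : Fin n, c i := by
    apply Nat.eq_of_mul_eq_mul_left hpos
    rw [← hA]
    ring
  have h4 : Odd ((∑ j ∈ range (k' + 1), y ^ j) * I) := by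
    rw [h3]
    exact hC
  exact (Nat.odd_mul.mp h4).2

/-- The index in `SL_n(F)` of the subfield subgroup of a subfield of odd index, `|F|` odd, is
odd. -/
theorem odd_index_subfield {F : Type*} [Field F] [Fintype F] (F₀ : Subfield F) {q₀ k n : ℕ}
    (hn : 1 ≤ n) (hF₀ : Nat.card F₀ = q₀) (hcard : Fintype.card F = q₀ ^ k) (hq₀ : Odd q₀)
    (hk : Odd k) :
    Odd ((subfieldSubgroup F₀ 1).comap (Matrix.SpecialLinearGroup.toGL :
      Matrix.SpecialLinearGroup (Fin n) F →* GL (Fin n) F)).index := by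
  classical
  haveI : Fintype F₀ := Fintype.ofFinite F₀
  set f : Matrix.SpecialLinearGroup (Fin n) F₀ →* Matrix.SpecialLinearGroup (Fin n) F :=
    Matrix.SpecialLinearGroup.map F₀.subtype with hf
  have hfval : ∀ g : Matrix.SpecialLinearGroup (Fin n) F₀,
      ((f g : Matrix.SpecialLinearGroup (Fin n) F) : Matrix (Fin n) (Fin n) F) =
        (g : Matrix (Fin n) (Fin n) F₀).map F₀.subtype := fun g => rfl
  have hfinj : Function.Injective f := by
    intro a b hab
    apply Subtype.ext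
    apply Matrix.map_injective (Subtype.val_injective (p := fun t : F => t ∈ F₀))
    show (a : Matrix (Fin n) (Fin n) F₀).map F₀.subtype =
      (b : Matrix (Fin n) (Fin n) F₀).map F₀.subtype
    rw [← hfval, ← hfval, hab]
  have hle : f.range ≤ (subfieldSubgroup F₀ 1).comap (Matrix.SpecialLinearGroup.toGL :
      Matrix.SpecialLinearGroup (Fin n) F →* GL (Fin n) F) := by
    rintro _ ⟨g₀, rfl⟩
    rw [Subgroup.mem_comap, Cfsg.Agent.Lib.Helper13.mem_subfieldSubgroup_iff]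
    refine ⟨Matrix.SpecialLinearGroup.toGL g₀, 1, ?_⟩
    rw [Units.val_one, mul_one, one_mul, Units.val_one, one_smul,
      Matrix.SpecialLinearGroup.coe_GL_coe_matrix, Matrix.SpecialLinearGroup.coe_GL_coe_matrix,
      hfval]
  have hdvd := Subgroup.index_dvd_of_le hle
  have hcardrange : Nat.card f.range = Nat.card (Matrix.SpecialLinearGroup (Fin n) F₀) :=
    (Nat.card_congr (MonoidHom.ofInjective hfinj).toEquiv).symm
  have hmul := Subgroup.card_mul_index f.range
  have hA := Cfsg.Agent.Lib.Helper57.card_SL_formula (F := F) n hn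
  have hB := Cfsg.Agent.Lib.Helper57.card_SL_formula (F := F₀) n hn
  rw [hcard] at hA
  rw [← Nat.card_eq_fintype_card, hF₀] at hB
  have hB0 : 0 < Nat.card (Matrix.SpecialLinearGroup (Fin n) F₀) := Nat.card_pos
  have hq₀2 : 2 ≤ q₀ := by
    have h1 := Fintype.one_lt_card (α := F₀)
    rw [← Nat.card_eq_fintype_card, hF₀] at h1
    omega
  have hodd := odd_index_arith hq₀ hq₀2 hk hA hB (by rw [← hmul, hcardrange]) hB0
  exact Odd.of_dvd_nat hodd hdvd

end Cfsg.Agent.Lib.Helper99.SubInv
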