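import Mathlib

/-!
# Number theory for elements of prime order modulo scalars (helper99)

`r`-th powers in the multiplicative group of a finite field, the existence (or not) of
non-`r`-th powers `c` with `(-1)^n (-c)^e = 1`, and arithmetic lemmas on dimensions of invariant
subspaces.
-/

set_option autoImplicit false

namespace Cfsg.Agent.Lib.Helper99.PrimeOrdNT

section arith

/-- If `b + i * a = m` and `b < i` then `b = m % i`. -/
theorem mod_of_decomp {i b a m : ℕ} (h : b + i * a = m) (hb : b < i) : m % i = b := by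
  rw [← h, Nat.add_mul_mod_self_left, Nat.mod_eq_of_lt hb]

theorem mod_lt_of_multiple {i n t w : ℕ} (hi : 0 < i) (hdvd : i ∣ t) (h1 : n - w < t)
    (h2 : t ≤ n) : n % i < w := by
  obtain ⟨j, rfl⟩ := hdvd
  have hj : j ≤ n / i := by
    rw [Nat.le_div_iff_mul_le hi, mul_comm]; exact h2
  have h3 : i * j ≤ i * (n / i) := Nat.mul_le_mul_left _ hj
  have h4 := Nat.div_add_mod n i
  omega

theorem le_of_multiple {i n t w : ℕ} (hdvd : i ∣ t) (h1 : n - w < t) (h2 : t ≤ n) : i ≤ n :=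
  (Nat.le_of_dvd (by omega) hdvd).trans h2

theorem mod_le_of_decomp {i d k n : ℕ} (hdk : d + i * k = n) : n % i ≤ d := by
  have : n % i = d % i := by rw [← hdk, Nat.add_mul_mod_self_left]
  rw [this]; exact Nat.mod_le d i

/-- Existence of the dimension data of an invariant subspace of dimension `m`. -/
theorem sub_arith {i d k n m : ℕ} (hdk : d + i * k = n) (hmn : m ≤ n)
    (huv : m % i ≤ n % i) : ∃ b a, b ≤ d ∧ a ≤ k ∧ b + i * a = m := by
  have hm := Nat.div_add_mod m i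
  have hd : n % i ≤ d := mod_le_of_decomp hdk
  by_cases hc : m / i ≤ k
  · exact ⟨m % i, m / i, huv.trans hd, hc, by omega⟩
  · have h1 : i * (k + 1) ≤ i * (m / i) := Nat.mul_le_mul_left _ (by omega)
    rw [Nat.mul_succ] at h1
    refine ⟨m - i * k, k, ?_, le_refl _, ?_⟩
    · omega
    · omega

/-- Existence of the dimension data of an invariant flag of dimensions `(m, n - m)`. -/
theorem flag_arith {i d k n m : ℕ} (hi : 0 < i) (hdk : d + i * k = n) (hmn : 2 * m < n)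
    (huv : 2 * (m % i) ≤ n % i) :
    ∃ b₁ b₂ a₁ a₂, b₁ ≤ b₂ ∧ b₂ ≤ d ∧ a₁ ≤ a₂ ∧ a₂ ≤ k ∧ b₁ + i * a₁ = m ∧
      b₂ + i * a₂ = n - m := by
  have hm := Nat.div_add_mod m i
  have hn := Nat.div_add_mod n i
  have hd : n % i ≤ d := mod_le_of_decomp hdk
  have hvi : n % i < i := Nat.mod_lt n hi
  set M := m / i with hM
  set K := n / i with hK
  set u := m % i with hu
  set v := n % i with hv
  have hMK : M ≤ K := Nat.div_le_div_right (by omega)
  have hMK' : i * M ≤ i * K := Nat.mul_le_mul_left _ hMK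
  by_cases hc : K - M ≤ k
  · -- a₂ = K - M, b₂ = v - u
    have h2M : M ≤ K - M := by
      by_contra hcon
      have h1 : i * (K + 1) ≤ i * (2 * M) := Nat.mul_le_mul_left _ (by omega)
      rw [Nat.mul_succ, ← mul_assoc, mul_comm i 2, mul_assoc] at h1
      omega
    have h3 : i * (K - M) = i * K - i * M := Nat.mul_sub i K M
    refine ⟨u, v - u, M, K - M, by omega, by omega, h2M, hc, by omega, by omega⟩
  · -- a₂ = k, b₂ = d - m
    have h1 : i * (k + 1) ≤ i * (K - M) := Nat.mul_le_mul_left _ (by omega)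
    rw [Nat.mul_succ, Nat.mul_sub i K M] at h1
    by_cases hc2 : M ≤ k
    · refine ⟨u, d - m, M, k, by omega, by omega, hc2, le_refl _, by omega, by omega⟩
    · have h4 : i * (k + 1) ≤ i * M := Nat.mul_le_mul_left _ (by omega)
      rw [Nat.mul_succ] at h4
      refine ⟨m - i * k, d - m, k, k, by omega, by omega, le_refl _, le_refl _, by omega,
        by omega⟩

/-- Necessary condition from the dimension data of an invariant flag of a generic element. -/
theorem flag_arith_nec {i n m b₁ b₂ a₁ a₂ : ℕ} (hi : 0 < i) (h1 : b₁ ≤ b₂) (h2 : b₂ ≤ n % i)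
    (hm : b₁ + i * a₁ = m) (hnm : b₂ + i * a₂ = n - m) (hmn : 2 * m < n) :
    2 * (m % i) ≤ n % i := by
  have hvi : n % i < i := Nat.mod_lt n hi
  have hb₁ : m % i = b₁ := mod_of_decomp hm (by omega)
  rw [hb₁]
  have hn : n = (b₁ + b₂) + i * (a₁ + a₂) := by rw [Nat.mul_add]; omega
  have hmod : n % i = (b₁ + b₂) % i := by
    conv_lhs => rw [hn]
    rw [Nat.add_mul_mod_self_left]
  by_cases hlt : b₁ + b₂ < i
  · rw [Nat.mod_eq_of_lt hlt] at hmod
    omega
  · exfalso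
    have h5 : (b₁ + b₂) % i = b₁ + b₂ - i := by
      rw [Nat.mod_eq_sub_mod (a := b₁ + b₂) (b := i) (by omega)]
      exact Nat.mod_eq_of_lt (by omega)
    omega

end arith

section field

variable {F : Type*} [Field F] [Fintype F]

theorem orderOf_generator {γ : Fˣ} (hγ : ∀ x : Fˣ, x ∈ Subgroup.zpowers γ) :
    orderOf γ = Fintype.card F - 1 := by
  classical
  rw [orderOf_eq_card_of_forall_mem_zpowers hγ, Nat.card_eq_fintype_card, Fintype.card_units]

theorem exists_pow_generator {γ : Fˣ} (hγ : ∀ x : Fˣ, x ∈ Subgroup.zpowers γ) {c : F}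
    (hc0 : c ≠ 0) : ∃ j : ℕ, γ ^ j = Units.mk0 c hc0 := by
  have := hγ (Units.mk0 c hc0)
  rw [← mem_powers_iff_mem_zpowers] at this
  exact this

/-- `c ^ Q = 1` with `r * Q = q - 1` implies that `c` is an `r`-th power. -/
theorem exists_pow_eq_of_pow_eq_one {r Q : ℕ} (hrQ : r * Q = Fintype.card F - 1) (hQ : 0 < Q)
    {c : F} (hc0 : c ≠ 0) (hc : c ^ Q = 1) : ∃ μ : F, μ ^ r = c := by
  classical
  obtain ⟨γ, hγ⟩ := IsCyclic.exists_generator (α := Fˣ)
  have hord := orderOf_generator hγ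
  obtain ⟨j, hj⟩ := exists_pow_generator hγ hc0
  have h1 : γ ^ (j * Q) = 1 := by
    rw [pow_mul, hj]
    ext
    simpa using hc
  have h2 : r * Q ∣ j * Q := by
    rw [hrQ, ← hord]
    exact orderOf_dvd_of_pow_eq_one h1
  obtain ⟨t, ht⟩ := Nat.dvd_of_mul_dvd_mul_right hQ h2
  refine ⟨((γ ^ t : Fˣ) : F), ?_⟩
  rw [← Units.val_pow_eq_pow_val, ← pow_mul, mul_comm, ← ht, hj]
  rfl

/-- An element of order `r ^ s` (the full `r`-part of `q - 1`) is not an `r`-th power. -/
theorem exists_nonpow {r s : ℕ} (hr : r.Prime) (hs : 1 ≤ s) (h1 : r ^ s ∣ Fintype.card F - 1)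
    (h2 : ¬ r ^ (s + 1) ∣ Fintype.card F - 1) :
    ∃ c : F, c ≠ 0 ∧ c ^ (r ^ s) = 1 ∧ ∀ μ : F, μ ^ r ≠ c := by
  classical
  obtain ⟨γ, hγ⟩ := IsCyclic.exists_generator (α := Fˣ)
  have hord := orderOf_generator hγ
  obtain ⟨u, hu⟩ := h1
  refine ⟨((γ ^ u : Fˣ) : F), Units.ne_zero _, ?_, ?_⟩
  · rw [← Units.val_pow_eq_pow_val, ← pow_mul, mul_comm, ← hu, ← hord, pow_orderOf_eq_one]
    rfl
  · intro μ hμ
    have hμ0 : μ ≠ 0 := by
      rintro rfl
      rw [zero_pow hr.ne_zero] at hμ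
      exact (Units.ne_zero _) hμ.symm
    obtain ⟨j, hj⟩ := exists_pow_generator hγ hμ0
    have h3 : γ ^ (j * r) = γ ^ u := by
      rw [pow_mul, hj]
      ext
      simpa using hμ
    rw [pow_eq_pow_iff_modEq, hord] at h3
    have hr1 : r ∣ Fintype.card F - 1 :=
      dvd_trans (dvd_pow_self r (by omega)) ⟨u, hu⟩
    have h4 : r ∣ u := (h3.dvd_iff hr1).mp (dvd_mul_left r j)
    apply h2
    obtain ⟨u', rfl⟩ := h4
    exact ⟨u', by rw [hu, pow_succ, mul_assoc]⟩

/-- If `r ∤ q - 1`, every nonzero element is an `r`-th power. -/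
theorem exists_pow_eq_of_not_dvd {r : ℕ} (hr : r.Prime) (h : ¬ r ∣ Fintype.card F - 1) {c : F}
    (hc0 : c ≠ 0) : ∃ μ : F, μ ^ r = c := by
  classical
  have hcop : (Nat.card Fˣ).Coprime r := by
    rw [Nat.card_eq_fintype_card, Fintype.card_units]
    exact ((Nat.Prime.coprime_iff_not_dvd hr).mpr h).symm
  obtain ⟨μ, hμ⟩ := (powCoprime hcop).surjective (Units.mk0 c hc0)
  refine ⟨(μ : F), ?_⟩
  have := congrArg Units.val hμ
  simpa using this

/-- If `r ∤ q - 1`, the only `r`-th root of unity is `1`. -/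
theorem eq_one_of_pow_eq_one {r : ℕ} (hr : r.Prime) (h : ¬ r ∣ Fintype.card F - 1) {μ : F}
    (hμ : μ ^ r = 1) : μ = 1 := by
  have hμ0 : μ ≠ 0 := by
    rintro rfl
    rw [zero_pow hr.ne_zero] at hμ
    exact zero_ne_one hμ
  have h1 := FiniteField.pow_card_sub_one_eq_one μ hμ0
  have h2 : μ ^ (Nat.gcd r (Fintype.card F - 1)) = 1 := pow_gcd_eq_one.mpr ⟨hμ, h1⟩
  have h3 : Nat.gcd r (Fintype.card F - 1) = 1 := (Nat.Prime.coprime_iff_not_dvd hr).mpr h
  rwa [h3, pow_one] at h2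

/-- Core criterion: `c ^ e = 1` and `r ^ s ∤ e` (with `r ^ s ∣ q - 1`) force `c` to be an `r`-th
power. -/
theorem exists_pow_eq_of_pow_eq_one' {r s e : ℕ} (hr : r.Prime) (hs : 1 ≤ s)
    (h1 : r ^ s ∣ Fintype.card F - 1) (he : ¬ r ^ s ∣ e) {c : F} (hc0 : c ≠ 0)
    (hce : c ^ e = 1) : ∃ μ : F, μ ^ r = c := by
  have hq1 : 0 < Fintype.card F - 1 := by
    have := Fintype.one_lt_card (α := F)
    omega
  have hr1 : r ∣ Fintype.card F - 1 := dvd_trans (dvd_pow_self r (by omega)) h1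
  obtain ⟨Q, hQ⟩ := hr1
  have hQ0 : 0 < Q := by
    rcases Nat.eq_zero_or_pos Q with h | h
    · rw [h, mul_zero] at hQ; omega
    · exact h
  have hcq := FiniteField.pow_card_sub_one_eq_one c hc0
  have hg' : ∃ g : ℕ, c ^ g = 1 ∧ g ∣ e ∧ g ∣ Fintype.card F - 1 :=
    ⟨_, pow_gcd_eq_one.mpr ⟨hce, hcq⟩, Nat.gcd_dvd_left _ _, Nat.gcd_dvd_right _ _⟩
  obtain ⟨g, hg, hge, ⟨h, hh⟩⟩ := hg'
  have hrh : r ∣ h := by
    by_contra hnot
    have hcop : Nat.Coprime (r ^ s) h :=
      Nat.Coprime.pow_left s ((Nat.Prime.coprime_iff_not_dvd hr).mpr hnot)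
    have h5 : r ^ s ∣ g * h := by rw [← hh]; exact h1
    exact he ((hcop.dvd_of_dvd_mul_right h5).trans hge)
  obtain ⟨h', rfl⟩ := hrh
  have h6 : g * h' = Q := by
    have : r * (g * h') = r * Q := by
      rw [← hQ, hh]; ring
    exact Nat.eq_of_mul_eq_mul_left hr.pos this
  apply exists_pow_eq_of_pow_eq_one hQ.symm hQ0 hc0
  rw [← h6, pow_mul, hg, one_pow]

theorem exists_bad_c {q : ℕ} (hq : Fintype.card F = q) {r : ℕ} (hr : r.Prime)
    (hr1 : r ∣ q - 1) {n e : ℕ} (hn : n = r * e) (hn0 : 0 < n)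
    (hcond : ¬ (padicValNat r n ≤ padicValNat r (q - 1) ∧ (r = 2 → Even n → q % 4 = 1))) :
    ∃ c : F, c ≠ 0 ∧ (∀ μ : F, μ ^ r ≠ c) ∧ (-1 : F) ^ n * (-c) ^ e = 1 := by
  have hrF : Fact r.Prime := ⟨hr⟩
  have hq1 : q - 1 ≠ 0 := by
    have := Fintype.one_lt_card (α := F)
    omega
  set s := padicValNat r (q - 1) with hs
  have hs1 : 1 ≤ s := one_le_padicValNat_of_dvd hq1 hr1
  have hsd : r ^ s ∣ q - 1 := pow_padicValNat_dvd
  have hsn : ¬ r ^ (s + 1) ∣ q - 1 := pow_succ_padicValNat_not_dvd hq1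
  by_cases hA : padicValNat r n ≤ s
  · -- then `r = 2`, `n` even, `q % 4 = 3`
    have hB : ¬ (r = 2 → Even n → q % 4 = 1) := fun h => hcond ⟨hA, h⟩
    simp only [Classical.not_imp] at hB
    obtain ⟨hr2, hev, hq4⟩ := hB
    subst hr2
    have hq3 : Fintype.card F % 4 = 3 := by
      rw [hq]
      obtain ⟨t, ht⟩ := hr1
      omega
    refine ⟨-1, neg_ne_zero.mpr one_ne_zero, ?_, ?_⟩
    · intro μ hμ
      have : IsSquare (-1 : F) := ⟨μ, by rw [← hμ, sq]⟩
      rw [FiniteField.isSquare_neg_one_iff] at this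
      exact this hq3
    · rw [neg_neg, one_pow, mul_one, hev.neg_one_pow]
  · have h1 : r ^ (s + 1) ∣ n := (padicValNat_dvd_iff_le (by omega)).mpr (by omega)
    have h2 : r ^ s ∣ e := by
      rw [hn, pow_succ, mul_comm] at h1
      exact Nat.dvd_of_mul_dvd_mul_left hr.pos h1
    obtain ⟨c, hc0, hcs, hcn⟩ := exists_nonpow (F := F) hr hs1 (by rw [hq]; exact hsd)
      (by rw [hq]; exact hsn)
    refine ⟨c, hc0, hcn, ?_⟩
    have hce : c ^ e = 1 := by
      obtain ⟨w, rfl⟩ := h2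
      rw [pow_mul, hcs, one_pow]
    have hev : Even (n + e) := by
      rcases hr.eq_two_or_odd' with h2' | hodd
      · subst h2'
        have : Even e := (even_iff_two_dvd.mpr (dvd_pow_self 2 (by omega))).trans_dvd h2
        rw [hn]
        exact (even_two_mul e).add this
      · have : n + e = (r + 1) * e := by rw [hn]; ring
        rw [this]
        exact (hodd.add_one).mul_right e
    rw [neg_pow c, hce, mul_one, ← pow_add, hev.neg_one_pow]

theorem no_bad_c {q : ℕ} (hq : Fintype.card F = q) {r : ℕ} (hr : r.Prime) (hr1 : r ∣ q - 1)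
    {n e : ℕ} (hn : n = r * e) (hn0 : 0 < n)
    (hcond : padicValNat r n ≤ padicValNat r (q - 1) ∧ (r = 2 → Even n → q % 4 = 1))
    {c : F} (hc0 : c ≠ 0) (hdet : (-1 : F) ^ n * (-c) ^ e = 1) : ∃ μ : F, μ ^ r = c := by
  have hrF : Fact r.Prime := ⟨hr⟩
  have hq1 : q - 1 ≠ 0 := by
    have := Fintype.one_lt_card (α := F)
    omega
  set s := padicValNat r (q - 1) with hs
  have hs1 : 1 ≤ s := one_le_padicValNat_of_dvd hq1 hr1
  have hsd : r ^ s ∣ Fintype.card F - 1 := by rw [hq]; exact pow_padicValNat_dvd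
  have hse : ¬ r ^ s ∣ e := by
    intro h
    have h1 : r ^ (s + 1) ∣ n := by
      rw [hn, pow_succ, mul_comm]
      exact Nat.mul_dvd_mul_left r h
    have := (padicValNat_dvd_iff_le (by omega)).mp h1
    omega
  rcases hr.eq_two_or_odd' with h2 | hodd
  · subst h2
    have hev : Even n := by rw [hn]; exact even_two_mul e
    have hq4 := hcond.2 rfl hev
    rw [hev.neg_one_pow, one_mul] at hdet
    obtain ⟨ν, hν⟩ := exists_pow_eq_of_pow_eq_one' (F := F) hr hs1 hsd hse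
      (neg_ne_zero.mpr hc0) hdet
    have hsq : IsSquare (-1 : F) := by
      rw [FiniteField.isSquare_neg_one_iff, hq]
      omega
    obtain ⟨ι, hι⟩ := hsq
    refine ⟨ι * ν, ?_⟩
    rw [mul_pow, hν, sq, ← hι]
    ring
  · have hev : Even (n + e) := by
      have : n + e = (r + 1) * e := by rw [hn]; ring
      rw [this]
      exact (hodd.add_one).mul_right e
    rw [neg_pow c, ← mul_assoc, ← pow_add, hev.neg_one_pow, one_mul] at hdet
    exact exists_pow_eq_of_pow_eq_one' (F := F) hr hs1 hsd hse hc0 hdet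

end field

section order

theorem orderOf_eq_one_iff_dvd {q r : ℕ} (hq : 1 ≤ q) :
    orderOf (q : ZMod r) = 1 ↔ r ∣ q - 1 := by
  rw [orderOf_eq_one_iff, ← ZMod.natCast_eq_zero_iff (q - 1) r, Nat.cast_sub hq, Nat.cast_one,
    sub_eq_zero]

theorem orderOf_dvd_iff_dvd_pow_sub_one {q r t : ℕ} (hq : 1 ≤ q) :
    orderOf (q : ZMod r) ∣ t ↔ r ∣ q ^ t - 1 := by
  rw [orderOf_dvd_iff_pow_eq_one, ← ZMod.natCast_eq_zero_iff (q ^ t - 1) r,
    Nat.cast_sub (Nat.one_le_pow _ _ hq), Nat.cast_one, Nat.cast_pow, sub_eq_zero]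

end order

end Cfsg.Agent.Lib.Helper99.PrimeOrdNT
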