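import Mathlib
import Cfsg.Agent.Lib.Helper99.InvDim
import Cfsg.Agent.Lib.Helper40.CycloFactors
import Cfsg.Agent.Lib.Helper40.CharpolyExtra

/-!
# Invariant subspaces of matrices `A` over a finite field with `A ^ r` scalar, `r ≠ char` (helper99)

* `split_type` : `A ^ r = lam ^ r • 1`: with `d = dim ker (A - lam)` and `n = d + i k`
  (`i` the order of `q` mod `r`), invariant flags `U ≤ W` have exactly the dimensions
  `(b₁ + i a₁, b₂ + i a₂)` with `b₁ ≤ b₂ ≤ d`, `a₁ ≤ a₂ ≤ k`.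
* `nonsplit_type` : `A ^ r = c • 1` with `c` not an `r`-th power: `n = r e`,
  `det A = (-1)^n (-c)^e`, invariant subspaces have exactly the dimensions `r a`, `a ≤ e`.
-/

set_option autoImplicit false
set_option linter.unusedSectionVars false

namespace Cfsg.Agent.Lib.Helper99.PrimeOrd

open Polynomial Module Cfsg.Agent.Lib.Helper99.InvDim

/-- Invariance of a subspace under a matrix, in the form used in the statements. -/
theorem map_le_iff_inv {F : Type*} [Field F] {n : ℕ} (A : Matrix (Fin n) (Fin n) F)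
    (W : Submodule F (Fin n → F)) :
    W.map (Matrix.toLin' A) ≤ W ↔ Inv (Matrix.toLin' A) W := by
  rw [Submodule.map_le_iff_le_comap]
  rfl

theorem natDegree_of_irreducible_dvd {F : Type*} [Field F] {g m : F[X]} (hg : Irreducible g)
    (hm : Irreducible m) (hdvd : m ∣ g) : m.natDegree = g.natDegree :=
  Polynomial.natDegree_eq_of_degree_eq
    (Polynomial.degree_eq_degree_of_associated (hm.associated_of_dvd hg hdvd))

section
variable {F : Type*} [Field F] [Fintype F]

theorem natCast_card_ne_zero {p q : ℕ} [Fact p.Prime] [CharP F p] (hF : Fintype.card F = q)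
    (r : ℕ) (hr : r.Prime) (hrp : r ≠ p) : (q : ZMod r) ≠ 0 := by
  intro h0
  rw [ZMod.natCast_eq_zero_iff] at h0
  obtain ⟨f, hf⟩ := FiniteField.card F p
  rw [← hF, hf.2] at h0
  have := (Nat.prime_dvd_prime_iff_eq hr (Fact.out : p.Prime)).mp (hr.dvd_of_dvd_pow h0)
  exact hrp this

theorem orderOf_card_dvd {p q : ℕ} [Fact p.Prime] [CharP F p] (hF : Fintype.card F = q)
    (r : ℕ) (hr : r.Prime) (hrp : r ≠ p) : orderOf (q : ZMod r) ∣ r - 1 := by
  have : Fact r.Prime := ⟨hr⟩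
  apply orderOf_dvd_of_pow_eq_one
  exact ZMod.pow_card_sub_one_eq_one (natCast_card_ne_zero hF r hr hrp)

theorem orderOf_card_pos {p q : ℕ} [Fact p.Prime] [CharP F p] (hF : Fintype.card F = q)
    (r : ℕ) (hr : r.Prime) (hrp : r ≠ p) : 0 < orderOf (q : ZMod r) := by
  have h := orderOf_card_dvd hF r hr hrp
  have h1 : 0 < r - 1 := by have := hr.two_le; omega
  exact Nat.pos_of_dvd_of_pos h h1

/-- Irreducible factors of the `r`-th cyclotomic polynomial have degree the order of `q` mod `r`. -/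
theorem natDegree_of_irreducible_dvd_cyclotomic {p q : ℕ} [Fact p.Prime] [CharP F p]
    (hF : Fintype.card F = q) (r : ℕ) (hr : r.Prime) (hrp : r ≠ p)
    (m : F[X]) (hm : Irreducible m) (hdvd : m ∣ cyclotomic r F) :
    m.natDegree = orderOf (q : ZMod r) := by
  classical
  obtain ⟨t, ht⟩ := orderOf_card_dvd hF r hr hrp
  obtain ⟨h1, -⟩ := Cfsg.Agent.Lib.Helper40.cycloFactors_spec (F := F) hF r
    (orderOf (q : ZMod r)) t hr hrp rfl (by rw [ht, mul_comm])
  obtain ⟨m', hm', hass⟩ := UniqueFactorizationMonoid.exists_mem_normalizedFactors_of_dvd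
    (cyclotomic_ne_zero r F) hm hdvd
  have h2 := (h1 m' (by
    rw [Cfsg.Agent.Lib.Helper40.cycloFactors, Multiset.mem_toFinset]; exact hm')).2.2
  rw [← h2]
  exact Polynomial.natDegree_eq_of_degree_eq (Polynomial.degree_eq_degree_of_associated hass)

omit [Fintype F] in
theorem natCast_ne_zero_of_ne_char {p : ℕ} [Fact p.Prime] [CharP F p] (r : ℕ) (hr : r.Prime)
    (hrp : r ≠ p) : (r : F) ≠ 0 := by
  intro h0
  rw [CharP.cast_eq_zero_iff F p] at h0
  exact hrp ((Nat.prime_dvd_prime_iff_eq (Fact.out : p.Prime) hr).mp h0).symm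

theorem isCoprime_X_sub_one_cyclotomic {p : ℕ} [Fact p.Prime] [CharP F p] (r : ℕ) (hr : r.Prime)
    (hrp : r ≠ p) : IsCoprime (X - C (1 : F)) (cyclotomic r F) := by
  have : Fact r.Prime := ⟨hr⟩
  rw [(irreducible_X_sub_C (1 : F)).coprime_iff_not_dvd, dvd_iff_isRoot, IsRoot.def,
    eval_one_cyclotomic_prime]
  exact natCast_ne_zero_of_ne_char r hr hrp

/-- The structure of the invariant flags of a matrix `A` with `A ^ r = lam ^ r`. -/
theorem split_type {p q : ℕ} [Fact p.Prime] [CharP F p] (hF : Fintype.card F = q) (r : ℕ)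
    (hr : r.Prime) (hrp : r ≠ p) {n : ℕ} (A : Matrix (Fin n) (Fin n) F) (lam : F)
    (hlam : lam ≠ 0) (hA : A ^ r = (lam ^ r) • (1 : Matrix (Fin n) (Fin n) F)) :
    ∃ k : ℕ,
      finrank F (LinearMap.ker (Matrix.toLin' A - lam • (1 : Module.End F (Fin n → F))))
        + orderOf (q : ZMod r) * k = n ∧
      (∀ b₁ b₂ a₁ a₂ : ℕ, b₁ ≤ b₂ →
        b₂ ≤ finrank F (LinearMap.ker (Matrix.toLin' A - lam • (1 : Module.End F (Fin n → F)))) →
        a₁ ≤ a₂ → a₂ ≤ k →
        ∃ U W : Submodule F (Fin n → F), U ≤ W ∧ U.map (Matrix.toLin' A) ≤ U ∧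
          W.map (Matrix.toLin' A) ≤ W ∧ finrank F U = b₁ + orderOf (q : ZMod r) * a₁ ∧
          finrank F W = b₂ + orderOf (q : ZMod r) * a₂) ∧
      (∀ U W : Submodule F (Fin n → F), U ≤ W → U.map (Matrix.toLin' A) ≤ U →
        W.map (Matrix.toLin' A) ≤ W →
        ∃ b₁ b₂ a₁ a₂ : ℕ, b₁ ≤ b₂ ∧
          b₂ ≤ finrank F
            (LinearMap.ker (Matrix.toLin' A - lam • (1 : Module.End F (Fin n → F)))) ∧
          a₁ ≤ a₂ ∧ a₂ ≤ k ∧ finrank F U = b₁ + orderOf (q : ZMod r) * a₁ ∧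
          finrank F W = b₂ + orderOf (q : ZMod r) * a₂) := by
  have hrF : Fact r.Prime := ⟨hr⟩
  set i := orderOf (q : ZMod r) with hi
  have hipos : 0 < i := orderOf_card_pos hF r hr hrp
  set φ₀ : Module.End F (Fin n → F) := Matrix.toLin' A with hφ₀
  set φ : Module.End F (Fin n → F) := lam⁻¹ • φ₀ with hφ
  have hφ₀r : φ₀ ^ r = (lam ^ r) • (1 : Module.End F (Fin n → F)) := by
    have h1 : φ₀ = Matrix.toLinAlgEquiv' A := rfl
    rw [h1, ← map_pow, hA, map_smul, map_one]
  have hφr : φ ^ r = 1 := by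
    rw [hφ, _root_.smul_pow, hφ₀r, smul_smul, inv_pow, inv_mul_cancel₀ (pow_ne_zero r hlam), one_smul]
  set g₁ : F[X] := X - C (1 : F) with hg₁def
  set g₂ : F[X] := cyclotomic r F with hg₂def
  have hprod : g₁ * g₂ = X ^ r - 1 := by
    rw [hg₁def, hg₂def, mul_comm, C_1]
    exact cyclotomic_prime_mul_X_sub_one F r
  have hkill : aeval φ (g₁ * g₂) = 0 := by
    rw [hprod, map_sub, map_pow, aeval_X, map_one, hφr, sub_self]
  have hcop : IsCoprime g₁ g₂ := isCoprime_X_sub_one_cyclotomic r hr hrp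
  have hg₁0 : g₁ ≠ 0 := X_sub_C_ne_zero 1
  have hg₂0 : g₂ ≠ 0 := cyclotomic_ne_zero r F
  have hg₁ : ∀ m : F[X], Irreducible m → m ∣ g₁ → m.natDegree = 1 := by
    intro m hm hd
    rw [natDegree_of_irreducible_dvd (irreducible_X_sub_C (1 : F)) hm hd, natDegree_X_sub_C]
  have hg₂ : ∀ m : F[X], Irreducible m → m ∣ g₂ → m.natDegree = i :=
    fun m hm hd => natDegree_of_irreducible_dvd_cyclotomic hF r hr hrp m hm hd
  have hker : LinearMap.ker (aeval φ g₁)
      = LinearMap.ker (φ₀ - lam • (1 : Module.End F (Fin n → F))) := by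
    ext x
    rw [LinearMap.mem_ker, LinearMap.mem_ker, hg₁def, map_sub, aeval_X, aeval_C, map_one,
      LinearMap.sub_apply, LinearMap.sub_apply, hφ, LinearMap.smul_apply, LinearMap.smul_apply,
      Module.End.one_apply, sub_eq_zero, sub_eq_zero, inv_smul_eq_iff₀ hlam]
  have hinv : ∀ W : Submodule F (Fin n → F), W.map (Matrix.toLin' A) ≤ W ↔ Inv φ W := by
    intro W
    rw [map_le_iff_inv, hφ, inv_smul_iff _ (inv_ne_zero hlam)]
  set d := finrank F (LinearMap.ker (φ₀ - lam • (1 : Module.End F (Fin n → F)))) with hd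
  have hd' : finrank F (LinearMap.ker (aeval φ g₁)) = d := by rw [hker]
  obtain ⟨k, hk⟩ : i ∣ finrank F (LinearMap.ker (aeval φ g₂)) :=
    dvd_finrank g₂ i hipos hg₂ (inv_ker φ g₂) (fun v hv => LinearMap.mem_ker.mp hv) hg₂0
  have htot := finrank_total (φ := φ) g₁ g₂ hcop hkill
  rw [hd', hk, Module.finrank_fin_fun] at htot
  refine ⟨k, htot.symm, ?_, ?_⟩
  · intro b₁ b₂ a₁ a₂ hb hb₂ ha ha₂
    obtain ⟨U, W, hUW, hU, hW, hfU, hfW⟩ := flag_ex (φ := φ) g₁ g₂ 1 i one_pos hipos hg₁0 hg₂0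
      hg₁ hg₂ hcop b₁ b₂ a₁ a₂ hb ha (by rw [hd', one_mul]; exact hb₂)
      (by rw [hk]; exact Nat.mul_le_mul_left _ ha₂)
    refine ⟨U, W, hUW, (hinv U).mpr hU, (hinv W).mpr hW, ?_, ?_⟩
    · rw [hfU, one_mul]
    · rw [hfW, one_mul]
  · intro U W hUW hU hW
    obtain ⟨b₁, b₂, a₁, a₂, hb, ha, hb₂, ha₂, hfU, hfW⟩ := flag_nec (φ := φ) g₁ g₂ 1 i one_pos
      hipos hg₁0 hg₂0 hg₁ hg₂ hcop hkill hUW ((hinv U).mp hU) ((hinv W).mp hW)
    refine ⟨b₁, b₂, a₁, a₂, hb, ?_, ha, ?_, ?_, ?_⟩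
    · rw [hd', one_mul] at hb₂
      exact hb₂
    · rw [hk] at ha₂
      exact Nat.le_of_mul_le_mul_left ha₂ hipos
    · rw [hfU, one_mul]
    · rw [hfW, one_mul]

/-- Determinant of a matrix whose `r`-th power is a scalar `c` that is not an `r`-th power. -/
theorem det_of_pow_eq_smul {n : ℕ} (A : Matrix (Fin n) (Fin n) F) (r : ℕ) (hr : r.Prime)
    (hrF : (r : F) ≠ 0) (c : F) (hc0 : c ≠ 0) (hirr : Irreducible (X ^ r - C c : F[X]))
    (hA : A ^ r = c • (1 : Matrix (Fin n) (Fin n) F)) (e : ℕ) (hn : n = r * e) :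
    A.det = (-1) ^ n * (-c) ^ e := by
  classical
  set g : F[X] := X ^ r - C c with hg
  have hgm : g.Monic := monic_X_pow_sub_C c hr.ne_zero
  have hgdeg : g.natDegree = r := natDegree_X_pow_sub_C
  have hkillA : aeval A g = 0 := by
    rw [hg, map_sub, map_pow, aeval_X, aeval_C, hA, Algebra.algebraMap_eq_smul_one, sub_self]
  have hss : Module.End.IsSemisimple (Matrix.toLin' A) := by
    apply Module.End.isSemisimple_of_squarefree_aeval_eq_zero (p := g)
    · exact (separable_X_pow_sub_C c hrF hc0).squarefree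
    · have h1 : Matrix.toLin' A = Matrix.toLinAlgEquiv' A := rfl
      rw [h1, aeval_algHom_apply, hkillA, map_zero]
  have hall : ∀ m ∈ UniqueFactorizationMonoid.normalizedFactors A.charpoly, m = g := by
    intro m hm
    have hmm := Cfsg.Agent.Lib.Helper40.monic_of_mem_normalizedFactors hm
    have hmi := UniqueFactorizationMonoid.irreducible_of_normalized_factor m hm
    have hmd := UniqueFactorizationMonoid.dvd_of_mem_normalizedFactors hm
    have h1 := Cfsg.Agent.Lib.Helper40.dvd_of_irreducible_dvd_charpoly A hss g hkillA m hmm hmi hmd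
    exact Cfsg.Agent.Lib.Helper40.eq_of_monic_irreducible_dvd hmm hmi hgm hirr h1
  have hrep := Multiset.eq_replicate_card.mpr hall
  have hchar : A.charpoly = g ^ (Multiset.card
      (UniqueFactorizationMonoid.normalizedFactors A.charpoly)) := by
    have h1 := Cfsg.Agent.Lib.Helper40.prod_normalizedFactors_of_monic (Matrix.charpoly_monic A)
    rw [hrep, Multiset.prod_replicate] at h1
    exact h1.symm
  set e' := Multiset.card (UniqueFactorizationMonoid.normalizedFactors A.charpoly) with he'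
  have hdeg : n = r * e' := by
    have h1 := Matrix.charpoly_natDegree_eq_dim A
    rw [hchar, natDegree_pow, hgdeg, Fintype.card_fin] at h1
    rw [← h1, mul_comm]
  have hee : e' = e := by
    have : r * e' = r * e := by rw [← hdeg, hn]
    exact Nat.eq_of_mul_eq_mul_left hr.pos this
  rw [Matrix.det_eq_sign_charpoly_coeff, Fintype.card_fin, hchar, hee, coeff_zero_eq_eval_zero,
    eval_pow, hg, eval_sub, eval_pow, eval_X, eval_C, zero_pow hr.ne_zero, zero_sub]

/-- The structure of the invariant subspaces of `A` with `A ^ r = c`, `c` not an `r`-th power. -/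
theorem nonsplit_type {p : ℕ} [Fact p.Prime] [CharP F p] (r : ℕ) (hr : r.Prime) (hrp : r ≠ p)
    {n : ℕ} (A : Matrix (Fin n) (Fin n) F) (c : F) (hc0 : c ≠ 0) (hc : ∀ μ : F, μ ^ r ≠ c)
    (hA : A ^ r = c • (1 : Matrix (Fin n) (Fin n) F)) :
    ∃ e : ℕ, n = r * e ∧ A.det = (-1) ^ n * (-c) ^ e ∧
      (∀ a₁ a₂ : ℕ, a₁ ≤ a₂ → a₂ ≤ e →
        ∃ U W : Submodule F (Fin n → F), U ≤ W ∧ U.map (Matrix.toLin' A) ≤ U ∧
          W.map (Matrix.toLin' A) ≤ W ∧ finrank F U = r * a₁ ∧ finrank F W = r * a₂) ∧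
      (∀ U : Submodule F (Fin n → F), U.map (Matrix.toLin' A) ≤ U → r ∣ finrank F U) := by
  set g : F[X] := X ^ r - C c with hg
  have hirr : Irreducible g := X_pow_sub_C_irreducible_of_prime hr hc
  have hgdeg : g.natDegree = r := natDegree_X_pow_sub_C
  have hg0 : g ≠ 0 := hirr.ne_zero
  have hgf : ∀ m : F[X], Irreducible m → m ∣ g → m.natDegree = r := by
    intro m hm hd
    rw [natDegree_of_irreducible_dvd hirr hm hd, hgdeg]
  set φ : Module.End F (Fin n → F) := Matrix.toLin' A with hφ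
  have hφr : φ ^ r = c • (1 : Module.End F (Fin n → F)) := by
    have h1 : φ = Matrix.toLinAlgEquiv' A := rfl
    rw [h1, ← map_pow, hA, map_smul, map_one]
  have hkill : aeval φ g = 0 := by
    rw [hg, map_sub, map_pow, aeval_X, aeval_C, hφr, Algebra.algebraMap_eq_smul_one, sub_self]
  have hkillv : ∀ (Z : Submodule F (Fin n → F)), ∀ v ∈ Z, aeval φ g v = 0 := by
    intro Z v _
    rw [hkill, LinearMap.zero_apply]
  obtain ⟨e, he⟩ : r ∣ finrank F (⊤ : Submodule F (Fin n → F)) :=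
    dvd_finrank g r hr.pos hgf (inv_top φ) (hkillv ⊤) hg0
  rw [finrank_top, Module.finrank_fin_fun] at he
  refine ⟨e, he, det_of_pow_eq_smul A r hr (natCast_ne_zero_of_ne_char r hr hrp) c hc0 hirr hA e he,
    ?_, ?_⟩
  · intro a₁ a₂ ha ha₂
    obtain ⟨U, hU, -, -, hfU⟩ := extend g r hr.pos hgf (inv_top φ) (hkillv ⊤) hg0 (inv_bot φ)
      bot_le a₁ (by
        rw [finrank_bot, zero_add, finrank_top, Module.finrank_fin_fun, he]
        exact Nat.mul_le_mul_left _ (ha.trans ha₂))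
    rw [finrank_bot, zero_add] at hfU
    obtain ⟨W, hW, hUW, -, hfW⟩ := extend g r hr.pos hgf (inv_top φ) (hkillv ⊤) hg0 hU
      le_top (a₂ - a₁) (by
        rw [hfU, ← Nat.mul_add, Nat.add_sub_cancel' ha, finrank_top, Module.finrank_fin_fun, he]
        exact Nat.mul_le_mul_left _ ha₂)
    rw [hfU, ← Nat.mul_add, Nat.add_sub_cancel' ha] at hfW
    exact ⟨U, W, hUW, (map_le_iff_inv A U).mpr hU, (map_le_iff_inv A W).mpr hW, hfU, hfW⟩
  · intro U hU
    exact dvd_finrank g r hr.pos hgf ((map_le_iff_inv A U).mp hU) (hkillv U) hg0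

end

end Cfsg.Agent.Lib.Helper99.PrimeOrd
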