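import Mathlib
import Cfsg.Agent.Lib.Helper99.PrimeOrdType
import Cfsg.Agent.Lib.Helper99.PrimeOrdNT

/-!
# Construction of elements of `SL_n(F)` of prime order modulo scalars (helper99)

* `exists_split_bad` : for `i = ord_r(q) ≥ 2`, `n = d + i k`, `k ≥ 1`: an element `x` of `SL_n(F)`
  with `x ^ r = 1`, not scalar, with `dim ker (x - 1) = d`.
* `exists_nonsplit_bad` : for `n = r e` and `c` not an `r`-th power with `(-1)^n (-c)^e = 1`:
  an element `x` of `SL_n(F)` with `x ^ r = c`.
-/

set_option autoImplicit false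
set_option linter.unusedSectionVars false

namespace Cfsg.Agent.Lib.Helper99.PrimeOrd

open Polynomial Module

section twist

variable {F E : Type*} [Field F] [CommRing E] [Algebra F E]

/-- `v ↦ (v.1, z • v.2)` on `(Fin d → F) × (Fin k → E)`. -/
def twist (d k : ℕ) (z : E) : Module.End F ((Fin d → F) × (Fin k → E)) where
  toFun v := (v.1, z • v.2)
  map_add' v w := by
    refine Prod.ext rfl ?_
    simp [smul_add]
  map_smul' a v := by
    refine Prod.ext rfl ?_
    simp [smul_comm z a]

@[simp] theorem twist_apply (d k : ℕ) (z : E) (v : (Fin d → F) × (Fin k → E)) :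
    twist (F := F) d k z v = (v.1, z • v.2) := rfl

theorem twist_pow (d k : ℕ) (z : E) (j : ℕ) :
    (twist (F := F) d k z) ^ j = twist d k (z ^ j) := by
  induction j with
  | zero =>
    ext v <;> simp
  | succ j ih =>
    rw [pow_succ, ih]
    ext v <;> simp [smul_smul, pow_succ]

theorem finrank_twist_space [Module.Finite F E] (d k : ℕ) :
    finrank F ((Fin d → F) × (Fin k → E)) = d + k * finrank F E := by
  rw [Module.finrank_prod, Module.finrank_fin_fun, Module.finrank_pi_fintype F,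
    Finset.sum_const, Finset.card_univ, Fintype.card_fin, smul_eq_mul]

end twist

section transfer

variable {F V : Type*} [Field F] [AddCommGroup V] [Module F V] {n : ℕ}

theorem toMatrix_pow_eq_smul (b : Basis (Fin n) F V) (y : Module.End F V) (c : F) (r : ℕ)
    (hy : y ^ r = c • (1 : Module.End F V)) :
    (LinearMap.toMatrix b b y) ^ r = c • (1 : Matrix (Fin n) (Fin n) F) := by
  rw [LinearMap.toMatrix_pow, hy, map_smul, LinearMap.toMatrix_one]

theorem finrank_ker_toMatrix (b : Basis (Fin n) F V) (y : Module.End F V) (lam : F) :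
    finrank F (LinearMap.ker (Matrix.toLin' (LinearMap.toMatrix b b y)
        - lam • (1 : Module.End F (Fin n → F)))) =
      finrank F (LinearMap.ker (y - lam • (1 : Module.End F V))) := by
  have hconj : ∀ v, Matrix.toLin' (LinearMap.toMatrix b b y) (b.equivFun v) = b.equivFun (y v) := by
    intro v
    rw [Matrix.toLin'_apply]
    exact LinearMap.toMatrix_mulVec_repr b b y v
  have : LinearMap.ker (Matrix.toLin' (LinearMap.toMatrix b b y)
        - lam • (1 : Module.End F (Fin n → F))) =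
      (LinearMap.ker (y - lam • (1 : Module.End F V))).map
        (b.equivFun : V →ₗ[F] (Fin n → F)) := by
    ext w
    obtain ⟨v, rfl⟩ := b.equivFun.surjective w
    rw [Submodule.mem_map_equiv, LinearEquiv.symm_apply_apply, LinearMap.mem_ker,
      LinearMap.mem_ker, LinearMap.sub_apply, LinearMap.sub_apply, hconj, LinearMap.smul_apply,
      LinearMap.smul_apply, Module.End.one_apply, Module.End.one_apply, ← map_smul, ← map_sub,
      LinearEquiv.map_eq_zero_iff]
  rw [this, LinearEquiv.finrank_map_eq]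

theorem smul_one_pow_entry {μ c : F} {r : ℕ} (hn : 0 < n)
    (h : (μ • (1 : Matrix (Fin n) (Fin n) F)) ^ r = c • (1 : Matrix (Fin n) (Fin n) F)) :
    μ ^ r = c := by
  rw [_root_.smul_pow, one_pow] at h
  have := congrFun (congrFun h ⟨0, hn⟩) ⟨0, hn⟩
  simpa using this

end transfer

section bad

variable {F : Type*} [Field F] [Fintype F]

theorem exists_split_bad {p q : ℕ} [Fact p.Prime] [CharP F p] (hF : Fintype.card F = q) (r : ℕ)
    (hr : r.Prime) (hrp : r ≠ p) (hi : 2 ≤ orderOf (q : ZMod r)) {n d k : ℕ}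
    (hdk : d + orderOf (q : ZMod r) * k = n) (hk : 1 ≤ k) :
    ∃ x : Matrix.SpecialLinearGroup (Fin n) F,
      ((x ^ r : Matrix.SpecialLinearGroup (Fin n) F) : Matrix (Fin n) (Fin n) F)
        = (1 : F) • (1 : Matrix (Fin n) (Fin n) F) ∧
      (∀ c : F, (x : Matrix (Fin n) (Fin n) F) ≠ c • (1 : Matrix (Fin n) (Fin n) F)) ∧
      finrank F (LinearMap.ker (Matrix.toLin' (x : Matrix (Fin n) (Fin n) F)
        - (1 : F) • (1 : Module.End F (Fin n → F)))) = d := by
  classical
  set i := orderOf (q : ZMod r) with hidef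
  have hq1 : 1 ≤ q := by rw [← hF]; exact Fintype.card_pos
  have hr1 : ¬ r ∣ Fintype.card F - 1 := by
    rw [hF, ← PrimeOrdNT.orderOf_eq_one_iff_dvd hq1]
    omega
  -- an irreducible factor of the cyclotomic polynomial
  have hcdeg : 0 < (cyclotomic r F).natDegree := by
    rw [natDegree_cyclotomic, Nat.totient_prime hr]
    have := hr.two_le
    omega
  obtain ⟨m₀, hirr, hdvd⟩ := exists_irreducible_of_natDegree_pos hcdeg
  have hdeg : m₀.natDegree = i := natDegree_of_irreducible_dvd_cyclotomic hF r hr hrp m₀ hirr hdvd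
  have : Fact (Irreducible m₀) := ⟨hirr⟩
  have : Module.Finite F (AdjoinRoot m₀) := (AdjoinRoot.powerBasis hirr.ne_zero).finite
  have hfE : finrank F (AdjoinRoot m₀) = i := by
    rw [(AdjoinRoot.powerBasis hirr.ne_zero).finrank, AdjoinRoot.powerBasis_dim, hdeg]
  set ζ : AdjoinRoot m₀ := AdjoinRoot.root m₀ with hζ
  have hζr : ζ ^ r = 1 := by
    have h1 : m₀ ∣ X ^ r - 1 := hdvd.trans (cyclotomic.dvd_X_pow_sub_one r F)
    have h2 := AdjoinRoot.mk_eq_zero.mpr h1
    rw [map_sub, map_pow, AdjoinRoot.mk_X, map_one] at h2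
    exact sub_eq_zero.mp h2
  have hζ1 : ζ ≠ 1 := by
    intro h1
    have h2 : AdjoinRoot.mk m₀ (X - C (1 : F)) = 0 := by
      rw [map_sub, AdjoinRoot.mk_X, AdjoinRoot.mk_C, map_one, ← hζ, h1, sub_self]
    have h3 := Polynomial.natDegree_le_of_dvd (AdjoinRoot.mk_eq_zero.mp h2) (X_sub_C_ne_zero 1)
    rw [natDegree_X_sub_C, hdeg] at h3
    omega
  have hV : finrank F ((Fin d → F) × (Fin k → AdjoinRoot m₀)) = n := by
    rw [finrank_twist_space, hfE, mul_comm, hdk]
  set y : Module.End F ((Fin d → F) × (Fin k → AdjoinRoot m₀)) := twist d k ζ with hy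
  have hyr : y ^ r = (1 : F) • (1 : Module.End F ((Fin d → F) × (Fin k → AdjoinRoot m₀))) := by
    rw [hy, twist_pow, hζr, one_smul]
    ext v <;> simp
  have hker : LinearMap.ker (y - (1 : F) •
      (1 : Module.End F ((Fin d → F) × (Fin k → AdjoinRoot m₀)))) =
      LinearMap.range (LinearMap.inl F (Fin d → F) (Fin k → AdjoinRoot m₀)) := by
    ext ⟨a, w⟩
    rw [LinearMap.mem_ker, LinearMap.mem_range, LinearMap.sub_apply, one_smul,
      Module.End.one_apply, hy, twist_apply]
    constructor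
    · intro h
      have h1 : ζ • w - w = 0 := congrArg Prod.snd h
      have h2 : (ζ - 1) • w = 0 := by rw [sub_smul, one_smul]; exact h1
      have h3 : w = 0 := (smul_eq_zero.mp h2).resolve_left (sub_ne_zero.mpr hζ1)
      exact ⟨a, by rw [h3]; rfl⟩
    · rintro ⟨a', ha'⟩
      have h1 : w = 0 := (congrArg Prod.snd ha').symm
      rw [h1]
      refine Prod.ext ?_ ?_
      · simp
      · simp
  have hkerdim : finrank F (LinearMap.ker (y - (1 : F) •
      (1 : Module.End F ((Fin d → F) × (Fin k → AdjoinRoot m₀))))) = d := by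
    rw [hker, LinearMap.finrank_range_of_inj LinearMap.inl_injective, Module.finrank_fin_fun]
  set b := Module.finBasisOfFinrankEq F ((Fin d → F) × (Fin k → AdjoinRoot m₀)) hV with hb
  set A := LinearMap.toMatrix b b y with hA
  have hAr : A ^ r = (1 : F) • (1 : Matrix (Fin n) (Fin n) F) := toMatrix_pow_eq_smul b y 1 r hyr
  have hAker : finrank F (LinearMap.ker (Matrix.toLin' A
      - (1 : F) • (1 : Module.End F (Fin n → F)))) = d := by
    rw [hA, finrank_ker_toMatrix, hkerdim]
  have hdet : A.det = 1 := by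
    apply PrimeOrdNT.eq_one_of_pow_eq_one hr hr1
    rw [← Matrix.det_pow, hAr, one_smul, Matrix.det_one]
  have hn2 : 2 ≤ n := by
    have : 2 * 1 ≤ i * k := Nat.mul_le_mul hi hk
    omega
  obtain ⟨x, hx⟩ : ∃ x : Matrix.SpecialLinearGroup (Fin n) F,
      (x : Matrix (Fin n) (Fin n) F) = A := ⟨⟨A, hdet⟩, rfl⟩
  refine ⟨x, ?_, ?_, by rw [hx]; exact hAker⟩
  · rw [Matrix.SpecialLinearGroup.coe_pow, hx]
    exact hAr
  · intro c hc
    rw [hx] at hc
    have hcr : c ^ r = 1 := by
      apply smul_one_pow_entry (n := n) (by omega)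
      rw [← hc, hAr, one_smul]
    have hc1 : c = 1 := PrimeOrdNT.eq_one_of_pow_eq_one hr hr1 hcr
    rw [hc1] at hc
    have h0 : Matrix.toLin' A - (1 : F) • (1 : Module.End F (Fin n → F)) = 0 := by
      rw [hc, map_smul, Matrix.toLin'_one, sub_eq_zero]
      rfl
    rw [h0, LinearMap.ker_zero, finrank_top, Module.finrank_fin_fun] at hAker
    have : 2 * 1 ≤ i * k := Nat.mul_le_mul hi hk
    omega

theorem exists_nonsplit_bad {p : ℕ} [Fact p.Prime] [CharP F p] (r : ℕ) (hr : r.Prime)
    (hrp : r ≠ p) {n e : ℕ} (hn : n = r * e) (hn0 : 0 < n) (c : F) (hc0 : c ≠ 0)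
    (hc : ∀ μ : F, μ ^ r ≠ c) (hdet : (-1 : F) ^ n * (-c) ^ e = 1) :
    ∃ x : Matrix.SpecialLinearGroup (Fin n) F,
      ((x ^ r : Matrix.SpecialLinearGroup (Fin n) F) : Matrix (Fin n) (Fin n) F)
        = c • (1 : Matrix (Fin n) (Fin n) F) ∧
      (∀ μ : F, (x : Matrix (Fin n) (Fin n) F) ≠ μ • (1 : Matrix (Fin n) (Fin n) F)) := by
  classical
  obtain ⟨g, hg⟩ : ∃ g : F[X], g = X ^ r - C c := ⟨_, rfl⟩
  have hirr : Irreducible g := by rw [hg]; exact X_pow_sub_C_irreducible_of_prime hr hc
  have hgdeg : g.natDegree = r := by rw [hg]; exact natDegree_X_pow_sub_C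
  have : Fact (Irreducible g) := ⟨hirr⟩
  have : Module.Finite F (AdjoinRoot g) := (AdjoinRoot.powerBasis hirr.ne_zero).finite
  have hfE : finrank F (AdjoinRoot g) = r := by
    rw [(AdjoinRoot.powerBasis hirr.ne_zero).finrank, AdjoinRoot.powerBasis_dim, hgdeg]
  set ρ : AdjoinRoot g := AdjoinRoot.root g with hρ
  have hρr : ρ ^ r = algebraMap F (AdjoinRoot g) c := by
    have h2 : AdjoinRoot.mk g (X ^ r - C c) = 0 := by rw [← hg]; exact AdjoinRoot.mk_self
    rw [map_sub, map_pow, AdjoinRoot.mk_X, AdjoinRoot.mk_C] at h2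
    exact sub_eq_zero.mp h2
  have hV : finrank F ((Fin 0 → F) × (Fin e → AdjoinRoot g)) = n := by
    rw [finrank_twist_space, hfE, hn, zero_add, mul_comm]
  set y : Module.End F ((Fin 0 → F) × (Fin e → AdjoinRoot g)) := twist 0 e ρ with hy
  have hyr : y ^ r = c • (1 : Module.End F ((Fin 0 → F) × (Fin e → AdjoinRoot g))) := by
    rw [hy, twist_pow, hρr]
    refine LinearMap.ext fun v => ?_
    rw [twist_apply, LinearMap.smul_apply, Module.End.one_apply]
    refine Prod.ext (Subsingleton.elim _ _) ?_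
    exact algebraMap_smul (AdjoinRoot g) c v.2
  set b := Module.finBasisOfFinrankEq F ((Fin 0 → F) × (Fin e → AdjoinRoot g)) hV with hb
  set A := LinearMap.toMatrix b b y with hA
  have hAr : A ^ r = c • (1 : Matrix (Fin n) (Fin n) F) := toMatrix_pow_eq_smul b y c r hyr
  have hdetA : A.det = 1 := by
    rw [det_of_pow_eq_smul A r hr (natCast_ne_zero_of_ne_char r hr hrp) c hc0
      (by rw [← hg]; exact hirr) hAr e hn]
    exact hdet
  obtain ⟨x, hx⟩ : ∃ x : Matrix.SpecialLinearGroup (Fin n) F,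
      (x : Matrix (Fin n) (Fin n) F) = A := ⟨⟨A, hdetA⟩, rfl⟩
  refine ⟨x, ?_, ?_⟩
  · rw [Matrix.SpecialLinearGroup.coe_pow, hx]
    exact hAr
  · intro μ hμ
    rw [hx] at hμ
    apply hc μ
    apply smul_one_pow_entry (n := n) hn0
    rw [← hμ, hAr]

end bad

end Cfsg.Agent.Lib.Helper99.PrimeOrd
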