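import Mathlib

/-!
# Counting subspaces, flags and complementary pairs over a finite field (helper99)

* `card_subspaces_mul` : `#{W ≤ V | dim W = b} * ∏_{j<b} (q^b - q^j) = ∏_{j<b} (q^a - q^j)`, `a = dim V`.
* `exists_of_prime_dvd_card_subspaces`, `exists_of_prime_dvd_card_flags`,
  `exists_of_prime_dvd_card_pairs` : a prime dividing one of these counts divides `q^t - 1` for
  some `t` in an explicit range.
-/

set_option autoImplicit false

namespace Cfsg.Agent.Lib.Helper99.SubCount

open Module

section products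

/-- `fallProd q a b = ∏_{j<b} (q^(a-j) - 1)`. -/
def fallProd (q a b : ℕ) : ℕ := ∏ j ∈ Finset.range b, (q ^ (a - j) - 1)

theorem fallProd_zero (q a : ℕ) : fallProd q a 0 = 1 := by simp [fallProd]

theorem fallProd_succ (q a b : ℕ) :
    fallProd q a (b + 1) = fallProd q a b * (q ^ (a - b) - 1) :=
  Finset.prod_range_succ _ _

theorem fallProd_self_succ (q t : ℕ) :
    fallProd q (t + 1) (t + 1) = (q ^ (t + 1) - 1) * fallProd q t t := by
  unfold fallProd
  rw [Finset.prod_range_succ', Nat.sub_zero, mul_comm]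
  refine congrArg _ (Finset.prod_congr rfl fun j _ => ?_)
  rw [Nat.add_sub_add_right]

theorem fallProd_mul (q : ℕ) {a b : ℕ} (hb : b ≤ a) :
    fallProd q a b * fallProd q (a - b) (a - b) = fallProd q a a := by
  induction b with
  | zero => rw [fallProd_zero, one_mul, Nat.sub_zero]
  | succ b ih =>
    obtain ⟨t, ht⟩ : ∃ t, a - b = t + 1 := ⟨a - b - 1, by omega⟩
    have ht' : a - (b + 1) = t := by omega
    rw [fallProd_succ, ht', ← ih (by omega), ht, fallProd_self_succ]
    ring

theorem fallProd_pos {q a b : ℕ} (hq : 2 ≤ q) (hb : b ≤ a) : 0 < fallProd q a b := by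
  apply Finset.prod_pos
  intro j hj
  rw [Finset.mem_range] at hj
  have : 1 < q ^ (a - j) := Nat.one_lt_pow (by omega) (by omega)
  omega

theorem exists_of_prime_dvd_fallProd {q a b l : ℕ} (hl : l.Prime) (hb : b ≤ a)
    (h : l ∣ fallProd q a b) : ∃ t, a - b < t ∧ t ≤ a ∧ l ∣ q ^ t - 1 := by
  obtain ⟨j, hj, hd⟩ := (Prime.dvd_finsetProd_iff (Nat.prime_iff.mp hl) _).mp h
  rw [Finset.mem_range] at hj
  exact ⟨a - j, by omega, by omega, hd⟩

theorem prod_pow_sub_pow (q : ℕ) {a b : ℕ} (hb : b ≤ a) :
    ∏ j : Fin b, (q ^ a - q ^ (j : ℕ)) = (∏ j ∈ Finset.range b, q ^ j) * fallProd q a b := by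
  rw [Fin.prod_univ_eq_prod_range (fun j => q ^ a - q ^ j) b, fallProd,
    ← Finset.prod_mul_distrib]
  apply Finset.prod_congr rfl
  intro j hj
  rw [Finset.mem_range] at hj
  rw [Nat.mul_sub, mul_one, ← pow_add, Nat.add_sub_cancel' (by omega)]

theorem cancel_count {q a b N : ℕ} (hq : 2 ≤ q) (hb : b ≤ a)
    (h : N * ∏ j : Fin b, (q ^ b - q ^ (j : ℕ)) = ∏ j : Fin b, (q ^ a - q ^ (j : ℕ))) :
    N * fallProd q b b = fallProd q a b := by
  rw [prod_pow_sub_pow q hb, prod_pow_sub_pow q (le_refl b)] at h
  have hpos : 0 < ∏ j ∈ Finset.range b, q ^ j :=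
    Finset.prod_pos fun j _ => pow_pos (by omega) j
  apply Nat.eq_of_mul_eq_mul_left hpos
  rw [← h]
  ring

theorem cancel_count_dual {q a b N : ℕ} (hq : 2 ≤ q) (hb : b ≤ a)
    (h : N * fallProd q b b = fallProd q a b) :
    N * fallProd q (a - b) (a - b) = fallProd q a (a - b) := by
  have h1 := fallProd_mul q hb
  have h2 := fallProd_mul q (Nat.sub_le a b)
  rw [Nat.sub_sub_self hb] at h2
  have hpos := fallProd_pos hq (le_refl b)
  apply Nat.eq_of_mul_eq_mul_left hpos
  calc fallProd q b b * (N * fallProd q (a - b) (a - b))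
      = (N * fallProd q b b) * fallProd q (a - b) (a - b) := by ring
    _ = fallProd q a a := by rw [h, h1]
    _ = fallProd q b b * fallProd q a (a - b) := by rw [← h2]; ring

theorem not_dvd_pow_sub_one {p q t : ℕ} (hp : p.Prime) (hpq : p ∣ q) (ht : 0 < t) (hq : 1 ≤ q) :
    ¬ p ∣ q ^ t - 1 := by
  intro h
  have h1 : p ∣ q ^ t := dvd_pow hpq (by omega)
  have h2 : 1 ≤ q ^ t := Nat.one_le_pow _ _ hq
  have h3 : p ∣ q ^ t - (q ^ t - 1) := Nat.dvd_sub h1 h
  have h4 : q ^ t - (q ^ t - 1) = 1 := by omega
  rw [h4] at h3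
  exact hp.one_lt.ne' (Nat.dvd_one.mp h3)

end products

section count

variable {F V : Type*} [Field F] [Fintype F] [AddCommGroup V] [Module F V] [Finite V]

theorem card_fiber (b : ℕ) (W : Submodule F V) (hW : finrank F W = b) :
    Nat.card {s : {s : Fin b → V // LinearIndependent F s} //
        Submodule.span F (Set.range s.1) = W} =
      Nat.card {s' : Fin b → W // LinearIndependent F s'} := by
  symm
  have hLI : ∀ s' : {s' : Fin b → W // LinearIndependent F s'},
      LinearIndependent F (fun j => (s'.1 j : V)) :=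
    fun s' => s'.2.map' W.subtype (Submodule.ker_subtype W)
  have hspan : ∀ s' : {s' : Fin b → W // LinearIndependent F s'},
      Submodule.span F (Set.range (fun j => (s'.1 j : V))) = W := by
    intro s'
    apply Submodule.eq_of_le_of_finrank_eq
    · rw [Submodule.span_le]
      rintro _ ⟨j, rfl⟩
      exact (s'.1 j).2
    · rw [finrank_span_eq_card (hLI s'), Fintype.card_fin, hW]
  refine Nat.card_eq_of_bijective
    (fun s' => ⟨⟨fun j => (s'.1 j : V), hLI s'⟩, hspan s'⟩) ⟨?_, ?_⟩
  · intro s' t' h
    have h1 : (fun j => (s'.1 j : V)) = fun j => (t'.1 j : V) :=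
      congrArg (fun x => x.1.1) h
    apply Subtype.ext
    funext j
    apply Subtype.ext
    exact congrFun h1 j
  · rintro ⟨⟨s, hs⟩, hsW⟩
    have hsW' : Submodule.span F (Set.range s) = W := hsW
    have hmem : ∀ j, s j ∈ W := fun j => by
      rw [← hsW']
      exact Submodule.subset_span (Set.mem_range_self j)
    refine ⟨⟨fun j => ⟨s j, hmem j⟩, ?_⟩, ?_⟩
    · apply LinearIndependent.of_comp W.subtype
      exact hs
    · rfl

/-- The number of `b`-dimensional subspaces, in multiplicative form. -/
theorem card_subspaces_mul (b : ℕ) (hb : b ≤ finrank F V) :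
    Nat.card {W : Submodule F V // finrank F W = b} *
        ∏ j : Fin b, (Fintype.card F ^ b - Fintype.card F ^ (j : ℕ)) =
      ∏ j : Fin b, (Fintype.card F ^ finrank F V - Fintype.card F ^ (j : ℕ)) := by
  classical
  rw [← card_linearIndependent hb]
  let f : {s : Fin b → V // LinearIndependent F s} → {W : Submodule F V // finrank F W = b} :=
    fun s => ⟨Submodule.span F (Set.range s.1), by
      rw [finrank_span_eq_card s.2, Fintype.card_fin]⟩
  haveI : Fintype {W : Submodule F V // finrank F W = b} := Fintype.ofFinite _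
  rw [Nat.card_congr (Equiv.sigmaFiberEquiv f).symm, Nat.card_sigma]
  have hfib : ∀ W : {W : Submodule F V // finrank F W = b},
      Nat.card {s // f s = W} =
        ∏ j : Fin b, (Fintype.card F ^ b - Fintype.card F ^ (j : ℕ)) := by
    intro W
    have h1 : Nat.card {s // f s = W} =
        Nat.card {s : {s : Fin b → V // LinearIndependent F s} //
          Submodule.span F (Set.range s.1) = W.1} := by
      apply Nat.card_congr
      apply Equiv.subtypeEquivRight
      intro s
      exact Subtype.ext_iff
    rw [h1, card_fiber b W.1 W.2, card_linearIndependent (le_of_eq W.2.symm), W.2]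
  rw [Finset.sum_congr rfl (fun W _ => hfib W), Finset.sum_const, Finset.card_univ,
    smul_eq_mul, Nat.card_eq_fintype_card]

theorem card_subspaces_fallProd (b : ℕ) (hb : b ≤ finrank F V) :
    Nat.card {W : Submodule F V // finrank F W = b} * fallProd (Fintype.card F) b b =
      fallProd (Fintype.card F) (finrank F V) b :=
  cancel_count Fintype.one_lt_card hb (card_subspaces_mul b hb)

theorem exists_of_prime_dvd_card_subspaces {l : ℕ} (hl : l.Prime) (b : ℕ)
    (hb : b ≤ finrank F V) (h : l ∣ Nat.card {W : Submodule F V // finrank F W = b}) :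
    ∃ t, finrank F V - b < t ∧ t ≤ finrank F V ∧ l ∣ Fintype.card F ^ t - 1 := by
  apply exists_of_prime_dvd_fallProd hl hb
  rw [← card_subspaces_fallProd b hb]
  exact Dvd.dvd.mul_right h _

theorem exists_of_prime_dvd_card_subspaces_dual {l : ℕ} (hl : l.Prime) (b : ℕ)
    (hb : b ≤ finrank F V) (h : l ∣ Nat.card {W : Submodule F V // finrank F W = b}) :
    ∃ t, b < t ∧ t ≤ finrank F V ∧ l ∣ Fintype.card F ^ t - 1 := by
  have h1 := cancel_count_dual Fintype.one_lt_card hb (card_subspaces_fallProd (F := F) (V := V) b hb)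
  obtain ⟨t, ht1, ht2, ht3⟩ := exists_of_prime_dvd_fallProd hl (Nat.sub_le (finrank F V) b)
    (by rw [← h1]; exact Dvd.dvd.mul_right h _)
  exact ⟨t, by omega, ht2, ht3⟩

/-- The number of flags `U ≤ W` of dimensions `(m, k)`. -/
theorem card_flags_mul (m k : ℕ) (hm : m ≤ k) :
    Nat.card {P : Submodule F V × Submodule F V //
        P.1 ≤ P.2 ∧ finrank F P.1 = m ∧ finrank F P.2 = k} * fallProd (Fintype.card F) m m =
      Nat.card {W : Submodule F V // finrank F W = k} * fallProd (Fintype.card F) k m := by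
  classical
  haveI : Fintype {W : Submodule F V // finrank F W = k} := Fintype.ofFinite _
  let f : {P : Submodule F V × Submodule F V //
        P.1 ≤ P.2 ∧ finrank F P.1 = m ∧ finrank F P.2 = k} →
      {W : Submodule F V // finrank F W = k} := fun P => ⟨P.1.2, P.2.2.2⟩
  rw [Nat.card_congr (Equiv.sigmaFiberEquiv f).symm, Nat.card_sigma, Finset.sum_mul]
  have hfib : ∀ W : {W : Submodule F V // finrank F W = k},
      Nat.card {P // f P = W} * fallProd (Fintype.card F) m m =
        fallProd (Fintype.card F) k m := by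
    intro W
    have h1 : Nat.card {U : Submodule F W.1 // finrank F U = m} = Nat.card {P // f P = W} := by
      refine Nat.card_eq_of_bijective
        (fun U => ⟨⟨(U.1.map W.1.subtype, W.1), Submodule.map_subtype_le _ _, by
          rw [Submodule.finrank_map_subtype_eq]; exact U.2, W.2⟩, Subtype.ext rfl⟩) ⟨?_, ?_⟩
      · intro U U' h
        have h2 : U.1.map W.1.subtype = U'.1.map W.1.subtype :=
          congrArg (fun x => x.1.1.1) h
        exact Subtype.ext
          (Submodule.map_injective_of_injective (Submodule.injective_subtype W.1) h2)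
      · rintro ⟨⟨⟨U₀, W₀⟩, hle, hU₀, hW₀⟩, hf⟩
        have hW : W₀ = W.1 := congrArg Subtype.val hf
        subst hW
        refine ⟨⟨U₀.comap W.1.subtype, ?_⟩, ?_⟩
        · rw [(Submodule.comapSubtypeEquivOfLe hle).finrank_eq]
          exact hU₀
        · apply Subtype.ext
          apply Subtype.ext
          apply Prod.ext
          · show Submodule.map W.1.subtype (Submodule.comap W.1.subtype U₀) = U₀
            rw [Submodule.map_comap_subtype]
            exact inf_eq_right.mpr hle
          · rfl
    rw [← h1]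
    have h2 := card_subspaces_fallProd (F := F) (V := W.1) m (by rw [W.2]; exact hm)
    rw [W.2] at h2
    exact h2
  rw [Finset.sum_congr rfl (fun W _ => hfib W), Finset.sum_const, Finset.card_univ,
    smul_eq_mul, Nat.card_eq_fintype_card]

theorem exists_of_prime_dvd_card_flags {l : ℕ} (hl : l.Prime) (m k : ℕ) (hm : m ≤ k)
    (hk : k ≤ finrank F V)
    (h : l ∣ Nat.card {P : Submodule F V × Submodule F V //
        P.1 ≤ P.2 ∧ finrank F P.1 = m ∧ finrank F P.2 = k}) :
    ∃ t, k - m < t ∧ t ≤ finrank F V ∧ l ∣ Fintype.card F ^ t - 1 := by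
  have h1 : l ∣ Nat.card {W : Submodule F V // finrank F W = k} *
      fallProd (Fintype.card F) k m := by
    rw [← card_flags_mul m k hm]
    exact Dvd.dvd.mul_right h _
  rcases (Nat.Prime.dvd_mul hl).mp h1 with h2 | h2
  · obtain ⟨t, ht1, ht2, ht3⟩ := exists_of_prime_dvd_card_subspaces_dual hl k hk h2
    exact ⟨t, by omega, ht2, ht3⟩
  · obtain ⟨t, ht1, ht2, ht3⟩ := exists_of_prime_dvd_fallProd hl hm h2
    exact ⟨t, ht1, by omega, ht3⟩

/-- The number of complements of a subspace. -/
theorem card_compl (U : Submodule F V) :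
    Nat.card {W : Submodule F V // IsCompl U W} =
      Fintype.card F ^ ((finrank F V - finrank F U) * finrank F U) := by
  obtain ⟨W₀, h₀⟩ := Submodule.exists_isCompl U
  let e : {f : V →ₗ[F] U // ∀ x : U, f x = x} ≃ (W₀ →ₗ[F] U) :=
    { toFun := fun f => f.1.comp W₀.subtype
      invFun := fun g => ⟨LinearMap.ofIsCompl h₀ LinearMap.id g, fun x => by
        rw [LinearMap.ofIsCompl_apply_left]; rfl⟩
      left_inv := fun f => by
        apply Subtype.ext
        apply LinearMap.ofIsCompl_eq
        · intro u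
          exact (f.2 u).symm
        · intro w
          rfl
      right_inv := fun g => by
        ext w
        simp }
  rw [Nat.card_congr (Submodule.isComplEquivProj U), Nat.card_congr e,
    Module.natCard_eq_pow_finrank (K := F), Module.finrank_linearMap, Nat.card_eq_fintype_card]
  have := Submodule.finrank_add_eq_of_isCompl h₀
  congr 2
  omega

/-- The number of complementary pairs `(U, W)` with `dim U = m`. -/
theorem card_pairs (m : ℕ) :
    Nat.card {P : Submodule F V × Submodule F V // IsCompl P.1 P.2 ∧ finrank F P.1 = m} =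
      Nat.card {U : Submodule F V // finrank F U = m} *
        Fintype.card F ^ ((finrank F V - m) * m) := by
  classical
  haveI : Fintype {U : Submodule F V // finrank F U = m} := Fintype.ofFinite _
  let f : {P : Submodule F V × Submodule F V // IsCompl P.1 P.2 ∧ finrank F P.1 = m} →
      {U : Submodule F V // finrank F U = m} := fun P => ⟨P.1.1, P.2.2⟩
  rw [Nat.card_congr (Equiv.sigmaFiberEquiv f).symm, Nat.card_sigma]
  have hfib : ∀ U : {U : Submodule F V // finrank F U = m},
      Nat.card {P // f P = U} = Fintype.card F ^ ((finrank F V - m) * m) := by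
    intro U
    have h1 : Nat.card {W : Submodule F V // IsCompl U.1 W} = Nat.card {P // f P = U} := by
      refine Nat.card_eq_of_bijective
        (fun W => ⟨⟨(U.1, W.1), W.2, U.2⟩, Subtype.ext rfl⟩) ⟨?_, ?_⟩
      · intro W W' h
        have h2 : W.1 = W'.1 := congrArg (fun x => x.1.1.2) h
        exact Subtype.ext h2
      · rintro ⟨⟨⟨U₀, W₀⟩, hc, hU₀⟩, hf⟩
        have hU : U₀ = U.1 := congrArg Subtype.val hf
        subst hU
        exact ⟨⟨W₀, hc⟩, rfl⟩
    rw [← h1, card_compl, U.2]
  rw [Finset.sum_congr rfl (fun U _ => hfib U), Finset.sum_const, Finset.card_univ,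
    smul_eq_mul, Nat.card_eq_fintype_card]

theorem exists_of_prime_dvd_card_pairs {l : ℕ} (hl : l.Prime) (hlq : ¬ l ∣ Fintype.card F)
    (m : ℕ) (hm : m ≤ finrank F V)
    (h : l ∣ Nat.card {P : Submodule F V × Submodule F V //
        IsCompl P.1 P.2 ∧ finrank F P.1 = m}) :
    ∃ t, finrank F V - m < t ∧ t ≤ finrank F V ∧ l ∣ Fintype.card F ^ t - 1 := by
  rw [card_pairs] at h
  rcases (Nat.Prime.dvd_mul hl).mp h with h2 | h2
  · exact exists_of_prime_dvd_card_subspaces hl m hm h2
  · exact absurd (hl.dvd_of_dvd_pow h2) hlq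

end count

end Cfsg.Agent.Lib.Helper99.SubCount
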