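import Mathlib
import Cfsg.Agent.Lib.Helper99.PrimeOrdBad
import Cfsg.Agent.Lib.Helper99.SubCount

/-!
# Elements of prime order modulo scalars in `SL_n(F)`: structure of invariant flags (helper99)
-/

set_option autoImplicit false
set_option linter.unusedSectionVars false

namespace Cfsg.Agent.Lib.Helper99.PrimeOrd

open Polynomial Module

variable {F : Type*} [Field F] [Fintype F]

theorem scalar_ne_zero {n : ℕ} (hn : 1 ≤ n) (y : Matrix.SpecialLinearGroup (Fin n) F) (c : F)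
    (hy : (y : Matrix (Fin n) (Fin n) F) = c • (1 : Matrix (Fin n) (Fin n) F)) : c ≠ 0 := by
  rintro rfl
  have h1 := y.det_coe
  have hne : Nonempty (Fin n) := ⟨⟨0, by omega⟩⟩
  rw [hy, zero_smul, Matrix.det_zero] at h1
  exact zero_ne_one h1

/-- The two possible structures of an element `x` of `SL_n(F)` with `x ^ r` scalar. -/
theorem structure_thm {p q : ℕ} [Fact p.Prime] [CharP F p] (hF : Fintype.card F = q) (r : ℕ)
    (hr : r.Prime) (hrp : r ≠ p) {n : ℕ} (hn : 1 ≤ n)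
    (x : Matrix.SpecialLinearGroup (Fin n) F) (c : F)
    (hx : ((x ^ r : Matrix.SpecialLinearGroup (Fin n) F) : Matrix (Fin n) (Fin n) F)
      = c • (1 : Matrix (Fin n) (Fin n) F)) :
    (∃ d k : ℕ, d + orderOf (q : ZMod r) * k = n ∧
      ∀ b₁ b₂ a₁ a₂ : ℕ, b₁ ≤ b₂ → b₂ ≤ d → a₁ ≤ a₂ → a₂ ≤ k →
        ∃ U W : Submodule F (Fin n → F), U ≤ W ∧
          U.map (Matrix.toLin' (x : Matrix (Fin n) (Fin n) F)) ≤ U ∧
          W.map (Matrix.toLin' (x : Matrix (Fin n) (Fin n) F)) ≤ W ∧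
          finrank F U = b₁ + orderOf (q : ZMod r) * a₁ ∧
          finrank F W = b₂ + orderOf (q : ZMod r) * a₂) ∨
    (orderOf (q : ZMod r) = 1 ∧
      ¬ (padicValNat r n ≤ padicValNat r (q - 1) ∧ (r = 2 → Even n → q % 4 = 1)) ∧
      ∃ e : ℕ, n = r * e ∧ ∀ a₁ a₂ : ℕ, a₁ ≤ a₂ → a₂ ≤ e →
        ∃ U W : Submodule F (Fin n → F), U ≤ W ∧
          U.map (Matrix.toLin' (x : Matrix (Fin n) (Fin n) F)) ≤ U ∧
          W.map (Matrix.toLin' (x : Matrix (Fin n) (Fin n) F)) ≤ W ∧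
          finrank F U = r * a₁ ∧ finrank F W = r * a₂) := by
  have hA : (x : Matrix (Fin n) (Fin n) F) ^ r = c • (1 : Matrix (Fin n) (Fin n) F) := by
    rw [← Matrix.SpecialLinearGroup.coe_pow]; exact hx
  have hc0 : c ≠ 0 := scalar_ne_zero hn (x ^ r) c hx
  have hq1 : 1 ≤ q := by rw [← hF]; exact Fintype.card_pos
  by_cases hpow : ∃ lam : F, lam ^ r = c
  · obtain ⟨lam, rfl⟩ := hpow
    have hlam : lam ≠ 0 := by
      rintro rfl
      exact hc0 (zero_pow hr.ne_zero)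
    obtain ⟨k, hk, hex, -⟩ := split_type hF r hr hrp (x : Matrix (Fin n) (Fin n) F) lam hlam hA
    exact Or.inl ⟨_, k, hk, hex⟩
  · right
    have hr1 : r ∣ q - 1 := by
      by_contra h
      exact hpow (PrimeOrdNT.exists_pow_eq_of_not_dvd hr (by rwa [hF]) hc0)
    have hi : orderOf (q : ZMod r) = 1 := (PrimeOrdNT.orderOf_eq_one_iff_dvd hq1).mpr hr1
    have hpow' : ∀ μ : F, μ ^ r ≠ c := fun μ hμ => hpow ⟨μ, hμ⟩
    obtain ⟨e, he, hdet, hex, -⟩ :=
      nonsplit_type r hr hrp (x : Matrix (Fin n) (Fin n) F) c hc0 hpow' hA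
    refine ⟨hi, ?_, e, he, hex⟩
    intro hcond
    rw [x.det_coe] at hdet
    exact hpow (PrimeOrdNT.no_bad_c hF hr hr1 he (by omega) hcond hc0 hdet.symm)

/-- For `i = ord_r(q) ≥ 2`, `i ≤ n`: an element of order `r` with the smallest fixed space. -/
theorem exists_generic {p q : ℕ} [Fact p.Prime] [CharP F p] (hF : Fintype.card F = q) (r : ℕ)
    (hr : r.Prime) (hrp : r ≠ p) (hi : 2 ≤ orderOf (q : ZMod r)) {n : ℕ}
    (hle : orderOf (q : ZMod r) ≤ n) :
    ∃ x : Matrix.SpecialLinearGroup (Fin n) F,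
      (∃ c : F, ((x ^ r : Matrix.SpecialLinearGroup (Fin n) F) : Matrix (Fin n) (Fin n) F)
        = c • (1 : Matrix (Fin n) (Fin n) F)) ∧
      (∀ c : F, (x : Matrix (Fin n) (Fin n) F) ≠ c • (1 : Matrix (Fin n) (Fin n) F)) ∧
      ∀ U W : Submodule F (Fin n → F), U ≤ W →
        U.map (Matrix.toLin' (x : Matrix (Fin n) (Fin n) F)) ≤ U →
        W.map (Matrix.toLin' (x : Matrix (Fin n) (Fin n) F)) ≤ W →
        ∃ b₁ b₂ a₁ a₂ : ℕ, b₁ ≤ b₂ ∧ b₂ ≤ n % orderOf (q : ZMod r) ∧ a₁ ≤ a₂ ∧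
          finrank F U = b₁ + orderOf (q : ZMod r) * a₁ ∧
          finrank F W = b₂ + orderOf (q : ZMod r) * a₂ := by
  have hdk : n % orderOf (q : ZMod r) + orderOf (q : ZMod r) * (n / orderOf (q : ZMod r)) = n :=
    Nat.mod_add_div n _
  have hk : 1 ≤ n / orderOf (q : ZMod r) := Nat.div_pos hle (by omega)
  obtain ⟨x, hx, hns, hker⟩ := exists_split_bad hF r hr hrp hi hdk hk
  refine ⟨x, ⟨1, hx⟩, hns, ?_⟩
  intro U W hUW hU hW
  have hA : (x : Matrix (Fin n) (Fin n) F) ^ r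
      = ((1 : F) ^ r) • (1 : Matrix (Fin n) (Fin n) F) := by
    rw [← Matrix.SpecialLinearGroup.coe_pow, hx, one_pow]
  obtain ⟨k, -, -, hnec⟩ :=
    split_type hF r hr hrp (x : Matrix (Fin n) (Fin n) F) 1 one_ne_zero hA
  obtain ⟨b₁, b₂, a₁, a₂, h1, h2, h3, -, h5, h6⟩ := hnec U W hUW hU hW
  rw [hker] at h2
  exact ⟨b₁, b₂, a₁, a₂, h1, h2, h3, h5, h6⟩

/-- Invariant complements (`r ≠ p`: the element is semisimple). -/
theorem exists_inv_compl {p : ℕ} [Fact p.Prime] [CharP F p] (r : ℕ) (hr : r.Prime) (hrp : r ≠ p)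
    {n : ℕ} (hn : 1 ≤ n) (x : Matrix.SpecialLinearGroup (Fin n) F) (c : F)
    (hx : ((x ^ r : Matrix.SpecialLinearGroup (Fin n) F) : Matrix (Fin n) (Fin n) F)
      = c • (1 : Matrix (Fin n) (Fin n) F))
    (U : Submodule F (Fin n → F))
    (hU : U.map (Matrix.toLin' (x : Matrix (Fin n) (Fin n) F)) ≤ U) :
    ∃ W : Submodule F (Fin n → F), IsCompl U W ∧
      W.map (Matrix.toLin' (x : Matrix (Fin n) (Fin n) F)) ≤ W := by
  have hA : (x : Matrix (Fin n) (Fin n) F) ^ r = c • (1 : Matrix (Fin n) (Fin n) F) := by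
    rw [← Matrix.SpecialLinearGroup.coe_pow]; exact hx
  have hc0 : c ≠ 0 := scalar_ne_zero hn (x ^ r) c hx
  have hkillA : aeval (x : Matrix (Fin n) (Fin n) F) (X ^ r - C c : F[X]) = 0 := by
    rw [map_sub, map_pow, aeval_X, aeval_C, hA, Algebra.algebraMap_eq_smul_one, sub_self]
  have hss : Module.End.IsSemisimple (Matrix.toLin' (x : Matrix (Fin n) (Fin n) F)) := by
    apply Module.End.isSemisimple_of_squarefree_aeval_eq_zero (p := (X ^ r - C c : F[X]))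
    · exact (separable_X_pow_sub_C c (natCast_ne_zero_of_ne_char r hr hrp) hc0).squarefree
    · have h1 : Matrix.toLin' (x : Matrix (Fin n) (Fin n) F)
          = Matrix.toLinAlgEquiv' (x : Matrix (Fin n) (Fin n) F) := rfl
      rw [h1, aeval_algHom_apply, hkillA, map_zero]
  obtain ⟨W, hW, hc⟩ := (Module.End.isSemisimple_iff.mp hss) U
    ((Module.End.mem_invtSubmodule_iff_map_le _).mpr hU)
  exact ⟨W, hc, (Module.End.mem_invtSubmodule_iff_map_le _).mp hW⟩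

/-- Case `i = 1` of the forward directions. -/
theorem fwd_one {p q : ℕ} [Fact p.Prime] [CharP F p] (hF : Fintype.card F = q) (r : ℕ)
    (hr : r.Prime) (hrp : r ≠ p) (hi : orderOf (q : ZMod r) = 1) {n m : ℕ} (hn : 1 ≤ n)
    (hL : ∀ x : Matrix.SpecialLinearGroup (Fin n) F,
      (∃ c : F, ((x ^ r : Matrix.SpecialLinearGroup (Fin n) F) : Matrix (Fin n) (Fin n) F)
        = c • (1 : Matrix (Fin n) (Fin n) F)) →
      (∀ c : F, (x : Matrix (Fin n) (Fin n) F) ≠ c • (1 : Matrix (Fin n) (Fin n) F)) →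
      ∃ W : Submodule F (Fin n → F), finrank F W = m ∧
        W.map (Matrix.toLin' (x : Matrix (Fin n) (Fin n) F)) ≤ W) :
    r ∣ m ∨ (padicValNat r n ≤ padicValNat r (q - 1) ∧ (r = 2 → Even n → q % 4 = 1)) := by
  have hq1 : 1 ≤ q := by rw [← hF]; exact Fintype.card_pos
  have hr1 : r ∣ q - 1 := (PrimeOrdNT.orderOf_eq_one_iff_dvd hq1).mp hi
  by_contra hcon
  rw [not_or] at hcon
  obtain ⟨hrm, hcond⟩ := hcon
  have hrn : r ∣ n := by
    by_contra hrn
    apply hcond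
    constructor
    · rw [padicValNat.eq_zero_of_not_dvd hrn]
      exact Nat.zero_le _
    · intro h2 hev
      exfalso
      rw [h2] at hrn
      exact hrn (even_iff_two_dvd.mp hev)
  obtain ⟨e, he⟩ := hrn
  obtain ⟨c, hc0, hcn, hdet⟩ := PrimeOrdNT.exists_bad_c hF hr hr1 he (by omega) hcond
  obtain ⟨x, hx, hns⟩ := exists_nonsplit_bad r hr hrp he (by omega) c hc0 hcn hdet
  obtain ⟨W, hWm, hW⟩ := hL x ⟨c, hx⟩ hns
  have hA : (x : Matrix (Fin n) (Fin n) F) ^ r = c • (1 : Matrix (Fin n) (Fin n) F) := by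
    rw [← Matrix.SpecialLinearGroup.coe_pow]; exact hx
  obtain ⟨e', -, -, -, hdiv⟩ :=
    nonsplit_type r hr hrp (x : Matrix (Fin n) (Fin n) F) c hc0 hcn hA
  have := hdiv W hW
  rw [hWm] at this
  exact hrm this

/-- `p` does not divide `q ^ t - 1` for `t ≥ 1`. -/
theorem char_not_dvd {p q : ℕ} [Fact p.Prime] [CharP F p] (hF : Fintype.card F = q) {t : ℕ}
    (ht : 0 < t) : ¬ p ∣ q ^ t - 1 := by
  have hq1 : 1 ≤ q := by rw [← hF]; exact Fintype.card_pos
  have hpq : p ∣ q := by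
    rw [← hF, ← CharP.cast_eq_zero_iff F p]
    exact Nat.cast_card_eq_zero F
  exact SubCount.not_dvd_pow_sub_one (Fact.out : p.Prime) hpq ht hq1

theorem not_dvd_card_of_ne {p q : ℕ} [Fact p.Prime] [CharP F p] (hF : Fintype.card F = q) (r : ℕ)
    (hr : r.Prime) (hrp : r ≠ p) : ¬ r ∣ Fintype.card F := by
  have h := natCast_card_ne_zero hF r hr hrp
  rw [hF]
  intro hd
  exact h ((ZMod.natCast_eq_zero_iff q r).mpr hd)

end Cfsg.Agent.Lib.Helper99.PrimeOrd
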