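import Mathlib
import Cfsg.Agent.Lib.Helper40.NilpotentJordan

/-!
# Rank and kernel dimensions under a field extension (helper99)

* `rank_map_eq` : the rank of a square matrix does not change when the entries are mapped along a
  homomorphism of fields.
* `kd_map` : the kernel dimensions of the powers of a matrix do not change either.
-/

set_option autoImplicit false

namespace Cfsg.Agent.Lib.Helper99.SubUnip

open Module Matrix

theorem rank_map_eq {K L : Type*} [Field K] [Field L] (f : K →+* L) {m : Type*} [Fintype m]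
    [DecidableEq m] (A : Matrix m m K) : (A.map f).rank = A.rank := by
  classical
  obtain ⟨Ls, Ls', D, hD⟩ := Matrix.Pivot.exists_list_transvec_mul_mul_list_transvec_eq_diagonal A
  set U := (Ls.map Matrix.TransvectionStruct.toMatrix).prod with hU
  set U' := (Ls'.map Matrix.TransvectionStruct.toMatrix).prod with hU'
  have hdU : U.det = 1 := Matrix.TransvectionStruct.det_toMatrix_prod Ls
  have hdU' : U'.det = 1 := Matrix.TransvectionStruct.det_toMatrix_prod Ls'
  have h1 : A.rank = (Matrix.diagonal D).rank := by
    rw [← hD, Matrix.rank_mul_eq_left_of_isUnit_det U' (U * A) (by rw [hdU']; exact isUnit_one),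
      Matrix.rank_mul_eq_right_of_isUnit_det U A (by rw [hdU]; exact isUnit_one)]
  have hmap : (U.map f) * (A.map f) * (U'.map f) = Matrix.diagonal (fun i => f (D i)) := by
    rw [← Matrix.map_mul, ← Matrix.map_mul, hD, Matrix.diagonal_map (map_zero f)]
  have hdUf : (U.map f).det = 1 := by
    rw [← RingHom.mapMatrix_apply, ← RingHom.map_det, hdU, map_one]
  have hdUf' : (U'.map f).det = 1 := by
    rw [← RingHom.mapMatrix_apply, ← RingHom.map_det, hdU', map_one]
  have h2 : (A.map f).rank = (Matrix.diagonal (fun i => f (D i))).rank := by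
    rw [← hmap, Matrix.rank_mul_eq_left_of_isUnit_det (U'.map f) (U.map f * A.map f)
        (by rw [hdUf']; exact isUnit_one),
      Matrix.rank_mul_eq_right_of_isUnit_det (U.map f) (A.map f) (by rw [hdUf]; exact isUnit_one)]
  rw [h1, h2, Matrix.rank_diagonal, Matrix.rank_diagonal]
  apply Fintype.card_congr
  exact Equiv.subtypeEquivRight (fun i => by simp [map_eq_zero])

theorem finrank_ker_add_rank {K : Type*} [Field K] {n : ℕ} (A : Matrix (Fin n) (Fin n) K) :
    finrank K (LinearMap.ker (Matrix.toLin' A)) + A.rank = n := by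
  have h := LinearMap.finrank_range_add_finrank_ker (Matrix.toLin' A)
  rw [Module.finrank_fin_fun] at h
  have h2 : A.rank = finrank K (LinearMap.range (Matrix.toLin' A)) := by
    rw [Matrix.rank, Matrix.toLin'_apply']
  omega

theorem map_pow_matrix {K L : Type*} [Field K] [Field L] (f : K →+* L) {n : ℕ}
    (A : Matrix (Fin n) (Fin n) K) (j : ℕ) : (A.map f) ^ j = (A ^ j).map f := by
  rw [← RingHom.mapMatrix_apply, ← RingHom.mapMatrix_apply, map_pow]

theorem kd_map {K L : Type*} [Field K] [Field L] (f : K →+* L) {n : ℕ}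
    (A : Matrix (Fin n) (Fin n) K) (j : ℕ) :
    Cfsg.Agent.Lib.Helper40.kd (Matrix.toLin' (A.map f)) j =
      Cfsg.Agent.Lib.Helper40.kd (Matrix.toLin' A) j := by
  unfold Cfsg.Agent.Lib.Helper40.kd
  rw [← Matrix.toLin'_pow, ← Matrix.toLin'_pow, map_pow_matrix]
  have h1 := finrank_ker_add_rank ((A ^ j).map f)
  have h2 := finrank_ker_add_rank (A ^ j)
  rw [rank_map_eq] at h1
  omega

end Cfsg.Agent.Lib.Helper99.SubUnip
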