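import Mathlib
import Cfsg.Agent.Lib.Helper99.RankMap

/-!
# Unipotent elements and subfield subgroups: conjugacy and centralizers (helper99)

* `exists_conj_rat` : a nilpotent matrix over `F` is conjugate to a matrix over any subfield.
* `exists_comm_det_pow`, `exists_comm_det_of_notMem_range` : determinants of elements of the
  centralizer of a nilpotent matrix.
* `pow_half`, `isSquare_coe_of_card_sq`, `exists_nonsquare_coe` : squares of a subfield in a finite
  field.
* `exists_adjust` : the determinant adjustment for elements of order three in characteristic three.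
-/

set_option autoImplicit false
set_option linter.unusedSectionVars false

namespace Cfsg.Agent.Lib.Helper99.SubUnip

open Module Matrix Cfsg.Agent.Lib.Helper40

universe u

section general

variable {F : Type u} [Field F] {n : ℕ}

/-- A nilpotent matrix is conjugate to a matrix with entries in a given subfield. -/
theorem exists_conj_rat (F₀ : Subfield F) (N : Matrix (Fin n) (Fin n) F) (hN : IsNilpotent N) :
    ∃ (R : GL (Fin n) F) (A₀ : Matrix (Fin n) (Fin n) F₀),
      (R : Matrix (Fin n) (Fin n) F) * (A₀.map F₀.subtype) =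
        N * (R : Matrix (Fin n) (Fin n) F) := by
  obtain ⟨μ, -, hμsum, hμkd⟩ := exists_type_matrix N hN
  obtain ⟨A₀, hA₀nil, hA₀kd⟩ := exists_matrix_of_type (F := ↥F₀) μ hμsum
  have hAnil : IsNilpotent (A₀.map F₀.subtype) := by
    obtain ⟨k, hk⟩ := hA₀nil
    exact ⟨k, by rw [map_pow_matrix, hk, Matrix.map_zero _ (map_zero _)]⟩
  obtain ⟨P, hP⟩ := exists_gl_conj_of_kd_eq (A₀.map F₀.subtype) N hAnil hN
    (fun j => by rw [kd_map, hA₀kd, hμkd])
  exact ⟨P, A₀, hP⟩

/-- The centralizer of a nilpotent matrix of nilpotency index `e` contains elements of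
determinant `α ^ e` for all `α`. -/
theorem exists_comm_det_pow (N : Matrix (Fin n) (Fin n) F) (hN : IsNilpotent N) (hn : 0 < n) :
    ∃ e : ℕ, 0 < e ∧ N ^ e = 0 ∧ N ^ (e - 1) ≠ 0 ∧
      ∀ α : F, ∃ h : Matrix (Fin n) (Fin n) F, h * N = N * h ∧ h.det = α ^ e := by
  classical
  have hV : 0 < finrank F (Fin n → F) := by rw [Module.finrank_fin_fun]; exact hn
  obtain ⟨e, W, hW, φ, he, hNe, hNe1, hφ⟩ :=
    exists_split_cyclic (Matrix.toLin' N) (isNilpotent_toLin' N hN) hV
  refine ⟨e, he, ?_, ?_, ?_⟩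
  · exact Matrix.toLin'.injective (by rw [Matrix.toLin'_pow, hNe, map_zero])
  · intro h0
    apply hNe1
    rw [← Matrix.toLin'_pow, h0, map_zero]
  · intro α
    set g : Module.End F ((Fin e → F) × W) :=
      LinearMap.prodMap (α • (LinearMap.id : (Fin e → F) →ₗ[F] (Fin e → F)))
        (LinearMap.id : W →ₗ[F] W) with hg
    have hgT : ∀ y, g (((shiftLin F e).prodMap ((Matrix.toLin' N).restrict hW)) y) =
        ((shiftLin F e).prodMap ((Matrix.toLin' N).restrict hW)) (g y) := by
      intro y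
      rw [hg]
      simp only [LinearMap.prodMap_apply, LinearMap.smul_apply, LinearMap.id_apply, map_smul]
    set hl : Module.End F (Fin n → F) :=
      (φ : ((Fin e → F) × W) →ₗ[F] (Fin n → F)) ∘ₗ g ∘ₗ
        (φ.symm : (Fin n → F) →ₗ[F] ((Fin e → F) × W)) with hhl
    have hlx : ∀ x, hl x = φ (g (φ.symm x)) := fun x => rfl
    have hdet : LinearMap.det hl = α ^ e := by
      rw [hhl, LinearMap.det_conj, hg, LinearMap.det_prodMap, LinearMap.det_smul, LinearMap.det_id,
        LinearMap.det_id, Module.finrank_fin_fun, mul_one, mul_one]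
    have hcomm : ∀ x, hl (Matrix.toLin' N x) = Matrix.toLin' N (hl x) := by
      intro x
      obtain ⟨y, rfl⟩ := φ.surjective x
      rw [hlx, hlx, ← hφ y, φ.symm_apply_apply, φ.symm_apply_apply, ← hφ (g y), hgT]
    refine ⟨LinearMap.toMatrix' hl, ?_, ?_⟩
    · have h1 : hl ∘ₗ Matrix.toLin' N = Matrix.toLin' N ∘ₗ hl := LinearMap.ext hcomm
      have h2 := congrArg LinearMap.toMatrix' h1
      rw [LinearMap.toMatrix'_comp, LinearMap.toMatrix'_comp, LinearMap.toMatrix'_toLin'] at h2
      exact h2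
    · rw [LinearMap.det_toMatrix', hdet]

/-- If the kernel of `N` is not contained in its range, the centralizer of `N` contains elements
of every determinant. -/
theorem exists_comm_det_of_notMem_range (N : Matrix (Fin n) (Fin n) F) (v : Fin n → F)
    (hNv : N *ᵥ v = 0) (hv : v ∉ LinearMap.range (Matrix.toLin' N)) (α : F) :
    ∃ h : Matrix (Fin n) (Fin n) F, h * N = N * h ∧ h.det = α := by
  classical
  obtain ⟨f, hfv, hf⟩ := Submodule.exists_dual_map_eq_bot_of_notMem hv inferInstance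
  have hfN : ∀ x : Fin n → F, f (N *ᵥ x) = 0 := by
    intro x
    have hmem : f (N *ᵥ x) ∈ (LinearMap.range (Matrix.toLin' N)).map f :=
      Submodule.mem_map_of_mem ⟨x, by rw [Matrix.toLin'_apply]⟩
    rw [hf] at hmem
    exact (Submodule.mem_bot F).mp hmem
  set b : Fin n → F := fun j => f (fun j' => if j = j' then 1 else 0) with hb
  have hfb : ∀ x : Fin n → F, f x = ∑ j, x j * b j := by
    intro x
    rw [LinearMap.pi_apply_eq_sum_univ f x]
    simp only [smul_eq_mul, hb]
  set w : Fin n → F := fun j => (f v)⁻¹ * b j with hw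
  have hwv : w ⬝ᵥ v = 1 := by
    have h1 : w ⬝ᵥ v = (f v)⁻¹ * ∑ j, v j * b j := by
      simp only [dotProduct, hw, Finset.mul_sum]
      apply Finset.sum_congr rfl
      intro j _
      ring
    rw [h1, ← hfb, inv_mul_cancel₀ hfv]
  have hcol : ∀ k j : Fin n, (N *ᵥ (fun j' => if k = j' then (1 : F) else 0)) j = N j k := by
    intro k j
    simp [Matrix.mulVec, dotProduct]
  have hwN : w ᵥ* N = 0 := by
    funext k
    have h1 : (w ᵥ* N) k = (f v)⁻¹ * ∑ j, N j k * b j := by
      simp only [Matrix.vecMul, dotProduct, hw, Finset.mul_sum]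
      apply Finset.sum_congr rfl
      intro j _
      ring
    have h2 : ∑ j, N j k * b j = f (N *ᵥ (fun j' => if k = j' then (1 : F) else 0)) := by
      rw [hfb]
      apply Finset.sum_congr rfl
      intro j _
      rw [hcol]
    rw [h1, h2, hfN, mul_zero]
    rfl
  have z1 : Matrix.vecMulVec v (0 : Fin n → F) = 0 := by
    ext i j
    simp [Matrix.vecMulVec_apply]
  have z2 : Matrix.vecMulVec (0 : Fin n → F) w = 0 := by
    ext i j
    simp [Matrix.vecMulVec_apply]
  refine ⟨1 + (α - 1) • Matrix.vecMulVec v w, ?_, ?_⟩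
  · rw [add_mul, mul_add, one_mul, mul_one, smul_mul_assoc, mul_smul_comm, Matrix.vecMulVec_mul,
      Matrix.mul_vecMulVec, hwN, hNv, z1, z2]
  · rw [← Matrix.smul_vecMulVec, Matrix.vecMulVec_eq (Fin 1),
      Matrix.det_one_add_replicateCol_mul_replicateRow, dotProduct_smul, hwv, smul_eq_mul, mul_one]
    ring

end general

section finite

variable {F : Type u} [Field F] [Fintype F] {n : ℕ}

theorem cube_injective [CharP F 3] : Function.Injective (fun a : F => a ^ 3) := by
  intro a b hab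
  have h : (a - b) ^ 3 = 0 := by
    rw [sub_pow_char_of_commute 3 (Commute.all a b), sub_eq_zero]
    exact hab
  exact sub_eq_zero.mp ((pow_eq_zero_iff (by norm_num)).mp h)

theorem exists_cube_root [CharP F 3] (c : F) : ∃ a : F, a ^ 3 = c :=
  (Finite.injective_iff_surjective.mp cube_injective) c

theorem isSquare_mul_inv_of_not (hF : ringChar F ≠ 2) {a b : F} (ha : ¬ IsSquare a)
    (hb : ¬ IsSquare b) : IsSquare (a * b⁻¹) := by
  have ha0 : a ≠ 0 := by
    rintro rfl
    exact ha ⟨0, (mul_zero 0).symm⟩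
  have hb0 : b ≠ 0 := by
    rintro rfl
    exact hb ⟨0, (mul_zero 0).symm⟩
  have ha1 : a ^ (Fintype.card F / 2) = -1 := by
    rcases FiniteField.pow_dichotomy hF ha0 with h | h
    · exact absurd ((FiniteField.isSquare_iff hF ha0).mpr h) ha
    · exact h
  have hb1 : b ^ (Fintype.card F / 2) = -1 := by
    rcases FiniteField.pow_dichotomy hF hb0 with h | h
    · exact absurd ((FiniteField.isSquare_iff hF hb0).mpr h) hb
    · exact h
  rw [FiniteField.isSquare_iff hF (mul_ne_zero ha0 (inv_ne_zero hb0)), mul_pow, inv_pow, ha1, hb1]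
  norm_num

theorem coe_pow_card (F₀ : Subfield F) {q₀ : ℕ} (hF₀ : Nat.card F₀ = q₀) (b : F₀) :
    (b : F) ^ q₀ = b := by
  classical
  haveI : Fintype F₀ := Fintype.ofFinite F₀
  have h := FiniteField.pow_card b
  rw [← Nat.card_eq_fintype_card, hF₀] at h
  have h2 := congrArg (fun t : F₀ => (t : F)) h
  simpa using h2

theorem pow_half (F₀ : Subfield F) {q₀ Q : ℕ} (hF₀ : Nat.card F₀ = q₀) (hQ : 2 * Q + 1 = q₀)
    (a : F₀) :
    ∀ j : ℕ, ∃ E : ℕ, 2 * E + 1 = q₀ ^ j ∧ (a : F) ^ E = ((a : F) ^ Q) ^ j := by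
  subst hQ
  intro j
  induction j with
  | zero => exact ⟨0, by simp, by simp⟩
  | succ j ih =>
    obtain ⟨E, hE1, hE2⟩ := ih
    refine ⟨(2 * Q + 1) * E + Q, ?_, ?_⟩
    · rw [pow_succ, ← hE1]
      ring
    · have hs : ((a : F) ^ Q) ^ (2 * Q + 1) = (a : F) ^ Q := by
        have := coe_pow_card F₀ hF₀ (a ^ Q)
        simpa using this
      rw [pow_add, mul_comm (2 * Q + 1) E, pow_mul, hE2, ← pow_mul, mul_comm j (2 * Q + 1), pow_mul,
        hs, pow_succ]

theorem isSquare_coe_of_card_sq (hF : ringChar F ≠ 2) (F₀ : Subfield F) {q₀ : ℕ}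
    (hF₀ : Nat.card F₀ = q₀) (hcard : Fintype.card F = q₀ ^ 2) (a : F₀) : IsSquare (a : F) := by
  by_cases ha : (a : F) = 0
  · rw [ha]
    exact ⟨0, (mul_zero 0).symm⟩
  have hodd : Fintype.card F % 2 = 1 := FiniteField.odd_card_of_char_ne_two hF
  obtain ⟨Q, hQ⟩ : ∃ Q, 2 * Q + 1 = q₀ := by
    have h2 : q₀ % 2 = 1 := by
      rw [hcard] at hodd
      rcases Nat.even_or_odd q₀ with h | h
      · exfalso
        have h3 : Even (q₀ ^ 2) := (Nat.even_pow.mpr ⟨h, by norm_num⟩)
        have := Nat.even_iff.mp h3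
        omega
      · exact Nat.odd_iff.mp h
    exact ⟨q₀ / 2, by omega⟩
  obtain ⟨E, hE1, hE2⟩ := pow_half F₀ hF₀ hQ a 2
  rw [FiniteField.isSquare_iff hF ha]
  have hE : Fintype.card F / 2 = E := by rw [hcard]; omega
  rw [hE, hE2, ← pow_mul]
  have h1 := coe_pow_card F₀ hF₀ a
  rw [← hQ, pow_succ] at h1
  have h2 : (a : F) ^ (2 * Q) * (a : F) = 1 * (a : F) := by rw [h1, one_mul]
  rw [mul_comm Q 2]
  exact mul_right_cancel₀ ha h2

theorem exists_nonsquare_coe (hF : ringChar F ≠ 2) (F₀ : Subfield F) {q₀ k : ℕ}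
    (hF₀ : Nat.card F₀ = q₀) (hcard : Fintype.card F = q₀ ^ k) (hk : Odd k) :
    ∃ d : F₀, ¬ IsSquare (d : F) := by
  classical
  haveI : Fintype F₀ := Fintype.ofFinite F₀
  haveI : CharP F₀ (ringChar F) :=
    (F₀.subtype).charP Subtype.val_injective (ringChar F)
  have hF₀char : ringChar F₀ ≠ 2 := by
    rw [ringChar.eq F₀ (ringChar F)]
    exact hF
  obtain ⟨d, hd⟩ := FiniteField.exists_nonsquare hF₀char
  have hd0 : d ≠ 0 := by
    rintro rfl
    exact hd ⟨0, (mul_zero 0).symm⟩
  have hd0' : (d : F) ≠ 0 := by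
    intro h
    apply hd0
    exact Subtype.ext h
  have hodd₀ : Fintype.card F₀ % 2 = 1 := FiniteField.odd_card_of_char_ne_two hF₀char
  rw [← Nat.card_eq_fintype_card, hF₀] at hodd₀
  obtain ⟨Q, hQ⟩ : ∃ Q, 2 * Q + 1 = q₀ := ⟨q₀ / 2, by omega⟩
  have hdQ : d ^ Q = -1 := by
    rcases FiniteField.pow_dichotomy hF₀char hd0 with h | h
    · exact absurd ((FiniteField.isSquare_iff hF₀char hd0).mpr h) hd
    · rw [← Nat.card_eq_fintype_card, hF₀] at h
      have hq : q₀ / 2 = Q := by omega
      rw [hq] at h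
      exact h
  have hdQ' : (d : F) ^ Q = -1 := by
    have := congrArg (fun t : F₀ => (t : F)) hdQ
    simpa using this
  obtain ⟨E, hE1, hE2⟩ := pow_half F₀ hF₀ hQ d k
  refine ⟨d, ?_⟩
  rw [FiniteField.isSquare_iff hF hd0']
  have hE : Fintype.card F / 2 = E := by rw [hcard]; omega
  rw [hE, hE2, hdQ', hk.neg_one_pow]
  exact Ring.neg_one_ne_one_of_char_ne_two hF

/-- The determinant adjustment: for a nonzero matrix `A` with `A ^ 3 = 0` in characteristic three
there is an element of the centralizer of `A` and an element `d` of the subfield with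
`t * det h * d = 1`, provided `n` is odd or the subfield contains a non-square. -/
theorem exists_adjust [CharP F 3] (F₀ : Subfield F) (A : Matrix (Fin n) (Fin n) F)
    (hA3 : A ^ 3 = 0) (hA0 : A ≠ 0) (hodd : Odd n ∨ ∃ d : F₀, ¬ IsSquare (d : F)) (t : F)
    (ht : t ≠ 0) :
    ∃ d : F₀, (d : F) ≠ 0 ∧ ∃ h : Matrix (Fin n) (Fin n) F,
      h * A = A * h ∧ t * h.det * (d : F) = 1 := by
  classical
  have hn : 0 < n := by
    rcases Nat.eq_zero_or_pos n with h0 | h0
    · subst h0
      exact absurd (Subsingleton.elim A 0) hA0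
    · exact h0
  have hF2 : ringChar F ≠ 2 := by
    rw [ringChar.eq F 3]
    norm_num
  obtain ⟨e, he, hAe, hAe1, hdet⟩ := exists_comm_det_pow A ⟨3, hA3⟩ hn
  have he3 : e ≤ 3 := by
    by_contra hcon
    apply hAe1
    have h4 : e - 1 = 3 + (e - 4) := by omega
    rw [h4, pow_add, hA3, zero_mul]
  have he2 : 2 ≤ e := by
    by_contra hcon
    have h1 : e = 1 := by omega
    rw [h1, pow_one] at hAe
    exact hA0 hAe
  rcases (by omega : e = 3 ∨ e = 2) with h3 | h2
  · obtain ⟨α, hα⟩ := exists_cube_root (t⁻¹)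
    obtain ⟨h, hh1, hh2⟩ := hdet α
    refine ⟨1, by simp, h, hh1, ?_⟩
    rw [hh2, h3, hα]
    simp [ht]
  · rw [h2] at hAe hdet
    by_cases hv : ∃ v : Fin n → F, A *ᵥ v = 0 ∧ v ∉ LinearMap.range (Matrix.toLin' A)
    · obtain ⟨v, hv1, hv2⟩ := hv
      obtain ⟨h, hh1, hh2⟩ := exists_comm_det_of_notMem_range A v hv1 hv2 t⁻¹
      exact ⟨1, by simp, h, hh1, by rw [hh2]; simp [ht]⟩
    · have hker_le : LinearMap.ker (Matrix.toLin' A) ≤ LinearMap.range (Matrix.toLin' A) := by
        intro v hvker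
        by_contra hvr
        exact hv ⟨v, by rwa [LinearMap.mem_ker, Matrix.toLin'_apply] at hvker, hvr⟩
      have hrange_le : LinearMap.range (Matrix.toLin' A) ≤ LinearMap.ker (Matrix.toLin' A) := by
        rintro _ ⟨x, rfl⟩
        rw [LinearMap.mem_ker, Matrix.toLin'_apply, Matrix.toLin'_apply, Matrix.mulVec_mulVec,
          ← pow_two, hAe, Matrix.zero_mulVec]
      have heq := le_antisymm hker_le hrange_le
      have hrn := LinearMap.finrank_range_add_finrank_ker (Matrix.toLin' A)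
      rw [Module.finrank_fin_fun, ← heq] at hrn
      have heven : ¬ Odd n := by
        rw [Nat.not_odd_iff_even]
        exact ⟨_, hrn.symm⟩
      obtain ⟨d, hd⟩ := hodd.resolve_left heven
      have hd0 : (d : F) ≠ 0 := by
        intro h0
        apply hd
        rw [h0]
        exact ⟨0, (mul_zero 0).symm⟩
      by_cases hsq : IsSquare t⁻¹
      · obtain ⟨s, hs⟩ := hsq
        obtain ⟨h, hh1, hh2⟩ := hdet s
        refine ⟨1, by simp, h, hh1, ?_⟩
        rw [hh2, pow_two, ← hs]
        simp [ht]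
      · obtain ⟨s, hs⟩ := isSquare_mul_inv_of_not hF2 hsq hd
        obtain ⟨h, hh1, hh2⟩ := hdet s
        refine ⟨d, hd0, h, hh1, ?_⟩
        rw [hh2, pow_two, ← hs]
        field_simp

end finite

end Cfsg.Agent.Lib.Helper99.SubUnip
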