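import Mathlib
import Cfsg.Agent.Lib.Helper99.SubUnipA
import Cfsg.Agent.Lib.Helper13.SubfieldBasic

/-!
# An element of order three of `SL_n(q)`, `q = q₀²`, `n` even, not conjugate into the subfield
subgroup (helper99)
-/

set_option autoImplicit false
set_option linter.unusedSectionVars false

namespace Cfsg.Agent.Lib.Helper99.SubUnip

open Module Matrix Cfsg.Agent.Lib.Helper40 Cfsg.Geo

universe u

section std

variable (R : Type*) [CommRing R] (m : ℕ)

/-- The standard nilpotent matrix with `m` Jordan blocks of size two, in block form. -/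
def Nstd : Matrix (Fin m ⊕ Fin m) (Fin m ⊕ Fin m) R := Matrix.fromBlocks 0 0 1 0

theorem Nstd_mul_self : Nstd R m * Nstd R m = 0 := by
  rw [Nstd, Matrix.fromBlocks_multiply]
  simp

theorem det_one_add_Nstd : (1 + Nstd R m).det = 1 := by
  rw [Nstd, ← Matrix.fromBlocks_one, Matrix.fromBlocks_add]
  simp only [add_zero, zero_add]
  rw [Matrix.det_fromBlocks_zero₁₂, Matrix.det_one, mul_one]

theorem Nstd_ne_zero [Nontrivial R] (hm : 0 < m) : Nstd R m ≠ 0 := by
  intro h
  have h1 := congrFun (congrFun h (Sum.inr ⟨0, hm⟩)) (Sum.inl ⟨0, hm⟩)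
  simp [Nstd] at h1

variable {R m}

theorem det_comm_Nstd (c : Matrix (Fin m ⊕ Fin m) (Fin m ⊕ Fin m) R)
    (hc : c * Nstd R m = Nstd R m * c) : ∃ s : R, c.det = s * s := by
  obtain ⟨A, B, C, D, rfl⟩ : ∃ A B C D, c = Matrix.fromBlocks A B C D :=
    ⟨_, _, _, _, (Matrix.fromBlocks_toBlocks c).symm⟩
  rw [Nstd, Matrix.fromBlocks_multiply, Matrix.fromBlocks_multiply] at hc
  simp only [mul_zero, zero_mul, mul_one, one_mul, zero_add, add_zero] at hc
  obtain ⟨h1, -, h3, -⟩ := Matrix.fromBlocks_inj.mp hc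
  refine ⟨A.det, ?_⟩
  rw [h1, Matrix.det_fromBlocks_zero₁₂, h3]

theorem Nstd_map {K L : Type*} [CommRing K] [CommRing L] (f : K →+* L) (m : ℕ) :
    (Nstd K m).map f = Nstd L m := by
  rw [Nstd, Nstd, Matrix.fromBlocks_map]
  simp

end std

section fin

variable (R : Type*) [CommRing R] {m n : ℕ} (h : n = m + m)

/-- The index equivalence `Fin n ≃ Fin m ⊕ Fin m` for `n = m + m`. -/
def eqv : Fin n ≃ Fin m ⊕ Fin m := (finCongr h).trans finSumFinEquiv.symm

/-- The standard nilpotent matrix with `m` Jordan blocks of size two, indexed by `Fin n`. -/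
def NstdFin : Matrix (Fin n) (Fin n) R := (Nstd R m).submatrix (eqv h) (eqv h)

theorem NstdFin_mul_self : NstdFin R h * NstdFin R h = 0 := by
  rw [NstdFin, Matrix.submatrix_mul_equiv, Nstd_mul_self]
  rfl

theorem det_one_add_NstdFin : (1 + NstdFin R h).det = 1 := by
  have h1 : 1 + NstdFin R h = (1 + Nstd R m).submatrix (eqv h) (eqv h) := by
    ext i j
    simp only [Matrix.add_apply, Matrix.submatrix_apply, NstdFin, Matrix.one_apply,
      EmbeddingLike.apply_eq_iff_eq]
  rw [h1, Matrix.det_submatrix_equiv_self, det_one_add_Nstd]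

theorem NstdFin_ne_zero [Nontrivial R] (hm : 0 < m) : NstdFin R h ≠ 0 := by
  intro h0
  apply Nstd_ne_zero R m hm
  have h1 : Nstd R m = (NstdFin R h).submatrix (eqv h).symm (eqv h).symm := by
    rw [NstdFin, Matrix.submatrix_submatrix]
    simp
  rw [h1, h0]
  rfl

variable {R}

theorem det_comm_NstdFin (c : Matrix (Fin n) (Fin n) R)
    (hc : c * NstdFin R h = NstdFin R h * c) : ∃ s : R, c.det = s * s := by
  have hcc : c = (c.submatrix (eqv h).symm (eqv h).symm).submatrix (eqv h) (eqv h) := by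
    rw [Matrix.submatrix_submatrix]
    simp
  have h1 : c.submatrix (eqv h).symm (eqv h).symm * Nstd R m =
      Nstd R m * c.submatrix (eqv h).symm (eqv h).symm := by
    have h2 : Nstd R m = (NstdFin R h).submatrix (eqv h).symm (eqv h).symm := by
      rw [NstdFin, Matrix.submatrix_submatrix]
      simp
    rw [h2, Matrix.submatrix_mul_equiv, Matrix.submatrix_mul_equiv, hc]
  obtain ⟨s, hs⟩ := det_comm_Nstd _ h1
  refine ⟨s, ?_⟩
  rw [← hs, Matrix.det_submatrix_equiv_self]

theorem NstdFin_map {K L : Type*} [CommRing K] [CommRing L] (f : K →+* L) {m n : ℕ}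
    (h : n = m + m) : (NstdFin K h).map f = NstdFin L h := by
  rw [NstdFin, NstdFin, ← Nstd_map f m]
  rfl

end fin

section bad

variable {F : Type u} [Field F] [Fintype F] [CharP F 3]

theorem diag_mul_diag_inv {K : Type*} [Field K] {n : ℕ} (i₀ : Fin n) {b : K} (hb : b ≠ 0) :
    Matrix.diagonal (fun i : Fin n => if i = i₀ then b else 1) *
      Matrix.diagonal (fun i : Fin n => if i = i₀ then b⁻¹ else 1) = 1 := by
  rw [Matrix.diagonal_mul_diagonal, ← Matrix.diagonal_one]
  congr 1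
  funext i
  split_ifs
  · exact mul_inv_cancel₀ hb
  · exact mul_one 1

theorem det_diag_single {K : Type*} [Field K] {n : ℕ} (i₀ : Fin n) (b : K) :
    (Matrix.diagonal (fun i : Fin n => if i = i₀ then b else 1)).det = b := by
  rw [Matrix.det_diagonal, Finset.prod_ite_eq', if_pos (Finset.mem_univ _)]

/-- For `n` even and a subfield all of whose elements are squares there is an element of order
three not conjugate into the subfield subgroup. -/
theorem exists_bad (F₀ : Subfield F) (hsq : ∀ a : F₀, IsSquare (a : F)) {m n : ℕ}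
    (h : n = m + m) (hm : 0 < m) :
    ∃ x : Matrix.SpecialLinearGroup (Fin n) F,
      ((x ^ 3 : Matrix.SpecialLinearGroup (Fin n) F) : Matrix (Fin n) (Fin n) F)
        = (1 : F) • (1 : Matrix (Fin n) (Fin n) F) ∧
      (∀ c : F, (x : Matrix (Fin n) (Fin n) F) ≠ c • (1 : Matrix (Fin n) (Fin n) F)) ∧
      ∀ P : Matrix.SpecialLinearGroup (Fin n) F, P⁻¹ * x * P ∉ (subfieldSubgroup F₀ 1).comap
        (Matrix.SpecialLinearGroup.toGL :
          Matrix.SpecialLinearGroup (Fin n) F →* GL (Fin n) F) := by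
  classical
  have hF2 : ringChar F ≠ 2 := by
    rw [ringChar.eq F 3]
    norm_num
  obtain ⟨β, hβ⟩ := FiniteField.exists_nonsquare hF2
  have hβ0 : β ≠ 0 := by
    rintro rfl
    exact hβ ⟨0, (mul_zero 0).symm⟩
  have hn : 0 < n := by omega
  set i₀ : Fin n := ⟨0, hn⟩ with hi₀
  haveI : Nonempty (Fin n) := ⟨i₀⟩
  set Dβ : Matrix (Fin n) (Fin n) F := Matrix.diagonal (fun i => if i = i₀ then β else 1) with hDβ
  set Dβ' : Matrix (Fin n) (Fin n) F := Matrix.diagonal (fun i => if i = i₀ then β⁻¹ else 1)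
    with hDβ'
  have hDD' : Dβ * Dβ' = 1 := diag_mul_diag_inv i₀ hβ0
  have hD'D : Dβ' * Dβ = 1 := by
    have := diag_mul_diag_inv i₀ (inv_ne_zero hβ0)
    rw [inv_inv] at this
    exact this
  have hdetD : Dβ.det = β := det_diag_single i₀ β
  have hdetD' : Dβ'.det = β⁻¹ := det_diag_single i₀ β⁻¹
  set N₁ : Matrix (Fin n) (Fin n) F := NstdFin F h with hN₁
  have hN₁sq : N₁ * N₁ = 0 := NstdFin_mul_self F h
  have hN₁ne : N₁ ≠ 0 := NstdFin_ne_zero F h hm
  set Nβ : Matrix (Fin n) (Fin n) F := Dβ * N₁ * Dβ' with hNβ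
  have hNβsq : Nβ * Nβ = 0 := by
    calc Nβ * Nβ = Dβ * N₁ * (Dβ' * Dβ) * N₁ * Dβ' := by rw [hNβ]; simp only [mul_assoc]
      _ = Dβ * (N₁ * N₁) * Dβ' := by rw [hD'D, mul_one]; simp only [mul_assoc]
      _ = 0 := by rw [hN₁sq, mul_zero, zero_mul]
  have hN₁eq : N₁ = Dβ' * Nβ * Dβ := by
    calc N₁ = (Dβ' * Dβ) * N₁ * (Dβ' * Dβ) := by rw [hD'D, one_mul, mul_one]
      _ = Dβ' * Nβ * Dβ := by rw [hNβ]; simp only [mul_assoc]
  have hXeq : 1 + Nβ = Dβ * (1 + N₁) * Dβ' := by
    rw [mul_add, add_mul, mul_one, hDD']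
  have hdetX : (1 + Nβ).det = 1 := by
    rw [hXeq, Matrix.det_mul, Matrix.det_mul, hdetD, hdetD', det_one_add_NstdFin, mul_one,
      mul_inv_cancel₀ hβ0]
  obtain ⟨x, hx⟩ : ∃ x : Matrix.SpecialLinearGroup (Fin n) F,
      (x : Matrix (Fin n) (Fin n) F) = 1 + Nβ := ⟨⟨_, hdetX⟩, rfl⟩
  have hX3 : (1 + Nβ) ^ 3 = 1 := by
    rw [add_pow_char_of_commute 3 (Commute.one_left Nβ), one_pow, pow_succ, pow_two, hNβsq,
      zero_mul, add_zero]
  have hx3 : x ^ 3 = 1 := by
    apply Subtype.ext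
    rw [Matrix.SpecialLinearGroup.coe_pow, hx, hX3, Matrix.SpecialLinearGroup.coe_one]
  refine ⟨x, ?_, ?_, ?_⟩
  · rw [hx3, Matrix.SpecialLinearGroup.coe_one, one_smul]
  · intro c hc
    rw [hx] at hc
    have h1 : Nβ = (c - 1) • (1 : Matrix (Fin n) (Fin n) F) := by
      rw [sub_smul, one_smul, ← hc]
      abel
    have h2 : ((c - 1) * (c - 1)) • (1 : Matrix (Fin n) (Fin n) F) = 0 := by
      rw [← hNβsq, h1, smul_mul_smul_comm, mul_one]
    have h3 := congrFun (congrFun h2 i₀) i₀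
    simp only [Matrix.smul_apply, Matrix.one_apply_eq, smul_eq_mul, mul_one,
      Matrix.zero_apply] at h3
    have h4 : c - 1 = 0 := by
      rcases mul_eq_zero.mp h3 with h | h <;> exact h
    apply hN₁ne
    rw [hN₁eq, h1, h4, zero_smul, mul_zero, zero_mul]
  · intro P hP
    rw [Subgroup.mem_comap, Cfsg.Agent.Lib.Helper13.mem_subfieldSubgroup_iff] at hP
    obtain ⟨A, μ, hA⟩ := hP
    rw [Units.val_one, mul_one, one_mul, Matrix.SpecialLinearGroup.coe_GL_coe_matrix] at hA
    -- the conjugate has cube one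
    have h3 : (P⁻¹ * x * P) ^ 3 = 1 := by
      have h5 : P⁻¹ * x * P = P⁻¹ * x * (P⁻¹)⁻¹ := by rw [inv_inv]
      rw [h5, conj_pow, hx3, mul_one, mul_inv_cancel]
    have hM3 : ((P⁻¹ * x * P : Matrix.SpecialLinearGroup (Fin n) F) :
        Matrix (Fin n) (Fin n) F) ^ 3 = 1 := by
      rw [← Matrix.SpecialLinearGroup.coe_pow, h3, Matrix.SpecialLinearGroup.coe_one]
    set Pi : Matrix (Fin n) (Fin n) F :=
      ((P⁻¹ : Matrix.SpecialLinearGroup (Fin n) F) : Matrix (Fin n) (Fin n) F) with hPi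
    set Pm : Matrix (Fin n) (Fin n) F := (P : Matrix (Fin n) (Fin n) F) with hPm
    have hPiPm : Pi * Pm = 1 := by
      rw [hPi, hPm, ← Matrix.SpecialLinearGroup.coe_mul, inv_mul_cancel,
        Matrix.SpecialLinearGroup.coe_one]
    have hPmPi : Pm * Pi = 1 := by
      rw [hPi, hPm, ← Matrix.SpecialLinearGroup.coe_mul, mul_inv_cancel,
        Matrix.SpecialLinearGroup.coe_one]
    have hMval : ((P⁻¹ * x * P : Matrix.SpecialLinearGroup (Fin n) F) :
        Matrix (Fin n) (Fin n) F) = Pi * (1 + Nβ) * Pm := by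
      rw [Matrix.SpecialLinearGroup.coe_mul, Matrix.SpecialLinearGroup.coe_mul, hx]
    -- the scalar lies in the subfield
    have hcube : (μ : F) ^ 3 * (((A : Matrix (Fin n) (Fin n) F₀) ^ 3) i₀ i₀ : F) = 1 := by
      have h6 := hM3
      rw [hA, _root_.smul_pow, map_pow_matrix] at h6
      have h7 := congrFun (congrFun h6 i₀) i₀
      simpa using h7
    set a : F₀ := ((A : Matrix (Fin n) (Fin n) F₀) ^ 3) i₀ i₀ with ha
    have hcubeinj : Function.Injective (fun b : F₀ => b ^ 3) := by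
      intro b₁ b₂ hb
      apply Subtype.ext
      apply cube_injective (F := F)
      have := congrArg (fun t : F₀ => (t : F)) hb
      simpa using this
    obtain ⟨ν, hν⟩ := (Finite.injective_iff_surjective.mp hcubeinj) a⁻¹
    have ha0 : (a : F) ≠ 0 := by
      intro h0
      rw [h0, mul_zero] at hcube
      exact zero_ne_one hcube
    have hμν : (μ : F) = (ν : F) := by
      apply cube_injective (F := F)
      show (μ : F) ^ 3 = (ν : F) ^ 3
      have h8 : (ν : F) ^ 3 = (a : F)⁻¹ := by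
        have := congrArg (fun t : F₀ => (t : F)) hν
        simpa using this
      rw [h8]
      exact eq_inv_of_mul_eq_one_left hcube
    -- the rational matrix
    set A' : Matrix (Fin n) (Fin n) F₀ := ν • (A : Matrix (Fin n) (Fin n) F₀) with hA'
    have hA'map : A'.map F₀.subtype = Pi * (1 + Nβ) * Pm := by
      rw [← hMval, hA, hμν]
      ext i j
      simp [hA', Matrix.map_apply, Matrix.smul_apply]
    set M' : Matrix (Fin n) (Fin n) F₀ := A' - 1 with hM'
    have hM'map : M'.map F₀.subtype = (Pi * Dβ) * N₁ * (Dβ' * Pm) := by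
      have h9 : M'.map F₀.subtype = A'.map F₀.subtype - 1 := by
        ext i j
        by_cases hij : i = j
        · subst hij
          simp [hM', Matrix.map_apply]
        · simp [hM', Matrix.map_apply, Matrix.one_apply_ne hij]
      rw [h9, hA'map, mul_add, add_mul, mul_one, hPiPm, add_sub_cancel_left, hNβ]
      simp only [mul_assoc]
    have hQQ' : (Pi * Dβ) * (Dβ' * Pm) = 1 := by
      calc (Pi * Dβ) * (Dβ' * Pm) = Pi * (Dβ * Dβ') * Pm := by simp only [mul_assoc]
        _ = 1 := by rw [hDD', mul_one, hPiPm]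
    have hQ'Q : (Dβ' * Pm) * (Pi * Dβ) = 1 := by
      calc (Dβ' * Pm) * (Pi * Dβ) = Dβ' * (Pm * Pi) * Dβ := by simp only [mul_assoc]
        _ = 1 := by rw [hPmPi, mul_one, hD'D]
    set Qgl' : GL (Fin n) F := ⟨Dβ' * Pm, Pi * Dβ, hQ'Q, hQQ'⟩ with hQgl'
    have hconj : (Qgl' : Matrix (Fin n) (Fin n) F) * (M'.map F₀.subtype) =
        N₁ * (Qgl' : Matrix (Fin n) (Fin n) F) := by
      show (Dβ' * Pm) * (M'.map F₀.subtype) = N₁ * (Dβ' * Pm)
      rw [hM'map]
      calc (Dβ' * Pm) * ((Pi * Dβ) * N₁ * (Dβ' * Pm))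
          = ((Dβ' * Pm) * (Pi * Dβ)) * N₁ * (Dβ' * Pm) := by simp only [mul_assoc]
        _ = N₁ * (Dβ' * Pm) := by rw [hQ'Q, one_mul]
    have hN₁map : (NstdFin (↥F₀) h).map F₀.subtype = N₁ := NstdFin_map F₀.subtype h
    have hkd : ∀ j, kd (Matrix.toLin' M') j = kd (Matrix.toLin' (NstdFin (↥F₀) h)) j := by
      intro j
      rw [← kd_map F₀.subtype M', ← kd_map F₀.subtype (NstdFin (↥F₀) h), hN₁map]
      exact kd_eq_of_gl_conj _ _ Qgl' hconj j
    have hM'nil : IsNilpotent M' := by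
      refine ⟨2, ?_⟩
      apply Matrix.map_injective (Subtype.val_injective (p := fun t : F => t ∈ F₀))
      show (M' ^ 2).map F₀.subtype = (0 : Matrix (Fin n) (Fin n) F₀).map F₀.subtype
      rw [← map_pow_matrix, hM'map, Matrix.map_zero _ (map_zero _), pow_two]
      calc (Pi * Dβ) * N₁ * (Dβ' * Pm) * ((Pi * Dβ) * N₁ * (Dβ' * Pm))
          = (Pi * Dβ) * N₁ * ((Dβ' * Pm) * (Pi * Dβ)) * N₁ * (Dβ' * Pm) := by
            simp only [mul_assoc]
        _ = (Pi * Dβ) * (N₁ * N₁) * (Dβ' * Pm) := by rw [hQ'Q, mul_one]; simp only [mul_assoc]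
        _ = 0 := by rw [hN₁sq, mul_zero, zero_mul]
    have hN₀nil : IsNilpotent (NstdFin (↥F₀) h) := ⟨2, by rw [pow_two, NstdFin_mul_self]⟩
    obtain ⟨B, hB⟩ := exists_gl_conj_of_kd_eq M' (NstdFin (↥F₀) h) hM'nil hN₀nil hkd
    have hBmap : (B : Matrix (Fin n) (Fin n) F₀).map F₀.subtype * (M'.map F₀.subtype) =
        N₁ * (B : Matrix (Fin n) (Fin n) F₀).map F₀.subtype := by
      rw [← Matrix.map_mul, hB, Matrix.map_mul, hN₁map]
    set Bι : Matrix (Fin n) (Fin n) F := (B : Matrix (Fin n) (Fin n) F₀).map F₀.subtype with hBι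
    have hcomm : (Bι * (Pi * Dβ)) * N₁ = N₁ * (Bι * (Pi * Dβ)) := by
      calc (Bι * (Pi * Dβ)) * N₁ = Bι * ((Pi * Dβ) * N₁ * ((Dβ' * Pm) * (Pi * Dβ))) := by
            rw [hQ'Q, mul_one]; simp only [mul_assoc]
        _ = (Bι * (M'.map F₀.subtype)) * (Pi * Dβ) := by rw [hM'map]; simp only [mul_assoc]
        _ = N₁ * (Bι * (Pi * Dβ)) := by rw [hBmap]; simp only [mul_assoc]
    obtain ⟨s, hs⟩ := det_comm_NstdFin h _ hcomm
    have hdetPi : Pi.det = 1 := by
      rw [hPi]
      exact (P⁻¹).det_coe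
    have hdetB : Bι.det = (((B : Matrix (Fin n) (Fin n) F₀).det : F₀) : F) := by
      rw [hBι, ← RingHom.mapMatrix_apply, ← RingHom.map_det]
      rfl
    rw [Matrix.det_mul, Matrix.det_mul, hdetPi, hdetD, one_mul, hdetB] at hs
    obtain ⟨r, hr⟩ := hsq (B : Matrix (Fin n) (Fin n) F₀).det
    have hb0 : (((B : Matrix (Fin n) (Fin n) F₀).det : F₀) : F) ≠ 0 := by
      intro h0
      have h10 : (B : Matrix (Fin n) (Fin n) F₀).det = 0 := Subtype.ext h0
      have h11 := congrArg Matrix.det (show (B : Matrix (Fin n) (Fin n) F₀) *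
        ((B⁻¹ : GL (Fin n) F₀) : Matrix (Fin n) (Fin n) F₀) = 1 by
          rw [← Units.val_mul, mul_inv_cancel, Units.val_one])
      rw [Matrix.det_mul, h10, zero_mul, Matrix.det_one] at h11
      exact zero_ne_one h11
    have hr0 : r ≠ 0 := by
      rintro rfl
      rw [mul_zero] at hr
      exact hb0 hr
    apply hβ
    refine ⟨s / r, ?_⟩
    rw [hr] at hs
    field_simp
    linear_combination hs
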