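import Mathlib
import Cfsg.Agent.Lib.Helper99.SubUnipB
import Cfsg.Agent.Lib.Helper99.PrimeOrdMain

/-!
# Conjugating elements of order three into the subfield subgroup (characteristic three) (helper99)
-/

set_option autoImplicit false
set_option linter.unusedSectionVars false

namespace Cfsg.Agent.Lib.Helper99.SubUnip

open Module Matrix Cfsg.Agent.Lib.Helper40 Cfsg.Geo

universe u

variable {F : Type u} [Field F] {n : ℕ}

/-- A criterion for an `SL`-conjugate to lie in the subfield subgroup. -/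
theorem conj_mem_subfield (F₀ : Subfield F) (x P : Matrix.SpecialLinearGroup (Fin n) F) {lam : F}
    (hlam : lam ≠ 0) (C₀ : Matrix (Fin n) (Fin n) F₀)
    (h : (x : Matrix (Fin n) (Fin n) F) * (P : Matrix (Fin n) (Fin n) F) =
      lam • ((P : Matrix (Fin n) (Fin n) F) * C₀.map F₀.subtype)) :
    P⁻¹ * x * P ∈ (subfieldSubgroup F₀ 1).comap
      (Matrix.SpecialLinearGroup.toGL :
        Matrix.SpecialLinearGroup (Fin n) F →* GL (Fin n) F) := by
  rw [Subgroup.mem_comap, Cfsg.Agent.Lib.Helper13.mem_subfieldSubgroup_iff]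
  have hPP : ((P⁻¹ : Matrix.SpecialLinearGroup (Fin n) F) : Matrix (Fin n) (Fin n) F)
      * (P : Matrix (Fin n) (Fin n) F) = 1 := by
    rw [← Matrix.SpecialLinearGroup.coe_mul, inv_mul_cancel, Matrix.SpecialLinearGroup.coe_one]
  have hval : ((P⁻¹ * x * P : Matrix.SpecialLinearGroup (Fin n) F) : Matrix (Fin n) (Fin n) F) =
      lam • C₀.map F₀.subtype := by
    rw [Matrix.SpecialLinearGroup.coe_mul, Matrix.SpecialLinearGroup.coe_mul, mul_assoc, h,
      mul_smul_comm, ← mul_assoc, hPP, one_mul]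
  have hdet : (C₀.map F₀.subtype).det ≠ 0 := by
    intro h0
    have h1 := congrArg Matrix.det hval
    rw [(P⁻¹ * x * P).det_coe, Matrix.det_smul, h0, mul_zero] at h1
    exact one_ne_zero h1
  have hdet₀ : C₀.det ≠ 0 := by
    intro h0
    apply hdet
    rw [← RingHom.mapMatrix_apply, ← RingHom.map_det, h0, map_zero]
  refine ⟨Matrix.GeneralLinearGroup.mkOfDetNeZero C₀ hdet₀, Units.mk0 lam hlam, ?_⟩
  rw [Units.val_one, mul_one, one_mul, Matrix.SpecialLinearGroup.coe_GL_coe_matrix, hval]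
  rfl

variable [Fintype F] [CharP F 3]

/-- In characteristic three every element of `SL_n(F)` with scalar cube is conjugate into the
subfield subgroup, if `n` is odd or the subfield contains a non-square of `F`. -/
theorem exists_conj_subfield (F₀ : Subfield F)
    (hodd : Odd n ∨ ∃ d : F₀, ¬ IsSquare (d : F))
    (x : Matrix.SpecialLinearGroup (Fin n) F) (z : F)
    (hz : ((x ^ 3 : Matrix.SpecialLinearGroup (Fin n) F) : Matrix (Fin n) (Fin n) F)
      = z • (1 : Matrix (Fin n) (Fin n) F))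
    (hns : ∀ c : F, (x : Matrix (Fin n) (Fin n) F) ≠ c • (1 : Matrix (Fin n) (Fin n) F)) :
    ∃ P : Matrix.SpecialLinearGroup (Fin n) F, P⁻¹ * x * P ∈ (subfieldSubgroup F₀ 1).comap
      (Matrix.SpecialLinearGroup.toGL :
        Matrix.SpecialLinearGroup (Fin n) F →* GL (Fin n) F) := by
  classical
  have hn : 0 < n := by
    rcases Nat.eq_zero_or_pos n with h0 | h0
    · subst h0
      exact absurd (Subsingleton.elim _ _) (hns 0)
    · exact h0
  haveI : Nonempty (Fin n) := ⟨⟨0, hn⟩⟩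
  have hz0 : z ≠ 0 := Cfsg.Agent.Lib.Helper99.PrimeOrd.scalar_ne_zero hn (x ^ 3) z hz
  obtain ⟨lam, hlam⟩ := exists_cube_root z
  have hlam0 : lam ≠ 0 := by
    rintro rfl
    rw [zero_pow (by norm_num)] at hlam
    exact hz0 hlam.symm
  set u : Matrix (Fin n) (Fin n) F := lam⁻¹ • (x : Matrix (Fin n) (Fin n) F) with hu
  have hxu : (x : Matrix (Fin n) (Fin n) F) = lam • u := by
    rw [hu, smul_smul, mul_inv_cancel₀ hlam0, one_smul]
  have hu3 : u ^ 3 = 1 := by
    rw [hu, _root_.smul_pow, ← Matrix.SpecialLinearGroup.coe_pow, hz, smul_smul, inv_pow, hlam,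
      inv_mul_cancel₀ hz0, one_smul]
  set N : Matrix (Fin n) (Fin n) F := u - 1 with hN
  have hN3 : N ^ 3 = 0 := by
    rw [hN, sub_pow_char_of_commute 3 (Commute.one_right u), hu3, one_pow, sub_self]
  have hN0 : N ≠ 0 := by
    intro h0
    apply hns lam
    rw [hxu, sub_eq_zero.mp h0]
  obtain ⟨R, A₀, hRA⟩ := exists_conj_rat F₀ N ⟨3, hN3⟩
  set A : Matrix (Fin n) (Fin n) F := A₀.map F₀.subtype with hA
  have hRi : ((R⁻¹ : GL (Fin n) F) : Matrix (Fin n) (Fin n) F) * (R : Matrix (Fin n) (Fin n) F)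
      = 1 := by
    rw [← Units.val_mul, inv_mul_cancel, Units.val_one]
  have hRi' : (R : Matrix (Fin n) (Fin n) F) * ((R⁻¹ : GL (Fin n) F) : Matrix (Fin n) (Fin n) F)
      = 1 := by
    rw [← Units.val_mul, mul_inv_cancel, Units.val_one]
  have hA3 : A ^ 3 = 0 := by
    have h1 : (R : Matrix (Fin n) (Fin n) F) * A ^ 3 = N ^ 3 * (R : Matrix (Fin n) (Fin n) F) :=
      SemiconjBy.pow_right (show SemiconjBy (R : Matrix (Fin n) (Fin n) F) A N from hRA) 3
    calc A ^ 3 = ((R⁻¹ : GL (Fin n) F) : Matrix (Fin n) (Fin n) F) *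
          ((R : Matrix (Fin n) (Fin n) F) * A ^ 3) := by rw [← mul_assoc, hRi, one_mul]
      _ = 0 := by rw [h1, hN3, zero_mul, mul_zero]
  have hA0 : A ≠ 0 := by
    intro h0
    apply hN0
    calc N = N * (R : Matrix (Fin n) (Fin n) F) *
          ((R⁻¹ : GL (Fin n) F) : Matrix (Fin n) (Fin n) F) := by rw [mul_assoc, hRi', mul_one]
      _ = 0 := by rw [← hRA, h0, mul_zero, zero_mul]
  have ht : (R : Matrix (Fin n) (Fin n) F).det ≠ 0 := by
    intro h0
    have h1 := congrArg Matrix.det hRi'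
    rw [Matrix.det_mul, h0, zero_mul, Matrix.det_one] at h1
    exact zero_ne_one h1
  obtain ⟨d, hd0, h, hhA, hdet⟩ := exists_adjust F₀ A hA3 hA0 hodd _ ht
  have hd0' : d ≠ 0 := by
    rintro rfl
    exact hd0 rfl
  set i₀ : Fin n := ⟨0, hn⟩ with hi₀
  set D₀ : Matrix (Fin n) (Fin n) F₀ := Matrix.diagonal (fun i => if i = i₀ then d else 1)
    with hD₀
  set D₀' : Matrix (Fin n) (Fin n) F₀ := Matrix.diagonal (fun i => if i = i₀ then d⁻¹ else 1)
    with hD₀'
  have hDD' : D₀ * D₀' = 1 := diag_mul_diag_inv i₀ hd0'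
  have hdetD : (D₀.map F₀.subtype).det = (d : F) := by
    rw [← RingHom.mapMatrix_apply, ← RingHom.map_det, hD₀, det_diag_single]
    rfl
  have hdetP : ((R : Matrix (Fin n) (Fin n) F) * h * D₀.map F₀.subtype).det = 1 := by
    rw [Matrix.det_mul, Matrix.det_mul, hdetD]
    exact hdet
  obtain ⟨P, hP⟩ : ∃ P : Matrix.SpecialLinearGroup (Fin n) F,
      (P : Matrix (Fin n) (Fin n) F) = (R : Matrix (Fin n) (Fin n) F) * h * D₀.map F₀.subtype :=
    ⟨⟨_, hdetP⟩, rfl⟩
  refine ⟨P, conj_mem_subfield F₀ x P hlam0 (D₀' * (1 + A₀) * D₀) ?_⟩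
  have hmap : (D₀' * (1 + A₀) * D₀).map F₀.subtype =
      D₀'.map F₀.subtype * (1 + A) * D₀.map F₀.subtype := by
    simp only [← RingHom.mapMatrix_apply, map_mul, map_add, map_one, hA]
  have hDD'ι : D₀.map F₀.subtype * D₀'.map F₀.subtype = 1 := by
    rw [← Matrix.map_mul, hDD', Matrix.map_one _ (map_zero _) (map_one _)]
  have hu1 : u = 1 + N := by
    rw [hN]
    abel
  have h1 : u * (R : Matrix (Fin n) (Fin n) F) = (R : Matrix (Fin n) (Fin n) F) * (1 + A) := by
    rw [hu1, add_mul, one_mul, mul_add, mul_one, hRA]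
  have h2 : (1 + A) * h = h * (1 + A) := by
    rw [add_mul, mul_add, one_mul, mul_one, hhA]
  rw [hP, hxu, smul_mul_assoc, hmap]
  congr 1
  calc u * ((R : Matrix (Fin n) (Fin n) F) * h * D₀.map F₀.subtype)
      = (u * (R : Matrix (Fin n) (Fin n) F)) * h * D₀.map F₀.subtype := by simp only [mul_assoc]
    _ = (R : Matrix (Fin n) (Fin n) F) * ((1 + A) * h) * D₀.map F₀.subtype := by
        rw [h1]; simp only [mul_assoc]
    _ = (R : Matrix (Fin n) (Fin n) F) * (h * (1 + A)) * D₀.map F₀.subtype := by rw [h2]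
    _ = (R : Matrix (Fin n) (Fin n) F) * h * (D₀.map F₀.subtype * D₀'.map F₀.subtype) *
          (1 + A) * D₀.map F₀.subtype := by rw [hDD'ι, mul_one]; simp only [mul_assoc]
    _ = (R : Matrix (Fin n) (Fin n) F) * h * D₀.map F₀.subtype *
          (D₀'.map F₀.subtype * (1 + A) * D₀.map F₀.subtype) := by simp only [mul_assoc]

end Cfsg.Agent.Lib.Helper99.SubUnip
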