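import Mathlib
import Cfsg.Agent.Lib.Helper99.SubUnipC
import Cfsg.Agent.Lib.Helper99.SubInvA

/-!
# Involutions of `PSL_n(q)` and subfield subgroups (helper99)
-/

set_option autoImplicit false
set_option linter.unusedSectionVars false

namespace Cfsg.Agent.Lib.Helper99.SubInv

open Module Matrix Cfsg.Geo Cfsg.Agent.Lib.Helper99.SubUnip

universe u

variable {F : Type u} [Field F] {n : ℕ}

/-- A matrix with square one (characteristic not two) has a basis of eigenvectors. -/
theorem exists_eigenbasis_of_sq_one (h2 : (2 : F) ≠ 0) (u : Matrix (Fin n) (Fin n) F)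
    (hu : u * u = 1) :
    ∃ (R : Matrix (Fin n) (Fin n) F) (d : Fin n → F), R.det ≠ 0 ∧ (∀ i, d i = 1 ∨ d i = -1) ∧
      u * R = R * Matrix.diagonal d := by
  classical
  set φ : Module.End F (Fin n → F) := Matrix.toLin' u with hφ
  have hφφ : ∀ v, φ (φ v) = v := by
    intro v
    rw [hφ, ← LinearMap.comp_apply, ← Matrix.toLin'_mul, hu, Matrix.toLin'_one,
      LinearMap.id_apply]
  set Vp : Submodule F (Fin n → F) := LinearMap.ker (φ - LinearMap.id) with hVp
  set Vm : Submodule F (Fin n → F) := LinearMap.ker (φ + LinearMap.id) with hVm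
  have hmemp : ∀ v, v ∈ Vp ↔ φ v = v := by
    intro v
    rw [hVp, LinearMap.mem_ker, LinearMap.sub_apply, LinearMap.id_apply, sub_eq_zero]
  have hmemm : ∀ v, v ∈ Vm ↔ φ v = -v := by
    intro v
    rw [hVm, LinearMap.mem_ker, LinearMap.add_apply, LinearMap.id_apply, add_eq_zero_iff_eq_neg]
  have hc : IsCompl Vp Vm := by
    constructor
    · rw [Submodule.disjoint_def]
      intro v hvp hvm
      rw [hmemp] at hvp
      rw [hmemm] at hvm
      have h3 : (2 : F) • v = 0 := by
        have h4 : v = -v := hvp.symm.trans hvm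
        rw [two_smul]
        nth_rewrite 1 [h4]
        rw [neg_add_cancel]
      exact (smul_eq_zero.mp h3).resolve_left h2
    · rw [codisjoint_iff, Submodule.eq_top_iff']
      intro v
      rw [Submodule.mem_sup]
      refine ⟨(2 : F)⁻¹ • (v + φ v), ?_, (2 : F)⁻¹ • (v - φ v), ?_, ?_⟩
      · rw [hmemp, map_smul, map_add, hφφ, add_comm]
      · rw [hmemm, map_smul, map_sub, hφφ, ← smul_neg, neg_sub]
      · rw [← smul_add, add_add_sub_cancel, ← two_smul F v, smul_smul, inv_mul_cancel₀ h2,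
          one_smul]
  set bp := Module.finBasis F Vp with hbp
  set bm := Module.finBasis F Vm with hbm
  set B₀ : Basis (Fin (finrank F Vp) ⊕ Fin (finrank F Vm)) F (Fin n → F) :=
    (bp.prod bm).map (Submodule.prodEquivOfIsCompl Vp Vm hc) with hB₀
  have hB₀l : ∀ j, B₀ (Sum.inl j) = (bp j : Fin n → F) := by
    intro j
    rw [hB₀, Basis.map_apply, Basis.prod_apply, Sum.elim_inl, Function.comp_apply,
      Submodule.coe_prodEquivOfIsCompl']
    simp
  have hB₀r : ∀ j, B₀ (Sum.inr j) = (bm j : Fin n → F) := by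
    intro j
    rw [hB₀, Basis.map_apply, Basis.prod_apply, Sum.elim_inr, Function.comp_apply,
      Submodule.coe_prodEquivOfIsCompl']
    simp
  have hcardι : Fintype.card (Fin (finrank F Vp) ⊕ Fin (finrank F Vm)) = n := by
    rw [← Module.finrank_eq_card_basis B₀, Module.finrank_fin_fun]
  set e : (Fin (finrank F Vp) ⊕ Fin (finrank F Vm)) ≃ Fin n :=
    Fintype.equivFinOfCardEq hcardι with he
  set B : Basis (Fin n) F (Fin n → F) := B₀.reindex e with hB
  set d : Fin n → F := fun i => Sum.elim (fun _ => (1 : F)) (fun _ => (-1 : F)) (e.symm i)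
    with hd
  have hBd : ∀ i, φ (B i) = d i • B i := by
    intro i
    have h1 : B i = B₀ (e.symm i) := by rw [hB, Basis.reindex_apply]
    have hdi : d i = Sum.elim (fun _ => (1 : F)) (fun _ => (-1 : F)) (e.symm i) := rfl
    rw [h1, hdi]
    generalize e.symm i = s
    rcases s with j | j
    · rw [hB₀l, Sum.elim_inl, one_smul]
      exact (hmemp _).mp (bp j).2
    · rw [hB₀r, Sum.elim_inr, neg_smul, one_smul]
      exact (hmemm _).mp (bm j).2
  set R : Matrix (Fin n) (Fin n) F := Matrix.of (fun i j => B j i) with hR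
  refine ⟨R, d, ?_, ?_, ?_⟩
  · have hR' : R = (Pi.basisFun F (Fin n)).toMatrix B := by
      ext i j
      simp [hR, Basis.toMatrix_apply]
    have h1 := Basis.toMatrix_mul_toMatrix_flip (Pi.basisFun F (Fin n)) B
    rw [← hR'] at h1
    intro h0
    have h3 := congrArg Matrix.det h1
    rw [Matrix.det_mul, h0, zero_mul, Matrix.det_one] at h3
    exact zero_ne_one h3
  · intro i
    have hdi : d i = Sum.elim (fun _ => (1 : F)) (fun _ => (-1 : F)) (e.symm i) := rfl
    rw [hdi]
    generalize e.symm i = s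
    rcases s with j | j
    · left; rfl
    · right; rfl
  · ext i j
    have h1 := congrFun (hBd j) i
    rw [hφ, Matrix.toLin'_apply] at h1
    rw [Matrix.mul_apply, Matrix.mul_diagonal]
    simp only [hR, Matrix.of_apply]
    rw [mul_comm (B j i) (d j)]
    simpa [Matrix.mulVec, dotProduct] using h1

/-- Elements whose square is the square of a scalar are conjugate into the subfield subgroup
(characteristic not two). -/
theorem exists_conj_split (h2 : (2 : F) ≠ 0) (F₀ : Subfield F)
    (x : Matrix.SpecialLinearGroup (Fin n) F) (lam : F) (hlam0 : lam ≠ 0)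
    (hx : (x : Matrix (Fin n) (Fin n) F) * (x : Matrix (Fin n) (Fin n) F) =
      (lam * lam) • (1 : Matrix (Fin n) (Fin n) F)) (hn : 0 < n) :
    ∃ P : Matrix.SpecialLinearGroup (Fin n) F, P⁻¹ * x * P ∈ (subfieldSubgroup F₀ 1).comap
      (Matrix.SpecialLinearGroup.toGL :
        Matrix.SpecialLinearGroup (Fin n) F →* GL (Fin n) F) := by
  classical
  set u : Matrix (Fin n) (Fin n) F := lam⁻¹ • (x : Matrix (Fin n) (Fin n) F) with hu
  have hxu : (x : Matrix (Fin n) (Fin n) F) = lam • u := by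
    rw [hu, smul_smul, mul_inv_cancel₀ hlam0, one_smul]
  have huu : u * u = 1 := by
    rw [hu, smul_mul_smul_comm, hx, smul_smul]
    have h3 : lam⁻¹ * lam⁻¹ * (lam * lam) = 1 := by field_simp
    rw [h3, one_smul]
  obtain ⟨R, d, hR, hd, hRd⟩ := exists_eigenbasis_of_sq_one h2 u huu
  set i₀ : Fin n := ⟨0, hn⟩ with hi₀
  set E : Matrix (Fin n) (Fin n) F := Matrix.diagonal (fun i => if i = i₀ then R.det⁻¹ else 1)
    with hE
  have hdetE : E.det = R.det⁻¹ := det_diag_single i₀ _
  have hdetP : (R * E).det = 1 := by rw [Matrix.det_mul, hdetE, mul_inv_cancel₀ hR]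
  obtain ⟨P, hP⟩ : ∃ P : Matrix.SpecialLinearGroup (Fin n) F,
      (P : Matrix (Fin n) (Fin n) F) = R * E := ⟨⟨_, hdetP⟩, rfl⟩
  have hne : (-1 : F) ≠ 1 := by
    intro h'
    apply h2
    linear_combination -h'
  set d₀ : Fin n → F₀ := fun i => if d i = 1 then 1 else -1 with hd₀def
  have hd₀ : ∀ i, ((d₀ i : F₀) : F) = d i := by
    intro i
    rcases hd i with h | h
    · have h4 : d₀ i = 1 := if_pos h
      rw [h4, h]
      simp
    · have h3 : d i ≠ 1 := by rw [h]; exact hne
      have h4 : d₀ i = -1 := if_neg h3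
      rw [h4, h]
      simp
  have hmap : (Matrix.diagonal d₀).map F₀.subtype = Matrix.diagonal d := by
    rw [Matrix.diagonal_map (map_zero _)]
    congr 1
    funext i
    exact hd₀ i
  have hcomm : Matrix.diagonal d * E = E * Matrix.diagonal d := by
    rw [hE, Matrix.diagonal_mul_diagonal, Matrix.diagonal_mul_diagonal]
    congr 1
    funext i
    ring
  refine ⟨P, conj_mem_subfield F₀ x P hlam0 (Matrix.diagonal d₀) ?_⟩
  rw [hmap, hP, hxu, smul_mul_assoc]
  congr 1
  calc u * (R * E) = (u * R) * E := by rw [mul_assoc]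
    _ = R * (Matrix.diagonal d * E) := by rw [hRd, mul_assoc]
    _ = R * (E * Matrix.diagonal d) := by rw [hcomm]
    _ = R * E * Matrix.diagonal d := by rw [mul_assoc]

/-- Elements whose square is a non-square scalar are not conjugate into the subfield subgroup of
a subfield consisting of squares. -/
theorem not_conj_nonsplit (F₀ : Subfield F) (hsq : ∀ a : F₀, IsSquare (a : F))
    (x : Matrix.SpecialLinearGroup (Fin n) F) (c : F) (hc : ∀ μ : F, μ ^ 2 ≠ c)
    (hx : ((x ^ 2 : Matrix.SpecialLinearGroup (Fin n) F) : Matrix (Fin n) (Fin n) F)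
      = c • (1 : Matrix (Fin n) (Fin n) F)) (hn : 0 < n)
    (P : Matrix.SpecialLinearGroup (Fin n) F) :
    P⁻¹ * x * P ∉ (subfieldSubgroup F₀ 1).comap
      (Matrix.SpecialLinearGroup.toGL :
        Matrix.SpecialLinearGroup (Fin n) F →* GL (Fin n) F) := by
  intro hP
  rw [Subgroup.mem_comap, Cfsg.Agent.Lib.Helper13.mem_subfieldSubgroup_iff] at hP
  obtain ⟨A, μ, hA⟩ := hP
  rw [Units.val_one, mul_one, one_mul, Matrix.SpecialLinearGroup.coe_GL_coe_matrix] at hA
  have h2 : (((P⁻¹ * x * P) ^ 2 : Matrix.SpecialLinearGroup (Fin n) F) :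
      Matrix (Fin n) (Fin n) F) = c • (1 : Matrix (Fin n) (Fin n) F) := by
    have h5 : P⁻¹ * x * P = P⁻¹ * x * (P⁻¹)⁻¹ := by rw [inv_inv]
    rw [h5, conj_pow, inv_inv, Matrix.SpecialLinearGroup.coe_mul,
      Matrix.SpecialLinearGroup.coe_mul, hx, mul_smul_comm, mul_one, smul_mul_assoc,
      ← Matrix.SpecialLinearGroup.coe_mul, inv_mul_cancel, Matrix.SpecialLinearGroup.coe_one]
  rw [Matrix.SpecialLinearGroup.coe_pow, hA, _root_.smul_pow, map_pow_matrix] at h2
  have h3 := congrFun (congrFun h2 ⟨0, hn⟩) ⟨0, hn⟩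
  simp only [Matrix.smul_apply, Matrix.map_apply, Matrix.one_apply_eq, smul_eq_mul, mul_one,
    Subfield.coe_subtype] at h3
  obtain ⟨r, hr⟩ := hsq (((A : Matrix (Fin n) (Fin n) F₀) ^ 2) ⟨0, hn⟩ ⟨0, hn⟩)
  apply hc ((μ : F) * r)
  rw [mul_pow, pow_two r, ← hr]
  exact h3

section chartwo

variable [Fintype F] [CharP F 2]

theorem sq_injective_char_two : Function.Injective (fun a : F => a ^ 2) := by
  intro a b hab
  have h : (a - b) ^ 2 = 0 := by
    rw [sub_pow_char_of_commute 2 (Commute.all a b), sub_eq_zero]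
    exact hab
  exact sub_eq_zero.mp ((pow_eq_zero_iff (by norm_num)).mp h)

theorem exists_sqrt_char_two (c : F) : ∃ a : F, a ^ 2 = c :=
  (Finite.injective_iff_surjective.mp sq_injective_char_two) c

/-- In characteristic two every element of `SL_n(F)` with scalar square is conjugate into the
subfield subgroup. -/
theorem exists_conj_char_two (F₀ : Subfield F) (x : Matrix.SpecialLinearGroup (Fin n) F) (z : F)
    (hz : ((x ^ 2 : Matrix.SpecialLinearGroup (Fin n) F) : Matrix (Fin n) (Fin n) F)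
      = z • (1 : Matrix (Fin n) (Fin n) F))
    (hns : ∀ c : F, (x : Matrix (Fin n) (Fin n) F) ≠ c • (1 : Matrix (Fin n) (Fin n) F)) :
    ∃ P : Matrix.SpecialLinearGroup (Fin n) F, P⁻¹ * x * P ∈ (subfieldSubgroup F₀ 1).comap
      (Matrix.SpecialLinearGroup.toGL :
        Matrix.SpecialLinearGroup (Fin n) F →* GL (Fin n) F) := by
  classical
  have hn : 0 < n := by
    rcases Nat.eq_zero_or_pos n with h0 | h0
    · subst h0
      exact absurd (Subsingleton.elim _ _) (hns 0)
    · exact h0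
  haveI : Nonempty (Fin n) := ⟨⟨0, hn⟩⟩
  have hz0 : z ≠ 0 := Cfsg.Agent.Lib.Helper99.PrimeOrd.scalar_ne_zero hn (x ^ 2) z hz
  obtain ⟨lam, hlam⟩ := exists_sqrt_char_two z
  have hlam0 : lam ≠ 0 := by
    rintro rfl
    rw [zero_pow (by norm_num)] at hlam
    exact hz0 hlam.symm
  set u : Matrix (Fin n) (Fin n) F := lam⁻¹ • (x : Matrix (Fin n) (Fin n) F) with hu
  have hxu : (x : Matrix (Fin n) (Fin n) F) = lam • u := by
    rw [hu, smul_smul, mul_inv_cancel₀ hlam0, one_smul]
  have hu2 : u ^ 2 = 1 := by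
    rw [hu, _root_.smul_pow, ← Matrix.SpecialLinearGroup.coe_pow, hz, smul_smul, inv_pow, hlam,
      inv_mul_cancel₀ hz0, one_smul]
  set N : Matrix (Fin n) (Fin n) F := u - 1 with hN
  have hN2 : N ^ 2 = 0 := by
    rw [hN, sub_pow_char_of_commute 2 (Commute.one_right u), hu2, one_pow, sub_self]
  have hN0 : N ≠ 0 := by
    intro h0
    apply hns lam
    rw [hxu, sub_eq_zero.mp h0]
  obtain ⟨R, A₀, hRA⟩ := exists_conj_rat F₀ N ⟨2, hN2⟩
  set A : Matrix (Fin n) (Fin n) F := A₀.map F₀.subtype with hA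
  have hRi : ((R⁻¹ : GL (Fin n) F) : Matrix (Fin n) (Fin n) F) * (R : Matrix (Fin n) (Fin n) F)
      = 1 := by
    rw [← Units.val_mul, inv_mul_cancel, Units.val_one]
  have hRi' : (R : Matrix (Fin n) (Fin n) F) * ((R⁻¹ : GL (Fin n) F) : Matrix (Fin n) (Fin n) F)
      = 1 := by
    rw [← Units.val_mul, mul_inv_cancel, Units.val_one]
  have hA2 : A ^ 2 = 0 := by
    have h1 : (R : Matrix (Fin n) (Fin n) F) * A ^ 2 = N ^ 2 * (R : Matrix (Fin n) (Fin n) F) :=
      SemiconjBy.pow_right (show SemiconjBy (R : Matrix (Fin n) (Fin n) F) A N from hRA) 2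
    calc A ^ 2 = ((R⁻¹ : GL (Fin n) F) : Matrix (Fin n) (Fin n) F) *
          ((R : Matrix (Fin n) (Fin n) F) * A ^ 2) := by rw [← mul_assoc, hRi, one_mul]
      _ = 0 := by rw [h1, hN2, zero_mul, mul_zero]
  have hA0 : A ≠ 0 := by
    intro h0
    apply hN0
    calc N = N * (R : Matrix (Fin n) (Fin n) F) *
          ((R⁻¹ : GL (Fin n) F) : Matrix (Fin n) (Fin n) F) := by rw [mul_assoc, hRi', mul_one]
      _ = 0 := by rw [← hRA, h0, mul_zero, zero_mul]
  have ht : (R : Matrix (Fin n) (Fin n) F).det ≠ 0 := by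
    intro h0
    have h1 := congrArg Matrix.det hRi'
    rw [Matrix.det_mul, h0, zero_mul, Matrix.det_one] at h1
    exact zero_ne_one h1
  obtain ⟨e, he, hAe, hAe1, hdet⟩ := exists_comm_det_pow A ⟨2, hA2⟩ hn
  have he2 : e = 2 := by
    have h1 : e ≤ 2 := by
      by_contra hcon
      apply hAe1
      have h4 : e - 1 = 2 + (e - 3) := by omega
      rw [h4, pow_add, hA2, zero_mul]
    have h2 : 2 ≤ e := by
      by_contra hcon
      have h1 : e = 1 := by omega
      rw [h1, pow_one] at hAe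
      exact hA0 hAe
    omega
  obtain ⟨α, hα⟩ := exists_sqrt_char_two ((R : Matrix (Fin n) (Fin n) F).det)⁻¹
  obtain ⟨h, hhA, hhdet⟩ := hdet α
  have hdetP : ((R : Matrix (Fin n) (Fin n) F) * h).det = 1 := by
    rw [Matrix.det_mul, hhdet, he2, hα, mul_inv_cancel₀ ht]
  obtain ⟨P, hP⟩ : ∃ P : Matrix.SpecialLinearGroup (Fin n) F,
      (P : Matrix (Fin n) (Fin n) F) = (R : Matrix (Fin n) (Fin n) F) * h := ⟨⟨_, hdetP⟩, rfl⟩
  refine ⟨P, conj_mem_subfield F₀ x P hlam0 (1 + A₀) ?_⟩
  have hmap : (1 + A₀).map F₀.subtype = 1 + A := by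
    simp only [← RingHom.mapMatrix_apply, map_add, map_one, hA]
  have hu1 : u = 1 + N := by
    rw [hN]
    abel
  have h1 : u * (R : Matrix (Fin n) (Fin n) F) = (R : Matrix (Fin n) (Fin n) F) * (1 + A) := by
    rw [hu1, add_mul, one_mul, mul_add, mul_one, hRA]
  have h2 : (1 + A) * h = h * (1 + A) := by
    rw [add_mul, mul_add, one_mul, mul_one, hhA]
  rw [hP, hxu, smul_mul_assoc, hmap]
  congr 1
  calc u * ((R : Matrix (Fin n) (Fin n) F) * h)
      = (u * (R : Matrix (Fin n) (Fin n) F)) * h := by rw [mul_assoc]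
    _ = (R : Matrix (Fin n) (Fin n) F) * ((1 + A) * h) := by rw [h1, mul_assoc]
    _ = (R : Matrix (Fin n) (Fin n) F) * (h * (1 + A)) := by rw [h2]
    _ = (R : Matrix (Fin n) (Fin n) F) * h * (1 + A) := by rw [mul_assoc]

end chartwo

end Cfsg.Agent.Lib.Helper99.SubInv
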