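import Mathlib
import Cfsg.Agent.Lib.Helper99.SpInvA
import Cfsg.Agent.Lib.Helper99.SubInvB
import Cfsg.Agent.Lib.Helper40.SemisimpleGL
import Cfsg.Agent.Lib.Helper40.NilpotentJordan

/-!
# Involutions of `PSL_n(q)` and symplectic-type subgroups: conjugating into the subgroup (helper99)
-/

set_option autoImplicit false
set_option linter.unusedSectionVars false

namespace Cfsg.Agent.Lib.Helper99.SpInv

open Module Matrix Polynomial Cfsg.Geo Cfsg.Agent.Lib.Helper13 Cfsg.Agent.Lib.Helper40

section split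

variable {F : Type*} [Field F]

/-- Split elements whose two eigenspaces are even-dimensional are conjugate into the
symplectic-type subgroup. -/
theorem exists_conj_split_even {k : ℕ} (hk0 : 0 < k)
    (f : (Fin (k + k) → F) → (Fin (k + k) → F) → F) (hf : IsSymplecticForm f)
    (x : Matrix.SpecialLinearGroup (Fin (k + k)) F) (lam : F) (hlam0 : lam ≠ 0) (a' b' : ℕ)
    (𝔟 : Basis (Fin (a' + a') ⊕ Fin (b' + b')) F (Fin (k + k) → F))
    (hp : ∀ i, (x : Matrix (Fin (k + k)) (Fin (k + k)) F) *ᵥ 𝔟 (Sum.inl i) = lam • 𝔟 (Sum.inl i))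
    (hm : ∀ j, (x : Matrix (Fin (k + k)) (Fin (k + k)) F) *ᵥ 𝔟 (Sum.inr j)
      = (-lam) • 𝔟 (Sum.inr j)) :
    ∃ P : Matrix.SpecialLinearGroup (Fin (k + k)) F, P⁻¹ * x * P ∈
      (similarityGroup f).comap (Matrix.SpecialLinearGroup.toGL :
        Matrix.SpecialLinearGroup (Fin (k + k)) F →* GL (Fin (k + k)) F) := by
  classical
  have hk : k = a' + b' := by
    have h1 := Module.finrank_eq_card_basis 𝔟
    rw [Module.finrank_fintype_fun_eq_card, Fintype.card_fin, Fintype.card_sum, Fintype.card_fin,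
      Fintype.card_fin] at h1
    omega
  subst hk
  set e' : Fin (a' + b') ⊕ Fin (a' + b') ≃ Fin (a' + a') ⊕ Fin (b' + b') :=
    (Equiv.sumCongr finSumFinEquiv.symm finSumFinEquiv.symm).trans
      ((Equiv.sumSumSumComm (Fin a') (Fin b') (Fin a') (Fin b')).trans
        (Equiv.sumCongr finSumFinEquiv finSumFinEquiv)) with he'
  set 𝔟' : Basis (Fin (a' + b') ⊕ Fin (a' + b')) F (Fin (a' + b' + (a' + b')) → F) :=
    𝔟.reindex e'.symm with h𝔟'
  have h𝔟'app : ∀ s, 𝔟' s = 𝔟 (e' s) := by
    intro s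
    rw [h𝔟', Basis.reindex_apply, Equiv.symm_symm]
  set ε : Fin (a' + b') → F :=
    fun j => Sum.elim (fun _ => lam) (fun _ => -lam) (finSumFinEquiv.symm j) with hε
  have hεl : ∀ t : Fin a', ε (finSumFinEquiv (Sum.inl t)) = lam := by
    intro t
    simp only [hε, Equiv.symm_apply_apply, Sum.elim_inl]
  have hεr : ∀ t : Fin b', ε (finSumFinEquiv (Sum.inr t)) = -lam := by
    intro t
    simp only [hε, Equiv.symm_apply_apply, Sum.elim_inr]
  have hεε : ∀ j, ε j * ε j = lam * lam := by
    intro j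
    obtain ⟨t, rfl⟩ := finSumFinEquiv.surjective j
    rcases t with t | t
    · rw [hεl]
    · rw [hεr, neg_mul_neg]
  have he1 : ∀ t : Fin a', e' (Sum.inl (finSumFinEquiv (Sum.inl t)))
      = Sum.inl (finSumFinEquiv (Sum.inl t)) := by
    intro t
    simp [he', Equiv.sumSumSumComm]
  have he2 : ∀ t : Fin a', e' (Sum.inr (finSumFinEquiv (Sum.inl t)))
      = Sum.inl (finSumFinEquiv (Sum.inr t)) := by
    intro t
    simp [he', Equiv.sumSumSumComm]
  have he3 : ∀ t : Fin b', e' (Sum.inl (finSumFinEquiv (Sum.inr t)))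
      = Sum.inr (finSumFinEquiv (Sum.inl t)) := by
    intro t
    simp [he', Equiv.sumSumSumComm]
  have he4 : ∀ t : Fin b', e' (Sum.inr (finSumFinEquiv (Sum.inr t)))
      = Sum.inr (finSumFinEquiv (Sum.inr t)) := by
    intro t
    simp [he', Equiv.sumSumSumComm]
  have hy : ∀ s, (x : Matrix (Fin (a' + b' + (a' + b'))) (Fin (a' + b' + (a' + b'))) F) *ᵥ 𝔟' s
      = (Sum.elim ε ε s) • 𝔟' s := by
    intro s
    rcases s with j | j
    · obtain ⟨t, rfl⟩ := finSumFinEquiv.surjective j
      rcases t with t | t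
      · rw [h𝔟'app, he1, Sum.elim_inl, hεl]
        exact hp _
      · rw [h𝔟'app, he3, Sum.elim_inl, hεr]
        exact hm _
    · obtain ⟨t, rfl⟩ := finSumFinEquiv.surjective j
      rcases t with t | t
      · rw [h𝔟'app, he2, Sum.elim_inr, hεl]
        exact hp _
      · rw [h𝔟'app, he4, Sum.elim_inr, hεr]
        exact hm _
  set Y : Matrix (Fin (a' + b') ⊕ Fin (a' + b')) (Fin (a' + b') ⊕ Fin (a' + b')) F :=
    Matrix.diagonal (Sum.elim ε ε) with hYdef
  have hY : ∀ u v, Cfsg.sympForm (a' + b') F (Y *ᵥ u) (Y *ᵥ v)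
      = (lam * lam) * Cfsg.sympForm (a' + b') F u v := by
    intro u v
    rw [sympForm_eq_sum, sympForm_eq_sum, Finset.mul_sum]
    apply Finset.sum_congr rfl
    intro j _
    simp only [hYdef, Matrix.mulVec_diagonal, Sum.elim_inl, Sum.elim_inr]
    linear_combination (u (Sum.inr j) * v (Sum.inl j) - u (Sum.inl j) * v (Sum.inr j)) * hεε j
  have hθ : ∀ a, (x : Matrix (Fin (a' + b' + (a' + b'))) (Fin (a' + b' + (a' + b'))) F) *ᵥ
      (𝔟'.equivFun.symm a) = 𝔟'.equivFun.symm (Y *ᵥ a) := by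
    intro a
    rw [Basis.equivFun_symm_apply, Basis.equivFun_symm_apply, ← Matrix.toLin'_apply, map_sum]
    apply Finset.sum_congr rfl
    intro s _
    rw [map_smul, Matrix.toLin'_apply, hy, smul_smul, hYdef, Matrix.mulVec_diagonal, mul_comm]
  have hcent : ∀ δ : F, δ ≠ 0 → ∃ h : Matrix (Fin (a' + b') ⊕ Fin (a' + b'))
      (Fin (a' + b') ⊕ Fin (a' + b')) F, h * Y = Y * h ∧ h.det = δ := by
    intro δ _
    refine ⟨Matrix.diagonal (fun s => if s = Sum.inl ⟨0, hk0⟩ then δ else 1), ?_, ?_⟩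
    · rw [hYdef, Matrix.diagonal_mul_diagonal, Matrix.diagonal_mul_diagonal]
      congr 1
      funext s
      exact mul_comm _ _
    · rw [Matrix.det_diagonal, Finset.prod_ite_eq']
      simp
  exact exists_sl_conj_of_std f hf x Y (lam * lam) (mul_ne_zero hlam0 hlam0) hY 𝔟'.equivFun.symm hθ
    hcent

end split

section nonsplit

variable {F : Type*} [Field F]

/-- Characteristic polynomial of a matrix whose `r`-th power is a scalar `c` that is not an
`r`-th power. -/
theorem charpoly_of_pow_eq_smul {n : ℕ} (A : Matrix (Fin n) (Fin n) F) (r : ℕ) (hr : r.Prime)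
    (hrF : (r : F) ≠ 0) (c : F) (hc0 : c ≠ 0) (hirr : Irreducible (X ^ r - C c : F[X]))
    (hA : A ^ r = c • (1 : Matrix (Fin n) (Fin n) F)) (e : ℕ) (hn : n = r * e) :
    A.charpoly = (X ^ r - C c) ^ e := by
  classical
  set g : F[X] := X ^ r - C c with hg
  have hgm : g.Monic := monic_X_pow_sub_C c hr.ne_zero
  have hgdeg : g.natDegree = r := natDegree_X_pow_sub_C
  have hkillA : aeval A g = 0 := by
    rw [hg, map_sub, map_pow, aeval_X, aeval_C, hA, Algebra.algebraMap_eq_smul_one, sub_self]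
  have hss : Module.End.IsSemisimple (Matrix.toLin' A) := by
    apply Module.End.isSemisimple_of_squarefree_aeval_eq_zero (p := g)
    · exact (separable_X_pow_sub_C c hrF hc0).squarefree
    · have h1 : Matrix.toLin' A = Matrix.toLinAlgEquiv' A := rfl
      rw [h1, aeval_algHom_apply, hkillA, map_zero]
  have hall : ∀ m ∈ UniqueFactorizationMonoid.normalizedFactors A.charpoly, m = g := by
    intro m hm
    have hmm := Cfsg.Agent.Lib.Helper40.monic_of_mem_normalizedFactors hm
    have hmi := UniqueFactorizationMonoid.irreducible_of_normalized_factor m hm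
    have hmd := UniqueFactorizationMonoid.dvd_of_mem_normalizedFactors hm
    have h1 := Cfsg.Agent.Lib.Helper40.dvd_of_irreducible_dvd_charpoly A hss g hkillA m hmm hmi hmd
    exact Cfsg.Agent.Lib.Helper40.eq_of_monic_irreducible_dvd hmm hmi hgm hirr h1
  have hrep := Multiset.eq_replicate_card.mpr hall
  have hchar : A.charpoly = g ^ (Multiset.card
      (UniqueFactorizationMonoid.normalizedFactors A.charpoly)) := by
    have h1 := Cfsg.Agent.Lib.Helper40.prod_normalizedFactors_of_monic (Matrix.charpoly_monic A)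
    rw [hrep, Multiset.prod_replicate] at h1
    exact h1.symm
  set e' := Multiset.card (UniqueFactorizationMonoid.normalizedFactors A.charpoly) with he'
  have hdeg : n = r * e' := by
    have h1 := Matrix.charpoly_natDegree_eq_dim A
    rw [hchar, natDegree_pow, hgdeg, Fintype.card_fin] at h1
    rw [← h1, mul_comm]
  have hee : e' = e := by
    have : r * e' = r * e := by rw [← hdeg, hn]
    exact Nat.eq_of_mul_eq_mul_left hr.pos this
  rw [hchar, hee]

theorem isSemisimple_of_sq {ι : Type*} [Fintype ι] [DecidableEq ι] (A : Matrix ι ι F)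
    (h2 : (2 : F) ≠ 0) (c : F) (hc0 : c ≠ 0) (hA : A * A = c • (1 : Matrix ι ι F)) :
    Module.End.IsSemisimple (Matrix.toLin' A) := by
  apply Module.End.isSemisimple_of_squarefree_aeval_eq_zero (p := X ^ 2 - C c)
  · exact (separable_X_pow_sub_C c (by rw [Nat.cast_ofNat]; exact h2) hc0).squarefree
  · have h1 : Matrix.toLin' A = Matrix.toLinAlgEquiv' A := rfl
    rw [h1, aeval_algHom_apply, map_sub, map_pow, aeval_X, aeval_C, pow_two, hA,
      Algebra.algebraMap_eq_smul_one, sub_self, map_zero]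

/-- Representing a non-zero element by the norm form of a quadratic extension, with non-zero first
coordinate. -/
theorem exists_norm_rep [Fintype F] (hodd : Fintype.card F % 2 = 1) (h2 : (2 : F) ≠ 0) (z : F)
    (hz0 : z ≠ 0) (hz : ∀ μ : F, μ ^ 2 ≠ z) (δ : F) (hδ : δ ≠ 0) :
    ∃ α β : F, α ≠ 0 ∧ α ^ 2 - z * β ^ 2 = δ := by
  have hz1 : z ≠ 1 := by
    intro h
    exact hz 1 (by rw [h, one_pow])
  obtain ⟨a, b, hab⟩ := FiniteField.exists_root_sum_quadratic
    (f := C (1 : F) * X ^ 2 + C 0 * X + C 0) (g := C (-z) * X ^ 2 + C 0 * X + C (-δ))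
    (degree_quadratic one_ne_zero) (degree_quadratic (neg_ne_zero.mpr hz0)) hodd
  simp only [eval_add, eval_mul, eval_C, eval_pow, eval_X] at hab
  have hab' : a ^ 2 - z * b ^ 2 = δ := by linear_combination hab
  by_cases ha : a = 0
  · have hδ' : δ = -(z * b ^ 2) := by
      rw [← hab', ha]
      ring
    have hb : b ≠ 0 := by
      rintro rfl
      apply hδ
      rw [hδ']
      ring
    have h1z : 1 - z ≠ 0 := sub_ne_zero.mpr (Ne.symm hz1)
    refine ⟨2 * z * b / (1 - z), b * (1 + z) / (1 - z), ?_, ?_⟩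
    · exact div_ne_zero (mul_ne_zero (mul_ne_zero h2 hz0) hb) h1z
    · rw [hδ']
      field_simp
      ring
  · exact ⟨a, b, ha, hab'⟩

theorem det_fromBlocks_diagonal {ι : Type*} [Fintype ι] [DecidableEq ι] (a b c d : ι → F)
    (hd : ∀ i, d i ≠ 0) :
    (Matrix.fromBlocks (Matrix.diagonal a) (Matrix.diagonal b) (Matrix.diagonal c)
      (Matrix.diagonal d)).det = ∏ i, (a i * d i - b i * c i) := by
  have hDinv : Matrix.diagonal d * Matrix.diagonal (fun i => (d i)⁻¹) = 1 := by
    rw [Matrix.diagonal_mul_diagonal, ← Matrix.diagonal_one]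
    congr 1
    funext i
    exact mul_inv_cancel₀ (hd i)
  letI : Invertible (Matrix.diagonal d) := invertibleOfRightInverse _ _ hDinv
  rw [Matrix.det_fromBlocks₂₂, invOf_eq_right_inv hDinv, Matrix.diagonal_mul_diagonal,
    Matrix.diagonal_mul_diagonal, Matrix.diagonal_sub, Matrix.det_diagonal, Matrix.det_diagonal,
    ← Finset.prod_mul_distrib]
  apply Finset.prod_congr rfl
  intro i _
  have := hd i
  field_simp

/-- Non-split elements are conjugate into the symplectic-type subgroup. -/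
theorem exists_conj_nonsplit {k : ℕ} (hk0 : 0 < k) [Fintype F] (hodd : Fintype.card F % 2 = 1)
    (h2 : (2 : F) ≠ 0)
    (f : (Fin (k + k) → F) → (Fin (k + k) → F) → F) (hf : IsSymplecticForm f)
    (x : Matrix.SpecialLinearGroup (Fin (k + k)) F) (z : F) (hz0 : z ≠ 0)
    (hz : ∀ μ : F, μ ^ 2 ≠ z)
    (hx : (x : Matrix (Fin (k + k)) (Fin (k + k)) F) * (x : Matrix (Fin (k + k)) (Fin (k + k)) F)
      = z • (1 : Matrix (Fin (k + k)) (Fin (k + k)) F)) :
    ∃ P : Matrix.SpecialLinearGroup (Fin (k + k)) F, P⁻¹ * x * P ∈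
      (similarityGroup f).comap (Matrix.SpecialLinearGroup.toGL :
        Matrix.SpecialLinearGroup (Fin (k + k)) F →* GL (Fin (k + k)) F) := by
  classical
  have hirr : Irreducible (X ^ 2 - C z : F[X]) :=
    X_pow_sub_C_irreducible_of_prime Nat.prime_two hz
  have h2' : ((2 : ℕ) : F) ≠ 0 := by rw [Nat.cast_ofNat]; exact h2
  set Y : Matrix (Fin k ⊕ Fin k) (Fin k ⊕ Fin k) F :=
    Matrix.fromBlocks 0 (Matrix.diagonal (fun _ => z)) (Matrix.diagonal (fun _ => 1)) 0 with hYdef
  have hYY : Y * Y = z • (1 : Matrix (Fin k ⊕ Fin k) (Fin k ⊕ Fin k) F) := by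
    rw [← Matrix.fromBlocks_one, Matrix.fromBlocks_smul, hYdef, Matrix.fromBlocks_multiply]
    simp only [Matrix.zero_mul, Matrix.mul_zero, zero_add, add_zero, smul_zero,
      Matrix.diagonal_mul_diagonal, mul_one, one_mul]
    congr 1 <;>
    · rw [← Matrix.diagonal_one, ← Matrix.diagonal_smul]
      congr 1
      funext j
      simp
  have hYl : ∀ (u : Fin k ⊕ Fin k → F) (j : Fin k), (Y *ᵥ u) (Sum.inl j) = z * u (Sum.inr j) := by
    intro u j
    rw [hYdef, Matrix.fromBlocks_mulVec, Sum.elim_inl, Matrix.zero_mulVec, zero_add,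
      Matrix.mulVec_diagonal]
    rfl
  have hYr : ∀ (u : Fin k ⊕ Fin k → F) (j : Fin k), (Y *ᵥ u) (Sum.inr j) = u (Sum.inl j) := by
    intro u j
    rw [hYdef, Matrix.fromBlocks_mulVec, Sum.elim_inr, Matrix.zero_mulVec, add_zero,
      Matrix.mulVec_diagonal, one_mul]
    rfl
  have hY : ∀ u v, Cfsg.sympForm k F (Y *ᵥ u) (Y *ᵥ v) = (-z) * Cfsg.sympForm k F u v := by
    intro u v
    rw [sympForm_eq_sum, sympForm_eq_sum, Finset.mul_sum]
    apply Finset.sum_congr rfl
    intro j _
    rw [hYl, hYl, hYr, hYr]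
    ring
  have hxx : (x : Matrix (Fin (k + k)) (Fin (k + k)) F) ^ 2
      = z • (1 : Matrix (Fin (k + k)) (Fin (k + k)) F) := by
    rw [pow_two]
    exact hx
  have hch1 : (x : Matrix (Fin (k + k)) (Fin (k + k)) F).charpoly = (X ^ 2 - C z) ^ k :=
    charpoly_of_pow_eq_smul _ 2 Nat.prime_two h2' z hz0 hirr hxx k (by ring)
  have hch2 : Y.charpoly = (X ^ 2 - C z) ^ k := by
    rw [← Matrix.charpoly_reindex finSumFinEquiv Y]
    apply charpoly_of_pow_eq_smul _ 2 Nat.prime_two h2' z hz0 hirr _ k (by ring)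
    rw [pow_two, Matrix.reindex_apply, Matrix.submatrix_mul_equiv, hYY]
    ext i j
    simp [Matrix.one_apply]
  obtain ⟨e, he⟩ := exists_equiv_of_charpoly_eq
    (Matrix.toLin' (x : Matrix (Fin (k + k)) (Fin (k + k)) F)) (Matrix.toLin' Y)
    (isSemisimple_of_sq _ h2 z hz0 hx) (isSemisimple_of_sq _ h2 z hz0 hYY)
    (by rw [Matrix.charpoly_toLin', Matrix.charpoly_toLin', hch1, hch2])
  have hθ : ∀ a, (x : Matrix (Fin (k + k)) (Fin (k + k)) F) *ᵥ (e.symm a) = e.symm (Y *ᵥ a) := by
    intro a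
    apply e.injective
    rw [LinearEquiv.apply_symm_apply]
    have h1 := he (e.symm a)
    rw [LinearEquiv.apply_symm_apply, Matrix.toLin'_apply, Matrix.toLin'_apply] at h1
    exact h1
  have hcent : ∀ δ : F, δ ≠ 0 → ∃ h : Matrix (Fin k ⊕ Fin k) (Fin k ⊕ Fin k) F,
      h * Y = Y * h ∧ h.det = δ := by
    intro δ hδ
    obtain ⟨α, β, hα0, hαβ⟩ := exists_norm_rep hodd h2 z hz0 hz δ hδ
    set dα : Fin k → F := fun j => if j = ⟨0, hk0⟩ then α else 1 with hdα
    set dβ : Fin k → F := fun j => if j = ⟨0, hk0⟩ then β else 0 with hdβ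
    refine ⟨Matrix.fromBlocks (Matrix.diagonal dα) (Matrix.diagonal (fun j => z * dβ j))
      (Matrix.diagonal dβ) (Matrix.diagonal dα), ?_, ?_⟩
    · rw [hYdef, Matrix.fromBlocks_multiply, Matrix.fromBlocks_multiply]
      simp only [Matrix.zero_mul, Matrix.mul_zero, zero_add, add_zero,
        Matrix.diagonal_mul_diagonal, mul_one, one_mul]
      congr 1 <;>
      · congr 1
        funext j
        ring
    · rw [det_fromBlocks_diagonal]
      · have h3 : ∀ j : Fin k, dα j * dα j - z * dβ j * dβ j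
            = if j = ⟨0, hk0⟩ then δ else 1 := by
          intro j
          simp only [hdα, hdβ]
          split_ifs
          · rw [← hαβ]
            ring
          · ring
        rw [Finset.prod_congr rfl (fun j _ => h3 j), Finset.prod_ite_eq']
        simp
      · intro j
        simp only [hdα]
        split_ifs
        · exact hα0
        · exact one_ne_zero
  exact exists_sl_conj_of_std f hf x Y (-z) (neg_ne_zero.mpr hz0) hY e.symm hθ hcent

end nonsplit

end Cfsg.Agent.Lib.Helper99.SpInv
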