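import Mathlib
import Cfsg.Agent.Lib.Helper99.ExtInvA
import Cfsg.Agent.Lib.Helper99.SpInvB

/-!
# Field subalgebras of degree two: standard coordinates and a conjugacy criterion (helper99)
-/

set_option autoImplicit false
set_option linter.unusedSectionVars false

namespace Cfsg.Agent.Lib.Helper99.ExtInv

open Module Matrix Polynomial Cfsg.Geo Cfsg.Agent.Lib.Helper40

section dblk

variable {F : Type*} [Field F] {ι : Type*} [Fintype ι] [DecidableEq ι]

/-- A `2 × 2` block matrix with diagonal blocks. -/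
def dblk (a b c d : ι → F) : Matrix (ι ⊕ ι) (ι ⊕ ι) F :=
  Matrix.fromBlocks (Matrix.diagonal a) (Matrix.diagonal b) (Matrix.diagonal c) (Matrix.diagonal d)

theorem dblk_mul (a b c d a' b' c' d' : ι → F) :
    dblk a b c d * dblk a' b' c' d'
      = dblk (fun i => a i * a' i + b i * c' i) (fun i => a i * b' i + b i * d' i)
          (fun i => c i * a' i + d i * c' i) (fun i => c i * b' i + d i * d' i) := by
  unfold dblk
  rw [Matrix.fromBlocks_multiply]
  simp only [Matrix.diagonal_mul_diagonal, Matrix.diagonal_add]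

theorem dblk_one : (1 : Matrix (ι ⊕ ι) (ι ⊕ ι) F) = dblk (fun _ => 1) (fun _ => 0) (fun _ => 0)
    (fun _ => 1) := by
  unfold dblk
  have h1 : Matrix.diagonal (fun _ : ι => (1 : F)) = 1 := Matrix.diagonal_one
  have h0 : Matrix.diagonal (fun _ : ι => (0 : F)) = 0 := Matrix.diagonal_zero
  rw [h1, h0, Matrix.fromBlocks_one]

theorem dblk_smul (r : F) (a b c d : ι → F) :
    r • dblk a b c d = dblk (fun i => r * a i) (fun i => r * b i) (fun i => r * c i)
      (fun i => r * d i) := by
  unfold dblk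
  rw [Matrix.fromBlocks_smul]
  congr 1 <;>
  · rw [← Matrix.diagonal_smul]
    rfl

theorem dblk_add (a b c d a' b' c' d' : ι → F) :
    dblk a b c d + dblk a' b' c' d'
      = dblk (fun i => a i + a' i) (fun i => b i + b' i) (fun i => c i + c' i)
          (fun i => d i + d' i) := by
  unfold dblk
  rw [Matrix.fromBlocks_add]
  simp only [Matrix.diagonal_add]

theorem dblk_sub (a b c d a' b' c' d' : ι → F) :
    dblk a b c d - dblk a' b' c' d'
      = dblk (fun i => a i - a' i) (fun i => b i - b' i) (fun i => c i - c' i)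
          (fun i => d i - d' i) := by
  rw [sub_eq_add_neg, ← neg_one_smul F (dblk a' b' c' d'), dblk_smul, dblk_add]
  congr 1 <;>
  · funext i
    ring

theorem dblk_mulVec_inl (a b c d : ι → F) (v : ι ⊕ ι → F) (j : ι) :
    (dblk a b c d *ᵥ v) (Sum.inl j) = a j * v (Sum.inl j) + b j * v (Sum.inr j) := by
  unfold dblk
  rw [Matrix.fromBlocks_mulVec, Sum.elim_inl, Pi.add_apply, Matrix.mulVec_diagonal,
    Matrix.mulVec_diagonal]
  rfl

theorem dblk_mulVec_inr (a b c d : ι → F) (v : ι ⊕ ι → F) (j : ι) :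
    (dblk a b c d *ᵥ v) (Sum.inr j) = c j * v (Sum.inl j) + d j * v (Sum.inr j) := by
  unfold dblk
  rw [Matrix.fromBlocks_mulVec, Sum.elim_inr, Pi.add_apply, Matrix.mulVec_diagonal,
    Matrix.mulVec_diagonal]
  rfl

/-- Reindexing `ι ⊕ ι` as `Fin 2 × ι`. -/
def e2 (ι : Type*) : ι ⊕ ι ≃ Fin 2 × ι where
  toFun := Sum.elim (fun j => (0, j)) (fun j => (1, j))
  invFun := fun p => if p.1 = 0 then Sum.inl p.2 else Sum.inr p.2
  left_inv := by
    rintro (j | j) <;> simp
  right_inv := by
    rintro ⟨i, j⟩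
    fin_cases i <;> simp

theorem det_dblk (a b c d : ι → F) :
    (dblk a b c d).det = ∏ i, (a i * d i - b i * c i) := by
  have h1 : dblk a b c d
      = (Matrix.blockDiagonal (fun j : ι => !![a j, b j; c j, d j])).submatrix (e2 ι) (e2 ι) := by
    ext i j
    rcases i with i | i <;> rcases j with j | j <;>
      simp [dblk, e2, Matrix.blockDiagonal_apply, Matrix.diagonal_apply]
  rw [h1, Matrix.det_submatrix_equiv_self, Matrix.det_blockDiagonal]
  apply Finset.prod_congr rfl
  intro j _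
  rw [Matrix.det_fin_two_of]

end dblk

section std

variable {F : Type*} [Field F]

/-- The standard form of a generator with minimal equation `κ ^ 2 = s κ - d`. -/
def kstd (m : ℕ) (s d : F) : Matrix (Fin m ⊕ Fin m) (Fin m ⊕ Fin m) F :=
  dblk (fun _ => 0) (fun _ => -d) (fun _ => 1) (fun _ => s)

theorem kstd_sq (m : ℕ) (s d : F) :
    kstd m s d * kstd m s d = s • kstd m s d - d • (1 : Matrix (Fin m ⊕ Fin m) (Fin m ⊕ Fin m) F) := by
  unfold kstd
  rw [dblk_mul, dblk_one, dblk_smul, dblk_smul, dblk_sub]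
  congr 1 <;>
  · funext j
    ring

/-- Characteristic polynomial of a matrix killed by a monic irreducible polynomial. -/
theorem charpoly_of_aeval_eq_zero {n : ℕ} (A : Matrix (Fin n) (Fin n) F) (g : F[X])
    (hgm : g.Monic) (hirr : Irreducible g) (hkillA : aeval A g = 0) (e : ℕ)
    (hn : n = g.natDegree * e) : A.charpoly = g ^ e := by
  classical
  have hpos : 0 < g.natDegree := hirr.natDegree_pos
  have hss : Module.End.IsSemisimple (Matrix.toLin' A) := by
    apply Module.End.isSemisimple_of_squarefree_aeval_eq_zero (p := g)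
    · exact hirr.squarefree
    · have h1 : Matrix.toLin' A = Matrix.toLinAlgEquiv' A := rfl
      rw [h1, aeval_algHom_apply, hkillA, map_zero]
  have hall : ∀ m ∈ UniqueFactorizationMonoid.normalizedFactors A.charpoly, m = g := by
    intro m hm
    have hmm := Cfsg.Agent.Lib.Helper40.monic_of_mem_normalizedFactors hm
    have hmi := UniqueFactorizationMonoid.irreducible_of_normalized_factor m hm
    have hmd := UniqueFactorizationMonoid.dvd_of_mem_normalizedFactors hm
    have h1 := Cfsg.Agent.Lib.Helper40.dvd_of_irreducible_dvd_charpoly A hss g hkillA m hmm hmi hmd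
    exact Cfsg.Agent.Lib.Helper40.eq_of_monic_irreducible_dvd hmm hmi hgm hirr h1
  have hrep := Multiset.eq_replicate_card.mpr hall
  have hchar : A.charpoly = g ^ (Multiset.card
      (UniqueFactorizationMonoid.normalizedFactors A.charpoly)) := by
    have h1 := Cfsg.Agent.Lib.Helper40.prod_normalizedFactors_of_monic (Matrix.charpoly_monic A)
    rw [hrep, Multiset.prod_replicate] at h1
    exact h1.symm
  set e' := Multiset.card (UniqueFactorizationMonoid.normalizedFactors A.charpoly) with he'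
  have hdeg : n = g.natDegree * e' := by
    have h1 := Matrix.charpoly_natDegree_eq_dim A
    rw [hchar, natDegree_pow, Fintype.card_fin] at h1
    rw [← h1, mul_comm]
  have hee : e' = e := by
    have : g.natDegree * e' = g.natDegree * e := by rw [← hdeg, hn]
    exact Nat.eq_of_mul_eq_mul_left hpos this
  rw [hchar, hee]

/-- The quadratic polynomial `X ^ 2 - s X + d`. -/
noncomputable def quad (s d : F) : F[X] := X ^ 2 + (C (-s) * X + C d)

theorem quad_degree_lt (s d : F) : (C (-s) * X + C d : F[X]).degree < ((2 : ℕ) : WithBot ℕ) :=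
  lt_of_le_of_lt (degree_linear_le) (by norm_num)

theorem quad_monic (s d : F) : (quad s d).Monic := monic_X_pow_add (quad_degree_lt s d)

theorem quad_natDegree (s d : F) : (quad s d).natDegree = 2 := by
  unfold quad
  rw [natDegree_add_eq_left_of_degree_lt, natDegree_X_pow]
  rw [degree_X_pow]
  exact quad_degree_lt s d

theorem quad_irreducible (s d : F) (hroot : ∀ t : F, t * t - s * t + d ≠ 0) :
    Irreducible (quad s d) := by
  rw [Polynomial.Monic.irreducible_iff_roots_eq_zero_of_degree_le_three (quad_monic s d)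
    (by rw [quad_natDegree]) (by rw [quad_natDegree]; norm_num)]
  apply Multiset.eq_zero_of_forall_notMem
  intro t ht
  rw [mem_roots (quad_monic s d).ne_zero, IsRoot.def] at ht
  apply hroot t
  simp only [quad, eval_add, eval_pow, eval_X, eval_mul, eval_C] at ht
  linear_combination ht

theorem aeval_quad {R : Type*} [Ring R] [Algebra F R] (A : R) (s d : F)
    (hA : A * A = s • A - d • (1 : R)) : aeval A (quad s d) = 0 := by
  simp only [quad, map_add, map_pow, aeval_X, map_mul, aeval_C, Algebra.algebraMap_eq_smul_one,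
    smul_mul_assoc, one_mul]
  rw [pow_two, hA]
  module

/-- Coordinates in which a generator with irreducible quadratic equation is in standard form. -/
theorem exists_std_coords {m : ℕ} (κ : Matrix (Fin (m + m)) (Fin (m + m)) F) (s d : F)
    (hκκ : κ * κ = s • κ - d • 1) (hroot : ∀ t : F, t * t - s * t + d ≠ 0) :
    ∃ e : (Fin (m + m) → F) ≃ₗ[F] (Fin m ⊕ Fin m → F), ∀ v, e (κ *ᵥ v) = kstd m s d *ᵥ e v := by
  classical
  have hirr := quad_irreducible s d hroot
  have hmon := quad_monic s d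
  have hdeg := quad_natDegree s d
  have hch1 : κ.charpoly = quad s d ^ m :=
    charpoly_of_aeval_eq_zero κ _ hmon hirr (aeval_quad κ s d hκκ) m (by rw [hdeg]; ring)
  have hch2 : (kstd m s d).charpoly = quad s d ^ m := by
    rw [← Matrix.charpoly_reindex finSumFinEquiv (kstd m s d)]
    apply charpoly_of_aeval_eq_zero _ _ hmon hirr _ m (by rw [hdeg]; ring)
    apply aeval_quad
    rw [Matrix.reindex_apply, Matrix.submatrix_mul_equiv, kstd_sq]
    ext i j
    simp [Matrix.one_apply]
  have hss : ∀ {ι : Type} [Fintype ι] [DecidableEq ι] (A : Matrix ι ι F),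
      A * A = s • A - d • 1 → Module.End.IsSemisimple (Matrix.toLin' A) := by
    intro ι _ _ A hA
    apply Module.End.isSemisimple_of_squarefree_aeval_eq_zero (p := quad s d)
    · exact hirr.squarefree
    · have h1 : Matrix.toLin' A = Matrix.toLinAlgEquiv' A := rfl
      rw [h1, aeval_algHom_apply, aeval_quad A s d hA, map_zero]
  obtain ⟨e, he⟩ := exists_equiv_of_charpoly_eq (Matrix.toLin' κ) (Matrix.toLin' (kstd m s d))
    (hss κ hκκ) (hss _ (kstd_sq m s d))
    (by rw [Matrix.charpoly_toLin', Matrix.charpoly_toLin', hch1, hch2])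
  refine ⟨e, ?_⟩
  intro v
  have h1 := he v
  rw [Matrix.toLin'_apply, Matrix.toLin'_apply] at h1
  exact h1

/-- Criterion for an element of `SL_{2m}(F)` to be conjugate into the normalizer of a field
subalgebra of degree two. -/
theorem exists_sl_conj_of_std_K {m : ℕ} {K : Subalgebra F (Matrix (Fin (m + m)) (Fin (m + m)) F)}
    {κ : Matrix (Fin (m + m)) (Fin (m + m)) F} {s d : F} (hκ : κ ∈ K)
    (hgen : ∀ a ∈ K, ∃ α β : F, a = α • (1 : Matrix (Fin (m + m)) (Fin (m + m)) F) + β • κ)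
    (e : (Fin (m + m) → F) ≃ₗ[F] (Fin m ⊕ Fin m → F))
    (he : ∀ v, e (κ *ᵥ v) = kstd m s d *ᵥ e v)
    (x : Matrix.SpecialLinearGroup (Fin (m + m)) F)
    (Y : Matrix (Fin m ⊕ Fin m) (Fin m ⊕ Fin m) F)
    (hYk : Y * kstd m s d = kstd m s d * Y ∨
      Y * kstd m s d = (s • (1 : Matrix (Fin m ⊕ Fin m) (Fin m ⊕ Fin m) F) - kstd m s d) * Y)
    (θ : (Fin m ⊕ Fin m → F) ≃ₗ[F] (Fin (m + m) → F))
    (hθ : ∀ a, (x : Matrix (Fin (m + m)) (Fin (m + m)) F) *ᵥ (θ a) = θ (Y *ᵥ a))
    (hcent : ∀ δ : F, δ ≠ 0 → ∃ h : Matrix (Fin m ⊕ Fin m) (Fin m ⊕ Fin m) F,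
      h * Y = Y * h ∧ h.det = δ) :
    ∃ P : Matrix.SpecialLinearGroup (Fin (m + m)) F, P⁻¹ * x * P ∈
      (subalgebraNormalizer K).comap (Matrix.SpecialLinearGroup.toGL :
        Matrix.SpecialLinearGroup (Fin (m + m)) F →* GL (Fin (m + m)) F) := by
  classical
  set g₀ : (Fin (m + m) → F) ≃ₗ[F] (Fin (m + m) → F) := e.trans θ with hg₀
  have hdet0 : LinearMap.det (g₀ : (Fin (m + m) → F) →ₗ[F] (Fin (m + m) → F)) ≠ 0 :=
    (LinearEquiv.isUnit_det' g₀).ne_zero
  obtain ⟨h, hhY, hhdet⟩ := hcent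
    (LinearMap.det (g₀ : (Fin (m + m) → F) →ₗ[F] (Fin (m + m) → F)))⁻¹ (inv_ne_zero hdet0)
  set Pl : (Fin (m + m) → F) →ₗ[F] (Fin (m + m) → F) :=
    (g₀ : (Fin (m + m) → F) →ₗ[F] (Fin (m + m) → F)) ∘ₗ
      ((e.symm : (Fin m ⊕ Fin m → F) →ₗ[F] (Fin (m + m) → F)) ∘ₗ Matrix.toLin' h ∘ₗ
        (e.symm.symm : (Fin (m + m) → F) →ₗ[F] (Fin m ⊕ Fin m → F))) with hPl
  have hPlapp : ∀ v, Pl v = θ (h *ᵥ e v) := by
    intro v
    simp only [hPl, hg₀, LinearMap.comp_apply, LinearEquiv.coe_coe, LinearEquiv.trans_apply,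
      LinearEquiv.symm_symm, LinearEquiv.apply_symm_apply, Matrix.toLin'_apply]
  have hdetPl : LinearMap.det Pl = 1 := by
    rw [hPl, LinearMap.det_comp, LinearMap.det_conj, LinearMap.det_toLin', hhdet,
      mul_inv_cancel₀ hdet0]
  have hdetP : (LinearMap.toMatrix' Pl).det = 1 := by rw [LinearMap.det_toMatrix', hdetPl]
  obtain ⟨P, hP⟩ : ∃ P : Matrix.SpecialLinearGroup (Fin (m + m)) F,
      (P : Matrix (Fin (m + m)) (Fin (m + m)) F) = LinearMap.toMatrix' Pl := ⟨⟨_, hdetP⟩, rfl⟩
  set Z : Matrix (Fin (m + m)) (Fin (m + m)) F :=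
    LinearMap.toMatrix' ((e.symm : (Fin m ⊕ Fin m → F) →ₗ[F] (Fin (m + m) → F)) ∘ₗ
      Matrix.toLin' Y ∘ₗ (e : (Fin (m + m) → F) →ₗ[F] (Fin m ⊕ Fin m → F))) with hZ
  have hZapp : ∀ v, Z *ᵥ v = e.symm (Y *ᵥ e v) := by
    intro v
    rw [hZ, LinearMap.toMatrix'_mulVec]
    simp only [LinearMap.comp_apply, LinearEquiv.coe_coe, Matrix.toLin'_apply]
  have hPapp : ∀ v, (P : Matrix (Fin (m + m)) (Fin (m + m)) F) *ᵥ v = θ (h *ᵥ e v) := by
    intro v
    rw [hP, LinearMap.toMatrix'_mulVec, hPlapp]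
  have hcomm : ∀ w, Y *ᵥ (h *ᵥ w) = h *ᵥ (Y *ᵥ w) := by
    intro w
    rw [Matrix.mulVec_mulVec, Matrix.mulVec_mulVec, hhY]
  have hxP : (x : Matrix (Fin (m + m)) (Fin (m + m)) F) * (P : Matrix (Fin (m + m)) (Fin (m + m)) F)
      = (P : Matrix (Fin (m + m)) (Fin (m + m)) F) * Z := by
    apply Matrix.toLin'.injective
    apply LinearMap.ext
    intro v
    rw [Matrix.toLin'_apply, Matrix.toLin'_apply, ← Matrix.mulVec_mulVec, ← Matrix.mulVec_mulVec,
      hPapp, hθ, hcomm, hZapp, hPapp, LinearEquiv.apply_symm_apply]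
  have hconj : ((P⁻¹ * x * P : Matrix.SpecialLinearGroup (Fin (m + m)) F) :
      Matrix (Fin (m + m)) (Fin (m + m)) F) = Z := by
    rw [Matrix.SpecialLinearGroup.coe_mul, Matrix.SpecialLinearGroup.coe_mul, mul_assoc, hxP,
      ← mul_assoc, ← Matrix.SpecialLinearGroup.coe_mul, inv_mul_cancel,
      Matrix.SpecialLinearGroup.coe_one, one_mul]
  have hesymm : ∀ w, e.symm (kstd m s d *ᵥ w) = κ *ᵥ e.symm w := by
    intro w
    apply e.injective
    rw [LinearEquiv.apply_symm_apply, he, LinearEquiv.apply_symm_apply]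
  refine ⟨P, ?_⟩
  rw [Subgroup.mem_comap]
  apply mem_normalizer_of (s := s) hκ hgen
  rw [Matrix.SpecialLinearGroup.coe_GL_coe_matrix, hconj]
  rcases hYk with hYk | hYk
  · left
    apply Matrix.toLin'.injective
    apply LinearMap.ext
    intro v
    rw [Matrix.toLin'_apply, Matrix.toLin'_apply, ← Matrix.mulVec_mulVec, ← Matrix.mulVec_mulVec,
      hZapp, hZapp, he, Matrix.mulVec_mulVec, hYk, ← Matrix.mulVec_mulVec, hesymm]
  · right
    apply Matrix.toLin'.injective
    apply LinearMap.ext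
    intro v
    rw [Matrix.toLin'_apply, Matrix.toLin'_apply, ← Matrix.mulVec_mulVec, ← Matrix.mulVec_mulVec,
      hZapp, hZapp, he, Matrix.mulVec_mulVec, hYk, ← Matrix.mulVec_mulVec, Matrix.sub_mulVec,
      Matrix.sub_mulVec, Matrix.smul_mulVec, Matrix.smul_mulVec, Matrix.one_mulVec,
      Matrix.one_mulVec, map_sub, map_smul, hesymm]

end std

end Cfsg.Agent.Lib.Helper99.ExtInv
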