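import Mathlib
import Cfsg.Agent.Lib.Helper99.SpInvB

/-!
# Involutions of `PSL_n(q)` and symplectic-type subgroups: characteristic two, bad elements
(helper99)
-/

set_option autoImplicit false
set_option linter.unusedSectionVars false

namespace Cfsg.Agent.Lib.Helper99.SpInv

open Module Matrix Polynomial Cfsg.Geo Cfsg.Agent.Lib.Helper13 Cfsg.Agent.Lib.Helper40

section chartwo

variable {F : Type*} [Field F] [Fintype F] [CharP F 2]

/-- In characteristic two every element of `SL_{2k}(F)` with scalar square is conjugate into the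
symplectic-type subgroup. -/
theorem exists_conj_char_two_sp {k : ℕ} (hk0 : 0 < k)
    (f : (Fin (k + k) → F) → (Fin (k + k) → F) → F) (hf : IsSymplecticForm f)
    (x : Matrix.SpecialLinearGroup (Fin (k + k)) F) (z : F)
    (hz : ((x ^ 2 : Matrix.SpecialLinearGroup (Fin (k + k)) F) :
      Matrix (Fin (k + k)) (Fin (k + k)) F) = z • (1 : Matrix (Fin (k + k)) (Fin (k + k)) F)) :
    ∃ P : Matrix.SpecialLinearGroup (Fin (k + k)) F, P⁻¹ * x * P ∈
      (similarityGroup f).comap (Matrix.SpecialLinearGroup.toGL :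
        Matrix.SpecialLinearGroup (Fin (k + k)) F →* GL (Fin (k + k)) F) := by
  classical
  have hn : 0 < k + k := by omega
  haveI : Nonempty (Fin (k + k)) := ⟨⟨0, hn⟩⟩
  have hz0 : z ≠ 0 := Cfsg.Agent.Lib.Helper99.PrimeOrd.scalar_ne_zero hn (x ^ 2) z hz
  obtain ⟨lam, hlam⟩ := Cfsg.Agent.Lib.Helper99.SubInv.exists_sqrt_char_two z
  have hlam0 : lam ≠ 0 := by
    rintro rfl
    rw [zero_pow (by norm_num)] at hlam
    exact hz0 hlam.symm
  set u : Matrix (Fin (k + k)) (Fin (k + k)) F :=
    lam⁻¹ • (x : Matrix (Fin (k + k)) (Fin (k + k)) F) with hu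
  have hxu : (x : Matrix (Fin (k + k)) (Fin (k + k)) F) = lam • u := by
    rw [hu, smul_smul, mul_inv_cancel₀ hlam0, one_smul]
  have hu2 : u ^ 2 = 1 := by
    rw [hu, _root_.smul_pow, ← Matrix.SpecialLinearGroup.coe_pow, hz, smul_smul, inv_pow, hlam,
      inv_mul_cancel₀ hz0, one_smul]
  set N : Matrix (Fin (k + k)) (Fin (k + k)) F := u - 1 with hN
  have hN2 : N ^ 2 = 0 := by
    rw [hN, sub_pow_char_of_commute 2 (Commute.one_right u), hu2, one_pow, sub_self]
  have hNN : N * N = 0 := by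
    rw [← pow_two]
    exact hN2
  have hu1 : u = 1 + N := by
    rw [hN]
    abel
  set φ : Module.End F (Fin (k + k) → F) := Matrix.toLin' N with hφ
  have hφ2 : φ ^ 2 = 0 := by
    rw [pow_two, hφ, Module.End.mul_eq_comp, ← Matrix.toLin'_mul, hNN, map_zero]
  have hfV : finrank F (Fin (k + k) → F) = k + k := by
    rw [Module.finrank_fintype_fun_eq_card, Fintype.card_fin]
  have hfV' : finrank F (Fin k ⊕ Fin k → F) = k + k := by
    rw [Module.finrank_fintype_fun_eq_card, Fintype.card_sum, Fintype.card_fin]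
  set a := finrank F (LinearMap.range φ) with ha
  have hle : LinearMap.range φ ≤ LinearMap.ker φ := by
    rintro _ ⟨v, rfl⟩
    rw [LinearMap.mem_ker, ← Module.End.mul_apply, ← pow_two, hφ2, LinearMap.zero_apply]
  have hrn := LinearMap.finrank_range_add_finrank_ker φ
  rw [hfV] at hrn
  have hak : a ≤ k := by
    have h1 := Submodule.finrank_mono hle
    omega
  set D : Fin k → F := fun j => if (j : ℕ) < a then 1 else 0 with hD
  set NY : Matrix (Fin k ⊕ Fin k) (Fin k ⊕ Fin k) F :=
    Matrix.fromBlocks 0 (Matrix.diagonal D) 0 0 with hNY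
  have hNYNY : NY * NY = 0 := by
    rw [hNY, Matrix.fromBlocks_multiply]
    simp
  set ψ : Module.End F (Fin k ⊕ Fin k → F) := Matrix.toLin' NY with hψ
  have hψ2 : ψ ^ 2 = 0 := by
    rw [pow_two, hψ, Module.End.mul_eq_comp, ← Matrix.toLin'_mul, hNYNY, map_zero]
  have hrank : finrank F (LinearMap.range ψ) = a := by
    have h2 : NY.submatrix (Equiv.refl (Fin k ⊕ Fin k)) (Equiv.sumComm (Fin k) (Fin k))
        = Matrix.diagonal (Sum.elim D (fun _ => 0)) := by
      ext i j
      rcases i with i | i <;> rcases j with j | j <;> simp [hNY, Matrix.diagonal_apply]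
    have h3 : NY.rank = a := by
      rw [← Matrix.rank_submatrix NY (Equiv.refl (Fin k ⊕ Fin k))
        (Equiv.sumComm (Fin k) (Fin k)), h2, Matrix.rank_diagonal, Fintype.card_subtype]
      have h6 : ((Finset.univ.filter (fun j : Fin k => (j : ℕ) < a)).map
          ⟨Sum.inl, Sum.inl_injective⟩ : Finset (Fin k ⊕ Fin k)).card = a := by
        rw [Finset.card_map, Fin.card_filter_val_lt, min_eq_right hak]
      rw [← h6]
      congr 1
      ext s
      rcases s with j | j
      · simp only [Finset.mem_filter, Finset.mem_univ, true_and, Sum.elim_inl, Finset.mem_map,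
          Function.Embedding.coeFn_mk, Sum.inl.injEq, exists_eq_right, hD]
        by_cases h : (j : ℕ) < a <;> simp [h]
      · simp
    rw [← h3]
    rfl
  have hkd : ∀ j, kd φ j = kd ψ j := by
    intro j
    rcases j with _ | _ | j
    · unfold kd
      rw [pow_zero, pow_zero]
      have e1 : LinearMap.ker (1 : Module.End F (Fin (k + k) → F)) = ⊥ := LinearMap.ker_id
      have e2 : LinearMap.ker (1 : Module.End F (Fin k ⊕ Fin k → F)) = ⊥ := LinearMap.ker_id
      rw [e1, e2, finrank_bot, finrank_bot]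
    · unfold kd
      have h2 := LinearMap.finrank_range_add_finrank_ker ψ
      rw [hfV', hrank] at h2
      rw [zero_add, pow_one, pow_one]
      omega
    · have h1 : φ ^ (j + 1 + 1) = 0 := by
        rw [pow_succ, pow_succ, mul_assoc, ← pow_two, hφ2, mul_zero]
      have h2 : ψ ^ (j + 1 + 1) = 0 := by
        rw [pow_succ, pow_succ, mul_assoc, ← pow_two, hψ2, mul_zero]
      rw [(kd_eq_finrank_iff φ _).mpr h1, (kd_eq_finrank_iff ψ _).mpr h2, hfV, hfV']
  obtain ⟨Ψ, hΨ⟩ := exists_equiv_of_kd_eq (k + k) φ ψ hfV ⟨2, hφ2⟩ ⟨2, hψ2⟩ hkd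
  set Y : Matrix (Fin k ⊕ Fin k) (Fin k ⊕ Fin k) F := lam • (1 + NY) with hYdef
  have hNYl : ∀ (v : Fin k ⊕ Fin k → F) (j : Fin k),
      (NY *ᵥ v) (Sum.inl j) = D j * v (Sum.inr j) := by
    intro v j
    rw [hNY, Matrix.fromBlocks_mulVec, Sum.elim_inl, Matrix.zero_mulVec, zero_add,
      Matrix.mulVec_diagonal]
    rfl
  have hNYr : ∀ (v : Fin k ⊕ Fin k → F) (j : Fin k), (NY *ᵥ v) (Sum.inr j) = 0 := by
    intro v j
    rw [hNY, Matrix.fromBlocks_mulVec, Sum.elim_inr, Matrix.zero_mulVec, Matrix.zero_mulVec,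
      add_zero]
    rfl
  have hYapp : ∀ v, Y *ᵥ v = lam • (v + NY *ᵥ v) := by
    intro v
    rw [hYdef, Matrix.smul_mulVec, Matrix.add_mulVec, Matrix.one_mulVec]
  have hY : ∀ v w, Cfsg.sympForm k F (Y *ᵥ v) (Y *ᵥ w)
      = (lam * lam) * Cfsg.sympForm k F v w := by
    intro v w
    rw [hYapp, hYapp, sympForm_smul_left, sympForm_smul_right, ← mul_assoc]
    congr 1
    rw [sympForm_eq_sum, sympForm_eq_sum]
    apply Finset.sum_congr rfl
    intro j _
    simp only [Pi.add_apply, hNYl, hNYr]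
    ring
  have hNΨ : ∀ a, N *ᵥ (Ψ.symm a) = Ψ.symm (NY *ᵥ a) := by
    intro a
    apply Ψ.injective
    rw [LinearEquiv.apply_symm_apply]
    have h1 := hΨ (Ψ.symm a)
    rw [LinearEquiv.apply_symm_apply, hφ, hψ, Matrix.toLin'_apply, Matrix.toLin'_apply] at h1
    exact h1
  have hθ : ∀ a, (x : Matrix (Fin (k + k)) (Fin (k + k)) F) *ᵥ (Ψ.symm a)
      = Ψ.symm (Y *ᵥ a) := by
    intro a
    rw [hYapp, map_smul, map_add, ← hNΨ, hxu, hu1, Matrix.smul_mulVec, Matrix.add_mulVec,
      Matrix.one_mulVec]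
  have hcent : ∀ δ : F, δ ≠ 0 → ∃ h : Matrix (Fin k ⊕ Fin k) (Fin k ⊕ Fin k) F,
      h * Y = Y * h ∧ h.det = δ := by
    intro δ _
    obtain ⟨α, hα⟩ := Cfsg.Agent.Lib.Helper99.SubInv.exists_sqrt_char_two δ
    set dα : Fin k → F := fun j => if j = ⟨0, hk0⟩ then α else 1 with hdα
    have hcomm : Matrix.fromBlocks (Matrix.diagonal dα) 0 0 (Matrix.diagonal dα) * NY
        = NY * Matrix.fromBlocks (Matrix.diagonal dα) 0 0 (Matrix.diagonal dα) := by
      rw [hNY, Matrix.fromBlocks_multiply, Matrix.fromBlocks_multiply]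
      simp only [Matrix.zero_mul, Matrix.mul_zero, zero_add, add_zero,
        Matrix.diagonal_mul_diagonal]
      congr 1
      congr 1
      funext j
      exact mul_comm _ _
    refine ⟨Matrix.fromBlocks (Matrix.diagonal dα) 0 0 (Matrix.diagonal dα), ?_, ?_⟩
    · rw [hYdef, Matrix.mul_smul, Matrix.smul_mul, mul_add, add_mul, mul_one, one_mul, hcomm]
    · rw [Matrix.det_fromBlocks_zero₁₂, Matrix.det_diagonal, Finset.prod_ite_eq']
      simp only [Finset.mem_univ, if_true]
      rw [← pow_two, hα]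
  exact exists_sl_conj_of_std f hf x Y (lam * lam) (mul_ne_zero hlam0 hlam0) hY Ψ.symm hθ hcent

end chartwo

section bad

variable {F : Type*} [Field F]

/-- `lam • diag (1, -1, …, -1)` is a similitude of no nondegenerate alternating form. -/
theorem noSim_bad {n : ℕ} (hn : 3 ≤ n) (h2 : (2 : F) ≠ 0) (lam : F) (hlam : lam ≠ 0)
    (i₀ : Fin n) :
    NoSim (Matrix.diagonal (fun i : Fin n => if i = i₀ then lam else -lam)) := by
  classical
  intro B c halt hnd hsim
  set d : Fin n → F := fun i => if i = i₀ then lam else -lam with hd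
  have hG : ∀ i j, (d i * d j - c) * B (Pi.single i 1) (Pi.single j 1) = 0 := by
    intro i j
    have h := hsim (Pi.single i 1) (Pi.single j 1)
    rw [Matrix.diagonal_mulVec_single, Matrix.diagonal_mulVec_single, mul_one, mul_one] at h
    have e1 : ∀ (i : Fin n) (a : F), (Pi.single i a : Fin n → F) = a • Pi.single i 1 := by
      intro i a
      rw [← Pi.single_smul, smul_eq_mul, mul_one]
    rw [e1 i, e1 j, map_smul, map_smul, LinearMap.smul_apply, smul_eq_mul, smul_eq_mul] at h
    linear_combination h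
  have hd0 : d i₀ = lam := by simp [hd]
  have hdne : ∀ i, i ≠ i₀ → d i = -lam := by
    intro i hi
    simp [hd, hi]
  have hrad : ∀ w : Fin n → F, (∀ j, B w (Pi.single j 1) = 0) → w = 0 := by
    intro w hw
    apply hnd
    intro v
    have h1 : B w = 0 := by
      apply (Pi.basisFun F (Fin n)).ext
      intro j
      rw [Pi.basisFun_apply, hw j, LinearMap.zero_apply]
    rw [h1, LinearMap.zero_apply]
  have hsingle : ∀ i : Fin n, (Pi.single i (1 : F) : Fin n → F) ≠ 0 := by
    intro i h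
    have h1 := congrFun h i
    simp at h1
  have hlam2 : lam * lam ≠ 0 := mul_ne_zero hlam hlam
  by_cases hc : c = lam * lam
  · apply hsingle i₀
    apply hrad
    intro j
    by_cases hj : j = i₀
    · rw [hj]
      exact halt _
    · have h1 := hG i₀ j
      rw [hd0, hdne j hj, hc] at h1
      have h3 : lam * -lam - lam * lam ≠ 0 := by
        intro h4
        have h5 : (2 : F) * (lam * lam) = 0 := by linear_combination -h4
        rcases mul_eq_zero.mp h5 with h6 | h6
        · exact h2 h6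
        · exact hlam2 h6
      exact (mul_eq_zero.mp h1).resolve_left h3
  · obtain ⟨i₁, i₂, h1, h2', h12⟩ : ∃ i₁ i₂ : Fin n, i₁ ≠ i₀ ∧ i₂ ≠ i₀ ∧ i₁ ≠ i₂ := by
      by_cases h0 : (i₀ : ℕ) = 0
      · refine ⟨⟨1, by omega⟩, ⟨2, by omega⟩, ?_, ?_, ?_⟩ <;>
          · rw [Ne, Fin.ext_iff]
            simp only
            omega
      · by_cases h1 : (i₀ : ℕ) = 1
        · refine ⟨⟨0, by omega⟩, ⟨2, by omega⟩, ?_, ?_, ?_⟩ <;>
            · rw [Ne, Fin.ext_iff]
              simp only
              omega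
        · refine ⟨⟨0, by omega⟩, ⟨1, by omega⟩, ?_, ?_, ?_⟩ <;>
            · rw [Ne, Fin.ext_iff]
              simp only
              omega
    have hzero : ∀ i j, i ≠ i₀ → j ≠ i₀ → B (Pi.single i 1) (Pi.single j 1) = 0 := by
      intro i j hi hj
      have h3 := hG i j
      rw [hdne i hi, hdne j hj, neg_mul_neg] at h3
      exact (mul_eq_zero.mp h3).resolve_left (sub_ne_zero.mpr (Ne.symm hc))
    have hw : B (Pi.single i₂ 1) (Pi.single i₀ 1) • (Pi.single i₁ 1 : Fin n → F)
        - B (Pi.single i₁ 1) (Pi.single i₀ 1) • (Pi.single i₂ 1 : Fin n → F) = 0 := by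
      apply hrad
      intro j
      rw [map_sub, map_smul, map_smul, LinearMap.sub_apply, LinearMap.smul_apply,
        LinearMap.smul_apply, smul_eq_mul, smul_eq_mul]
      by_cases hj : j = i₀
      · rw [hj]
        ring
      · rw [hzero i₁ j h1 hj, hzero i₂ j h2' hj]
        ring
    have hβ₁ : B (Pi.single i₁ 1) (Pi.single i₀ 1) = 0 := by
      have h3 := congrFun hw i₂
      simp only [Pi.sub_apply, Pi.smul_apply, Pi.single_apply, smul_eq_mul, Pi.zero_apply,
        if_neg h12.symm, if_true, mul_zero, mul_one, zero_sub, neg_eq_zero] at h3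
      exact h3
    apply hsingle i₁
    apply hrad
    intro j
    by_cases hj : j = i₀
    · rw [hj]
      exact hβ₁
    · exact hzero i₁ j h1 hj

/-- A bad element: `lam • diag (1, -1, …, -1)` with `lam ^ n = -1`. -/
theorem exists_bad_sp [Fintype F] {q : ℕ} (hq : Fintype.card F = q) (h2 : (2 : F) ≠ 0) {k : ℕ}
    (hk : 2 ≤ k) (hv : padicValNat 2 (k + k) < padicValNat 2 (q - 1)) :
    ∃ x : Matrix.SpecialLinearGroup (Fin (k + k)) F,
      (∃ z : F, ((x ^ 2 : Matrix.SpecialLinearGroup (Fin (k + k)) F) :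
        Matrix (Fin (k + k)) (Fin (k + k)) F) = z • (1 : Matrix (Fin (k + k)) (Fin (k + k)) F)) ∧
      (∀ z : F, (x : Matrix (Fin (k + k)) (Fin (k + k)) F)
        ≠ z • (1 : Matrix (Fin (k + k)) (Fin (k + k)) F)) ∧
      NoSim (x : Matrix (Fin (k + k)) (Fin (k + k)) F) := by
  classical
  obtain ⟨lam, hlam⟩ := exists_pow_eq_neg_one (F := F) hq (by omega : 0 < k + k) hv
  have hlam0 : lam ≠ 0 := by
    rintro rfl
    rw [zero_pow (by omega)] at hlam
    exact one_ne_zero (neg_eq_zero.mp hlam.symm)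
  obtain ⟨i₀, hi₀⟩ : ∃ i₀ : Fin (k + k), (i₀ : ℕ) = 0 := ⟨⟨0, by omega⟩, rfl⟩
  obtain ⟨i₁, hi₁⟩ : ∃ i₁ : Fin (k + k), (i₁ : ℕ) = 1 := ⟨⟨1, by omega⟩, rfl⟩
  have hne : i₁ ≠ i₀ := by
    rw [Ne, Fin.ext_iff, hi₀, hi₁]
    omega
  set d : Fin (k + k) → F := fun i => if i = i₀ then lam else -lam with hd
  have hdet : (Matrix.diagonal d).det = 1 := by
    rw [Matrix.det_diagonal]
    have h1 : ∀ i, d i = (if i = i₀ then (-1 : F) else 1) * (-lam) := by
      intro i
      simp only [hd]
      split_ifs <;> ring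
    rw [Finset.prod_congr rfl (fun i _ => h1 i), Finset.prod_mul_distrib, Finset.prod_ite_eq',
      Finset.prod_const, Finset.card_univ, Fintype.card_fin]
    simp only [Finset.mem_univ, if_true]
    rw [neg_pow, hlam, Even.neg_one_pow ⟨k, rfl⟩]
    ring
  obtain ⟨x, hx⟩ : ∃ x : Matrix.SpecialLinearGroup (Fin (k + k)) F,
      (x : Matrix (Fin (k + k)) (Fin (k + k)) F) = Matrix.diagonal d := ⟨⟨_, hdet⟩, rfl⟩
  refine ⟨x, ⟨lam * lam, ?_⟩, ?_, ?_⟩
  · rw [Matrix.SpecialLinearGroup.coe_pow, hx, pow_two, Matrix.diagonal_mul_diagonal,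
      ← Matrix.diagonal_one, ← Matrix.diagonal_smul]
    congr 1
    funext i
    simp only [hd, Pi.smul_apply, Pi.one_apply, smul_eq_mul, mul_one]
    split_ifs <;> ring
  · intro μ hμ
    rw [hx] at hμ
    have h3 := congrFun (congrFun hμ i₀) i₀
    have h4 := congrFun (congrFun hμ i₁) i₁
    simp only [Matrix.diagonal_apply_eq, Matrix.smul_apply, Matrix.one_apply_eq, smul_eq_mul,
      mul_one, hd, if_true, if_neg hne] at h3 h4
    apply h2
    have h5 : (2 : F) * lam = 0 := by linear_combination h3 - h4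
    exact (mul_eq_zero.mp h5).resolve_right hlam0
  · rw [hx]
    exact noSim_bad (by omega) h2 lam hlam0 i₀

/-- Split elements are conjugate into the symplectic-type subgroup when `-1` is not an `n`-th
power. -/
theorem exists_conj_split_sp {k : ℕ} (hk0 : 0 < k) (h2 : (2 : F) ≠ 0)
    (f : (Fin (k + k) → F) → (Fin (k + k) → F) → F) (hf : IsSymplecticForm f)
    (x : Matrix.SpecialLinearGroup (Fin (k + k)) F) (lam : F) (hlam0 : lam ≠ 0)
    (hx : (x : Matrix (Fin (k + k)) (Fin (k + k)) F) * (x : Matrix (Fin (k + k)) (Fin (k + k)) F)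
      = (lam * lam) • (1 : Matrix (Fin (k + k)) (Fin (k + k)) F))
    (hneg : lam ^ (k + k) ≠ -1) :
    ∃ P : Matrix.SpecialLinearGroup (Fin (k + k)) F, P⁻¹ * x * P ∈
      (similarityGroup f).comap (Matrix.SpecialLinearGroup.toGL :
        Matrix.SpecialLinearGroup (Fin (k + k)) F →* GL (Fin (k + k)) F) := by
  classical
  set u : Matrix (Fin (k + k)) (Fin (k + k)) F :=
    lam⁻¹ • (x : Matrix (Fin (k + k)) (Fin (k + k)) F) with hu
  have hxu : (x : Matrix (Fin (k + k)) (Fin (k + k)) F) = lam • u := by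
    rw [hu, smul_smul, mul_inv_cancel₀ hlam0, one_smul]
  have huu : u * u = 1 := by
    rw [hu, smul_mul_smul_comm, hx, smul_smul]
    have h3 : lam⁻¹ * lam⁻¹ * (lam * lam) = 1 := by field_simp
    rw [h3, one_smul]
  obtain ⟨a, b, 𝔟, hp, hm⟩ := exists_eigen_sum h2 u huu
  have hp' : ∀ i, (x : Matrix (Fin (k + k)) (Fin (k + k)) F) *ᵥ 𝔟 (Sum.inl i)
      = lam • 𝔟 (Sum.inl i) := by
    intro i
    rw [hxu, Matrix.smul_mulVec, hp]
  have hm' : ∀ j, (x : Matrix (Fin (k + k)) (Fin (k + k)) F) *ᵥ 𝔟 (Sum.inr j)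
      = (-lam) • 𝔟 (Sum.inr j) := by
    intro j
    rw [hxu, Matrix.smul_mulVec, hm, smul_neg, neg_smul]
  have hab : a + b = k + k := by
    have h1 := Module.finrank_eq_card_basis 𝔟
    rw [Module.finrank_fintype_fun_eq_card, Fintype.card_fin, Fintype.card_sum, Fintype.card_fin,
      Fintype.card_fin] at h1
    omega
  have hdet : lam ^ a * (-lam) ^ b = 1 := by
    have h1 := LinearMap.det_toMatrix 𝔟
      (Matrix.toLin' (x : Matrix (Fin (k + k)) (Fin (k + k)) F))
    rw [LinearMap.det_toLin', x.det_coe] at h1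
    have h3 : LinearMap.toMatrix 𝔟 𝔟 (Matrix.toLin' (x : Matrix (Fin (k + k)) (Fin (k + k)) F))
        = Matrix.diagonal (Sum.elim (fun _ => lam) (fun _ => -lam)) := by
      ext s t
      rw [LinearMap.toMatrix_apply, Matrix.toLin'_apply, Matrix.diagonal_apply]
      rcases t with t | t
      · rw [hp', map_smul, Basis.repr_self, Finsupp.smul_apply, Finsupp.single_apply, smul_eq_mul]
        by_cases hst : s = Sum.inl t
        · subst hst
          simp
        · rw [if_neg (fun h => hst h.symm), if_neg hst, mul_zero]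
      · rw [hm', map_smul, Basis.repr_self, Finsupp.smul_apply, Finsupp.single_apply, smul_eq_mul]
        by_cases hst : s = Sum.inr t
        · subst hst
          simp
        · rw [if_neg (fun h => hst h.symm), if_neg hst, mul_zero]
    rw [h3, Matrix.det_diagonal, Fintype.prod_sum_type] at h1
    simp only [Sum.elim_inl, Sum.elim_inr, Finset.prod_const, Finset.card_univ,
      Fintype.card_fin] at h1
    exact h1
  have hbeven : Even b := by
    by_contra hb
    rw [Nat.not_even_iff_odd] at hb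
    apply hneg
    rw [← hab, pow_add]
    rw [Odd.neg_pow hb] at hdet
    linear_combination -hdet
  have haeven : Even a := by
    have h1 : Even (a + b) := by
      rw [hab]
      exact ⟨k, rfl⟩
    exact (Nat.even_add.mp h1).mpr hbeven
  obtain ⟨a', rfl⟩ := haeven
  obtain ⟨b', rfl⟩ := hbeven
  exact exists_conj_split_even hk0 f hf x lam hlam0 a' b' 𝔟 hp' hm'

end bad

end Cfsg.Agent.Lib.Helper99.SpInv
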