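import Mathlib
import Cfsg.Agent.Lib.Helper99.ExtInvB
import Cfsg.Agent.Lib.Helper99.SpInvC

/-!
# Field subalgebras of degree two: conjugating elements with scalar square into the normalizer
(helper99)
-/

set_option autoImplicit false
set_option linter.unusedSectionVars false

namespace Cfsg.Agent.Lib.Helper99.ExtInv

open Module Matrix Polynomial Cfsg.Geo Cfsg.Agent.Lib.Helper40 Cfsg.Agent.Lib.Helper99.SpInv

section constructions

variable {F : Type*} [Field F]

/-- Pairing up an eigenbasis whose two eigenspaces are even-dimensional. -/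
theorem exists_paired_basis {k : ℕ} (x : Matrix (Fin (k + k)) (Fin (k + k)) F) (lam : F)
    (a' b' : ℕ) (𝔟 : Basis (Fin (a' + a') ⊕ Fin (b' + b')) F (Fin (k + k) → F))
    (hp : ∀ i, x *ᵥ 𝔟 (Sum.inl i) = lam • 𝔟 (Sum.inl i))
    (hm : ∀ j, x *ᵥ 𝔟 (Sum.inr j) = (-lam) • 𝔟 (Sum.inr j)) :
    ∃ (ε : Fin k → F) (𝔟' : Basis (Fin k ⊕ Fin k) F (Fin (k + k) → F)),
      (∀ j, ε j * ε j = lam * lam) ∧ ∀ s, x *ᵥ 𝔟' s = (Sum.elim ε ε s) • 𝔟' s := by
  classical
  have hk : k = a' + b' := by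
    have h1 := Module.finrank_eq_card_basis 𝔟
    rw [Module.finrank_fintype_fun_eq_card, Fintype.card_fin, Fintype.card_sum, Fintype.card_fin,
      Fintype.card_fin] at h1
    omega
  subst hk
  set e' : Fin (a' + b') ⊕ Fin (a' + b') ≃ Fin (a' + a') ⊕ Fin (b' + b') :=
    (Equiv.sumCongr finSumFinEquiv.symm finSumFinEquiv.symm).trans
      ((Equiv.sumSumSumComm (Fin a') (Fin b') (Fin a') (Fin b')).trans
        (Equiv.sumCongr finSumFinEquiv finSumFinEquiv)) with he'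
  set 𝔟' : Basis (Fin (a' + b') ⊕ Fin (a' + b')) F (Fin (a' + b' + (a' + b')) → F) :=
    𝔟.reindex e'.symm with h𝔟'
  have h𝔟'app : ∀ s, 𝔟' s = 𝔟 (e' s) := by
    intro s
    rw [h𝔟', Basis.reindex_apply, Equiv.symm_symm]
  set ε : Fin (a' + b') → F :=
    fun j => Sum.elim (fun _ => lam) (fun _ => -lam) (finSumFinEquiv.symm j) with hε
  have hεl : ∀ t : Fin a', ε (finSumFinEquiv (Sum.inl t)) = lam := by
    intro t
    simp only [hε, Equiv.symm_apply_apply, Sum.elim_inl]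
  have hεr : ∀ t : Fin b', ε (finSumFinEquiv (Sum.inr t)) = -lam := by
    intro t
    simp only [hε, Equiv.symm_apply_apply, Sum.elim_inr]
  have hεε : ∀ j, ε j * ε j = lam * lam := by
    intro j
    obtain ⟨t, rfl⟩ := finSumFinEquiv.surjective j
    rcases t with t | t
    · rw [hεl]
    · rw [hεr, neg_mul_neg]
  have he1 : ∀ t : Fin a', e' (Sum.inl (finSumFinEquiv (Sum.inl t)))
      = Sum.inl (finSumFinEquiv (Sum.inl t)) := by
    intro t
    simp [he', Equiv.sumSumSumComm]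
  have he2 : ∀ t : Fin a', e' (Sum.inr (finSumFinEquiv (Sum.inl t)))
      = Sum.inl (finSumFinEquiv (Sum.inr t)) := by
    intro t
    simp [he', Equiv.sumSumSumComm]
  have he3 : ∀ t : Fin b', e' (Sum.inl (finSumFinEquiv (Sum.inr t)))
      = Sum.inr (finSumFinEquiv (Sum.inl t)) := by
    intro t
    simp [he', Equiv.sumSumSumComm]
  have he4 : ∀ t : Fin b', e' (Sum.inr (finSumFinEquiv (Sum.inr t)))
      = Sum.inr (finSumFinEquiv (Sum.inr t)) := by
    intro t
    simp [he', Equiv.sumSumSumComm]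
  refine ⟨ε, 𝔟', hεε, ?_⟩
  intro s
  rcases s with j | j
  · obtain ⟨t, rfl⟩ := finSumFinEquiv.surjective j
    rcases t with t | t
    · rw [h𝔟'app, he1, Sum.elim_inl, hεl]
      exact hp _
    · rw [h𝔟'app, he3, Sum.elim_inl, hεr]
      exact hm _
  · obtain ⟨t, rfl⟩ := finSumFinEquiv.surjective j
    rcases t with t | t
    · rw [h𝔟'app, he2, Sum.elim_inr, hεl]
      exact hp _
    · rw [h𝔟'app, he4, Sum.elim_inr, hεr]
      exact hm _

/-- Action of a matrix on the coordinate isomorphism of an eigenbasis. -/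
theorem mulVec_equivFun_symm {ι : Type*} [Fintype ι] [DecidableEq ι] {n : ℕ}
    (x : Matrix (Fin n) (Fin n) F) (𝔟 : Basis ι F (Fin n → F)) (y : ι → F)
    (hy : ∀ s, x *ᵥ 𝔟 s = y s • 𝔟 s) (a : ι → F) :
    x *ᵥ (𝔟.equivFun.symm a) = 𝔟.equivFun.symm (fun s => y s * a s) := by
  rw [Basis.equivFun_symm_apply, Basis.equivFun_symm_apply, ← Matrix.toLin'_apply, map_sum]
  apply Finset.sum_congr rfl
  intro s _
  rw [map_smul, Matrix.toLin'_apply, hy, smul_smul, mul_comm]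

variable {m : ℕ} {K : Subalgebra F (Matrix (Fin (m + m)) (Fin (m + m)) F)}
  {κ : Matrix (Fin (m + m)) (Fin (m + m)) F} {s d : F}

/-- Split elements with even-dimensional eigenspaces are conjugate into the centralizer of `K`. -/
theorem exists_conj_split_even_K (hm0 : 0 < m) (hκ : κ ∈ K)
    (hgen : ∀ a ∈ K, ∃ α β : F, a = α • (1 : Matrix (Fin (m + m)) (Fin (m + m)) F) + β • κ)
    (e : (Fin (m + m) → F) ≃ₗ[F] (Fin m ⊕ Fin m → F))
    (he : ∀ v, e (κ *ᵥ v) = kstd m s d *ᵥ e v)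
    (x : Matrix.SpecialLinearGroup (Fin (m + m)) F) (lam : F) (a' b' : ℕ)
    (𝔟 : Basis (Fin (a' + a') ⊕ Fin (b' + b')) F (Fin (m + m) → F))
    (hp : ∀ i, (x : Matrix (Fin (m + m)) (Fin (m + m)) F) *ᵥ 𝔟 (Sum.inl i) = lam • 𝔟 (Sum.inl i))
    (hm : ∀ j, (x : Matrix (Fin (m + m)) (Fin (m + m)) F) *ᵥ 𝔟 (Sum.inr j)
      = (-lam) • 𝔟 (Sum.inr j)) :
    ∃ P : Matrix.SpecialLinearGroup (Fin (m + m)) F, P⁻¹ * x * P ∈
      (subalgebraNormalizer K).comap (Matrix.SpecialLinearGroup.toGL :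
        Matrix.SpecialLinearGroup (Fin (m + m)) F →* GL (Fin (m + m)) F) := by
  classical
  obtain ⟨ε, 𝔟', hεε, hy⟩ := exists_paired_basis _ lam a' b' 𝔟 hp hm
  set Y : Matrix (Fin m ⊕ Fin m) (Fin m ⊕ Fin m) F :=
    dblk ε (fun _ => 0) (fun _ => 0) ε with hYdef
  have hYapp : ∀ a, Y *ᵥ a = fun s => Sum.elim ε ε s * a s := by
    intro a
    funext s
    rcases s with j | j
    · rw [hYdef, dblk_mulVec_inl, zero_mul, add_zero, Sum.elim_inl]
    · rw [hYdef, dblk_mulVec_inr, zero_mul, zero_add, Sum.elim_inr]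
  have hθ : ∀ a, (x : Matrix (Fin (m + m)) (Fin (m + m)) F) *ᵥ (𝔟'.equivFun.symm a)
      = 𝔟'.equivFun.symm (Y *ᵥ a) := by
    intro a
    rw [hYapp]
    exact mulVec_equivFun_symm _ 𝔟' _ hy a
  have hYk : Y * kstd m s d = kstd m s d * Y := by
    unfold kstd
    rw [hYdef, dblk_mul, dblk_mul]
    congr 1 <;>
    · funext j
      ring
  have hcent : ∀ δ : F, δ ≠ 0 → ∃ h : Matrix (Fin m ⊕ Fin m) (Fin m ⊕ Fin m) F,
      h * Y = Y * h ∧ h.det = δ := by
    intro δ _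
    refine ⟨dblk (fun j => if j = ⟨0, hm0⟩ then δ else 1) (fun _ => 0) (fun _ => 0)
      (fun _ => 1), ?_, ?_⟩
    · rw [hYdef, dblk_mul, dblk_mul]
      congr 1 <;>
      · funext j
        ring
    · rw [det_dblk]
      simp only [mul_one, mul_zero, sub_zero]
      rw [Finset.prod_ite_eq']
      simp
  exact exists_sl_conj_of_std_K hκ hgen e he x Y (Or.inl hYk) 𝔟'.equivFun.symm hθ hcent

/-- The standard semilinear involution. -/
def sigmaStd (m : ℕ) (s : F) : Matrix (Fin m ⊕ Fin m) (Fin m ⊕ Fin m) F :=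
  dblk (fun _ => 1) (fun _ => s) (fun _ => 0) (fun _ => -1)

theorem sigmaStd_kstd (m : ℕ) (s d : F) :
    sigmaStd m s * kstd m s d
      = (s • (1 : Matrix (Fin m ⊕ Fin m) (Fin m ⊕ Fin m) F) - kstd m s d) * sigmaStd m s := by
  unfold sigmaStd kstd
  rw [dblk_one, dblk_smul, dblk_sub, dblk_mul, dblk_mul]
  congr 1 <;>
  · funext j
    ring

theorem smul_sigmaStd_kstd (m : ℕ) (s d lam : F) :
    (lam • sigmaStd m s) * kstd m s d
      = (s • (1 : Matrix (Fin m ⊕ Fin m) (Fin m ⊕ Fin m) F) - kstd m s d)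
        * (lam • sigmaStd m s) := by
  rw [smul_mul_assoc, sigmaStd_kstd, mul_smul_comm]

/-- Split elements whose two eigenspaces have the same dimension are conjugate into the
normalizer of `K`. -/
theorem exists_conj_split_eq_K (hm0 : 0 < m) (h2 : (2 : F) ≠ 0) (hκ : κ ∈ K)
    (hgen : ∀ a ∈ K, ∃ α β : F, a = α • (1 : Matrix (Fin (m + m)) (Fin (m + m)) F) + β • κ)
    (e : (Fin (m + m) → F) ≃ₗ[F] (Fin m ⊕ Fin m → F))
    (he : ∀ v, e (κ *ᵥ v) = kstd m s d *ᵥ e v)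
    (x : Matrix.SpecialLinearGroup (Fin (m + m)) F) (lam : F)
    (𝔟 : Basis (Fin m ⊕ Fin m) F (Fin (m + m) → F))
    (hp : ∀ i, (x : Matrix (Fin (m + m)) (Fin (m + m)) F) *ᵥ 𝔟 (Sum.inl i) = lam • 𝔟 (Sum.inl i))
    (hm : ∀ j, (x : Matrix (Fin (m + m)) (Fin (m + m)) F) *ᵥ 𝔟 (Sum.inr j)
      = (-lam) • 𝔟 (Sum.inr j)) :
    ∃ P : Matrix.SpecialLinearGroup (Fin (m + m)) F, P⁻¹ * x * P ∈
      (subalgebraNormalizer K).comap (Matrix.SpecialLinearGroup.toGL :
        Matrix.SpecialLinearGroup (Fin (m + m)) F →* GL (Fin (m + m)) F) := by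
  classical
  set T : Matrix (Fin m ⊕ Fin m) (Fin m ⊕ Fin m) F :=
    dblk (fun _ => 1) (fun _ => s / 2) (fun _ => 0) (fun _ => -1) with hT
  set D' : Matrix (Fin m ⊕ Fin m) (Fin m ⊕ Fin m) F :=
    dblk (fun _ => lam) (fun _ => 0) (fun _ => 0) (fun _ => -lam) with hD'
  set Y : Matrix (Fin m ⊕ Fin m) (Fin m ⊕ Fin m) F := lam • sigmaStd m s with hYdef
  have hTT : T * T = 1 := by
    rw [hT, dblk_mul, dblk_one]
    congr 1 <;>
    · funext j
      ring
  have hDT : D' * T = T * Y := by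
    rw [hYdef, hD', hT, sigmaStd, dblk_smul, dblk_mul, dblk_mul]
    congr 1 <;>
    · funext j
      field_simp
      try ring
  have hlin : Matrix.toLin' T ∘ₗ Matrix.toLin' T = LinearMap.id := by
    rw [← Matrix.toLin'_mul, hTT, Matrix.toLin'_one]
  set Te : (Fin m ⊕ Fin m → F) ≃ₗ[F] (Fin m ⊕ Fin m → F) :=
    LinearEquiv.ofLinear (Matrix.toLin' T) (Matrix.toLin' T) hlin hlin with hTe
  have hTeapp : ∀ a, Te a = T *ᵥ a := by
    intro a
    rw [hTe, LinearEquiv.ofLinear_apply, Matrix.toLin'_apply]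
  have hy : ∀ t, (x : Matrix (Fin (m + m)) (Fin (m + m)) F) *ᵥ 𝔟 t
      = (Sum.elim (fun _ => lam) (fun _ => -lam) t) • 𝔟 t := by
    intro t
    rcases t with i | j
    · exact hp i
    · exact hm j
  have hD'app : ∀ a, D' *ᵥ a = fun t => Sum.elim (fun _ => lam) (fun _ => -lam) t * a t := by
    intro a
    funext t
    rcases t with j | j
    · rw [hD', dblk_mulVec_inl, zero_mul, add_zero, Sum.elim_inl]
    · rw [hD', dblk_mulVec_inr, zero_mul, zero_add, Sum.elim_inr]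
  have hθ : ∀ a, (x : Matrix (Fin (m + m)) (Fin (m + m)) F) *ᵥ ((Te.trans 𝔟.equivFun.symm) a)
      = (Te.trans 𝔟.equivFun.symm) (Y *ᵥ a) := by
    intro a
    rw [LinearEquiv.trans_apply, LinearEquiv.trans_apply, hTeapp, hTeapp,
      mulVec_equivFun_symm _ 𝔟 _ hy, ← hD'app, Matrix.mulVec_mulVec, Matrix.mulVec_mulVec, hDT]
  have hcent : ∀ δ : F, δ ≠ 0 → ∃ h : Matrix (Fin m ⊕ Fin m) (Fin m ⊕ Fin m) F,
      h * Y = Y * h ∧ h.det = δ := by
    intro δ _
    refine ⟨dblk (fun j => if j = ⟨0, hm0⟩ then δ else 1)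
      (fun j => s * ((if j = ⟨0, hm0⟩ then δ else 1) - 1) / 2) (fun _ => 0) (fun _ => 1), ?_, ?_⟩
    · rw [hYdef, sigmaStd, dblk_smul, dblk_mul, dblk_mul]
      congr 1 <;>
      · funext j
        field_simp
        try ring
    · rw [det_dblk]
      simp only [mul_one, mul_zero, sub_zero]
      rw [Finset.prod_ite_eq']
      simp
  exact exists_sl_conj_of_std_K hκ hgen e he x Y (Or.inr (smul_sigmaStd_kstd m s d lam))
    (Te.trans 𝔟.equivFun.symm) hθ hcent

/-- Non-split elements are conjugate into the centralizer of `K`. -/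
theorem exists_conj_nonsplit_K (hm0 : 0 < m) [Fintype F] (hodd : Fintype.card F % 2 = 1)
    (h2 : (2 : F) ≠ 0) (hκ : κ ∈ K)
    (hgen : ∀ a ∈ K, ∃ α β : F, a = α • (1 : Matrix (Fin (m + m)) (Fin (m + m)) F) + β • κ)
    (hroot : ∀ t : F, t * t - s * t + d ≠ 0)
    (e : (Fin (m + m) → F) ≃ₗ[F] (Fin m ⊕ Fin m → F))
    (he : ∀ v, e (κ *ᵥ v) = kstd m s d *ᵥ e v)
    (x : Matrix.SpecialLinearGroup (Fin (m + m)) F) (z : F) (hz0 : z ≠ 0)
    (hz : ∀ μ : F, μ ^ 2 ≠ z)
    (hx : (x : Matrix (Fin (m + m)) (Fin (m + m)) F) * (x : Matrix (Fin (m + m)) (Fin (m + m)) F)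
      = z • (1 : Matrix (Fin (m + m)) (Fin (m + m)) F)) :
    ∃ P : Matrix.SpecialLinearGroup (Fin (m + m)) F, P⁻¹ * x * P ∈
      (subalgebraNormalizer K).comap (Matrix.SpecialLinearGroup.toGL :
        Matrix.SpecialLinearGroup (Fin (m + m)) F →* GL (Fin (m + m)) F) := by
  classical
  have hF2 : ringChar F ≠ 2 := by
    intro h
    have h1 := FiniteField.even_card_of_char_two h
    omega
  have h4 : (4 : F) ≠ 0 := by
    have h5 : (4 : F) = 2 * 2 := by norm_num
    rw [h5]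
    exact mul_ne_zero h2 h2
  have hΔ : ¬ IsSquare (s * s - 4 * d) := by
    rintro ⟨r, hr⟩
    apply hroot ((s + r) / 2)
    have h5 : (s + r) / 2 * ((s + r) / 2) - s * ((s + r) / 2) + d
        = (r * r - (s * s - 4 * d)) / 4 := by
      field_simp
      ring
    rw [h5, ← hr, sub_self, zero_div]
  have hΔ0 : s * s - 4 * d ≠ 0 := by
    intro h
    apply hΔ
    rw [h]
    exact ⟨0, by ring⟩
  have hzsq : ¬ IsSquare z := by
    rintro ⟨r, hr⟩
    exact hz r (by rw [hr, pow_two])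
  obtain ⟨w, hw⟩ := Cfsg.Agent.Lib.Helper99.SubUnip.isSquare_mul_inv_of_not hF2 hzsq hΔ
  have hwΔ : w * w * (s * s - 4 * d) = z := by
    rw [← hw, mul_assoc, inv_mul_cancel₀ hΔ0, mul_one]
  set Y : Matrix (Fin m ⊕ Fin m) (Fin m ⊕ Fin m) F :=
    dblk (fun _ => -(s * w)) (fun _ => -d * (2 * w)) (fun _ => 2 * w)
      (fun _ => -(s * w) + s * (2 * w)) with hYdef
  have hYY : Y * Y = z • (1 : Matrix (Fin m ⊕ Fin m) (Fin m ⊕ Fin m) F) := by
    rw [hYdef, dblk_mul, dblk_one, dblk_smul]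
    congr 1
    · funext j
      linear_combination hwΔ
    · funext j
      ring
    · funext j
      ring
    · funext j
      linear_combination hwΔ
  have hYk : Y * kstd m s d = kstd m s d * Y := by
    unfold kstd
    rw [hYdef, dblk_mul, dblk_mul]
    congr 1 <;>
    · funext j
      ring
  have hirr : Irreducible (X ^ 2 - C z : F[X]) :=
    X_pow_sub_C_irreducible_of_prime Nat.prime_two hz
  have h2' : ((2 : ℕ) : F) ≠ 0 := by rw [Nat.cast_ofNat]; exact h2
  have hxx : (x : Matrix (Fin (m + m)) (Fin (m + m)) F) ^ 2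
      = z • (1 : Matrix (Fin (m + m)) (Fin (m + m)) F) := by
    rw [pow_two]
    exact hx
  have hch1 : (x : Matrix (Fin (m + m)) (Fin (m + m)) F).charpoly = (X ^ 2 - C z) ^ m :=
    charpoly_of_pow_eq_smul _ 2 Nat.prime_two h2' z hz0 hirr hxx m (by ring)
  have hch2 : Y.charpoly = (X ^ 2 - C z) ^ m := by
    rw [← Matrix.charpoly_reindex finSumFinEquiv Y]
    apply charpoly_of_pow_eq_smul _ 2 Nat.prime_two h2' z hz0 hirr _ m (by ring)
    rw [pow_two, Matrix.reindex_apply, Matrix.submatrix_mul_equiv, hYY]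
    ext i j
    simp [Matrix.one_apply]
  obtain ⟨e', he'⟩ := exists_equiv_of_charpoly_eq
    (Matrix.toLin' (x : Matrix (Fin (m + m)) (Fin (m + m)) F)) (Matrix.toLin' Y)
    (isSemisimple_of_sq _ h2 z hz0 hx) (isSemisimple_of_sq _ h2 z hz0 hYY)
    (by rw [Matrix.charpoly_toLin', Matrix.charpoly_toLin', hch1, hch2])
  have hθ : ∀ a, (x : Matrix (Fin (m + m)) (Fin (m + m)) F) *ᵥ (e'.symm a)
      = e'.symm (Y *ᵥ a) := by
    intro a
    apply e'.injective
    rw [LinearEquiv.apply_symm_apply]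
    have h1 := he' (e'.symm a)
    rw [LinearEquiv.apply_symm_apply, Matrix.toLin'_apply, Matrix.toLin'_apply] at h1
    exact h1
  have hcent : ∀ δ : F, δ ≠ 0 → ∃ h : Matrix (Fin m ⊕ Fin m) (Fin m ⊕ Fin m) F,
      h * Y = Y * h ∧ h.det = δ := by
    intro δ hδ
    have hΔ4 : ∀ μ : F, μ ^ 2 ≠ (s * s - 4 * d) / 4 := by
      intro μ hμ
      apply hΔ
      refine ⟨2 * μ, ?_⟩
      have h5 : s * s - 4 * d = 4 * μ ^ 2 := by
        rw [hμ]
        field_simp
      rw [h5]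
      ring
    obtain ⟨α', β', -, hαβ⟩ := exists_norm_rep hodd h2 ((s * s - 4 * d) / 4)
      (div_ne_zero hΔ0 h4) hΔ4 δ hδ
    obtain ⟨a₀, ha₀⟩ : ∃ a₀ : F, a₀ = α' - s * β' / 2 := ⟨_, rfl⟩
    have hN : a₀ * (a₀ + s * β') + d * β' * β' = δ := by
      rw [← hαβ, ha₀]
      field_simp
      ring
    set p : Fin m → F := fun j => if j = ⟨0, hm0⟩ then a₀ else 1 with hp
    set q : Fin m → F := fun j => if j = ⟨0, hm0⟩ then β' else 0 with hq
    refine ⟨dblk p (fun j => -d * q j) q (fun j => p j + s * q j), ?_, ?_⟩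
    · rw [hYdef, dblk_mul, dblk_mul]
      congr 1 <;>
      · funext j
        ring
    · rw [det_dblk]
      have h3 : ∀ j : Fin m, p j * (p j + s * q j) - -d * q j * q j
          = if j = ⟨0, hm0⟩ then δ else 1 := by
        intro j
        simp only [hp, hq]
        split_ifs
        · rw [← hN]
          ring
        · ring
      rw [Finset.prod_congr rfl (fun j _ => h3 j), Finset.prod_ite_eq']
      simp
  exact exists_sl_conj_of_std_K hκ hgen e he x Y (Or.inl hYk) e'.symm hθ hcent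

end constructions

end Cfsg.Agent.Lib.Helper99.ExtInv
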