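import Mathlib
import Cfsg.Agent.Lib.Helper99.ExtInvC

/-!
# Field subalgebras of degree two: characteristic two, split elements, bad elements (helper99)
-/

set_option autoImplicit false
set_option linter.unusedSectionVars false

namespace Cfsg.Agent.Lib.Helper99.ExtInv

open Module Matrix Polynomial Cfsg.Geo Cfsg.Agent.Lib.Helper40 Cfsg.Agent.Lib.Helper99.SpInv

section chartwo

variable {F : Type*} [Field F] [Fintype F] [CharP F 2]
variable {m : ℕ} {K : Subalgebra F (Matrix (Fin (m + m)) (Fin (m + m)) F)}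
  {κ : Matrix (Fin (m + m)) (Fin (m + m)) F} {s d : F}

/-- In characteristic two, `lam • (1 + N)` with `N ^ 2 = 0` of rank `m` is conjugate into the
normalizer of `K`. -/
theorem exists_conj_char_two_K (hm0 : 0 < m) (hκ : κ ∈ K)
    (hgen : ∀ a ∈ K, ∃ α β : F, a = α • (1 : Matrix (Fin (m + m)) (Fin (m + m)) F) + β • κ)
    (hroot : ∀ t : F, t * t - s * t + d ≠ 0)
    (e : (Fin (m + m) → F) ≃ₗ[F] (Fin m ⊕ Fin m → F))
    (he : ∀ v, e (κ *ᵥ v) = kstd m s d *ᵥ e v)
    (x : Matrix.SpecialLinearGroup (Fin (m + m)) F) (lam : F)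
    (N : Matrix (Fin (m + m)) (Fin (m + m)) F)
    (hx : (x : Matrix (Fin (m + m)) (Fin (m + m)) F) = lam • (1 + N)) (hNN : N * N = 0)
    (hrankN : finrank F (LinearMap.range (Matrix.toLin' N)) = m) :
    ∃ P : Matrix.SpecialLinearGroup (Fin (m + m)) F, P⁻¹ * x * P ∈
      (subalgebraNormalizer K).comap (Matrix.SpecialLinearGroup.toGL :
        Matrix.SpecialLinearGroup (Fin (m + m)) F →* GL (Fin (m + m)) F) := by
  classical
  have hs0 : s ≠ 0 := by
    intro hs
    obtain ⟨t, ht⟩ := Cfsg.Agent.Lib.Helper99.SubInv.exists_sqrt_char_two d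
    apply hroot t
    rw [hs, zero_mul, sub_zero, ← pow_two, ht]
    exact CharTwo.add_self_eq_zero d
  set NY : Matrix (Fin m ⊕ Fin m) (Fin m ⊕ Fin m) F :=
    dblk (fun _ => 0) (fun _ => s) (fun _ => 0) (fun _ => 0) with hNYdef
  have hσ : sigmaStd m s = 1 + NY := by
    rw [hNYdef, dblk_one, dblk_add]
    unfold sigmaStd
    congr 1
    · funext j
      show (1 : F) = 1 + 0
      rw [add_zero]
    · funext j
      show s = 0 + s
      rw [zero_add]
    · funext j
      show (0 : F) = 0 + 0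
      rw [add_zero]
    · funext j
      show (-1 : F) = 1 + 0
      rw [add_zero, CharTwo.neg_eq]
  have hNYNY : NY * NY = 0 := by
    rw [hNYdef, dblk_mul]
    unfold dblk
    simp
  set φ : Module.End F (Fin (m + m) → F) := Matrix.toLin' N with hφ
  set ψ : Module.End F (Fin m ⊕ Fin m → F) := Matrix.toLin' NY with hψ
  have hφ2 : φ ^ 2 = 0 := by
    rw [pow_two, hφ, Module.End.mul_eq_comp, ← Matrix.toLin'_mul, hNN, map_zero]
  have hψ2 : ψ ^ 2 = 0 := by
    rw [pow_two, hψ, Module.End.mul_eq_comp, ← Matrix.toLin'_mul, hNYNY, map_zero]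
  have hfV : finrank F (Fin (m + m) → F) = m + m := by
    rw [Module.finrank_fintype_fun_eq_card, Fintype.card_fin]
  have hfV' : finrank F (Fin m ⊕ Fin m → F) = m + m := by
    rw [Module.finrank_fintype_fun_eq_card, Fintype.card_sum, Fintype.card_fin]
  have hrn : finrank F (LinearMap.range φ) + finrank F (LinearMap.ker φ)
      = finrank F (Fin (m + m) → F) := LinearMap.finrank_range_add_finrank_ker φ
  rw [hfV, hrankN] at hrn
  have hrankY : finrank F (LinearMap.range ψ) = m := by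
    have h2 : NY.submatrix (Equiv.refl (Fin m ⊕ Fin m)) (Equiv.sumComm (Fin m) (Fin m))
        = Matrix.diagonal (Sum.elim (fun _ => s) (fun _ => 0)) := by
      ext i j
      rcases i with i | i <;> rcases j with j | j <;>
        simp [hNYdef, dblk, Matrix.diagonal_apply]
    have h3 : NY.rank = m := by
      rw [← Matrix.rank_submatrix NY (Equiv.refl (Fin m ⊕ Fin m))
        (Equiv.sumComm (Fin m) (Fin m)), h2, Matrix.rank_diagonal, Fintype.card_subtype]
      have h6 : ((Finset.univ : Finset (Fin m)).map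
          ⟨Sum.inl, Sum.inl_injective⟩ : Finset (Fin m ⊕ Fin m)).card = m := by
        rw [Finset.card_map, Finset.card_univ, Fintype.card_fin]
      refine Eq.trans ?_ h6
      congr 1
      ext t
      rcases t with j | j
      · simp [hs0]
      · simp
    have h4 : finrank F (LinearMap.range ψ) = NY.rank := rfl
    rw [h4, h3]
  have hkd : ∀ j, kd φ j = kd ψ j := by
    intro j
    rcases j with _ | _ | j
    · unfold kd
      rw [pow_zero, pow_zero]
      have e1 : LinearMap.ker (1 : Module.End F (Fin (m + m) → F)) = ⊥ := LinearMap.ker_id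
      have e2 : LinearMap.ker (1 : Module.End F (Fin m ⊕ Fin m → F)) = ⊥ := LinearMap.ker_id
      rw [e1, e2, finrank_bot, finrank_bot]
    · unfold kd
      have h2 : finrank F (LinearMap.range ψ) + finrank F (LinearMap.ker ψ)
          = finrank F (Fin m ⊕ Fin m → F) := LinearMap.finrank_range_add_finrank_ker ψ
      rw [hfV', hrankY] at h2
      rw [zero_add, pow_one, pow_one]
      omega
    · have h1 : φ ^ (j + 1 + 1) = 0 := by
        rw [pow_succ, pow_succ, mul_assoc, ← pow_two, hφ2, mul_zero]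
      have h2 : ψ ^ (j + 1 + 1) = 0 := by
        rw [pow_succ, pow_succ, mul_assoc, ← pow_two, hψ2, mul_zero]
      rw [(kd_eq_finrank_iff φ _).mpr h1, (kd_eq_finrank_iff ψ _).mpr h2, hfV, hfV']
  obtain ⟨Ψ, hΨ⟩ := exists_equiv_of_kd_eq (m + m) φ ψ hfV ⟨2, hφ2⟩ ⟨2, hψ2⟩ hkd
  set Y : Matrix (Fin m ⊕ Fin m) (Fin m ⊕ Fin m) F := lam • sigmaStd m s with hYdef
  have hYapp : ∀ v, Y *ᵥ v = lam • (v + NY *ᵥ v) := by
    intro v
    rw [hYdef, hσ, Matrix.smul_mulVec, Matrix.add_mulVec, Matrix.one_mulVec]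
  have hNΨ : ∀ a, N *ᵥ (Ψ.symm a) = Ψ.symm (NY *ᵥ a) := by
    intro a
    apply Ψ.injective
    rw [LinearEquiv.apply_symm_apply]
    have h1 := hΨ (Ψ.symm a)
    rw [LinearEquiv.apply_symm_apply, hφ, hψ, Matrix.toLin'_apply, Matrix.toLin'_apply] at h1
    exact h1
  have hθ : ∀ a, (x : Matrix (Fin (m + m)) (Fin (m + m)) F) *ᵥ (Ψ.symm a)
      = Ψ.symm (Y *ᵥ a) := by
    intro a
    rw [hYapp, map_smul, map_add, ← hNΨ, hx, Matrix.smul_mulVec, Matrix.add_mulVec,
      Matrix.one_mulVec]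
  have hcent : ∀ δ : F, δ ≠ 0 → ∃ h : Matrix (Fin m ⊕ Fin m) (Fin m ⊕ Fin m) F,
      h * Y = Y * h ∧ h.det = δ := by
    intro δ _
    obtain ⟨α, hα⟩ := Cfsg.Agent.Lib.Helper99.SubInv.exists_sqrt_char_two δ
    set u : Fin m → F := fun j => if j = ⟨0, hm0⟩ then α else 1 with hu
    refine ⟨dblk u (fun _ => 0) (fun _ => 0) u, ?_, ?_⟩
    · rw [hYdef, sigmaStd, dblk_smul, dblk_mul, dblk_mul]
      congr 1 <;>
      · funext j
        ring
    · rw [det_dblk]
      have h3 : ∀ j : Fin m, u j * u j - 0 * 0 = if j = ⟨0, hm0⟩ then δ else 1 := by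
        intro j
        simp only [hu]
        split_ifs
        · rw [← hα]
          ring
        · ring
      rw [Finset.prod_congr rfl (fun j _ => h3 j), Finset.prod_ite_eq']
      simp
  exact exists_sl_conj_of_std_K hκ hgen e he x Y (Or.inr (smul_sigmaStd_kstd m s d lam))
    Ψ.symm hθ hcent

/-- In characteristic two and dimension two, every non-scalar element with scalar square is
conjugate into the normalizer of `K`. -/
theorem exists_conj_char_two_K' (hm1 : m = 1) (hκ : κ ∈ K)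
    (hgen : ∀ a ∈ K, ∃ α β : F, a = α • (1 : Matrix (Fin (m + m)) (Fin (m + m)) F) + β • κ)
    (hroot : ∀ t : F, t * t - s * t + d ≠ 0)
    (e : (Fin (m + m) → F) ≃ₗ[F] (Fin m ⊕ Fin m → F))
    (he : ∀ v, e (κ *ᵥ v) = kstd m s d *ᵥ e v)
    (x : Matrix.SpecialLinearGroup (Fin (m + m)) F) (z : F)
    (hz : ((x ^ 2 : Matrix.SpecialLinearGroup (Fin (m + m)) F) :
      Matrix (Fin (m + m)) (Fin (m + m)) F) = z • (1 : Matrix (Fin (m + m)) (Fin (m + m)) F))
    (hns : ∀ c : F, (x : Matrix (Fin (m + m)) (Fin (m + m)) F)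
      ≠ c • (1 : Matrix (Fin (m + m)) (Fin (m + m)) F)) :
    ∃ P : Matrix.SpecialLinearGroup (Fin (m + m)) F, P⁻¹ * x * P ∈
      (subalgebraNormalizer K).comap (Matrix.SpecialLinearGroup.toGL :
        Matrix.SpecialLinearGroup (Fin (m + m)) F →* GL (Fin (m + m)) F) := by
  classical
  have hm0 : 0 < m := by omega
  have hn : 0 < m + m := by omega
  have hne : Nonempty (Fin (m + m)) := ⟨⟨0, hn⟩⟩
  have hz0 : z ≠ 0 := Cfsg.Agent.Lib.Helper99.PrimeOrd.scalar_ne_zero hn (x ^ 2) z hz
  obtain ⟨lam, hlam⟩ := Cfsg.Agent.Lib.Helper99.SubInv.exists_sqrt_char_two z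
  have hlam0 : lam ≠ 0 := by
    rintro rfl
    rw [zero_pow (by norm_num)] at hlam
    exact hz0 hlam.symm
  set u : Matrix (Fin (m + m)) (Fin (m + m)) F :=
    lam⁻¹ • (x : Matrix (Fin (m + m)) (Fin (m + m)) F) with hu
  have hxu : (x : Matrix (Fin (m + m)) (Fin (m + m)) F) = lam • u := by
    rw [hu, smul_smul, mul_inv_cancel₀ hlam0, one_smul]
  have hu2 : u ^ 2 = 1 := by
    rw [hu, _root_.smul_pow, ← Matrix.SpecialLinearGroup.coe_pow, hz, smul_smul, inv_pow, hlam,
      inv_mul_cancel₀ hz0, one_smul]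
  set N : Matrix (Fin (m + m)) (Fin (m + m)) F := u - 1 with hN
  have hN2 : N ^ 2 = 0 := by
    rw [hN, sub_pow_char_of_commute 2 (Commute.one_right u), hu2, one_pow, sub_self]
  have hNN : N * N = 0 := by
    rw [← pow_two]
    exact hN2
  have hu1 : u = 1 + N := by
    rw [hN]
    abel
  have hxN : (x : Matrix (Fin (m + m)) (Fin (m + m)) F) = lam • (1 + N) := by
    rw [← hu1]
    exact hxu
  have hN0 : N ≠ 0 := by
    intro h
    apply hns lam
    rw [hxN, h, add_zero]
  set φ : Module.End F (Fin (m + m) → F) := Matrix.toLin' N with hφ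
  have hφ2 : φ ^ 2 = 0 := by
    rw [pow_two, hφ, Module.End.mul_eq_comp, ← Matrix.toLin'_mul, hNN, map_zero]
  have hfV : finrank F (Fin (m + m) → F) = m + m := by
    rw [Module.finrank_fintype_fun_eq_card, Fintype.card_fin]
  have hle : LinearMap.range φ ≤ LinearMap.ker φ := by
    rintro _ ⟨v, rfl⟩
    rw [LinearMap.mem_ker, ← Module.End.mul_apply, ← pow_two, hφ2, LinearMap.zero_apply]
  have hrn : finrank F (LinearMap.range φ) + finrank F (LinearMap.ker φ)
      = finrank F (Fin (m + m) → F) := LinearMap.finrank_range_add_finrank_ker φ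
  rw [hfV] at hrn
  have hφ0 : φ ≠ 0 := by
    intro h
    apply hN0
    apply Matrix.toLin'.injective
    rw [map_zero]
    exact h
  have hrank : finrank F (LinearMap.range φ) = m := by
    have h1 : finrank F (LinearMap.range φ) ≤ finrank F (LinearMap.ker φ) :=
      Submodule.finrank_mono hle
    have h3 : finrank F (LinearMap.range φ) ≠ 0 := by
      intro h0
      apply hφ0
      rw [← LinearMap.range_eq_bot]
      exact Submodule.finrank_eq_zero.mp h0
    omega
  exact exists_conj_char_two_K hm0 hκ hgen hroot e he x lam N hxN hNN hrank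

end chartwo

section split

variable {F : Type*} [Field F]
variable {m : ℕ} {K : Subalgebra F (Matrix (Fin (m + m)) (Fin (m + m)) F)}
  {κ : Matrix (Fin (m + m)) (Fin (m + m)) F} {s d : F}

/-- Split elements are conjugate into the normalizer of `K` when `-1` is not an `n`-th power, or
in dimension two. -/
theorem exists_conj_split_K (hm0 : 0 < m) (h2 : (2 : F) ≠ 0) (hκ : κ ∈ K)
    (hgen : ∀ a ∈ K, ∃ α β : F, a = α • (1 : Matrix (Fin (m + m)) (Fin (m + m)) F) + β • κ)
    (e : (Fin (m + m) → F) ≃ₗ[F] (Fin m ⊕ Fin m → F))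
    (he : ∀ v, e (κ *ᵥ v) = kstd m s d *ᵥ e v)
    (x : Matrix.SpecialLinearGroup (Fin (m + m)) F) (lam : F) (hlam0 : lam ≠ 0)
    (hx : (x : Matrix (Fin (m + m)) (Fin (m + m)) F) * (x : Matrix (Fin (m + m)) (Fin (m + m)) F)
      = (lam * lam) • (1 : Matrix (Fin (m + m)) (Fin (m + m)) F))
    (hneg : lam ^ (m + m) ≠ -1 ∨ m = 1) :
    ∃ P : Matrix.SpecialLinearGroup (Fin (m + m)) F, P⁻¹ * x * P ∈
      (subalgebraNormalizer K).comap (Matrix.SpecialLinearGroup.toGL :
        Matrix.SpecialLinearGroup (Fin (m + m)) F →* GL (Fin (m + m)) F) := by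
  classical
  set u : Matrix (Fin (m + m)) (Fin (m + m)) F :=
    lam⁻¹ • (x : Matrix (Fin (m + m)) (Fin (m + m)) F) with hu
  have hxu : (x : Matrix (Fin (m + m)) (Fin (m + m)) F) = lam • u := by
    rw [hu, smul_smul, mul_inv_cancel₀ hlam0, one_smul]
  have huu : u * u = 1 := by
    rw [hu, smul_mul_smul_comm, hx, smul_smul]
    have h3 : lam⁻¹ * lam⁻¹ * (lam * lam) = 1 := by field_simp
    rw [h3, one_smul]
  obtain ⟨a, b, 𝔟, hp, hmn⟩ := exists_eigen_sum h2 u huu
  have hp' : ∀ i, (x : Matrix (Fin (m + m)) (Fin (m + m)) F) *ᵥ 𝔟 (Sum.inl i)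
      = lam • 𝔟 (Sum.inl i) := by
    intro i
    rw [hxu, Matrix.smul_mulVec, hp]
  have hm' : ∀ j, (x : Matrix (Fin (m + m)) (Fin (m + m)) F) *ᵥ 𝔟 (Sum.inr j)
      = (-lam) • 𝔟 (Sum.inr j) := by
    intro j
    rw [hxu, Matrix.smul_mulVec, hmn, smul_neg, neg_smul]
  have hab : a + b = m + m := by
    have h1 := Module.finrank_eq_card_basis 𝔟
    rw [Module.finrank_fintype_fun_eq_card, Fintype.card_fin, Fintype.card_sum, Fintype.card_fin,
      Fintype.card_fin] at h1
    omega
  have hdet : lam ^ a * (-lam) ^ b = 1 := by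
    have h1 := LinearMap.det_toMatrix 𝔟
      (Matrix.toLin' (x : Matrix (Fin (m + m)) (Fin (m + m)) F))
    rw [LinearMap.det_toLin', x.det_coe] at h1
    have h3 : LinearMap.toMatrix 𝔟 𝔟 (Matrix.toLin' (x : Matrix (Fin (m + m)) (Fin (m + m)) F))
        = Matrix.diagonal (Sum.elim (fun _ => lam) (fun _ => -lam)) := by
      ext s t
      rw [LinearMap.toMatrix_apply, Matrix.toLin'_apply, Matrix.diagonal_apply]
      rcases t with t | t
      · rw [hp', map_smul, Basis.repr_self, Finsupp.smul_apply, Finsupp.single_apply, smul_eq_mul]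
        by_cases hst : s = Sum.inl t
        · subst hst
          simp
        · rw [if_neg (fun h => hst h.symm), if_neg hst, mul_zero]
      · rw [hm', map_smul, Basis.repr_self, Finsupp.smul_apply, Finsupp.single_apply, smul_eq_mul]
        by_cases hst : s = Sum.inr t
        · subst hst
          simp
        · rw [if_neg (fun h => hst h.symm), if_neg hst, mul_zero]
    rw [h3, Matrix.det_diagonal, Fintype.prod_sum_type] at h1
    simp only [Sum.elim_inl, Sum.elim_inr, Finset.prod_const, Finset.card_univ,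
      Fintype.card_fin] at h1
    exact h1
  by_cases hbe : Even b
  · have hae : Even a := by
      have h1 : Even (a + b) := by
        rw [hab]
        exact ⟨m, rfl⟩
      exact (Nat.even_add.mp h1).mpr hbe
    obtain ⟨a', rfl⟩ := hae
    obtain ⟨b', rfl⟩ := hbe
    exact exists_conj_split_even_K hm0 hκ hgen e he x lam a' b' 𝔟 hp' hm'
  · rw [Nat.not_even_iff_odd] at hbe
    have hpow : lam ^ (m + m) = -1 := by
      rw [← hab, pow_add]
      rw [Odd.neg_pow hbe] at hdet
      linear_combination -hdet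
    have hm1 : m = 1 := by
      rcases hneg with h | h
      · exact absurd hpow h
      · exact h
    subst hm1
    obtain ⟨b', hb'⟩ := hbe
    have ha1 : a = 1 := by omega
    have hb1 : b = 1 := by omega
    subst ha1
    subst hb1
    exact exists_conj_split_eq_K hm0 h2 hκ hgen e he x lam 𝔟 hp' hm'

end split

section bad

variable {F : Type*} [Field F]

theorem rank_single_one {ι : Type*} [Fintype ι] [DecidableEq ι] (i j : ι) :
    (Matrix.single i j (1 : F)).rank = 1 := by
  have h1 : LinearMap.range (Matrix.single i j (1 : F)).mulVecLin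
      = Submodule.span F {(Pi.single i 1 : ι → F)} := by
    apply le_antisymm
    · rintro _ ⟨v, rfl⟩
      rw [Matrix.mulVecLin_apply, Matrix.single_mulVec_eq]
      exact Submodule.smul_mem _ _ (Submodule.subset_span rfl)
    · rw [Submodule.span_le, Set.singleton_subset_iff]
      refine ⟨Pi.single j 1, ?_⟩
      rw [Matrix.mulVecLin_apply, Matrix.single_mulVec_eq, Pi.single_eq_same, mul_one, one_smul]
  rw [Matrix.rank, h1, finrank_span_singleton]
  intro h
  have h3 := congrFun h i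
  rw [Pi.single_eq_same, Pi.zero_apply] at h3
  exact one_ne_zero h3

/-- No conjugate of an element `x` with some `x - c` of rank one normalizes a field subalgebra of
degree two (in dimension at least three). -/
theorem not_conj_of_rank_one {n : ℕ} {K : Subalgebra F (Matrix (Fin n) (Fin n) F)}
    (hK : IsFieldSubalgebra 2 K) (hn : 3 ≤ n) (x : Matrix.SpecialLinearGroup (Fin n) F) (c : F)
    (hr : ((x : Matrix (Fin n) (Fin n) F) - c • (1 : Matrix (Fin n) (Fin n) F)).rank = 1)
    (P : Matrix.SpecialLinearGroup (Fin n) F) :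
    P⁻¹ * x * P ∉ (subalgebraNormalizer K).comap (Matrix.SpecialLinearGroup.toGL :
        Matrix.SpecialLinearGroup (Fin n) F →* GL (Fin n) F) := by
  intro hmem
  rw [Subgroup.mem_comap] at hmem
  apply rank_ne_one_of_mem_normalizer hK hn _ hmem c
  rw [Matrix.SpecialLinearGroup.coe_GL_coe_matrix]
  have hPP : ((P⁻¹ : Matrix.SpecialLinearGroup (Fin n) F) : Matrix (Fin n) (Fin n) F)
      * (P : Matrix (Fin n) (Fin n) F) = 1 := by
    rw [← Matrix.SpecialLinearGroup.coe_mul, inv_mul_cancel, Matrix.SpecialLinearGroup.coe_one]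
  have h1 : ((P⁻¹ * x * P : Matrix.SpecialLinearGroup (Fin n) F) : Matrix (Fin n) (Fin n) F)
      - c • (1 : Matrix (Fin n) (Fin n) F)
      = ((P⁻¹ : Matrix.SpecialLinearGroup (Fin n) F) : Matrix (Fin n) (Fin n) F)
        * ((x : Matrix (Fin n) (Fin n) F) - c • (1 : Matrix (Fin n) (Fin n) F))
        * (P : Matrix (Fin n) (Fin n) F) := by
    rw [Matrix.SpecialLinearGroup.coe_mul, Matrix.SpecialLinearGroup.coe_mul, mul_sub, sub_mul,
      mul_smul_comm, mul_one, smul_mul_assoc, hPP]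
  rw [h1, Matrix.rank_mul_eq_left_of_isUnit_det _ _ (by rw [P.det_coe]; exact isUnit_one),
    Matrix.rank_mul_eq_right_of_isUnit_det _ _ (by rw [(P⁻¹).det_coe]; exact isUnit_one), hr]

/-- A bad element: `lam • diag (1, -1, …, -1)` with `lam ^ n = -1`. -/
theorem exists_bad_diag [Fintype F] {q : ℕ} (hq : Fintype.card F = q) (h2 : (2 : F) ≠ 0) {m : ℕ}
    (hm : 2 ≤ m) (hv : padicValNat 2 (m + m) < padicValNat 2 (q - 1)) :
    ∃ (x : Matrix.SpecialLinearGroup (Fin (m + m)) F) (c : F),
      (∃ z : F, ((x ^ 2 : Matrix.SpecialLinearGroup (Fin (m + m)) F) :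
        Matrix (Fin (m + m)) (Fin (m + m)) F) = z • (1 : Matrix (Fin (m + m)) (Fin (m + m)) F)) ∧
      (∀ z : F, (x : Matrix (Fin (m + m)) (Fin (m + m)) F)
        ≠ z • (1 : Matrix (Fin (m + m)) (Fin (m + m)) F)) ∧
      ((x : Matrix (Fin (m + m)) (Fin (m + m)) F)
        - c • (1 : Matrix (Fin (m + m)) (Fin (m + m)) F)).rank = 1 := by
  classical
  obtain ⟨lam, hlam⟩ := exists_pow_eq_neg_one (F := F) hq (by omega : 0 < m + m) hv
  have hlam0 : lam ≠ 0 := by
    rintro rfl
    rw [zero_pow (by omega)] at hlam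
    exact one_ne_zero (neg_eq_zero.mp hlam.symm)
  obtain ⟨i₀, hi₀⟩ : ∃ i₀ : Fin (m + m), (i₀ : ℕ) = 0 := ⟨⟨0, by omega⟩, rfl⟩
  obtain ⟨i₁, hi₁⟩ : ∃ i₁ : Fin (m + m), (i₁ : ℕ) = 1 := ⟨⟨1, by omega⟩, rfl⟩
  have hne : i₁ ≠ i₀ := by
    rw [Ne, Fin.ext_iff, hi₀, hi₁]
    omega
  set d : Fin (m + m) → F := fun i => if i = i₀ then lam else -lam with hd
  have hdet : (Matrix.diagonal d).det = 1 := by
    rw [Matrix.det_diagonal]
    have h1 : ∀ i, d i = (if i = i₀ then (-1 : F) else 1) * (-lam) := by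
      intro i
      simp only [hd]
      split_ifs <;> ring
    rw [Finset.prod_congr rfl (fun i _ => h1 i), Finset.prod_mul_distrib, Finset.prod_ite_eq',
      Finset.prod_const, Finset.card_univ, Fintype.card_fin]
    simp only [Finset.mem_univ, if_true]
    rw [neg_pow, hlam, Even.neg_one_pow ⟨m, rfl⟩]
    ring
  obtain ⟨x, hx⟩ : ∃ x : Matrix.SpecialLinearGroup (Fin (m + m)) F,
      (x : Matrix (Fin (m + m)) (Fin (m + m)) F) = Matrix.diagonal d := ⟨⟨_, hdet⟩, rfl⟩
  refine ⟨x, -lam, ⟨lam * lam, ?_⟩, ?_, ?_⟩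
  · rw [Matrix.SpecialLinearGroup.coe_pow, hx, pow_two, Matrix.diagonal_mul_diagonal,
      ← Matrix.diagonal_one, ← Matrix.diagonal_smul]
    congr 1
    funext i
    simp only [hd, Pi.smul_apply, smul_eq_mul, mul_one]
    split_ifs <;> ring
  · intro μ hμ
    rw [hx] at hμ
    have h3 := congrFun (congrFun hμ i₀) i₀
    have h4 := congrFun (congrFun hμ i₁) i₁
    simp only [Matrix.diagonal_apply_eq, Matrix.smul_apply, Matrix.one_apply_eq, smul_eq_mul,
      mul_one, hd, if_true, if_neg hne] at h3 h4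
    apply h2
    have h5 : (2 : F) * lam = 0 := by linear_combination h3 - h4
    exact (mul_eq_zero.mp h5).resolve_right hlam0
  · rw [hx]
    have h5 : Matrix.diagonal d - (-lam) • (1 : Matrix (Fin (m + m)) (Fin (m + m)) F)
        = Matrix.diagonal (fun i => if i = i₀ then 2 * lam else 0) := by
      ext i j
      rw [Matrix.sub_apply, Matrix.smul_apply, Matrix.diagonal_apply, Matrix.diagonal_apply,
        Matrix.one_apply]
      by_cases hij : i = j
      · rw [if_pos hij, if_pos hij, if_pos hij, smul_eq_mul, mul_one]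
        simp only [hd]
        split_ifs <;> ring
      · rw [if_neg hij, if_neg hij, if_neg hij, smul_zero, sub_zero]
    rw [h5, Matrix.rank_diagonal, Fintype.card_eq_one_iff]
    refine ⟨⟨i₀, ?_⟩, ?_⟩
    · show (if i₀ = i₀ then 2 * lam else 0) ≠ 0
      rw [if_pos rfl]
      exact mul_ne_zero h2 hlam0
    · rintro ⟨i, hi⟩
      apply Subtype.ext
      show i = i₀
      by_contra hne'
      exact hi (if_neg hne')

/-- A bad element in characteristic two: a transvection. -/
theorem exists_bad_transvection [CharP F 2] {n : ℕ} (hn : 2 ≤ n) :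
    ∃ (x : Matrix.SpecialLinearGroup (Fin n) F) (c : F),
      (∃ z : F, ((x ^ 2 : Matrix.SpecialLinearGroup (Fin n) F) :
        Matrix (Fin n) (Fin n) F) = z • (1 : Matrix (Fin n) (Fin n) F)) ∧
      (∀ z : F, (x : Matrix (Fin n) (Fin n) F) ≠ z • (1 : Matrix (Fin n) (Fin n) F)) ∧
      ((x : Matrix (Fin n) (Fin n) F) - c • (1 : Matrix (Fin n) (Fin n) F)).rank = 1 := by
  classical
  obtain ⟨i₀, hi₀⟩ : ∃ i₀ : Fin n, (i₀ : ℕ) = 0 := ⟨⟨0, by omega⟩, rfl⟩
  obtain ⟨i₁, hi₁⟩ : ∃ i₁ : Fin n, (i₁ : ℕ) = 1 := ⟨⟨1, by omega⟩, rfl⟩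
  have hne : i₀ ≠ i₁ := by
    rw [Ne, Fin.ext_iff, hi₀, hi₁]
    omega
  obtain ⟨x, hx⟩ : ∃ x : Matrix.SpecialLinearGroup (Fin n) F,
      (x : Matrix (Fin n) (Fin n) F) = Matrix.transvection i₀ i₁ (1 : F) :=
    ⟨⟨_, Matrix.det_transvection_of_ne i₀ i₁ hne 1⟩, rfl⟩
  refine ⟨x, 1, ⟨1, ?_⟩, ?_, ?_⟩
  · rw [Matrix.SpecialLinearGroup.coe_pow, hx, pow_two,
      Matrix.transvection_mul_transvection_same i₀ i₁ hne, CharTwo.add_self_eq_zero,
      Matrix.transvection_zero, one_smul]
  · intro μ hμ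
    rw [hx] at hμ
    have h3 := congrFun (congrFun hμ i₀) i₁
    rw [Matrix.transvection, Matrix.add_apply, Matrix.one_apply_ne hne, Matrix.single_apply_same,
      Matrix.smul_apply, Matrix.one_apply_ne hne, smul_zero, zero_add] at h3
    exact one_ne_zero h3
  · rw [hx, one_smul, Matrix.transvection, add_sub_cancel_left]
    exact rank_single_one i₀ i₁

end bad

end Cfsg.Agent.Lib.Helper99.ExtInv
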