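import Cfsg.Agent.Lib.Helper99.M12OutData

/-!
# Data for `Out(M12)`: kernel checks on the tables of `M9`, and elements permuting the base
-/

set_option autoImplicit false
open Cfsg

namespace Cfsg.Agent.Lib.Helper99.M12Out
open Cfsg.Agent.Lib.Helper7 Cfsg.Agent.Lib.Helper92 Cfsg.Agent.Lib.Helper92.M9

set_option maxRecDepth 100000 in
theorem m9T_mem : ∀ k < 72,
    (∀ j < 24, d0Mask.testBit j = true → d0Mask.testBit (m9E k j) = true) ∧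
      m9E k 23 = 23 ∧ m9E k 0 = 0 ∧ m9E k 1 = 1 := by
  decide +kernel

set_option maxRecDepth 100000 in
theorem m9T_inj : ∀ k < 72, ∀ k' < 72, (∀ j < 24, m9E k j = m9E k' j) → k = k' := by
  decide +kernel

/-- The indices of the points outside `d0`. -/
def cL : List ℕ := [4, 5, 10, 11, 13, 16, 17, 18, 19, 20, 21, 22]

theorem mem_cL : ∀ y < 24, d0Mask.testBit y = false → y ∈ cL := by decide

theorem cL_spec : ∀ y ∈ cL, y < 24 ∧ d0Mask.testBit y = false := by decide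

/-- The table `k` has order three. -/
def isO3 (k : ℕ) : Prop :=
  (¬ (∀ j < 24, m9E k j = j)) ∧ (∀ j < 24, m9E k (m9E k (m9E k j)) = j)

instance (k : ℕ) : Decidable (isO3 k) := by unfold isO3; infer_instance

/-- The table `k` has order two. -/
def isO2 (k : ℕ) : Prop :=
  (¬ (∀ j < 24, m9E k j = j)) ∧ (∀ j < 24, m9E k (m9E k j) = j)

instance (k : ℕ) : Decidable (isO2 k) := by unfold isO2; infer_instance

/-- The tables `k` and `k'` have exactly one common fixed point outside `d0`. -/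
def f1Concl (k k' : ℕ) : Prop :=
  ∃ q ∈ cL, (m9E k q = q ∧ m9E k' q = q) ∧
    ∀ q' ∈ cL, m9E k q' = q' → m9E k' q' = q' → q' = q

instance (k k' : ℕ) : Decidable (f1Concl k k') := by unfold f1Concl; infer_instance

set_option maxRecDepth 100000 in
theorem m9T_F1 : ∀ k < 72, ∀ k' < 72, isO3 k → isO2 k' → f1Concl k k' := by
  decide +kernel

/-- Words of elements of order 5 permuting the five base points. -/
def bw : List (List ℕ) :=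
  [
     [2, 4, 4, 1, 3, 3, 3, 1, 1, 1, 3, 0, 2, 4, 4, 1, 3, 3, 1, 4, 0, 0, 0, 4, 4, 4, 0, 3, 3, 2, 1, 4, 0, 0, 0, 4, 4, 4, 0, 3, 3, 2],
     [4, 4, 0, 3, 3, 2, 1, 4, 0, 0, 0, 4, 1, 4, 0, 0, 0, 4, 2, 4, 4, 1, 3, 3, 1, 4, 0, 0, 0, 4, 2, 4, 4, 1, 3, 3, 1, 4, 0, 0, 0, 4, 4, 4, 0, 3, 3, 2, 3, 1, 1, 1, 3, 0, 2, 4, 4, 1, 3, 3],
     [1, 4, 0, 0, 0, 4, 1, 4, 0, 0, 0, 4, 2, 4, 4, 1, 3, 3, 3, 1, 1, 1, 3, 0, 2, 4, 4, 1, 3, 3, 1, 4, 0, 0, 0, 4, 2, 4, 4, 1, 3, 3, 1, 4, 0, 0, 0, 4, 4, 4, 0, 3, 3, 2, 1, 4, 0, 0, 0, 4, 1, 4, 0, 0, 0, 4],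
     [3, 1, 1, 1, 3, 0, 3, 1, 1, 1, 3, 0, 2, 4, 4, 1, 3, 3, 1, 4, 0, 0, 0, 4, 2, 4, 4, 1, 3, 3, 1, 4, 0, 0, 0, 4, 1, 4, 0, 0, 0, 4, 4, 4, 0, 3, 3, 2, 1, 4, 0, 0, 0, 4, 2, 4, 4, 1, 3, 3],
     [3, 1, 1, 1, 3, 0, 3, 1, 1, 1, 3, 0, 2, 4, 4, 1, 3, 3, 3, 1, 1, 1, 3, 0, 3, 1, 1, 1, 3, 0, 4, 4, 0, 3, 3, 2, 1, 4, 0, 0, 0, 4, 4, 4, 0, 3, 3, 2, 1, 4, 0, 0, 0, 4, 1, 4, 0, 0, 0, 4, 2, 4, 4, 1, 3, 3],
     [1, 4, 0, 0, 0, 4, 1, 4, 0, 0, 0, 4, 2, 4, 4, 1, 3, 3, 1, 4, 0, 0, 0, 4, 1, 4, 0, 0, 0, 4, 4, 4, 0, 3, 3, 2, 3, 1, 1, 1, 3, 0, 3, 1, 1, 1, 3, 0, 4, 4, 0, 3, 3, 2, 1, 4, 0, 0, 0, 4]]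

/-- The points fixed by the elements `bw` (besides `14`). -/
def zL : List ℕ := [6, 7, 8, 9, 12, 15]

/-- The property of a word used in the normalizer computation. -/
def bwOK (w : List ℕ) (z : ℕ) : Prop :=
  (∀ j < 24, d0Mask.testBit j = true → d0Mask.testBit (m24Eval w j) = true) ∧
    (∀ j ∈ [23, 0, 1, 2, 3], m24Eval w j ∈ [23, 0, 1, 2, 3]) ∧
    m24Eval w 14 = 14 ∧ m24Eval w z = z ∧
    ∀ j ∈ [6, 7, 8, 9, 12, 14, 15], m24Eval w j = j → j = 14 ∨ j = z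

instance (w : List ℕ) (z : ℕ) : Decidable (bwOK w z) := by unfold bwOK; infer_instance

set_option maxRecDepth 100000 in
theorem bw_ok : ∀ i < 6, bwOK (bw.getD i []) (zL.getD i 0) := by
  decide +kernel

end Cfsg.Agent.Lib.Helper99.M12Out
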