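import Cfsg.Agent.Lib.Helper99.M12OutData2
import Cfsg.Agent.Lib.Helper99.M12OutGen

/-!
# The three-point stabilizer `M9` of `M12`: enumeration and fixed points outside the dodecad
-/

set_option autoImplicit false
open Cfsg

namespace Cfsg.Agent.Lib.Helper99.M12Out
open Cfsg.Agent.Lib.Helper7 Cfsg.Agent.Lib.Helper92 Cfsg.Agent.Lib.Helper92.M9

theorem m9E_lt {k j : ℕ} (hk : k < 72) (hj : j < 24) : m9E k j < 24 := by
  rw [← m9w_eval k hk j hj]; exact m24Eval_lt _ hj

theorem m9w_apply_pt {k j : ℕ} (hk : k < 72) (hj : j < 24) :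
    m24Word (m9w k) (pt j) = pt (m9E k j) := by
  rw [m24Word_apply_pt _ hj, m9w_eval k hk j hj]

theorem m9w_mem {k : ℕ} (hk : k < 72) : m24Word (m9w k) ∈ Hs 3 := by
  apply Cfsg.Agent.S5619.mem_Hs3_of_genOK
  obtain ⟨h1, h2, h3, h4⟩ := m9T_mem k hk
  refine ⟨fun j hj hb => ?_, ?_, ?_, ?_⟩
  · rw [m9w_eval k hk j hj]; exact h1 j hj hb
  · rw [m9w_eval k hk 23 (by norm_num)]; exact h2
  · rw [m9w_eval k hk 0 (by norm_num)]; exact h3
  · rw [m9w_eval k hk 1 (by norm_num)]; exact h4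

/-- Every element of the standard three-point stabilizer is one of the 72 words. -/
theorem exists_m9w {g : Equiv.Perm GolayPt} (hg : g ∈ Hs 3) :
    ∃ k < 72, g = m24Word (m9w k) := by
  let f : Fin 72 → ↥(Hs 3) := fun k => ⟨m24Word (m9w k), m9w_mem k.2⟩
  have hinj : Function.Injective f := by
    intro k k' h
    have h1 : m24Word (m9w k) = m24Word (m9w k') := congrArg Subtype.val h
    have h2 := eval_eq_of_m24Word_eq h1
    apply Fin.ext
    apply m9T_inj k k.2 k' k'.2
    intro j hj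
    rw [← m9w_eval k k.2 j hj, ← m9w_eval k' k'.2 j hj]; exact h2 j hj
  have hbij := hinj.bijective_of_nat_card_le (by rw [card_Hs_3]; simp)
  obtain ⟨k, hk⟩ := hbij.2 ⟨g, hg⟩
  exact ⟨k, k.2, (congrArg Subtype.val hk).symm⟩

theorem m9w_ne_one {k : ℕ} (hk : k < 72) (h : m24Word (m9w k) ≠ 1) :
    ¬ (∀ j < 24, m9E k j = j) := by
  intro hall
  apply h
  have : m24Word (m9w k) = m24Word [] := by
    apply m24Word_eq_of_eval
    intro j hj
    rw [m9w_eval k hk j hj, hall j hj]; rfl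
  rw [this]; rfl

theorem pt_injOn {i j : ℕ} (hi : i < 24) (hj : j < 24) (h : pt i = pt j) : i = j := by
  have := congrArg idx h
  rwa [idx_pt hi, idx_pt hj] at this

/-- In the standard three-point stabilizer, an element of order three and an involution have
exactly one common fixed point outside `d0`. -/
theorem F1std {u t : Equiv.Perm GolayPt} (hu : u ∈ Hs 3) (ht : t ∈ Hs 3)
    (hu3 : orderOf u = 3) (ht2 : orderOf t = 2) :
    ∃ q, q ∉ d0 ∧ u q = q ∧ t q = q ∧ ∀ q', q' ∉ d0 → u q' = q' → t q' = q' → q' = q := by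
  obtain ⟨k, hk, rfl⟩ := exists_m9w hu
  obtain ⟨k', hk', rfl⟩ := exists_m9w ht
  have hu1 : m24Word (m9w k) ≠ 1 := by
    intro h; rw [h, orderOf_one] at hu3; norm_num at hu3
  have ht1 : m24Word (m9w k') ≠ 1 := by
    intro h; rw [h, orderOf_one] at ht2; norm_num at ht2
  have hu3' : ∀ j < 24, m9E k (m9E k (m9E k j)) = j := by
    intro j hj
    have h1 : (m24Word (m9w k) ^ 3) (pt j) = pt j := by
      rw [← hu3, pow_orderOf_eq_one]; rfl
    rw [pow_succ, pow_succ, pow_one, Equiv.Perm.mul_apply, Equiv.Perm.mul_apply,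
      m9w_apply_pt hk hj, m9w_apply_pt hk (m9E_lt hk hj),
      m9w_apply_pt hk (m9E_lt hk (m9E_lt hk hj))] at h1
    exact pt_injOn (m9E_lt hk (m9E_lt hk (m9E_lt hk hj))) hj h1
  have ht2' : ∀ j < 24, m9E k' (m9E k' j) = j := by
    intro j hj
    have h1 : (m24Word (m9w k') ^ 2) (pt j) = pt j := by
      rw [← ht2, pow_orderOf_eq_one]; rfl
    rw [pow_succ, pow_one, Equiv.Perm.mul_apply,
      m9w_apply_pt hk' hj, m9w_apply_pt hk' (m9E_lt hk' hj)] at h1
    exact pt_injOn (m9E_lt hk' (m9E_lt hk' hj)) hj h1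
  obtain ⟨q, hq, ⟨hq1, hq2⟩, huniq⟩ := m9T_F1 k hk k' hk'
    ⟨m9w_ne_one hk hu1, hu3'⟩ ⟨m9w_ne_one hk' ht1, ht2'⟩
  obtain ⟨hq24, hqb⟩ := cL_spec q hq
  refine ⟨pt q, ?_, ?_, ?_, ?_⟩
  · intro h
    have := mem_setOf.mp h
    rw [idx_pt hq24, hqb] at this
    exact absurd this (by decide)
  · rw [m9w_apply_pt hk hq24, hq1]
  · rw [m9w_apply_pt hk' hq24, hq2]
  · intro q' hq' h1 h2
    have hb : d0Mask.testBit (idx q') = false := by
      have : ¬ d0Mask.testBit (idx q') = true := fun h => hq' (mem_setOf.mpr h)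
      simpa using this
    have hmem := mem_cL (idx q') (idx_lt q') hb
    have e1 : m9E k (idx q') = idx q' := by
      have := h1
      rw [← pt_idx q', m9w_apply_pt hk (idx_lt q')] at this
      have := pt_injOn (m9E_lt hk (idx_lt q')) (idx_lt q') (by rw [this, pt_idx])
      exact this
    have e2 : m9E k' (idx q') = idx q' := by
      have := h2
      rw [← pt_idx q', m9w_apply_pt hk' (idx_lt q')] at this
      have := pt_injOn (m9E_lt hk' (idx_lt q')) (idx_lt q') (by rw [this, pt_idx])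
      exact this
    rw [← pt_idx q', huniq (idx q') hmem e1 e2]

end Cfsg.Agent.Lib.Helper99.M12Out
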