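import Cfsg.Agent.Lib.Helper99.M12OutNorm

/-!
# The outer automorphism group of `M12` has order two
-/

set_option autoImplicit false
open Cfsg

namespace Cfsg.Agent.Lib.Helper99.M12Out
open Cfsg.Agent.Lib.Helper7 Cfsg.Agent.Lib.Helper92
open scoped Pointwise

theorem card_stb_H12 {r : GolayPt} (hr : r ∈ d0) : Nat.card (stb H12 r) = 7920 :=
  card_stabM24Pt d0_mem_dodecads hr

theorem eq_of_agree_d0 {g h : Equiv.Perm GolayPt} (hg : g ∈ H12) (hh : h ∈ H12)
    (hagree : ∀ p ∈ d0, g p = h p) : g = h := by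
  have h1 : h⁻¹ * g = 1 := by
    apply eq_one_of_fix_d0 (H12.mul_mem (H12.inv_mem hh) hg)
    have : d0.filter (fun p => (h⁻¹ * g) p = p) = d0 := by
      apply Finset.filter_true_of_mem
      intro p hp
      rw [Equiv.Perm.mul_apply, hagree p hp]
      simp
    rw [this, card_d0]
    norm_num
  have h2 : g = h * (h⁻¹ * g) := by group
  rw [h2, h1, mul_one]

theorem exists_H12_map_bp0 {p : GolayPt} (hp : p ∈ d0) : ∃ g : ↥H12, (g : Equiv.Perm GolayPt) (bp 0) = p := by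
  obtain ⟨a, ha, h⟩ := exists_H12_map_to_base 1 (by norm_num) (fun _ => p)
    (by intro a ha b hb _; omega) (fun _ _ => hp)
  refine ⟨⟨a⁻¹, H12.inv_mem ha⟩, ?_⟩
  show a⁻¹ (bp 0) = p
  rw [← h 0 (by norm_num)]
  simp

/-- An automorphism mapping the stabilizer of `bp 0` into the stabilizer of a point of `d0` is
inner. -/
theorem inner_of_fixes (α : MulAut ↥H12) (r : GolayPt) (hr : r ∈ d0)
    (hfix : ∀ a : ↥H12, (a : Equiv.Perm GolayPt) (bp 0) = bp 0 →
      ((α a : ↥H12) : Equiv.Perm GolayPt) r = r) : α ∈ Cfsg.Inn ↥H12 := by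
  have hp0 : bp 0 ∈ d0 := bp_mem_d0' (by norm_num)
  -- the converse of `hfix`
  have hconv : ∀ h : ↥H12, ((α h : ↥H12) : Equiv.Perm GolayPt) r = r →
      (h : Equiv.Perm GolayPt) (bp 0) = bp 0 := by
    let f : ↥(stb H12 (bp 0)) → ↥(stb H12 r) := fun a =>
      ⟨((α ⟨a.1, (mem_stb.mp a.2).1⟩ : ↥H12) : Equiv.Perm GolayPt),
        mem_stb.mpr ⟨(α ⟨a.1, (mem_stb.mp a.2).1⟩).2, hfix _ (mem_stb.mp a.2).2⟩⟩
    have hinj : Function.Injective f := by
      intro a b hab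
      have h1 : ((f a : ↥(stb H12 r)) : Equiv.Perm GolayPt) = (f b : ↥(stb H12 r)) :=
        congrArg (fun z : ↥(stb H12 r) => (z : Equiv.Perm GolayPt)) hab
      have h2 : (⟨a.1, (mem_stb.mp a.2).1⟩ : ↥H12) = ⟨b.1, (mem_stb.mp b.2).1⟩ :=
        α.injective (Subtype.ext h1)
      have h3 : (a : Equiv.Perm GolayPt) = b :=
        congrArg (fun z : ↥H12 => (z : Equiv.Perm GolayPt)) h2
      exact Subtype.ext h3
    have : Finite ↥(stb H12 r) := Nat.finite_of_card_ne_zero (by rw [card_stb_H12 hr]; norm_num)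
    have hbij := hinj.bijective_of_nat_card_le (by rw [card_stb_H12 hr, card_stb_H12 hp0])
    intro h hh
    obtain ⟨a, ha⟩ := hbij.2 ⟨((α h : ↥H12) : Equiv.Perm GolayPt), mem_stb.mpr ⟨(α h).2, hh⟩⟩
    have h1 : ((f a : ↥(stb H12 r)) : Equiv.Perm GolayPt) =
        ((α h : ↥H12) : Equiv.Perm GolayPt) :=
      congrArg (fun z : ↥(stb H12 r) => (z : Equiv.Perm GolayPt)) ha
    have h2 : (⟨a.1, (mem_stb.mp a.2).1⟩ : ↥H12) = h := α.injective (Subtype.ext h1)
    rw [← h2]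
    exact (mem_stb.mp a.2).2
  -- the map σ
  have hex : ∀ p, ∃ g : ↥H12, p ∈ d0 → (g : Equiv.Perm GolayPt) (bp 0) = p := by
    intro p
    by_cases hp : p ∈ d0
    · obtain ⟨g, hg⟩ := exists_H12_map_bp0 hp
      exact ⟨g, fun _ => hg⟩
    · exact ⟨1, fun h => absurd h hp⟩
  choose gOf hgOf using hex
  set σ : GolayPt → GolayPt := fun p => ((α (gOf p) : ↥H12) : Equiv.Perm GolayPt) r with hσ
  have key : ∀ h : ↥H12, σ ((h : Equiv.Perm GolayPt) (bp 0)) =
      ((α h : ↥H12) : Equiv.Perm GolayPt) r := by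
    intro h
    have hp : (h : Equiv.Perm GolayPt) (bp 0) ∈ d0 := (H12_apply_mem h.2 _).mpr hp0
    have h1 := hgOf _ hp
    have h2 : (((gOf ((h : Equiv.Perm GolayPt) (bp 0)))⁻¹ * h : ↥H12) : Equiv.Perm GolayPt)
        (bp 0) = bp 0 := by
      show ((gOf ((h : Equiv.Perm GolayPt) (bp 0)) : Equiv.Perm GolayPt)⁻¹ *
        (h : Equiv.Perm GolayPt)) (bp 0) = bp 0
      rw [Equiv.Perm.mul_apply, Equiv.Perm.inv_eq_iff_eq]
      exact h1.symm
    have h3 := hfix _ h2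
    rw [map_mul, map_inv] at h3
    have h4 : ((α (gOf ((h : Equiv.Perm GolayPt) (bp 0))) : ↥H12) : Equiv.Perm GolayPt)⁻¹
        (((α h : ↥H12) : Equiv.Perm GolayPt) r) = r := h3
    show ((α (gOf ((h : Equiv.Perm GolayPt) (bp 0))) : ↥H12) : Equiv.Perm GolayPt) r = _
    rw [Equiv.Perm.inv_eq_iff_eq] at h4
    exact h4.symm
  have hσ_mem : ∀ p, σ p ∈ d0 := fun p => (H12_apply_mem (α (gOf p)).2 r).mpr hr
  have hσ_equiv : ∀ h : ↥H12, ∀ p ∈ d0, σ ((h : Equiv.Perm GolayPt) p) =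
      ((α h : ↥H12) : Equiv.Perm GolayPt) (σ p) := by
    intro h p hp
    have h1 := hgOf p hp
    have h2 := key (h * gOf p)
    have h3 : ((h * gOf p : ↥H12) : Equiv.Perm GolayPt) (bp 0) = (h : Equiv.Perm GolayPt) p := by
      show ((h : Equiv.Perm GolayPt) * (gOf p : Equiv.Perm GolayPt)) (bp 0) = _
      rw [Equiv.Perm.mul_apply, h1]
    rw [h3, map_mul] at h2
    exact h2
  have hσ_inj : Set.InjOn σ d0 := by
    intro p hp p' hp' hpp
    have h1 : ((α ((gOf p')⁻¹ * gOf p) : ↥H12) : Equiv.Perm GolayPt) r = r := by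
      rw [map_mul, map_inv]
      show ((α (gOf p') : ↥H12) : Equiv.Perm GolayPt)⁻¹
        (((α (gOf p) : ↥H12) : Equiv.Perm GolayPt) r) = r
      rw [Equiv.Perm.inv_eq_iff_eq]
      exact hpp
    have h2 := hconv _ h1
    have h3 : ((gOf p' : ↥H12) : Equiv.Perm GolayPt)⁻¹
        (((gOf p : ↥H12) : Equiv.Perm GolayPt) (bp 0)) = bp 0 := h2
    rw [Equiv.Perm.inv_eq_iff_eq, hgOf p hp, hgOf p' hp'] at h3
    exact h3
  -- normalization
  have hbp_inj : ∀ a < 5, ∀ b < 5, bp a = bp b → a = b := by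
    intro a ha b hb hab
    rcases Nat.lt_trichotomy a b with h | h | h
    · exact absurd hab.symm (bp_ne (by omega) h)
    · exact h
    · exact absurd hab (bp_ne (by omega) h)
  obtain ⟨b, hb, hbσ⟩ := exists_H12_map_to_base 5 (le_refl 5) (fun j => σ (bp j))
    (by
      intro a ha c hc hac
      exact hbp_inj a ha c hc (hσ_inj (bp_mem_d0' ha) (bp_mem_d0' hc) hac))
    (fun j _ => hσ_mem _)
  have hid := sigma_id (fun p => b (σ p))
    (by
      intro p hp p' hp' hpp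
      exact hσ_inj hp hp' (b.injective hpp))
    (fun p _ => (H12_apply_mem hb _).mpr (hσ_mem p))
    hbσ
    (by
      intro g hg
      refine ⟨b * ((α ⟨g, hg⟩ : ↥H12) : Equiv.Perm GolayPt) * b⁻¹,
        H12.mul_mem (H12.mul_mem hb (α ⟨g, hg⟩).2) (H12.inv_mem hb), fun p hp => ?_⟩
      have e1 : (b * ((α ⟨g, hg⟩ : ↥H12) : Equiv.Perm GolayPt) * b⁻¹) (b (σ p)) =
          b (((α ⟨g, hg⟩ : ↥H12) : Equiv.Perm GolayPt) (σ p)) := by
        simp [Equiv.Perm.mul_apply]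
      rw [e1, ← hσ_equiv ⟨g, hg⟩ p hp])
  -- conclusion
  have hconj : ∀ g : ↥H12, b * ((α g : ↥H12) : Equiv.Perm GolayPt) * b⁻¹ =
      (g : Equiv.Perm GolayPt) := by
    intro g
    apply eq_of_agree_d0 (H12.mul_mem (H12.mul_mem hb (α g).2) (H12.inv_mem hb)) g.2
    intro p hp
    have h1 : b (σ p) = p := hid p hp
    have h2 : b (σ ((g : Equiv.Perm GolayPt) p)) = (g : Equiv.Perm GolayPt) p :=
      hid _ ((H12_apply_mem g.2 p).mpr hp)
    rw [hσ_equiv g p hp] at h2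
    have e1 : (b * ((α g : ↥H12) : Equiv.Perm GolayPt) * b⁻¹) (b (σ p)) =
        b (((α g : ↥H12) : Equiv.Perm GolayPt) (σ p)) := by
      simp [Equiv.Perm.mul_apply]
    rw [h1] at e1
    rw [e1]
    exact h2
  refine ⟨⟨b⁻¹, H12.inv_mem hb⟩, ?_⟩
  apply MulEquiv.ext
  intro g
  apply Subtype.ext
  rw [MulAut.conj_apply]
  show b⁻¹ * (g : Equiv.Perm GolayPt) * b⁻¹⁻¹ = ((α g : ↥H12) : Equiv.Perm GolayPt)
  rw [← hconj g]
  group

/-! ### The outer automorphism -/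

theorem exists_swap : ∃ ρ ∈ M24, ∀ p, ρ p ∈ d0 ↔ p ∉ d0 := by
  obtain ⟨ρ, hρ, hρd⟩ := exists_map_dodecad (compl_mem_dodecads d0_mem_dodecads)
  refine ⟨ρ, hρ, fun p => ?_⟩
  conv_lhs => rw [← hρd]
  rw [apply_mem_perm_smul_finset, Finset.mem_compl]

theorem mem_H12_iff (g : Equiv.Perm GolayPt) :
    g ∈ H12 ↔ g ∈ M24 ∧ ∀ p, g p ∈ d0 ↔ p ∈ d0 := by
  unfold H12
  rw [mem_stabM24, smul_finset_eq_iff]

theorem conj_swap_mem_aux {ρ : Equiv.Perm GolayPt} (hρ : ρ ∈ M24)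
    (hsw : ∀ p, ρ p ∈ d0 ↔ p ∉ d0) {g : Equiv.Perm GolayPt} (hg : g ∈ H12) :
    ρ * g * ρ⁻¹ ∈ H12 := by
  rw [mem_H12_iff] at hg ⊢
  refine ⟨M24.mul_mem (M24.mul_mem hρ hg.1) (M24.inv_mem hρ), fun p => ?_⟩
  have h1 : (ρ * g * ρ⁻¹) p = ρ (g (ρ⁻¹ p)) := rfl
  have h2 := hsw (ρ⁻¹ p)
  have e : ρ (ρ⁻¹ p) = p := by simp
  rw [e] at h2
  rw [h1, hsw, hg.2, h2]

theorem conj_swap_mem {ρ : Equiv.Perm GolayPt} (hρ : ρ ∈ M24)
    (hsw : ∀ p, ρ p ∈ d0 ↔ p ∉ d0) (g : Equiv.Perm GolayPt) :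
    ρ * g * ρ⁻¹ ∈ H12 ↔ g ∈ H12 := by
  constructor
  · intro h
    have hsw' : ∀ p, ρ⁻¹ p ∈ d0 ↔ p ∉ d0 := by
      intro p
      have h2 := hsw (ρ⁻¹ p)
      have e : ρ (ρ⁻¹ p) = p := by simp
      rw [e] at h2
      rw [h2, not_not]
    have := conj_swap_mem_aux (M24.inv_mem hρ) hsw' h
    have e : ρ⁻¹ * (ρ * g * ρ⁻¹) * ρ⁻¹⁻¹ = g := by group
    rwa [e] at this
  · exact conj_swap_mem_aux hρ hsw

/-- The outer automorphism group of the stabilizer of the reference dodecad has order two. -/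
theorem card_out_H12 : Nat.card (Cfsg.Out ↥H12) = 2 := by
  obtain ⟨ρ, hρ, hsw⟩ := exists_swap
  set τ : MulAut ↥H12 := conjMulEquivOfIff ρ H12 H12 (conj_swap_mem hρ hsw) with hτdef
  have hτ : ∀ g : ↥H12, ((τ g : ↥H12) : Equiv.Perm GolayPt) = ρ * g * ρ⁻¹ := fun g => rfl
  have hp0 : bp 0 ∈ d0 := bp_mem_d0' (by norm_num)
  show (Cfsg.Inn ↥H12).index = 2
  rw [Subgroup.index_eq_two_iff_exists_notMem_and]
  refine ⟨τ, ?_, ?_⟩
  · -- the swap is not inner
    rintro ⟨g0, hg0⟩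
    have hconj : ∀ h : ↥H12, (g0 : Equiv.Perm GolayPt) * h * (g0 : Equiv.Perm GolayPt)⁻¹ =
        ρ * h * ρ⁻¹ := by
      intro h
      have := congrArg (fun φ : MulAut ↥H12 => ((φ h : ↥H12) : Equiv.Perm GolayPt)) hg0
      simp only [MulAut.conj_apply] at this
      rw [hτ] at this
      exact this
    set c : Equiv.Perm GolayPt := (g0 : Equiv.Perm GolayPt)⁻¹ * ρ with hc
    have hcomm : ∀ h ∈ H12, c * h = h * c := by
      intro h hh
      have h1 := hconj ⟨h, hh⟩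
      simp only at h1
      have h2 : c * h = (g0 : Equiv.Perm GolayPt)⁻¹ * (ρ * h * ρ⁻¹) * ρ := by rw [hc]; group
      rw [h2, ← h1, hc]
      group
    set q := c (bp 0) with hq
    have hqd : q ∉ d0 := by
      rw [hq, hc, Equiv.Perm.mul_apply, H12_apply_mem (H12.inv_mem g0.2), hsw, not_not]
      exact hp0
    have hKq : ∀ k ∈ K11, k q = q := by
      intro k hk
      rw [mem_K11] at hk
      have := congrArg (fun φ : Equiv.Perm GolayPt => φ (bp 0)) (hcomm k hk.1)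
      simp only [Equiv.Perm.mul_apply] at this
      rw [hk.2] at this
      exact this.symm
    obtain ⟨q2, hq2, hne⟩ := Finset.exists_mem_ne (s := d0ᶜ) (by rw [card_d0_compl]; norm_num) q
    rw [Finset.mem_compl] at hq2
    obtain ⟨g1, hg1, hg1q⟩ := exists_K11_map_to_baseC 1 (by norm_num) (fun _ => q)
      (by intro a ha b hb _; omega) (fun _ _ => hqd)
    obtain ⟨g2, hg2, hg2q⟩ := exists_K11_map_to_baseC 1 (by norm_num) (fun _ => q2)
      (by intro a ha b hb _; omega) (fun _ _ => hq2)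
    have h1 := hKq _ (K11.mul_mem (K11.inv_mem hg2) hg1)
    rw [Equiv.Perm.mul_apply, hg1q 0 (by norm_num), ← hg2q 0 (by norm_num)] at h1
    simp at h1
    exact hne h1
  · intro β
    set K : Subgroup (Equiv.Perm GolayPt) :=
      ((stb H12 (bp 0)).subgroupOf H12).map ((H12.subtype).comp β.toMonoidHom) with hKdef
    have hKle : K ≤ H12 := by
      rintro _ ⟨a, _, rfl⟩
      exact (β a).2
    have hKcard : Nat.card K = 7920 := by
      rw [hKdef, Subgroup.card_map_of_injective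
        (show Function.Injective ((H12.subtype).comp β.toMonoidHom) from
          H12.subtype_injective.comp β.injective),
        Nat.card_congr (Subgroup.subgroupOfEquivOfLe (stb_le H12 (bp 0))).toEquiv]
      exact card_stb_H12 hp0
    obtain ⟨r, hr⟩ := exists_fixed_point hKle hKcard
    have hfixβ : ∀ a : ↥H12, (a : Equiv.Perm GolayPt) (bp 0) = bp 0 →
        ((β a : ↥H12) : Equiv.Perm GolayPt) r = r := fun a ha =>
      hr _ ⟨a, Subgroup.mem_subgroupOf.mpr (mem_stb.mpr ⟨a.2, ha⟩), rfl⟩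
    by_cases hrd : r ∈ d0
    · right
      exact inner_of_fixes β r hrd hfixβ
    · left
      have h1 : τ * β ∈ Cfsg.Inn ↥H12 := by
        apply inner_of_fixes (τ * β) (ρ r) ((hsw r).mpr hrd)
        intro a ha
        show ((τ (β a) : ↥H12) : Equiv.Perm GolayPt) (ρ r) = ρ r
        rw [hτ]
        simp [Equiv.Perm.mul_apply, hfixβ a ha]
      have h2 : β * τ = τ⁻¹ * (τ * β) * τ⁻¹⁻¹ := by group
      rw [h2]
      exact (Cfsg.innNormal _).conj_mem _ h1 _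

end Cfsg.Agent.Lib.Helper99.M12Out
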