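import Cfsg.Agent.Lib.Helper99.M12OutSub

/-!
# A permutation of the dodecad normalizing `M12` and fixing five base points is trivial
-/

set_option autoImplicit false
open Cfsg

namespace Cfsg.Agent.Lib.Helper99.M12Out
open Cfsg.Agent.Lib.Helper7 Cfsg.Agent.Lib.Helper92
open scoped Pointwise

theorem bw_mem {k : ℕ} (hk : k < 6) : m24Word (bw.getD k []) ∈ H12 := by
  obtain ⟨h1, _⟩ := bw_ok k hk
  show _ ∈ stabM24 d0
  rw [mem_stabM24]
  exact ⟨m24Word_mem _, m24Word_smul_setOf _ d0Mask d0Mask rfl h1⟩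

theorem pt_mem_d0 {i : ℕ} (hi : i < 24) : pt i ∈ d0 ↔ d0Mask.testBit i = true := by
  unfold d0
  rw [mem_setOf, idx_pt hi]

theorem base_cases : ∀ i < 24, d0Mask.testBit i = true →
    (∃ j < 5, i = baseL.getD j 0) ∨ i = 14 ∨ ∃ k < 6, i = zL.getD k 0 := by
  decide

theorem rest_of_not_base : ∀ i < 24, d0Mask.testBit i = true →
    (∀ j < 5, i ≠ baseL.getD j 0) → i ∈ [6, 7, 8, 9, 12, 14, 15] := by
  decide

theorem base_image : ∀ i ∈ [23, 0, 1, 2, 3], ∃ j < 5, i = baseL.getD j 0 := by decide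

theorem base_mem : ∀ j < 5, baseL.getD j 0 ∈ [23, 0, 1, 2, 3] := by decide

theorem zL_spec : ∀ k < 6, zL.getD k 0 < 24 ∧ d0Mask.testBit (zL.getD k 0) = true ∧
    zL.getD k 0 ≠ 14 ∧ (∀ j < 5, zL.getD k 0 ≠ baseL.getD j 0) := by decide

theorem fourteen_spec : d0Mask.testBit 14 = true ∧ (∀ j < 5, 14 ≠ baseL.getD j 0) := by decide

/-- The normalizer lemma. -/
theorem sigma_id (σ : GolayPt → GolayPt) (hinj : Set.InjOn σ d0) (hmaps : ∀ p ∈ d0, σ p ∈ d0)
    (hbase : ∀ j < 5, σ (bp j) = bp j)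
    (hnorm : ∀ g ∈ H12, ∃ g' ∈ H12, ∀ p ∈ d0, g' (σ p) = σ (g p)) : ∀ p ∈ d0, σ p = p := by
  -- step 1: elements permuting the base commute with σ
  have step1 : ∀ g ∈ H12, (∀ j < 5, ∃ j' < 5, g (bp j) = bp j') →
      ∀ p ∈ d0, g (σ p) = σ (g p) := by
    intro g hg hgb
    obtain ⟨g', hg', hgg⟩ := hnorm g hg
    have hmem : g⁻¹ * g' ∈ Hs 5 := by
      rw [mem_Hs]
      refine ⟨H12.mul_mem (H12.inv_mem hg) hg', fun j hj => ?_⟩
      obtain ⟨j', hj', hgj⟩ := hgb j hj
      have h1 : g' (bp j) = g (bp j) := by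
        have := hgg (bp j) (bp_mem_d0' hj)
        rw [hbase j hj, hgj, hbase j' hj'] at this
        rw [this, hgj]
      rw [Equiv.Perm.mul_apply, h1]
      simp
    rw [Hs_five, Subgroup.mem_bot] at hmem
    have hg'g : g' = g := by
      have h2 : g' = g * (g⁻¹ * g') := by group
      rw [h2, hmem, mul_one]
    intro p hp
    have h3 := hgg p hp
    rwa [hg'g] at h3
  -- index bookkeeping
  set s : ℕ → ℕ := fun i => idx (σ (pt i)) with hs
  have hs_pt : ∀ i, pt (s i) = σ (pt i) := fun i => pt_idx _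
  have hs_lt : ∀ i, s i < 24 := fun i => idx_lt _
  have hs_d0 : ∀ i < 24, d0Mask.testBit i = true → d0Mask.testBit (s i) = true := by
    intro i hi hb
    rw [← pt_mem_d0 (hs_lt i), hs_pt]
    exact hmaps _ ((pt_mem_d0 hi).mpr hb)
  have hs_inj : ∀ i < 24, ∀ i' < 24, d0Mask.testBit i = true → d0Mask.testBit i' = true →
      s i = s i' → i = i' := by
    intro i hi i' hi' hb hb' h
    have h1 : σ (pt i) = σ (pt i') := by rw [← hs_pt, ← hs_pt, h]
    exact pt_injOn hi hi' (hinj ((pt_mem_d0 hi).mpr hb) ((pt_mem_d0 hi').mpr hb') h1)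
  have hs_base : ∀ j < 5, s (baseL.getD j 0) = baseL.getD j 0 := by
    intro j hj
    have h1 : σ (pt (baseL.getD j 0)) = pt (baseL.getD j 0) := hbase j hj
    show idx (σ (pt (baseL.getD j 0))) = _
    rw [h1, idx_pt (baseL_lt j)]
  have hs_rest : ∀ i < 24, d0Mask.testBit i = true → (∀ j < 5, i ≠ baseL.getD j 0) →
      s i ∈ [6, 7, 8, 9, 12, 14, 15] := by
    intro i hi hb hnb
    apply rest_of_not_base (s i) (hs_lt i) (hs_d0 i hi hb)
    intro j hj h
    have hbj : d0Mask.testBit (baseL.getD j 0) = true := bp_mem_d0 j hj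
    have := hs_inj i hi _ (baseL_lt j) hb hbj (by rw [h, hs_base j hj])
    exact hnb j hj this
  -- step 2: fixed points of the words
  have hs_fix : ∀ k < 6, ∀ i < 24, d0Mask.testBit i = true → (∀ j < 5, i ≠ baseL.getD j 0) →
      m24Eval (bw.getD k []) i = i → (s i = 14 ∨ s i = zL.getD k 0) := by
    intro k hk i hi hb hnb hfix
    obtain ⟨h1, h2, _, _, h5⟩ := bw_ok k hk
    have hg := bw_mem hk
    have hgb : ∀ j < 5, ∃ j' < 5, m24Word (bw.getD k []) (bp j) = bp j' := by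
      intro j hj
      obtain ⟨j', hj', e⟩ := base_image _ (h2 _ (base_mem j hj))
      refine ⟨j', hj', ?_⟩
      show m24Word (bw.getD k []) (pt (baseL.getD j 0)) = pt (baseL.getD j' 0)
      rw [m24Word_apply_pt _ (baseL_lt j), e]
    have hcomm := step1 _ hg hgb (pt i) ((pt_mem_d0 hi).mpr hb)
    rw [m24Word_apply_pt _ hi, hfix, ← hs_pt, m24Word_apply_pt _ (hs_lt i)] at hcomm
    have hfix' : m24Eval (bw.getD k []) (s i) = s i :=
      pt_injOn (m24Eval_lt _ (hs_lt i)) (hs_lt i) hcomm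
    exact h5 (s i) (hs_rest i hi hb hnb) hfix'
  have e0 : m24Eval (bw.getD 0 []) 14 = 14 := (bw_ok 0 (by norm_num)).2.2.1
  have e1 : m24Eval (bw.getD 1 []) 14 = 14 := (bw_ok 1 (by norm_num)).2.2.1
  have hs14 : s 14 = 14 := by
    have h0 := hs_fix 0 (by norm_num) 14 (by norm_num) fourteen_spec.1 fourteen_spec.2 e0
    have h1 := hs_fix 1 (by norm_num) 14 (by norm_num) fourteen_spec.1 fourteen_spec.2 e1
    rcases h0 with h0 | h0
    · exact h0
    · rcases h1 with h1 | h1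
      · exact h1
      · rw [h0] at h1
        exact absurd h1 (by decide)
  have hsz : ∀ k < 6, s (zL.getD k 0) = zL.getD k 0 := by
    intro k hk
    obtain ⟨hz24, hzb, hz14, hznb⟩ := zL_spec k hk
    have hfz : m24Eval (bw.getD k []) (zL.getD k 0) = zL.getD k 0 := (bw_ok k hk).2.2.2.1
    rcases hs_fix k hk _ hz24 hzb hznb hfz with h | h
    · exfalso
      apply hz14
      exact hs_inj _ hz24 14 (by norm_num) hzb fourteen_spec.1 (by rw [h, hs14])
    · exact h
  -- conclusion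
  intro p hp
  have hb : d0Mask.testBit (idx p) = true := by
    rw [← pt_mem_d0 (idx_lt p), pt_idx]; exact hp
  have key : s (idx p) = idx p := by
    rcases base_cases (idx p) (idx_lt p) hb with ⟨j, hj, e⟩ | e | ⟨k, hk, e⟩
    · rw [e]; exact hs_base j hj
    · rw [e]; exact hs14
    · rw [e]; exact hsz k hk
  have := hs_pt (idx p)
  rw [key, pt_idx] at this
  exact this.symm

end Cfsg.Agent.Lib.Helper99.M12Out
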