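import Cfsg.Agent.Lib.Helper99.M12OutM9
import Cfsg.Agent.Lib.Helper7.Hexads

/-!
# Subgroups of index 12 of `M12` fix a point
-/

set_option autoImplicit false
open Cfsg

namespace Cfsg.Agent.Lib.Helper99.M12Out
open Cfsg.Agent.Lib.Helper7 Cfsg.Agent.Lib.Helper92
open scoped Pointwise

/-! ### Basic facts on `H12` -/

theorem card_d0 : d0.card = 12 := d0_mem_dodecads.2

theorem card_d0_compl : d0ᶜ.card = 12 := by
  rw [Finset.card_compl, card_d0]; rfl

theorem H12_apply_mem {g : Equiv.Perm GolayPt} (hg : g ∈ H12) (p : GolayPt) :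
    g p ∈ d0 ↔ p ∈ d0 := apply_mem_of_mem_stabM24 hg p

theorem H12_apply_mem_compl {g : Equiv.Perm GolayPt} (hg : g ∈ H12) (p : GolayPt) :
    g p ∈ d0ᶜ ↔ p ∈ d0ᶜ := by
  rw [Finset.mem_compl, Finset.mem_compl, H12_apply_mem hg]

theorem smul_finset_eq_iff (g : Equiv.Perm GolayPt) (s : Finset GolayPt) :
    g • s = s ↔ ∀ p, g p ∈ s ↔ p ∈ s := by
  constructor
  · intro h p
    conv_lhs => rw [← h]
    exact apply_mem_perm_smul_finset g s p
  · intro h
    ext p
    rw [← Finset.inv_smul_mem_iff]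
    have := h (g⁻¹ p)
    have e : g (g⁻¹ p) = p := by simp
    rw [e] at this
    simpa using this.symm

theorem stabM24_compl : stabM24 d0ᶜ = H12 := by
  ext g
  unfold H12
  rw [mem_stabM24, mem_stabM24, smul_finset_eq_iff, smul_finset_eq_iff]
  constructor
  · rintro ⟨h1, h2⟩
    refine ⟨h1, fun p => ?_⟩
    have := h2 p
    rw [Finset.mem_compl, Finset.mem_compl] at this
    exact not_iff_not.mp this
  · rintro ⟨h1, h2⟩
    refine ⟨h1, fun p => ?_⟩
    rw [Finset.mem_compl, Finset.mem_compl, h2 p]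

theorem eq_one_of_fix_d0 {g : Equiv.Perm GolayPt} (hg : g ∈ H12)
    (h : 5 ≤ (d0.filter fun p => g p = p).card) : g = 1 := by
  obtain ⟨x, hx⟩ := exists_emb_of_five_le_card h
  exact eq_one_of_H12_fixes hg x (fun i => (Finset.mem_filter.mp (hx i)).1)
    (fun i => (Finset.mem_filter.mp (hx i)).2)

theorem eq_one_of_fix_compl {g : Equiv.Perm GolayPt} (hg : g ∈ H12)
    (h : 5 ≤ (d0ᶜ.filter fun p => g p = p).card) : g = 1 := by
  obtain ⟨x, hx⟩ := exists_emb_of_five_le_card h
  have hd := compl_mem_dodecads d0_mem_dodecads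
  obtain ⟨g0, _, huniq⟩ := existsUnique_stabM24_map hd x x
    (fun i => (Finset.mem_filter.mp (hx i)).1) (fun i => (Finset.mem_filter.mp (hx i)).1)
  have h1 := huniq g ⟨by rw [stabM24_compl]; exact hg, fun i => (Finset.mem_filter.mp (hx i)).2⟩
  have h2 := huniq 1 ⟨Subgroup.one_mem _, fun i => rfl⟩
  rw [h1, h2]

/-! ### Three-point stabilizers -/

/-- The pointwise stabilizer of three points. -/
def fix3 (K : Subgroup (Equiv.Perm GolayPt)) (p x y : GolayPt) : Subgroup (Equiv.Perm GolayPt) :=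
  stb (stb (stb K p) x) y

theorem mem_fix3 {K : Subgroup (Equiv.Perm GolayPt)} {p x y : GolayPt} {g : Equiv.Perm GolayPt} :
    g ∈ fix3 K p x y ↔ g ∈ K ∧ g p = p ∧ g x = x ∧ g y = y := by
  simp [fix3, mem_stb, and_assoc]

theorem fix3_base : fix3 H12 (bp 0) (bp 1) (bp 2) = Hs 3 := by
  ext g
  rw [mem_fix3, mem_Hs]
  constructor
  · rintro ⟨h, h0, h1, h2⟩
    refine ⟨h, fun j hj => ?_⟩
    interval_cases j
    · exact h0
    · exact h1
    · exact h2
  · rintro ⟨h, hfix⟩
    exact ⟨h, hfix 0 (by norm_num), hfix 1 (by norm_num), hfix 2 (by norm_num)⟩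

theorem exists_to_base3 {p x y : GolayPt} (hp : p ∈ d0) (hx : x ∈ d0) (hy : y ∈ d0)
    (hpx : p ≠ x) (hpy : p ≠ y) (hxy : x ≠ y) :
    ∃ a ∈ H12, a p = bp 0 ∧ a x = bp 1 ∧ a y = bp 2 := by
  obtain ⟨a, ha, h⟩ := exists_H12_map_to_base 3 (by norm_num)
    (fun j => if j = 0 then p else if j = 1 then x else y) (by
      intro a ha b hb hab
      interval_cases a <;> interval_cases b <;> simp_all) (by
      intro j hj
      interval_cases j <;> simp [*])
  refine ⟨a, ha, ?_, ?_, ?_⟩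
  · simpa using h 0 (by norm_num)
  · simpa using h 1 (by norm_num)
  · simpa using h 2 (by norm_num)

theorem conj_mem_fix3 {a : Equiv.Perm GolayPt} (ha : a ∈ H12) {p x y : GolayPt}
    (g : Equiv.Perm GolayPt) :
    a * g * a⁻¹ ∈ fix3 H12 (a p) (a x) (a y) ↔ g ∈ fix3 H12 p x y := by
  rw [mem_fix3, mem_fix3, conj_apply_eq_iff, conj_apply_eq_iff, conj_apply_eq_iff]
  have : a * g * a⁻¹ ∈ H12 ↔ g ∈ H12 := by
    constructor
    · intro h
      have h2 : g = a⁻¹ * (a * g * a⁻¹) * a := by group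
      rw [h2]
      exact H12.mul_mem (H12.mul_mem (H12.inv_mem ha) h) ha
    · intro h
      exact H12.mul_mem (H12.mul_mem ha h) (H12.inv_mem ha)
  rw [this]

theorem card_fix3 {p x y : GolayPt} (hp : p ∈ d0) (hx : x ∈ d0) (hy : y ∈ d0)
    (hpx : p ≠ x) (hpy : p ≠ y) (hxy : x ≠ y) : Nat.card (fix3 H12 p x y) = 72 := by
  obtain ⟨a, ha, h0, h1, h2⟩ := exists_to_base3 hp hx hy hpx hpy hxy
  rw [← card_Hs_3, ← fix3_base, ← h0, ← h1, ← h2]
  exact Nat.card_congr (conjEquivOfIff a _ _ (conj_mem_fix3 ha))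

/-- In a three-point stabilizer, an element of order three and an involution have exactly one
common fixed point outside `d0`. -/
theorem F1 {p x y : GolayPt} (hp : p ∈ d0) (hx : x ∈ d0) (hy : y ∈ d0)
    (hpx : p ≠ x) (hpy : p ≠ y) (hxy : x ≠ y) {u t : Equiv.Perm GolayPt}
    (hu : u ∈ fix3 H12 p x y) (ht : t ∈ fix3 H12 p x y)
    (hu3 : orderOf u = 3) (ht2 : orderOf t = 2) :
    ∃ q, q ∉ d0 ∧ u q = q ∧ t q = q ∧ ∀ q', q' ∉ d0 → u q' = q' → t q' = q' → q' = q := by
  obtain ⟨a, ha, h0, h1, h2⟩ := exists_to_base3 hp hx hy hpx hpy hxy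
  have hu' : a * u * a⁻¹ ∈ Hs 3 := by
    rw [← fix3_base, ← h0, ← h1, ← h2]; exact (conj_mem_fix3 ha u).mpr hu
  have ht' : a * t * a⁻¹ ∈ Hs 3 := by
    rw [← fix3_base, ← h0, ← h1, ← h2]; exact (conj_mem_fix3 ha t).mpr ht
  have ho : ∀ v : Equiv.Perm GolayPt, orderOf (a * v * a⁻¹) = orderOf v := fun v =>
    orderOf_injective (MulAut.conj a).toMonoidHom (MulAut.conj a).injective v
  obtain ⟨q, hq, huq, htq, huniq⟩ := F1std hu' ht' ((ho u).trans hu3) ((ho t).trans ht2)
  have hainv : a⁻¹ ∈ H12 := H12.inv_mem ha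
  refine ⟨a⁻¹ q, ?_, ?_, ?_, ?_⟩
  · rw [H12_apply_mem hainv]; exact hq
  · have := congrArg (a⁻¹ : Equiv.Perm GolayPt) huq
    simpa [Equiv.Perm.mul_apply] using this
  · have := congrArg (a⁻¹ : Equiv.Perm GolayPt) htq
    simpa [Equiv.Perm.mul_apply] using this
  · intro q' hq' e1 e2
    have h3 : a q' ∉ d0 := by rw [H12_apply_mem ha]; exact hq'
    have := huniq (a q') h3 (by simp [Equiv.Perm.mul_apply, e1])
      (by simp [Equiv.Perm.mul_apply, e2])
    rw [← this]; simp

/-! ### Elements of order 11 -/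

theorem eleven_struct {x : Equiv.Perm GolayPt} (hx : x ∈ H12) (h11 : orderOf x = 11)
    (s : Finset GolayPt) (hs : s = d0 ∨ s = d0ᶜ) :
    ∃ p0 ∈ s, x p0 = p0 ∧
      ∀ p ∈ s, ∀ p' ∈ s, p ≠ p0 → p' ≠ p0 → ∃ i : ℕ, (x ^ i) p = p' := by
  have hinv : ∀ p, x p ∈ s ↔ p ∈ s := by
    rcases hs with rfl | rfl
    · exact H12_apply_mem hx
    · exact H12_apply_mem_compl hx
  have hcard : s.card = 11 + 1 := by
    rcases hs with rfl | rfl
    · exact card_d0
    · exact card_d0_compl
  have hne : ∃ p ∈ s, x p ≠ p := by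
    by_contra hall
    push Not at hall
    have hfil : s.filter (fun p => x p = p) = s := Finset.filter_true_of_mem hall
    have h1 : x = 1 := by
      rcases hs with rfl | rfl
      · apply eq_one_of_fix_d0 hx; rw [hfil, card_d0]; norm_num
      · apply eq_one_of_fix_compl hx; rw [hfil, card_d0_compl]; norm_num
    rw [h1, orderOf_one] at h11
    norm_num at h11
  obtain ⟨p0, hp0, hfix, _, hcyc⟩ := prime_cycle hinv (by norm_num : Nat.Prime 11)
    (by rw [← h11, pow_orderOf_eq_one]) hne hcard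
  exact ⟨p0, hp0, hfix, hcyc⟩

theorem orb_eq_of_no_fix {K : Subgroup (Equiv.Perm GolayPt)} (hK : K ≤ H12)
    {x : Equiv.Perm GolayPt} (hxK : x ∈ K) (h11 : orderOf x = 11)
    (s : Finset GolayPt) (hs : s = d0 ∨ s = d0ᶜ) (hno : ∀ r ∈ s, ∃ g ∈ K, g r ≠ r) :
    ∀ p ∈ s, orb K p = s := by
  have hinv : ∀ g ∈ K, ∀ p, g p ∈ s ↔ p ∈ s := by
    intro g hg
    rcases hs with rfl | rfl
    · exact H12_apply_mem (hK hg)
    · exact H12_apply_mem_compl (hK hg)
  obtain ⟨p0, hp0, hfix, hcyc⟩ := eleven_struct (hK hxK) h11 s hs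
  have h0 : orb K p0 = s := by
    apply Finset.Subset.antisymm
    · intro q hq
      obtain ⟨g, hg, rfl⟩ := mem_orb.mp hq
      exact (hinv g hg p0).mpr hp0
    · intro q hq
      by_cases hq0 : q = p0
      · rw [hq0]; exact self_mem_orb K p0
      · obtain ⟨g0, hg0, hne⟩ := hno p0 hp0
        obtain ⟨i, hi⟩ := hcyc (g0 p0) ((hinv g0 hg0 p0).mpr hp0) q hq hne hq0
        exact mem_orb.mpr ⟨x ^ i * g0, K.mul_mem (K.pow_mem hxK i) hg0, hi⟩
  intro p hp
  rw [← h0] at hp
  rw [orb_eq_of_mem hp, h0]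

/-! ### The main lemma -/

theorem fix3_mono {K L : Subgroup (Equiv.Perm GolayPt)} (h : K ≤ L) (p x y : GolayPt) :
    fix3 K p x y ≤ fix3 L p x y := by
  intro g hg
  rw [mem_fix3] at hg ⊢
  exact ⟨h hg.1, hg.2⟩

theorem fix3_le_stb (K : Subgroup (Equiv.Perm GolayPt)) (p x y : GolayPt) :
    fix3 K p x y ≤ stb K p := by
  intro g hg
  rw [mem_fix3] at hg
  exact mem_stb.mpr ⟨hg.1, hg.2.1⟩

/-- A subgroup of order 7920 of `H12` fixes a point. -/
theorem exists_fixed_point {K : Subgroup (Equiv.Perm GolayPt)} (hK : K ≤ H12)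
    (hcard : Nat.card K = 7920) : ∃ r, ∀ g ∈ K, g r = r := by
  by_contra hno
  push Not at hno
  have : Fact (Nat.Prime 11) := ⟨by norm_num⟩
  have : Fact (Nat.Prime 3) := ⟨by norm_num⟩
  have : Fact (Nat.Prime 2) := ⟨by norm_num⟩
  have : Finite K := Nat.finite_of_card_ne_zero (by rw [hcard]; norm_num)
  -- an element of order 11
  obtain ⟨x, hx11⟩ := exists_prime_orderOf_dvd_card' (G := K) 11 (by rw [hcard]; norm_num)
  have hx11' : orderOf (x : Equiv.Perm GolayPt) = 11 := by
    rw [Subgroup.orderOf_coe]; exact hx11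
  have horb1 : ∀ p ∈ d0, orb K p = d0 :=
    orb_eq_of_no_fix hK x.2 hx11' d0 (Or.inl rfl) (fun r _ => hno r)
  have horb2 : ∀ p ∈ d0ᶜ, orb K p = d0ᶜ :=
    orb_eq_of_no_fix hK x.2 hx11' d0ᶜ (Or.inr rfl) (fun r _ => hno r)
  have hst : ∀ p, Nat.card (stb K p) = 660 := by
    intro p
    have h := card_eq_orb_mul K p
    by_cases hp : p ∈ d0
    · rw [horb1 p hp, card_d0, hcard] at h; omega
    · rw [horb2 p (Finset.mem_compl.mpr hp), card_d0_compl, hcard] at h; omega
  -- an element of order 3 fixing a point of `d0`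
  have hp0 : bp 0 ∈ d0 := bp_mem_d0' (by norm_num)
  have : Finite (stb K (bp 0)) := Nat.finite_of_card_ne_zero (by rw [hst]; norm_num)
  obtain ⟨u0, hu0⟩ := exists_prime_orderOf_dvd_card' (G := stb K (bp 0)) 3
    (by rw [hst]; norm_num)
  obtain ⟨u, hustb⟩ := u0
  have hu3 : orderOf u = 3 := by
    rw [← hu0, ← Subgroup.orderOf_coe]
  have huK : u ∈ K := (mem_stb.mp hustb).1
  have hufix0 : u (bp 0) = bp 0 := (mem_stb.mp hustb).2
  have huH : u ∈ H12 := hK huK
  have hF : (d0.filter fun p => u p = p).card = 3 := by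
    have hmod := card_fixed_modEq (x := u) (s := d0) (fun p => H12_apply_mem huH p) (ℓ := 3)
      (by rw [← hu3, pow_orderOf_eq_one])
    rw [card_d0] at hmod
    have hpos : 0 < (d0.filter fun p => u p = p).card :=
      Finset.card_pos.mpr ⟨bp 0, Finset.mem_filter.mpr ⟨hp0, hufix0⟩⟩
    have hlt : (d0.filter fun p => u p = p).card < 5 := by
      by_contra h
      push Not at h
      have := eq_one_of_fix_d0 huH h
      rw [this, orderOf_one] at hu3
      norm_num at hu3
    unfold Nat.ModEq at hmod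
    omega
  obtain ⟨p, x1, y, hpx, hpy, hxy, hT⟩ := Finset.card_eq_three.mp hF
  have hmemT : ∀ z, (z ∈ d0 ∧ u z = z) ↔ (z = p ∨ z = x1 ∨ z = y) := by
    intro z
    have h : z ∈ d0.filter (fun p => u p = p) ↔ z ∈ ({p, x1, y} : Finset GolayPt) := by rw [hT]
    simpa [Finset.mem_filter] using h
  have hpT := (hmemT p).mpr (Or.inl rfl)
  have hxT := (hmemT x1).mpr (Or.inr (Or.inl rfl))
  have hyT := (hmemT y).mpr (Or.inr (Or.inr rfl))
  -- the three-point stabilizer
  set H := fix3 K p x1 y with hHdef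
  have huHH : u ∈ H := mem_fix3.mpr ⟨huK, hpT.2, hxT.2, hyT.2⟩
  have hH72 : Nat.card H ∣ 72 := by
    rw [← card_fix3 hpT.1 hxT.1 hyT.1 hpx hpy hxy]
    exact Subgroup.card_dvd_of_le (fix3_mono hK p x1 y)
  have hH660 : Nat.card H ∣ 660 := by
    rw [← hst p]
    exact Subgroup.card_dvd_of_le (fix3_le_stb K p x1 y)
  have hH6 : 6 ≤ Nat.card H := by
    have h1 := card_le_mul_card_stb (stb K p) x1 (d0.erase p) (by
      intro g hg
      rw [mem_stb] at hg
      rw [Finset.mem_erase]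
      refine ⟨fun h => hpx ?_, (H12_apply_mem (hK hg.1) x1).mpr hxT.1⟩
      rw [← hg.2] at h
      exact (g.injective h).symm)
    have h2 := card_le_mul_card_stb (stb (stb K p) x1) y ((d0.erase p).erase x1) (by
      intro g hg
      rw [mem_stb, mem_stb] at hg
      rw [Finset.mem_erase, Finset.mem_erase]
      refine ⟨fun h => hxy ?_, fun h => hpy ?_, (H12_apply_mem (hK hg.1.1) y).mpr hyT.1⟩
      · rw [← hg.2] at h
        exact (g.injective h).symm
      · rw [← hg.1.2] at h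
        exact (g.injective h).symm)
    rw [Finset.card_erase_of_mem hpT.1, card_d0, hst p] at h1
    rw [Finset.card_erase_of_mem (Finset.mem_erase.mpr ⟨hpx.symm, hxT.1⟩),
      Finset.card_erase_of_mem hpT.1, card_d0] at h2
    have h3 : Nat.card (stb (stb (stb K p) x1) y) = Nat.card H := rfl
    rw [h3] at h2
    norm_num at h1 h2
    omega
  have hH : Nat.card H = 6 ∨ Nat.card H = 12 := by
    have h12 : Nat.card H ∣ 12 := Nat.dvd_gcd hH72 hH660
    obtain ⟨c, hc⟩ := h12
    have hc2 : c ≤ 2 := by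
      by_contra h
      push Not at h
      nlinarith
    have hc0 : c ≠ 0 := by
      intro h; rw [h] at hc; norm_num at hc
    have hc12 : c = 1 ∨ c = 2 := by omega
    rcases hc12 with rfl | rfl
    · right; simpa using hc.symm
    · left
      have h2 : Nat.card H * 2 = 6 * 2 := by rw [← hc]
      exact Nat.eq_of_mul_eq_mul_right (by norm_num) h2
  -- an involution in `H`
  have : Finite H := Nat.finite_of_card_ne_zero (by omega)
  obtain ⟨t0, ht0⟩ := exists_prime_orderOf_dvd_card' (G := H) 2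
    (by rcases hH with h | h <;> rw [h] <;> norm_num)
  obtain ⟨t, htH⟩ := t0
  have ht2 : orderOf t = 2 := by
    rw [← ht0, ← Subgroup.orderOf_coe]
  obtain ⟨q, hq, huq, htq, huniq⟩ := F1 hpT.1 hxT.1 hyT.1 hpx hpy hxy
    (fix3_mono hK p x1 y huHH) (fix3_mono hK p x1 y htH) hu3 ht2
  have hHK : H ≤ K := fun g hg => (mem_fix3.mp hg).1
  -- `H` fixes `q`
  have hHq : ∀ h ∈ H, h q = q := by
    intro h hh
    by_contra hne
    have hos := card_eq_orb_mul H q
    have h6 : 6 ∣ Nat.card (stb H q) := by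
      have h3 : 3 ∣ Nat.card (stb H q) := by
        rw [← hu3]
        exact Subgroup.orderOf_dvd_natCard _ (mem_stb.mpr ⟨huHH, huq⟩)
      have h2 : 2 ∣ Nat.card (stb H q) := by
        rw [← ht2]
        exact Subgroup.orderOf_dvd_natCard _ (mem_stb.mpr ⟨htH, htq⟩)
      exact Nat.Coprime.mul_dvd_of_dvd_of_dvd (by norm_num : Nat.Coprime 3 2) h3 h2
    have hle : (orb H q).card ≤ 2 := by
      obtain ⟨c, hc⟩ := h6
      rw [hc] at hos
      have hc0 : 0 < c := by
        rcases Nat.eq_zero_or_pos c with h | h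
        · rw [h] at hos; simp at hos; omega
        · exact h
      rcases hH with h | h <;> rw [h] at hos <;> nlinarith
    have hq2 : h q ∈ orb H q := mem_orb.mpr ⟨h, hh, rfl⟩
    have key : ∀ v ∈ H, v q = q → v (h q) = h q := by
      intro v hv hvq
      by_contra hv2
      have hq3 : v (h q) ∈ orb H q := apply_mem_orb hv hq2
      have hne3 : v (h q) ≠ q := by
        intro e
        have e' : v (h q) = v q := e.trans hvq.symm
        exact hne (v.injective e')
      have hsub : ({q, h q, v (h q)} : Finset GolayPt) ⊆ orb H q := by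
        intro z hz
        simp only [Finset.mem_insert, Finset.mem_singleton] at hz
        rcases hz with rfl | rfl | rfl
        · exact self_mem_orb H _
        · exact hq2
        · exact hq3
      have h3 : ({q, h q, v (h q)} : Finset GolayPt).card = 3 :=
        Finset.card_eq_three.mpr ⟨q, h q, v (h q), Ne.symm hne, Ne.symm hne3, Ne.symm hv2, rfl⟩
      have := Finset.card_le_card hsub
      omega
    have e1 := key u huHH huq
    have e2 := key t htH htq
    have hhq : h q ∉ d0 := by rw [H12_apply_mem (hK (hHK hh))]; exact hq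
    exact hne (huniq (h q) hhq e1 e2)
  -- a subgroup of order 9 of `K` containing `u`
  let uK : K := ⟨u, huK⟩
  have huK3 : orderOf uK = 3 := by
    rw [← hu3, ← Subgroup.orderOf_coe]
  obtain ⟨S, hS9, huS⟩ := Sylow.exists_subgroup_card_pow_prime_le (p := 3) (n := 1) (m := 2)
    (by rw [hcard]; norm_num) (Subgroup.zpowers uK) (by rw [Nat.card_zpowers, huK3]; norm_num)
    (by norm_num)
  have hcomm : ∀ a b : S, a * b = b * a := IsPGroup.commutative_of_card_eq_prime_sq hS9
  have huS' : uK ∈ S := huS (Subgroup.mem_zpowers uK)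
  -- `S` fixes `q`
  have hSq : ∀ s : K, s ∈ S → (s : Equiv.Perm GolayPt) q = q := by
    intro s hs
    have hc : (s : Equiv.Perm GolayPt) * u = u * (s : Equiv.Perm GolayPt) := by
      have := hcomm ⟨s, hs⟩ ⟨uK, huS'⟩
      have := congrArg (fun a : S => ((a : K) : Equiv.Perm GolayPt)) this
      exact this
    have hsH : (s : Equiv.Perm GolayPt) ∈ H12 := hK s.2
    have hsT : ∀ z, (z = p ∨ z = x1 ∨ z = y) →
        ((s : Equiv.Perm GolayPt) z = p ∨ (s : Equiv.Perm GolayPt) z = x1 ∨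
          (s : Equiv.Perm GolayPt) z = y) := by
      intro z hz
      rw [← hmemT] at hz ⊢
      refine ⟨(H12_apply_mem hsH z).mpr hz.1, ?_⟩
      have := congrArg (fun a : Equiv.Perm GolayPt => a z) hc
      simp only [Equiv.Perm.mul_apply] at this
      rw [hz.2] at this
      exact this.symm
    have hfixT : ∀ h ∈ H, ∀ z, (z = p ∨ z = x1 ∨ z = y) → h z = z := by
      intro h hh z hz
      rw [mem_fix3] at hh
      rcases hz with rfl | rfl | rfl
      · exact hh.2.1
      · exact hh.2.2.1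
      · exact hh.2.2.2
    have hconj : ∀ h ∈ H, (s : Equiv.Perm GolayPt)⁻¹ * h * (s : Equiv.Perm GolayPt) ∈ H := by
      intro h hh
      have hk : (s : Equiv.Perm GolayPt)⁻¹ * h * (s : Equiv.Perm GolayPt) ∈ K :=
        K.mul_mem (K.mul_mem (K.inv_mem s.2) (hHK hh)) s.2
      have hz : ∀ z, (z = p ∨ z = x1 ∨ z = y) →
          ((s : Equiv.Perm GolayPt)⁻¹ * h * (s : Equiv.Perm GolayPt)) z = z := by
        intro z hz
        simp only [Equiv.Perm.mul_apply]
        rw [hfixT h hh _ (hsT z hz)]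
        simp
      exact mem_fix3.mpr ⟨hk, hz p (Or.inl rfl), hz x1 (Or.inr (Or.inl rfl)),
        hz y (Or.inr (Or.inr rfl))⟩
    have hfixsq : ∀ h ∈ H, h ((s : Equiv.Perm GolayPt) q) = (s : Equiv.Perm GolayPt) q := by
      intro h hh
      have := hHq _ (hconj h hh)
      simp only [Equiv.Perm.mul_apply] at this
      have := congrArg (s : Equiv.Perm GolayPt) this
      simpa using this
    have hsq : (s : Equiv.Perm GolayPt) q ∉ d0 := by rw [H12_apply_mem hsH]; exact hq
    exact huniq _ hsq (hfixsq u huHH) (hfixsq t htH)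
  have hle : S ≤ (stb K q).subgroupOf K := by
    intro s hs
    rw [Subgroup.mem_subgroupOf]
    exact mem_stb.mpr ⟨s.2, hSq s hs⟩
  have hdvd := Subgroup.card_dvd_of_le hle
  rw [hS9, Nat.card_congr (Subgroup.subgroupOfEquivOfLe (stb_le K q)).toEquiv, hst q] at hdvd
  norm_num at hdvd

end Cfsg.Agent.Lib.Helper99.M12Out
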