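import Mathlib
import Cfsg.Prelude.Def_GeometricClasses
import Cfsg.Agent.Lib.Helper99.SpInvA
import Cfsg.Agent.Lib.Helper99.PrimeOrdNT
import Cfsg.Agent.Lib.Helper57.CardSL

/-!
# Normalizers of extraspecial subgroups of `GL_3`: general lemmas (helper99)
-/

set_option autoImplicit false
set_option linter.unusedSectionVars false

namespace Cfsg.Agent.Lib.Helper99.Nrm3

open Module Matrix Cfsg.Geo

section general

variable {F : Type*} [Field F]

theorem mem_specialLinear_iff {ι : Type} [Fintype ι] [DecidableEq ι] (g : GL ι F) :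
    g ∈ specialLinear ι F ↔ (g : Matrix ι ι F).det = 1 := by
  unfold specialLinear
  rw [MonoidHom.mem_ker, Units.ext_iff, Matrix.GeneralLinearGroup.val_det_apply, Units.val_one]

/-- Two elements of `GL_n(F)` with eigenbases having the same eigenvalues are conjugate under an
element of determinant one. -/
theorem exists_conj_of_eigenbases {n : ℕ} {ι : Type*} [Fintype ι] [DecidableEq ι] [Nonempty ι]
    (x y : GL (Fin n) F) (𝔟 𝔠 : Basis ι F (Fin n → F)) (d : ι → F)
    (hx : ∀ i, (x : Matrix (Fin n) (Fin n) F) *ᵥ 𝔟 i = d i • 𝔟 i)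
    (hy : ∀ i, (y : Matrix (Fin n) (Fin n) F) *ᵥ 𝔠 i = d i • 𝔠 i) :
    ∃ g ∈ specialLinear (Fin n) F, g⁻¹ * x * g = y := by
  classical
  set φ : (Fin n → F) ≃ₗ[F] (Fin n → F) := 𝔠.equiv 𝔟 (Equiv.refl ι) with hφ
  have hφapp : ∀ i, φ (𝔠 i) = 𝔟 i := by
    intro i
    rw [hφ, Basis.equiv_apply, Equiv.refl_apply]
  obtain ⟨δ, hδ⟩ : ∃ δ : F, δ = LinearMap.det (φ : (Fin n → F) →ₗ[F] (Fin n → F)) := ⟨_, rfl⟩
  have hδ0 : δ ≠ 0 := by
    rw [hδ]
    exact (LinearEquiv.isUnit_det' φ).ne_zero
  obtain ⟨i₀⟩ := (inferInstance : Nonempty ι)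
  obtain ⟨w, hw⟩ : ∃ w : ι → F, w = fun i => if i = i₀ then δ⁻¹ else 1 := ⟨_, rfl⟩
  set h : (Fin n → F) →ₗ[F] (Fin n → F) := 𝔟.constr F (fun i => w i • 𝔟 i) with hh
  have happ : ∀ i, h (𝔟 i) = w i • 𝔟 i := by
    intro i
    rw [hh, Basis.constr_basis]
  have hdeth : LinearMap.det h = δ⁻¹ := by
    have h1 := LinearMap.det_toMatrix 𝔟 h
    have h3 : LinearMap.toMatrix 𝔟 𝔟 h = Matrix.diagonal w := by
      ext s t
      rw [LinearMap.toMatrix_apply, happ, map_smul, Basis.repr_self, Finsupp.smul_apply,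
        Finsupp.single_apply, smul_eq_mul, Matrix.diagonal_apply]
      by_cases hst : s = t
      · subst hst
        simp
      · rw [if_neg (fun h => hst h.symm), if_neg hst, mul_zero]
    rw [← h1, h3, Matrix.det_diagonal, hw, Finset.prod_ite_eq']
    simp
  set G : (Fin n → F) →ₗ[F] (Fin n → F) :=
    h ∘ₗ (φ : (Fin n → F) →ₗ[F] (Fin n → F)) with hG
  have hGapp : ∀ i, G (𝔠 i) = w i • 𝔟 i := by
    intro i
    rw [hG, LinearMap.comp_apply, LinearEquiv.coe_coe, hφapp, happ]
  have hdetG : LinearMap.det G = 1 := by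
    rw [hG, LinearMap.det_comp, hdeth, ← hδ, inv_mul_cancel₀ hδ0]
  have hdetM : (LinearMap.toMatrix' G).det = 1 := by rw [LinearMap.det_toMatrix', hdetG]
  obtain ⟨g, hgcoe⟩ : ∃ g : GL (Fin n) F,
      (g : Matrix (Fin n) (Fin n) F) = LinearMap.toMatrix' G :=
    ⟨Matrix.SpecialLinearGroup.toGL ⟨LinearMap.toMatrix' G, hdetM⟩,
      Matrix.SpecialLinearGroup.coe_GL_coe_matrix _⟩
  have hgapp : ∀ v, (g : Matrix (Fin n) (Fin n) F) *ᵥ v = G v := by
    intro v
    rw [hgcoe, LinearMap.toMatrix'_mulVec]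
  have hxg : x * g = g * y := by
    apply Units.ext
    rw [Units.val_mul, Units.val_mul]
    apply Matrix.toLin'.injective
    apply 𝔠.ext
    intro i
    rw [Matrix.toLin'_apply, Matrix.toLin'_apply, ← Matrix.mulVec_mulVec, ← Matrix.mulVec_mulVec]
    have e1 : (x : Matrix (Fin n) (Fin n) F) *ᵥ ((g : Matrix (Fin n) (Fin n) F) *ᵥ 𝔠 i)
        = (w i * d i) • 𝔟 i := by
      rw [hgapp, hGapp, Matrix.mulVec_smul, hx, smul_smul]
    have e2 : (g : Matrix (Fin n) (Fin n) F) *ᵥ ((y : Matrix (Fin n) (Fin n) F) *ᵥ 𝔠 i)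
        = (w i * d i) • 𝔟 i := by
      rw [hy, Matrix.mulVec_smul, hgapp, hGapp, smul_smul, mul_comm]
    rw [e1, e2]
  refine ⟨g, ?_, ?_⟩
  · rw [mem_specialLinear_iff, hgcoe, hdetM]
  · rw [mul_assoc, hxg, ← mul_assoc, inv_mul_cancel, one_mul]

/-- Decomposition of a vector into eigenvectors of an operator of order three. -/
theorem cube_decomp {V : Type*} [AddCommGroup V] [Module F V]
    (h3 : (3 : F) ≠ 0) (μ : F) (hμ : μ ^ 2 + μ + 1 = 0)
    (φ : V →ₗ[F] V) (hφ : ∀ v, φ (φ (φ v)) = v) (v : V) :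
    ∃ v₀ v₁ v₂ : V, v = v₀ + v₁ + v₂ ∧ φ v₀ = v₀ ∧ φ v₁ = μ • v₁ ∧ φ v₂ = μ ^ 2 • v₂ ∧
      ∀ (ψ : V →ₗ[F] V) (t : F), (∀ u, ψ (φ u) = φ (ψ u)) → ψ v = t • v →
        (ψ v₀ = t • v₀ ∧ ψ v₁ = t • v₁ ∧ ψ v₂ = t • v₂) := by
  have hμ3 : μ ^ 3 = 1 := by linear_combination (μ - 1) * hμ
  obtain ⟨κ, hκ⟩ : ∃ κ : F, κ * 3 = 1 := ⟨3⁻¹, inv_mul_cancel₀ h3⟩
  refine ⟨κ • (v + φ v + φ (φ v)), κ • (v + μ ^ 2 • φ v + μ • φ (φ v)),
    κ • (v + μ • φ v + μ ^ 2 • φ (φ v)), ?_, ?_, ?_, ?_, ?_⟩
  · linear_combination (norm := module) (-1 : F) • (hκ • v) - κ • (hμ • φ v) - κ • (hμ • φ (φ v))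
  · simp only [map_smul, map_add, hφ]
    module
  · simp only [map_smul, map_add, hφ]
    linear_combination (norm := module) (-κ) • (hμ3 • φ v)
  · simp only [map_smul, map_add, hφ]
    linear_combination (norm := module) (-κ) • (hμ3 • φ v) - (κ * μ) • (hμ3 • φ (φ v))
  · intro ψ t hc hv
    have h1 : ψ (φ v) = t • φ v := by rw [hc, hv, map_smul]
    have h2 : ψ (φ (φ v)) = t • φ (φ v) := by rw [hc, h1, map_smul]
    refine ⟨?_, ?_, ?_⟩
    · simp only [map_smul, map_add, hv, h1, h2]
      module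
    · simp only [map_smul, map_add, hv, h1, h2]
      module
    · simp only [map_smul, map_add, hv, h1, h2]
      module

theorem cube_apply {n : ℕ} (u : Matrix (Fin n) (Fin n) F) (hu : u * u * u = 1) (v : Fin n → F) :
    Matrix.toLin' u (Matrix.toLin' u (Matrix.toLin' u v)) = v := by
  have h1 : Matrix.toLin' u (Matrix.toLin' u (Matrix.toLin' u v))
      = Matrix.toLin' (u * u * u) v := by
    rw [Matrix.toLin'_mul, Matrix.toLin'_mul, LinearMap.comp_apply, LinearMap.comp_apply]
  rw [h1, hu, Matrix.toLin'_one, LinearMap.id_apply]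

theorem cube_mulVec {n : ℕ} (u : Matrix (Fin n) (Fin n) F) (hu : u * u * u = 1) (v : Fin n → F) :
    u *ᵥ (u *ᵥ (u *ᵥ v)) = v := by
  have := cube_apply u hu v
  rw [Matrix.toLin'_apply, Matrix.toLin'_apply, Matrix.toLin'_apply] at this
  exact this

/-- A matrix with cube one has a basis of eigenvectors (given a primitive cube root of unity). -/
theorem exists_eigenbasis_cube [Fintype F] {n : ℕ} (h3 : (3 : F) ≠ 0) (μ : F)
    (hμ : μ ^ 2 + μ + 1 = 0) (u : Matrix (Fin n) (Fin n) F) (hu : u * u * u = 1) :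
    ∃ (𝔟 : Basis (Fin n) F (Fin n → F)) (d : Fin n → F),
      (∀ i, u *ᵥ 𝔟 i = d i • 𝔟 i) ∧ (∀ i, d i ^ 3 = 1) := by
  classical
  set φ : Module.End F (Fin n → F) := Matrix.toLin' u with hφ
  have hφ3 : ∀ v, φ (φ (φ v)) = v := cube_apply u hu
  have htop : ⨆ t : F, Module.End.eigenspace φ t = ⊤ := by
    rw [Submodule.eq_top_iff']
    intro v
    obtain ⟨v₀, v₁, v₂, hv, h0, h1, h2, -⟩ := cube_decomp h3 μ hμ φ hφ3 v
    rw [hv]
    refine Submodule.add_mem _ (Submodule.add_mem _ ?_ ?_) ?_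
    · exact Submodule.mem_iSup_of_mem 1
        (Module.End.mem_eigenspace_iff.mpr (by rw [h0, one_smul]))
    · exact Submodule.mem_iSup_of_mem μ (Module.End.mem_eigenspace_iff.mpr h1)
    · exact Submodule.mem_iSup_of_mem (μ ^ 2) (Module.End.mem_eigenspace_iff.mpr h2)
  have hint : DirectSum.IsInternal (fun t : F => Module.End.eigenspace φ t) :=
    DirectSum.isInternal_submodule_of_iSupIndep_of_iSup_eq_top
      (Module.End.eigenspaces_iSupIndep φ) htop
  set cb := hint.collectedBasis (fun t => Module.finBasis F (Module.End.eigenspace φ t)) with hcb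
  have hcard : Fintype.card (Σ t : F, Fin (finrank F (Module.End.eigenspace φ t))) = n := by
    rw [← Module.finrank_eq_card_basis cb, Module.finrank_fintype_fun_eq_card, Fintype.card_fin]
  set eq := Fintype.equivFinOfCardEq hcard with heq
  have hmem : ∀ i, φ (cb (eq.symm i)) = (eq.symm i).1 • cb (eq.symm i) := by
    intro i
    exact Module.End.mem_eigenspace_iff.mp
      (hint.collectedBasis_mem (fun t => Module.finBasis F (Module.End.eigenspace φ t))
        (eq.symm i))
  refine ⟨cb.reindex eq, fun i => (eq.symm i).1, ?_, ?_⟩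
  · intro i
    rw [Basis.reindex_apply, ← Matrix.toLin'_apply]
    exact hmem i
  · intro i
    have hev := hmem i
    have hw0 : cb (eq.symm i) ≠ 0 := cb.ne_zero _
    have e1 : φ (φ (φ (cb (eq.symm i)))) = ((eq.symm i).1 ^ 3) • cb (eq.symm i) := by
      simp only [hev, map_smul, smul_smul]
      congr 1
      ring
    have e2 : ((eq.symm i).1 ^ 3 - 1) • cb (eq.symm i) = 0 := by
      rw [sub_smul, one_smul, ← e1, hφ3, sub_self]
    exact sub_eq_zero.mp ((smul_eq_zero.mp e2).resolve_right hw0)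

/-- An involution of determinant one in dimension three, not the identity, has eigenvalues
`1, -1, -1`. -/
theorem invol_basis (h2 : (2 : F) ≠ 0) (u : Matrix (Fin 3) (Fin 3) F) (hu : u * u = 1)
    (hdet : u.det = 1) (hne : u ≠ 1) :
    ∃ 𝔟 : Basis (Fin 1 ⊕ Fin 2) F (Fin 3 → F),
      (∀ i, u *ᵥ 𝔟 (Sum.inl i) = 𝔟 (Sum.inl i)) ∧
      (∀ j, u *ᵥ 𝔟 (Sum.inr j) = -𝔟 (Sum.inr j)) := by
  classical
  obtain ⟨a, b, 𝔟, hp, hm⟩ := Cfsg.Agent.Lib.Helper99.SpInv.exists_eigen_sum h2 u hu
  have hab : a + b = 3 := by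
    have h1 := Module.finrank_eq_card_basis 𝔟
    rw [Module.finrank_fintype_fun_eq_card, Fintype.card_fin, Fintype.card_sum, Fintype.card_fin,
      Fintype.card_fin] at h1
    omega
  have hdet' : (1 : F) ^ a * (-1) ^ b = 1 := by
    have h1 := LinearMap.det_toMatrix 𝔟 (Matrix.toLin' u)
    rw [LinearMap.det_toLin', hdet] at h1
    have h3 : LinearMap.toMatrix 𝔟 𝔟 (Matrix.toLin' u)
        = Matrix.diagonal (Sum.elim (fun _ => (1 : F)) (fun _ => -1)) := by
      ext s t
      rw [LinearMap.toMatrix_apply, Matrix.toLin'_apply, Matrix.diagonal_apply]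
      rcases t with t | t
      · rw [hp, Basis.repr_self, Finsupp.single_apply]
        by_cases hst : s = Sum.inl t
        · subst hst
          simp
        · rw [if_neg (fun h => hst h.symm), if_neg hst]
      · rw [hm, map_neg, Basis.repr_self, Finsupp.neg_apply, Finsupp.single_apply]
        by_cases hst : s = Sum.inr t
        · subst hst
          simp
        · rw [if_neg (fun h => hst h.symm), if_neg hst, neg_zero]
    rw [h3, Matrix.det_diagonal, Fintype.prod_sum_type] at h1
    simp only [Sum.elim_inl, Sum.elim_inr, Finset.prod_const, Finset.card_univ,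
      Fintype.card_fin] at h1
    exact h1
  have hbe : Even b := by
    by_contra hb
    rw [Nat.not_even_iff_odd] at hb
    rw [one_pow, one_mul, Odd.neg_one_pow hb] at hdet'
    apply h2
    linear_combination -hdet'
  have hb0 : b ≠ 0 := by
    rintro rfl
    apply hne
    apply Matrix.toLin'.injective
    apply 𝔟.ext
    rintro (i | j)
    · rw [Matrix.toLin'_apply, hp, Matrix.toLin'_one, LinearMap.id_apply]
    · exact j.elim0
  obtain ⟨b', hb'⟩ := hbe
  have hb2 : b = 2 := by omega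
  have ha1 : a = 1 := by omega
  subst hb2
  subst ha1
  exact ⟨𝔟, hp, hm⟩

end general

section groups

theorem no_prime_dvd {r : ℕ} (hr : r.Prime) (hr5 : 5 ≤ r) (m : ℕ) (hm : m = 24 ∨ m = 18)
    (h : r ∣ m) : False := by
  have hle : r ≤ 24 := by
    rcases hm with rfl | rfl
    · exact Nat.le_of_dvd (by norm_num) h
    · exact le_trans (Nat.le_of_dvd (by norm_num) h) (by norm_num)
  rcases hm with rfl | rfl
  · interval_cases r <;> first | omega | (norm_num at hr)
  · interval_cases r <;> first | omega | (norm_num at hr)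

/-- An element normalizing a group `R` of order 27 and commuting with a non-trivial element of it,
with a central `r`-th power for a prime `r ≥ 5`, centralizes `R`. -/
theorem centralizes_of_pow_central {G : Type*} [Group G] (R : Subgroup G) (hR : Nat.card R = 27)
    (c : G) (hcR : c ∈ R) (hc1 : c ≠ 1) (x : G) (hx : x ∈ Subgroup.normalizer (R : Set G))
    (hxc : x * c = c * x) (r : ℕ) (hr : r.Prime) (hr5 : 5 ≤ r)
    (hxr : ∀ n ∈ R, x ^ r * n = n * x ^ r) : ∀ n ∈ R, x * n = n * x := by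
  classical
  haveI : Fact r.Prime := ⟨hr⟩
  haveI : Finite R := Nat.finite_of_card_ne_zero (by rw [hR]; norm_num)
  haveI : Fintype R := Fintype.ofFinite R
  have hnorm : ∀ n : G, n ∈ R → x * n * x⁻¹ ∈ R := fun n hn => (hx n).mp hn
  set f : Function.End R := fun n => ⟨x * n * x⁻¹, hnorm n n.2⟩ with hf
  have hiter : ∀ (k : ℕ) (n : R), ((f^[k]) n : G) = x ^ k * n * (x ^ k)⁻¹ := by
    intro k
    induction k with
    | zero =>
      intro n
      rw [Function.iterate_zero, id, pow_zero, one_mul, inv_one, mul_one]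
    | succ k ih =>
      intro n
      rw [Function.iterate_succ_apply']
      show x * ((f^[k]) n : G) * x⁻¹ = _
      rw [ih, pow_succ', _root_.mul_inv_rev]
      simp only [mul_assoc]
  have hfr : f ^ r ^ 1 = 1 := by
    rw [pow_one]
    funext n
    show (f^[r]) n = n
    apply Subtype.ext
    rw [hiter, hxr n n.2, mul_inv_cancel_right]
  have hmod := Equiv.Perm.card_fixedPoints_modEq (f := f) (p := r) (n := 1) hfr
  set C : Subgroup R := (Subgroup.centralizer {x}).subgroupOf R with hC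
  have hCmem : ∀ n : R, n ∈ C ↔ x * (n : G) = (n : G) * x := by
    intro n
    rw [hC, Subgroup.mem_subgroupOf, Subgroup.mem_centralizer_iff]
    constructor
    · intro h
      exact h x rfl
    · intro h y hy
      rw [Set.mem_singleton_iff] at hy
      rw [hy]
      exact h
  have hfix : (Function.fixedPoints f : Set R) = (C : Set R) := by
    ext n
    rw [Function.mem_fixedPoints_iff, SetLike.mem_coe, hCmem]
    constructor
    · intro h
      have h1 : x * (n : G) * x⁻¹ = (n : G) := congrArg Subtype.val h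
      calc x * (n : G) = x * (n : G) * x⁻¹ * x := by group
        _ = (n : G) * x := by rw [h1]
    · intro h
      apply Subtype.ext
      show x * (n : G) * x⁻¹ = (n : G)
      rw [h, mul_inv_cancel_right]
  have hcardfix : Fintype.card (Function.fixedPoints f) = Nat.card C := by
    rw [Fintype.card_eq_nat_card]
    exact Nat.card_congr (Equiv.setCongr hfix)
  have hcardR : Fintype.card R = 27 := by rw [Fintype.card_eq_nat_card, hR]
  rw [hcardfix, hcardR] at hmod
  have hCdvd : Nat.card C ∣ 3 ^ 3 := by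
    have := Subgroup.card_subgroup_dvd_card C
    rw [hR] at this
    exact this
  have hC1 : Nat.card C ≠ 1 := by
    intro h1
    have hbot : C = ⊥ := Subgroup.card_eq_one.mp h1
    have hcC : (⟨c, hcR⟩ : R) ∈ C := (hCmem _).mpr hxc
    rw [hbot, Subgroup.mem_bot] at hcC
    exact hc1 (congrArg Subtype.val hcC)
  obtain ⟨m, hm, hCm⟩ := (Nat.dvd_prime_pow Nat.prime_three).mp hCdvd
  have hC27 : Nat.card C = 27 := by
    interval_cases m
    · exact absurd hCm hC1
    · exfalso
      rw [hCm] at hmod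
      have := (Nat.modEq_iff_dvd' (by norm_num : 3 ^ 1 ≤ 27)).mp hmod.symm
      exact no_prime_dvd hr hr5 _ (Or.inl (by norm_num)) this
    · exfalso
      rw [hCm] at hmod
      have := (Nat.modEq_iff_dvd' (by norm_num : 3 ^ 2 ≤ 27)).mp hmod.symm
      exact no_prime_dvd hr hr5 _ (Or.inr (by norm_num)) this
    · rw [hCm]
      norm_num
  have htop : C = ⊤ := Subgroup.eq_top_of_card_eq C (by rw [hC27, hR])
  intro n hn
  have : (⟨n, hn⟩ : R) ∈ C := by
    rw [htop]
    exact Subgroup.mem_top _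
  exact (hCmem _).mp this

theorem comm_of_card_dvd_nine {G : Type*} [Group G] (h : Nat.card G ∣ 9) (a b : G) :
    a * b = b * a := by
  have h' : Nat.card G ∣ 3 ^ 2 := by
    rw [show (3 : ℕ) ^ 2 = 9 by norm_num]
    exact h
  obtain ⟨m, hm, hGm⟩ := (Nat.dvd_prime_pow Nat.prime_three).mp h'
  haveI : Fact (Nat.Prime 3) := ⟨Nat.prime_three⟩
  interval_cases m
  · rw [pow_zero] at hGm
    haveI : Subsingleton G := (Nat.card_eq_one_iff_unique.mp hGm).1
    exact Subsingleton.elim _ _
  · rw [pow_one] at hGm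
    haveI := isCyclic_of_prime_card hGm
    exact (IsCyclic.isMulCommutative (α := G)).is_comm.comm a b
  · exact (IsPGroup.isMulCommutative_of_card_eq_prime_sq (p := 3) hGm).is_comm.comm a b

/-- In a group of order 27 all commutators are central. -/
theorem commutator_mem_center {G : Type*} [Group G] (hG : Nat.card G = 27) (a b : G) :
    a * b * a⁻¹ * b⁻¹ ∈ Subgroup.center G := by
  haveI : Finite G := Nat.finite_of_card_ne_zero (by rw [hG]; norm_num)
  haveI : Fact (Nat.Prime 3) := ⟨Nat.prime_three⟩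
  haveI : Nontrivial G := by
    rw [← Finite.one_lt_card_iff_nontrivial, hG]
    norm_num
  have hp : IsPGroup 3 G := IsPGroup.of_card (n := 3) (by rw [hG]; norm_num)
  haveI := hp.center_nontrivial
  have h1 : Nat.card (Subgroup.center G) * (Subgroup.center G).index = 27 := by
    rw [Subgroup.card_mul_index, hG]
  have hZ1 : Nat.card (Subgroup.center G) ≠ 1 := by
    intro h
    have h2 := Subgroup.card_eq_one.mp h
    exact ((Subgroup.nontrivial_iff_ne_bot _).mp inferInstance) h2
  have hZdvd : Nat.card (Subgroup.center G) ∣ 3 ^ 3 := by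
    have := Subgroup.card_subgroup_dvd_card (Subgroup.center G)
    rw [hG] at this
    exact this
  obtain ⟨m, hm, hZm⟩ := (Nat.dvd_prime_pow Nat.prime_three).mp hZdvd
  have hidx : (Subgroup.center G).index ∣ 9 := by
    rw [hZm] at h1
    interval_cases m
    · exact absurd hZm hZ1
    · have : (Subgroup.center G).index = 9 := by omega
      rw [this]
    · have : (Subgroup.center G).index = 3 := by omega
      rw [this]
      norm_num
    · have : (Subgroup.center G).index = 1 := by omega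
      rw [this]
      norm_num
  have hq : Nat.card (G ⧸ Subgroup.center G) ∣ 9 := by
    rw [← Subgroup.index_eq_card]
    exact hidx
  have hcomm := comm_of_card_dvd_nine hq (QuotientGroup.mk a) (QuotientGroup.mk b)
  rw [← QuotientGroup.eq_one_iff]
  rw [QuotientGroup.mk_mul, QuotientGroup.mk_mul, QuotientGroup.mk_mul, QuotientGroup.mk_inv,
    QuotientGroup.mk_inv, hcomm]
  group

/-- A non-commutative subgroup generated inside a group of order 27 is everything. -/
theorem closure_eq_of_noncomm {G : Type*} [Group G] (R : Subgroup G) (hR : Nat.card R = 27)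
    (a b : G) (ha : a ∈ R) (hb : b ∈ R) (hab : a * b ≠ b * a) :
    R = Subgroup.closure {a, b} := by
  haveI : Finite R := Nat.finite_of_card_ne_zero (by rw [hR]; norm_num)
  have hKR : Subgroup.closure ({a, b} : Set G) ≤ R := by
    rw [Subgroup.closure_le]
    rintro y (rfl | hy)
    · exact ha
    · rw [Set.mem_singleton_iff] at hy
      rw [hy]
      exact hb
  have hdvd : Nat.card (Subgroup.closure ({a, b} : Set G)) ∣ 3 ^ 3 := by
    have := Subgroup.card_dvd_of_le hKR
    rw [hR] at this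
    exact this
  have hnot9 : ¬ Nat.card (Subgroup.closure ({a, b} : Set G)) ∣ 9 := by
    intro h
    have := comm_of_card_dvd_nine h
      (⟨a, Subgroup.subset_closure (Set.mem_insert a {b})⟩ : Subgroup.closure ({a, b} : Set G))
      ⟨b, Subgroup.subset_closure (Set.mem_insert_of_mem a rfl)⟩
    exact hab (congrArg Subtype.val this)
  obtain ⟨m, hm, hKm⟩ := (Nat.dvd_prime_pow Nat.prime_three).mp hdvd
  have hK27 : Nat.card (Subgroup.closure ({a, b} : Set G)) = 27 := by
    interval_cases m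
    · exfalso
      apply hnot9
      rw [hKm]
      norm_num
    · exfalso
      apply hnot9
      rw [hKm]
      norm_num
    · exfalso
      apply hnot9
      rw [hKm]
      norm_num
    · rw [hKm]
      norm_num
  exact (Subgroup.eq_of_le_of_card_ge hKR (by rw [hK27, hR])).symm

end groups

section numbers

variable {F : Type*} [Field F] [Fintype F]

theorem exists_prim_cube_root {p : ℕ} (hF : Fintype.card F = p) (hp3 : p % 3 = 1) :
    ∃ μ : F, μ ^ 2 + μ + 1 = 0 := by
  classical
  haveI : Fact (Nat.Prime 3) := ⟨Nat.prime_three⟩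
  have h3 : 3 ∣ Nat.card Fˣ := by
    rw [Nat.card_eq_fintype_card, Fintype.card_units, hF]
    omega
  obtain ⟨u, hu⟩ := exists_prime_orderOf_dvd_card' (G := Fˣ) 3 h3
  refine ⟨(u : F), ?_⟩
  have hu3 : (u : F) ^ 3 = 1 := by
    rw [← Units.val_pow_eq_pow_val, ← hu, pow_orderOf_eq_one, Units.val_one]
  have hu1 : (u : F) ≠ 1 := by
    intro h
    have h1 : u = 1 := Units.ext h
    rw [h1, orderOf_one] at hu
    norm_num at hu
  have h : ((u : F) - 1) * ((u : F) ^ 2 + u + 1) = 0 := by linear_combination hu3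
  rcases mul_eq_zero.mp h with h | h
  · exact absurd (sub_eq_zero.mp h) hu1
  · exact h

set_option maxRecDepth 100000 in
theorem key243 : ∀ a : ZMod 243, (a.val % 9 = 4 ∨ a.val % 9 = 7) →
    (a ^ 3 - 1) * (a ^ 3 - a) * (a ^ 3 - a ^ 2) ≠ 0 := by
  decide

/-- `81` does not divide `|SL_3(p)|` when `p ≡ 4, 7 (mod 9)`. -/
theorem not_dvd_card_specialLinear {p : ℕ} (hF : Fintype.card F = p) (hp3 : p % 3 = 1)
    (hp9 : p % 9 ≠ 1) : ¬ 81 ∣ Nat.card (specialLinear (Fin 3) F) := by
  classical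
  intro h81
  have hS : Nat.card (specialLinear (Fin 3) F)
      = Nat.card (Matrix.SpecialLinearGroup (Fin 3) F) := by
    unfold specialLinear
    rw [← Cfsg.Agent.Lib.Helper57.range_toGL_eq_ker_det]
    exact (Nat.card_congr
      (MonoidHom.ofInjective Matrix.SpecialLinearGroup.toGL_injective).toEquiv).symm
  have hform : (p - 1) * Nat.card (specialLinear (Fin 3) F)
      = (p ^ 3 - 1) * (p ^ 3 - p) * (p ^ 3 - p ^ 2) := by
    have := Cfsg.Agent.Lib.Helper57.card_SL_formula (F := F) 3 (by norm_num)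
    rw [hF, Fin.prod_univ_three, ← hS] at this
    simpa using this
  have hp1 : 3 ∣ p - 1 := by omega
  have h243 : 243 ∣ (p ^ 3 - 1) * (p ^ 3 - p) * (p ^ 3 - p ^ 2) := by
    rw [← hform, show (243 : ℕ) = 3 * 81 by norm_num]
    exact Nat.mul_dvd_mul hp1 h81
  have hpos : 1 ≤ p := by omega
  have hle1 : 1 ≤ p ^ 3 := Nat.one_le_pow _ _ hpos
  have hle2 : p ≤ p ^ 3 := Nat.le_self_pow (by norm_num) p
  have hle3 : p ^ 2 ≤ p ^ 3 := Nat.pow_le_pow_right hpos (by norm_num)
  have hz : (((p ^ 3 - 1) * (p ^ 3 - p) * (p ^ 3 - p ^ 2) : ℕ) : ZMod 243) = 0 :=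
    (ZMod.natCast_eq_zero_iff _ 243).mpr h243
  push_cast [Nat.cast_sub hle1, Nat.cast_sub hle2, Nat.cast_sub hle3] at hz
  have hval : ((p : ZMod 243)).val % 9 = p % 9 := by
    rw [ZMod.val_natCast, Nat.mod_mod_of_dvd p (by norm_num : 9 ∣ 243)]
  have hcase : ((p : ZMod 243)).val % 9 = 4 ∨ ((p : ZMod 243)).val % 9 = 7 := by
    rw [hval]
    omega
  exact key243 (p : ZMod 243) hcase hz

end numbers

end Cfsg.Agent.Lib.Helper99.Nrm3
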