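import Mathlib
import Cfsg.Agent.Lib.Helper99.NrmA

/-!
# Normalizers of extraspecial subgroups of `GL_3`: the normal form (helper99)
-/

set_option autoImplicit false
set_option linter.unusedSectionVars false

namespace Cfsg.Agent.Lib.Helper99.Nrm3

open Module Matrix Cfsg.Geo

section LA

variable {F : Type*} [Field F]

theorem lam_ne_one (h3 : (3 : F) ≠ 0) {lam : F} (hlam : lam ^ 2 + lam + 1 = 0) : lam ≠ 1 := by
  intro h
  rw [h] at hlam
  apply h3
  linear_combination hlam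

theorem lam_sq_ne_one (h3 : (3 : F) ≠ 0) {lam : F} (hlam : lam ^ 2 + lam + 1 = 0) :
    lam * lam ≠ 1 := by
  intro h
  apply h3
  linear_combination (lam - 1) * h - (lam - 2) * hlam

theorem lam_sq_ne_self (h3 : (3 : F) ≠ 0) {lam : F} (hlam : lam ^ 2 + lam + 1 = 0) :
    lam * lam ≠ lam := by
  intro h
  apply h3
  linear_combination (3 - 2 * lam) * hlam + (1 + 2 * lam) * h

/-- The linear algebra behind the normal form of an extraspecial group of order 27. -/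
theorem exists_adapted_basis (h3 : (3 : F) ≠ 0) (μ : F) (hμ : μ ^ 2 + μ + 1 = 0)
    (A B C : Matrix (Fin 3) (Fin 3) F) (hA3 : A * A * A = 1) (hB3 : B * B * B = 1)
    (hC3 : C * C * C = 1) (hC1 : C ≠ 1) (hAB : A * B = C * B * A) (hCA : C * A = A * C)
    (hCB : C * B = B * C) :
    ∃ (lam : F) (s : ℕ) (𝔢 : Basis (Fin 3) F (Fin 3 → F)), lam ^ 2 + lam + 1 = 0 ∧
      C = lam • (1 : Matrix (Fin 3) (Fin 3) F) ∧
      (∀ i : Fin 3, (C ^ s * A) *ᵥ 𝔢 i = lam ^ (i : ℕ) • 𝔢 i) ∧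
      (∀ i : Fin 3, B *ᵥ 𝔢 i = 𝔢 (i + 1)) := by
  classical
  obtain ⟨lam, hlam, w₀, hw₀, hCw₀⟩ : ∃ lam : F, lam ^ 2 + lam + 1 = 0 ∧
      ∃ w₀ : Fin 3 → F, w₀ ≠ 0 ∧ C *ᵥ w₀ = lam • w₀ := by
    by_contra hcon
    push Not at hcon
    apply hC1
    apply Matrix.toLin'.injective
    apply LinearMap.ext
    intro v
    obtain ⟨v₀, v₁, v₂, hv, h0, h1, h2, -⟩ :=
      cube_decomp h3 μ hμ (Matrix.toLin' C) (cube_apply C hC3) v
    have hv1 : v₁ = 0 := by
      by_contra hne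
      exact hcon μ hμ v₁ hne (by rw [← Matrix.toLin'_apply]; exact h1)
    have hv2 : v₂ = 0 := by
      by_contra hne
      have hμ2 : (μ ^ 2) ^ 2 + μ ^ 2 + 1 = 0 := by linear_combination (μ ^ 2 - μ + 1) * hμ
      exact hcon (μ ^ 2) hμ2 v₂ hne (by rw [← Matrix.toLin'_apply]; exact h2)
    rw [hv, hv1, hv2, add_zero, add_zero, Matrix.toLin'_one, LinearMap.id_apply]
    exact h0
  have hlam3 : lam ^ 3 = 1 := by linear_combination (lam - 1) * hlam
  have hcomm : ∀ u, Matrix.toLin' C (Matrix.toLin' A u)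
      = Matrix.toLin' A (Matrix.toLin' C u) := by
    intro u
    simp only [Matrix.toLin'_apply, Matrix.mulVec_mulVec, hCA]
  obtain ⟨v₀, v₁, v₂, hv, h0, h1, h2, hψ⟩ :=
    cube_decomp h3 lam hlam (Matrix.toLin' A) (cube_apply A hA3) w₀
  obtain ⟨hc0, hc1, hc2⟩ := hψ (Matrix.toLin' C) lam hcomm
    (by rw [Matrix.toLin'_apply]; exact hCw₀)
  simp only [Matrix.toLin'_apply] at h0 h1 h2 hc0 hc1 hc2
  obtain ⟨s, w, hw, hCw, hAw⟩ : ∃ (s : ℕ) (w : Fin 3 → F), w ≠ 0 ∧ C *ᵥ w = lam • w ∧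
      (C ^ s * A) *ᵥ w = w := by
    by_cases hv0 : v₀ = 0
    · by_cases hv1 : v₁ = 0
      · have hv2 : v₂ ≠ 0 := by
          intro hv2
          apply hw₀
          rw [hv, hv0, hv1, hv2, add_zero, add_zero]
        refine ⟨1, v₂, hv2, hc2, ?_⟩
        rw [pow_one, ← Matrix.mulVec_mulVec, h2, Matrix.mulVec_smul, hc2]
        linear_combination (norm := module) hlam3 • v₂
      · refine ⟨2, v₁, hv1, hc1, ?_⟩
        rw [pow_two, ← Matrix.mulVec_mulVec, ← Matrix.mulVec_mulVec, h1, Matrix.mulVec_smul, hc1,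
          Matrix.mulVec_smul, Matrix.mulVec_smul, hc1]
        linear_combination (norm := module) hlam3 • v₁
    · refine ⟨0, v₀, hv0, hc0, ?_⟩
      rw [pow_zero, one_mul, h0]
  obtain ⟨A', hA'⟩ : ∃ A' : Matrix (Fin 3) (Fin 3) F, A' = C ^ s * A := ⟨_, rfl⟩
  rw [← hA'] at hAw
  have cCB : Commute C B := hCB
  have hA'B : A' * B = C * B * A' := by
    have h1 : Commute (C ^ s) (C * B) :=
      ((Commute.refl C).pow_left s).mul_right (cCB.pow_left s)
    calc A' * B = C ^ s * (A * B) := by rw [hA', mul_assoc]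
      _ = C ^ s * (C * B * A) := by rw [hAB]
      _ = (C ^ s * (C * B)) * A := by rw [mul_assoc (C ^ s) (C * B) A]
      _ = ((C * B) * C ^ s) * A := by rw [h1.eq]
      _ = C * B * A' := by rw [hA', mul_assoc]
  have hB3' : ∀ v, B *ᵥ (B *ᵥ (B *ᵥ v)) = v := cube_mulVec B hB3
  have hCstep : ∀ v, C *ᵥ v = lam • v → C *ᵥ (B *ᵥ v) = lam • (B *ᵥ v) := by
    intro v hv
    rw [Matrix.mulVec_mulVec, hCB, ← Matrix.mulVec_mulVec, hv, Matrix.mulVec_smul]
  have hAstep : ∀ (v : Fin 3 → F) (t : F), A' *ᵥ v = t • v → C *ᵥ v = lam • v →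
      A' *ᵥ (B *ᵥ v) = (t * lam) • (B *ᵥ v) := by
    intro v t hv hCv
    rw [Matrix.mulVec_mulVec, hA'B, ← Matrix.mulVec_mulVec, ← Matrix.mulVec_mulVec, hv,
      Matrix.mulVec_smul, Matrix.mulVec_smul, hCstep v hCv, smul_smul]
  have hw1 : B *ᵥ w ≠ 0 := by
    intro h
    apply hw
    rw [← hB3' w, h, Matrix.mulVec_zero, Matrix.mulVec_zero]
  have hw2 : B *ᵥ (B *ᵥ w) ≠ 0 := by
    intro h
    apply hw
    rw [← hB3' w, h, Matrix.mulVec_zero]
  have hC1w := hCstep w hCw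
  have hC2w := hCstep _ hC1w
  have hA0 : A' *ᵥ w = (1 : F) • w := by
    rw [one_smul]
    exact hAw
  have hA1 : A' *ᵥ (B *ᵥ w) = lam • (B *ᵥ w) := by
    have := hAstep w 1 hA0 hCw
    rw [one_mul] at this
    exact this
  have hA2 : A' *ᵥ (B *ᵥ (B *ᵥ w)) = (lam * lam) • (B *ᵥ (B *ᵥ w)) :=
    hAstep _ lam hA1 hC1w
  obtain ⟨evs, hevs⟩ : ∃ evs : Fin 3 → F, evs = ![1, lam, lam * lam] := ⟨_, rfl⟩
  obtain ⟨𝔳, h𝔳⟩ : ∃ 𝔳 : Fin 3 → (Fin 3 → F), 𝔳 = ![w, B *ᵥ w, B *ᵥ (B *ᵥ w)] := ⟨_, rfl⟩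
  have hl1 := lam_ne_one h3 hlam
  have hl2 := lam_sq_ne_one h3 hlam
  have hl3 := lam_sq_ne_self h3 hlam
  have hinj : Function.Injective evs := by
    intro i j hij
    rw [hevs] at hij
    fin_cases i <;> fin_cases j
    · rfl
    · exact absurd hij (Ne.symm hl1)
    · exact absurd hij (Ne.symm hl2)
    · exact absurd hij hl1
    · rfl
    · exact absurd hij (Ne.symm hl3)
    · exact absurd hij hl2
    · exact absurd hij hl3
    · rfl
  have hev : ∀ i, Module.End.HasEigenvector (Matrix.toLin' A') (evs i) (𝔳 i) := by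
    intro i
    rw [hevs, h𝔳]
    fin_cases i
    · exact Module.End.hasEigenvector_iff.mpr
        ⟨Module.End.mem_eigenspace_iff.mpr (by rw [Matrix.toLin'_apply]; exact hA0), hw⟩
    · exact Module.End.hasEigenvector_iff.mpr
        ⟨Module.End.mem_eigenspace_iff.mpr (by rw [Matrix.toLin'_apply]; exact hA1), hw1⟩
    · exact Module.End.hasEigenvector_iff.mpr
        ⟨Module.End.mem_eigenspace_iff.mpr (by rw [Matrix.toLin'_apply]; exact hA2), hw2⟩
  have hli : LinearIndependent F 𝔳 :=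
    Module.End.eigenvectors_linearIndependent' (Matrix.toLin' A') evs hinj 𝔳 hev
  obtain ⟨𝔢, h𝔢⟩ : ∃ 𝔢 : Basis (Fin 3) F (Fin 3 → F), ∀ i, 𝔢 i = 𝔳 i := by
    refine ⟨basisOfLinearIndependentOfCardEqFinrank hli
      (by rw [Fintype.card_fin, Module.finrank_fintype_fun_eq_card, Fintype.card_fin]), ?_⟩
    intro i
    rw [coe_basisOfLinearIndependentOfCardEqFinrank]
  have hC𝔳 : ∀ i, C *ᵥ 𝔳 i = lam • 𝔳 i := by
    intro i
    rw [h𝔳]
    fin_cases i
    · exact hCw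
    · exact hC1w
    · exact hC2w
  refine ⟨lam, s, 𝔢, hlam, ?_, ?_, ?_⟩
  · apply Matrix.toLin'.injective
    apply 𝔢.ext
    intro i
    rw [Matrix.toLin'_apply, Matrix.toLin'_apply, h𝔢, hC𝔳, Matrix.smul_mulVec,
      Matrix.one_mulVec]
  · intro i
    rw [h𝔢, ← hA', h𝔳]
    fin_cases i
    · show A' *ᵥ w = lam ^ 0 • w
      rw [pow_zero]
      exact hA0
    · show A' *ᵥ (B *ᵥ w) = lam ^ 1 • (B *ᵥ w)
      rw [pow_one]
      exact hA1
    · show A' *ᵥ (B *ᵥ (B *ᵥ w)) = lam ^ 2 • (B *ᵥ (B *ᵥ w))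
      rw [pow_two]
      exact hA2
  · intro i
    rw [h𝔢, h𝔢, h𝔳]
    fin_cases i
    · rfl
    · rfl
    · exact hB3' w

end LA

section NF

variable {F : Type*} [Field F]

/-- Normal form data for an extraspecial subgroup `R` of order 27 of `GL_3(F)`. -/
structure IsNF (R : Subgroup (GL (Fin 3) F)) (a b cc : GL (Fin 3) F) (lam : F)
    (𝔢 : Basis (Fin 3) F (Fin 3 → F)) : Prop where
  hlam : lam ^ 2 + lam + 1 = 0
  hgen : R = Subgroup.closure {a, b}
  hcc : cc ∈ R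
  hccm : (cc : Matrix (Fin 3) (Fin 3) F) = lam • (1 : Matrix (Fin 3) (Fin 3) F)
  ha : ∀ i : Fin 3, (a : Matrix (Fin 3) (Fin 3) F) *ᵥ 𝔢 i = lam ^ (i : ℕ) • 𝔢 i
  hb : ∀ i : Fin 3, (b : Matrix (Fin 3) (Fin 3) F) *ᵥ 𝔢 i = 𝔢 (i + 1)

theorem three_ne_zero_of {p : ℕ} [Fact p.Prime] [CharP F p] (hp3 : p % 3 = 1) :
    (3 : F) ≠ 0 := by
  intro h
  have h1 : ((3 : ℕ) : F) = 0 := by exact_mod_cast h
  rw [CharP.cast_eq_zero_iff F p 3] at h1
  have h2 := Nat.le_of_dvd (by norm_num) h1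
  have h3 := (Fact.out : p.Prime).two_le
  interval_cases p <;> omega

theorem two_ne_zero_of {p : ℕ} [Fact p.Prime] [CharP F p] (hp3 : p % 3 = 1) :
    (2 : F) ≠ 0 := by
  intro h
  have h1 : ((2 : ℕ) : F) = 0 := by exact_mod_cast h
  rw [CharP.cast_eq_zero_iff F p 2] at h1
  have h2 := Nat.le_of_dvd (by norm_num) h1
  have h3 := (Fact.out : p.Prime).two_le
  interval_cases p
  omega

/-- A non-abelian subgroup of order 27 and exponent 3 of `GL_3(F)` (`3 ≠ 0`, with a primitive cube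
root of unity) has a normal form. -/
theorem exists_normal_form_of (h3F : (3 : F) ≠ 0) (μ : F) (hμ : μ ^ 2 + μ + 1 = 0)
    (R : Subgroup (GL (Fin 3) F)) (hR : Nat.card R = 27) (hRe : Monoid.exponent R = 3)
    (hRna : ¬ IsMulCommutative R) :
    ∃ (a b cc : GL (Fin 3) F) (lam : F) (𝔢 : Basis (Fin 3) F (Fin 3 → F)),
      IsNF R a b cc lam 𝔢 := by
  classical
  rw [isMulCommutative_iff] at hRna
  push Not at hRna
  obtain ⟨a, b, hab⟩ := hRna
  have hcen := commutator_mem_center hR a b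
  rw [Subgroup.mem_center_iff] at hcen
  obtain ⟨a', ha'⟩ : ∃ a' : GL (Fin 3) F, a' = (a : GL (Fin 3) F) := ⟨_, rfl⟩
  obtain ⟨b', hb'⟩ : ∃ b' : GL (Fin 3) F, b' = (b : GL (Fin 3) F) := ⟨_, rfl⟩
  have ha'R : a' ∈ R := by
    rw [ha']
    exact a.2
  have hb'R : b' ∈ R := by
    rw [hb']
    exact b.2
  obtain ⟨c', hc'⟩ : ∃ c' : GL (Fin 3) F, c' = a' * b' * a'⁻¹ * b'⁻¹ := ⟨_, rfl⟩
  have hc'R : c' ∈ R := by
    rw [hc']
    exact R.mul_mem (R.mul_mem (R.mul_mem ha'R hb'R) (R.inv_mem ha'R)) (R.inv_mem hb'R)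
  have hc'cen : ∀ g ∈ R, g * c' = c' * g := by
    intro g hg
    have h2 := congrArg Subtype.val (hcen ⟨g, hg⟩)
    rw [hc', ha', hb']
    exact h2
  have hab' : a' * b' ≠ b' * a' := by
    intro h
    apply hab
    apply Subtype.ext
    rw [ha', hb'] at h
    exact h
  have hc'1 : c' ≠ 1 := by
    intro h
    apply hab'
    rw [hc'] at h
    calc a' * b' = (a' * b' * a'⁻¹ * b'⁻¹) * (b' * a') := by group
      _ = b' * a' := by rw [h, one_mul]
  have hcube : ∀ g ∈ R, ((g : GL (Fin 3) F) : Matrix (Fin 3) (Fin 3) F)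
      * (g : Matrix (Fin 3) (Fin 3) F) * (g : Matrix (Fin 3) (Fin 3) F) = 1 := by
    intro g hg
    have h1 : (⟨g, hg⟩ : R) ^ 3 = 1 := by
      have h0 := Monoid.pow_exponent_eq_one (⟨g, hg⟩ : R)
      rw [hRe] at h0
      exact h0
    have h2 : g ^ 3 = 1 := by
      have := congrArg Subtype.val h1
      simpa using this
    have h3 := congrArg Units.val h2
    rw [Units.val_pow_eq_pow_val, Units.val_one] at h3
    calc (g : Matrix (Fin 3) (Fin 3) F) * (g : Matrix (Fin 3) (Fin 3) F)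
          * (g : Matrix (Fin 3) (Fin 3) F) = (g : Matrix (Fin 3) (Fin 3) F) ^ 3 := by
          rw [pow_succ, pow_two]
      _ = 1 := h3
  have hAB : (a' : Matrix (Fin 3) (Fin 3) F) * (b' : Matrix (Fin 3) (Fin 3) F)
      = (c' : Matrix (Fin 3) (Fin 3) F) * (b' : Matrix (Fin 3) (Fin 3) F)
        * (a' : Matrix (Fin 3) (Fin 3) F) := by
    have h1 : a' * b' = c' * b' * a' := by
      rw [hc']
      group
    have h2 := congrArg Units.val h1
    rw [Units.val_mul, Units.val_mul, Units.val_mul] at h2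
    exact h2
  have hCA : (c' : Matrix (Fin 3) (Fin 3) F) * (a' : Matrix (Fin 3) (Fin 3) F)
      = (a' : Matrix (Fin 3) (Fin 3) F) * (c' : Matrix (Fin 3) (Fin 3) F) := by
    have h2 := congrArg Units.val (hc'cen a' ha'R)
    rw [Units.val_mul, Units.val_mul] at h2
    exact h2.symm
  have hCB : (c' : Matrix (Fin 3) (Fin 3) F) * (b' : Matrix (Fin 3) (Fin 3) F)
      = (b' : Matrix (Fin 3) (Fin 3) F) * (c' : Matrix (Fin 3) (Fin 3) F) := by
    have h2 := congrArg Units.val (hc'cen b' hb'R)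
    rw [Units.val_mul, Units.val_mul] at h2
    exact h2.symm
  have hC1 : (c' : Matrix (Fin 3) (Fin 3) F) ≠ 1 := by
    intro h
    exact hc'1 (Units.ext h)
  obtain ⟨lam, s, 𝔢, hlam, hClam, hA𝔢, hB𝔢⟩ := exists_adapted_basis h3F μ hμ
    (a' : Matrix (Fin 3) (Fin 3) F) (b' : Matrix (Fin 3) (Fin 3) F)
    (c' : Matrix (Fin 3) (Fin 3) F)
    (hcube a' ha'R) (hcube b' hb'R) (hcube c' hc'R) hC1 hAB hCA hCB
  refine ⟨c' ^ s * a', b', c', lam, 𝔢, ⟨hlam, ?_, hc'R, hClam, ?_, hB𝔢⟩⟩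
  · apply closure_eq_of_noncomm R hR _ _ (R.mul_mem (R.pow_mem hc'R s) ha'R) hb'R
    intro h
    apply hab'
    have hcb : b' * c' ^ s = c' ^ s * b' := by
      have h1 : Commute b' c' := hc'cen b' hb'R
      exact (h1.pow_right s).eq
    have h5 : c' ^ s * (a' * b') = c' ^ s * (b' * a') := by
      calc c' ^ s * (a' * b') = c' ^ s * a' * b' := (mul_assoc _ _ _).symm
        _ = b' * (c' ^ s * a') := h
        _ = (b' * c' ^ s) * a' := (mul_assoc _ _ _).symm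
        _ = (c' ^ s * b') * a' := by rw [hcb]
        _ = c' ^ s * (b' * a') := mul_assoc _ _ _
    exact mul_left_cancel h5
  · intro i
    rw [Units.val_mul, Units.val_pow_eq_pow_val]
    exact hA𝔢 i

/-- A non-abelian subgroup of order 27 and exponent 3 of `GL_3(F)` (`|F| = p ≡ 1 mod 3`) has a
normal form. -/
theorem exists_normal_form [Fintype F] {p : ℕ} [Fact p.Prime] [CharP F p]
    (hF : Fintype.card F = p) (hp3 : p % 3 = 1)
    (R : Subgroup (GL (Fin 3) F)) (hR : Nat.card R = 27) (hRe : Monoid.exponent R = 3)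
    (hRna : ¬ IsMulCommutative R) :
    ∃ (a b cc : GL (Fin 3) F) (lam : F) (𝔢 : Basis (Fin 3) F (Fin 3 → F)),
      IsNF R a b cc lam 𝔢 := by
  obtain ⟨μ, hμ⟩ := exists_prim_cube_root hF hp3
  exact exists_normal_form_of (three_ne_zero_of hp3) μ hμ R hR hRe hRna

end NF

end Cfsg.Agent.Lib.Helper99.Nrm3
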