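import Mathlib
import Cfsg.Agent.Lib.Helper99.NrmB

/-!
# Normalizers of extraspecial subgroups of `GL_3`: consequences of the normal form (helper99)
-/

set_option autoImplicit false
set_option linter.unusedSectionVars false

namespace Cfsg.Agent.Lib.Helper99.Nrm3

open Module Matrix Cfsg.Geo

section bmat

variable {F : Type*} [Field F] {n : Type*} [Fintype n] [DecidableEq n]

/-- The matrix of (the linear map of) `X` in the basis `𝔢`. -/
noncomputable def bmat (𝔢 : Basis n F (n → F)) (X : Matrix n n F) : Matrix n n F :=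
  LinearMap.toMatrix 𝔢 𝔢 (Matrix.toLin' X)

theorem bmat_apply (𝔢 : Basis n F (n → F)) (X : Matrix n n F) (i j : n) :
    bmat 𝔢 X i j = 𝔢.repr (X *ᵥ 𝔢 j) i := by
  unfold bmat
  rw [LinearMap.toMatrix_apply, Matrix.toLin'_apply]

theorem bmat_mul (𝔢 : Basis n F (n → F)) (X Y : Matrix n n F) :
    bmat 𝔢 (X * Y) = bmat 𝔢 X * bmat 𝔢 Y := by
  unfold bmat
  rw [Matrix.toLin'_mul, LinearMap.toMatrix_comp 𝔢 𝔢 𝔢]

theorem bmat_det (𝔢 : Basis n F (n → F)) (X : Matrix n n F) : (bmat 𝔢 X).det = X.det := by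
  unfold bmat
  rw [LinearMap.det_toMatrix, LinearMap.det_toLin']

theorem bmat_of_mono (𝔢 : Basis n F (n → F)) (X : Matrix n n F) (σ : n → n) (t : n → F)
    (h : ∀ j, X *ᵥ 𝔢 j = t j • 𝔢 (σ j)) (i j : n) :
    bmat 𝔢 X i j = if σ j = i then t j else 0 := by
  rw [bmat_apply, h, map_smul, Finsupp.smul_apply, Basis.repr_self, Finsupp.single_apply,
    smul_eq_mul]
  split_ifs
  · rw [mul_one]
  · rw [mul_zero]

theorem gl_ext {ι : Type*} (𝔢 : Basis ι F (n → F)) (g g' : GL n F)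
    (h : ∀ i, (g : Matrix n n F) *ᵥ 𝔢 i = (g' : Matrix n n F) *ᵥ 𝔢 i) : g = g' := by
  apply Units.ext
  apply Matrix.toLin'.injective
  apply 𝔢.ext
  intro i
  rw [Matrix.toLin'_apply, Matrix.toLin'_apply]
  exact h i

theorem pow_mulVec_eigen (g : GL n F) (v : n → F) (t : F)
    (h : (g : Matrix n n F) *ᵥ v = t • v) (k : ℕ) :
    ((g ^ k : GL n F) : Matrix n n F) *ᵥ v = t ^ k • v := by
  induction k with
  | zero => rw [pow_zero, pow_zero, Units.val_one, Matrix.one_mulVec, one_smul]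
  | succ k ih =>
    rw [pow_succ g k, Units.val_mul, ← Matrix.mulVec_mulVec, h, Matrix.mulVec_smul, ih, smul_smul,
      pow_succ t k, mul_comm]

/-- Monomial transformations with respect to a basis. -/
theorem exists_mono (𝔢 : Basis n F (n → F)) (σ : Equiv.Perm n) (t : n → F)
    (ht : ∀ i, t i ≠ 0) :
    ∃ y : GL n F, ∀ i, (y : Matrix n n F) *ᵥ 𝔢 i = t i • 𝔢 (σ i) := by
  classical
  obtain ⟨φ, hφ⟩ : ∃ φ : (n → F) →ₗ[F] (n → F), ∀ i, φ (𝔢 i) = t i • 𝔢 (σ i) :=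
    ⟨𝔢.constr ℕ (fun i => t i • 𝔢 (σ i)), fun i => 𝔢.constr_basis ℕ _ i⟩
  obtain ⟨ψ, hψ⟩ : ∃ ψ : (n → F) →ₗ[F] (n → F),
      ∀ i, ψ (𝔢 i) = (t (σ.symm i))⁻¹ • 𝔢 (σ.symm i) :=
    ⟨𝔢.constr ℕ (fun i => (t (σ.symm i))⁻¹ • 𝔢 (σ.symm i)), fun i => 𝔢.constr_basis ℕ _ i⟩
  have h1 : LinearMap.toMatrix' φ * LinearMap.toMatrix' ψ = 1 := by
    rw [← LinearMap.toMatrix'_comp, ← LinearMap.toMatrix'_id]
    congr 1
    apply 𝔢.ext
    intro i
    rw [LinearMap.comp_apply, hψ, map_smul, hφ, Equiv.apply_symm_apply, smul_smul,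
      inv_mul_cancel₀ (ht _), one_smul, LinearMap.id_apply]
  have h2 : LinearMap.toMatrix' ψ * LinearMap.toMatrix' φ = 1 := mul_eq_one_comm.1 h1
  refine ⟨⟨LinearMap.toMatrix' φ, LinearMap.toMatrix' ψ, h1, h2⟩, ?_⟩
  intro i
  show LinearMap.toMatrix' φ *ᵥ 𝔢 i = _
  rw [LinearMap.toMatrix'_mulVec, hφ]

theorem scalar_comm (g c : GL n F) (t : F) (hc : (c : Matrix n n F) = t • (1 : Matrix n n F)) :
    g * c = c * g := by
  apply Units.ext
  rw [Units.val_mul, Units.val_mul, hc, Matrix.mul_smul, Matrix.smul_mul, Matrix.mul_one,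
    Matrix.one_mul]

theorem smul_one_inj [Nonempty n] {t s : F}
    (h : t • (1 : Matrix n n F) = s • (1 : Matrix n n F)) : t = s := by
  obtain ⟨i⟩ := (inferInstance : Nonempty n)
  have h1 := congrFun (congrFun h i) i
  rw [Matrix.smul_apply, Matrix.smul_apply, Matrix.one_apply_eq, smul_eq_mul, smul_eq_mul,
    mul_one, mul_one] at h1
  exact h1

end bmat

section lam

variable {F : Type*} [Field F]

theorem lam_pow_injective (h3 : (3 : F) ≠ 0) {lam : F} (hlam : lam ^ 2 + lam + 1 = 0)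
    (i j : Fin 3) (hij : lam ^ (i : ℕ) = lam ^ (j : ℕ)) : i = j := by
  have hl1 := lam_ne_one h3 hlam
  have hl2 := lam_sq_ne_one h3 hlam
  have hl3 := lam_sq_ne_self h3 hlam
  fin_cases i <;> fin_cases j
  · rfl
  · exfalso
    have h' : lam ^ 0 = lam ^ 1 := hij
    rw [pow_zero, pow_one] at h'
    exact hl1 h'.symm
  · exfalso
    have h' : lam ^ 0 = lam ^ 2 := hij
    rw [pow_zero, pow_two] at h'
    exact hl2 h'.symm
  · exfalso
    have h' : lam ^ 1 = lam ^ 0 := hij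
    rw [pow_zero, pow_one] at h'
    exact hl1 h'
  · rfl
  · exfalso
    have h' : lam ^ 1 = lam ^ 2 := hij
    rw [pow_one, pow_two] at h'
    exact hl3 h'.symm
  · exfalso
    have h' : lam ^ 2 = lam ^ 0 := hij
    rw [pow_zero, pow_two] at h'
    exact hl2 h'
  · exfalso
    have h' : lam ^ 2 = lam ^ 1 := hij
    rw [pow_one, pow_two] at h'
    exact hl3 h'
  · rfl

end lam

section NF

variable {F : Type*} [Field F] {R : Subgroup (GL (Fin 3) F)} {a b cc : GL (Fin 3) F} {lam : F}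
  {𝔢 : Basis (Fin 3) F (Fin 3 → F)}

theorem IsNF.lam_cube (h : IsNF R a b cc lam 𝔢) : lam ^ 3 = 1 := by
  linear_combination (lam - 1) * h.hlam

theorem IsNF.lam_ne_zero (h : IsNF R a b cc lam 𝔢) : lam ≠ 0 := by
  intro h0
  have h1 := h.lam_cube
  rw [h0] at h1
  norm_num at h1

theorem IsNF.a_mem (h : IsNF R a b cc lam 𝔢) : a ∈ R := by
  rw [h.hgen]
  exact Subgroup.subset_closure (Set.mem_insert _ _)

theorem IsNF.b_mem (h : IsNF R a b cc lam 𝔢) : b ∈ R := by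
  rw [h.hgen]
  exact Subgroup.subset_closure (Set.mem_insert_of_mem _ (Set.mem_singleton _))

theorem IsNF.cc_mulVec (h : IsNF R a b cc lam 𝔢) (v : Fin 3 → F) :
    (cc : Matrix (Fin 3) (Fin 3) F) *ᵥ v = lam • v := by
  rw [h.hccm, Matrix.smul_mulVec, Matrix.one_mulVec]

theorem IsNF.cc_ne_one (h : IsNF R a b cc lam 𝔢) (h3 : (3 : F) ≠ 0) : cc ≠ 1 := by
  intro h1
  have h4 := h.hccm
  rw [h1, Units.val_one] at h4
  have h5 : (1 : F) • (1 : Matrix (Fin 3) (Fin 3) F) = lam • 1 := by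
    rw [one_smul]
    exact h4
  exact lam_ne_one h3 h.hlam (smul_one_inj h5).symm

theorem IsNF.bmat_a (h : IsNF R a b cc lam 𝔢) :
    bmat 𝔢 (a : Matrix (Fin 3) (Fin 3) F) = Matrix.diagonal (fun j : Fin 3 => lam ^ (j : ℕ)) := by
  ext i j
  rw [bmat_of_mono 𝔢 (a : Matrix (Fin 3) (Fin 3) F) id (fun j => lam ^ (j : ℕ)) h.ha,
    Matrix.diagonal_apply]
  by_cases hij : i = j
  · subst hij
    simp
  · rw [if_neg hij, if_neg (fun h' => hij h'.symm)]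

/-- An element commuting with `a` and `b` is scalar. -/
theorem IsNF.scalar_of_commute (h : IsNF R a b cc lam 𝔢) (h3 : (3 : F) ≠ 0) (g : GL (Fin 3) F)
    (hga : g * a = a * g) (hgb : g * b = b * g) :
    ∃ t : F, (g : Matrix (Fin 3) (Fin 3) F) = t • (1 : Matrix (Fin 3) (Fin 3) F) := by
  obtain ⟨M, hMdef⟩ : ∃ M : Matrix (Fin 3) (Fin 3) F,
      M = bmat 𝔢 (g : Matrix (Fin 3) (Fin 3) F) := ⟨_, rfl⟩
  have hM : M * bmat 𝔢 (a : Matrix (Fin 3) (Fin 3) F)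
      = bmat 𝔢 (a : Matrix (Fin 3) (Fin 3) F) * M := by
    rw [hMdef, ← bmat_mul, ← bmat_mul, ← Units.val_mul, ← Units.val_mul, hga]
  rw [h.bmat_a] at hM
  have hoff : ∀ i j : Fin 3, i ≠ j → M i j = 0 := by
    intro i j hij
    have h1 := congrFun (congrFun hM i) j
    rw [Matrix.mul_diagonal, Matrix.diagonal_mul] at h1
    have h2 : (lam ^ (j : ℕ) - lam ^ (i : ℕ)) * M i j = 0 := by linear_combination h1
    rcases mul_eq_zero.1 h2 with h4 | h4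
    · exfalso
      exact hij (lam_pow_injective h3 h.hlam i j (sub_eq_zero.1 h4).symm)
    · exact h4
  have hdiag : ∀ j, (g : Matrix (Fin 3) (Fin 3) F) *ᵥ 𝔢 j = M j j • 𝔢 j := by
    intro j
    calc (g : Matrix (Fin 3) (Fin 3) F) *ᵥ 𝔢 j
        = ∑ i, 𝔢.repr ((g : Matrix (Fin 3) (Fin 3) F) *ᵥ 𝔢 j) i • 𝔢 i := (𝔢.sum_repr _).symm
      _ = ∑ i, M i j • 𝔢 i := by simp only [hMdef, bmat_apply]
      _ = M j j • 𝔢 j := by
          apply Finset.sum_eq_single j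
          · intro i _ hij
            rw [hoff i j hij, zero_smul]
          · intro hj
            exact absurd (Finset.mem_univ j) hj
  have hstep : ∀ j : Fin 3, M (j + 1) (j + 1) = M j j := by
    intro j
    have h1 : (g : Matrix (Fin 3) (Fin 3) F) *ᵥ 𝔢 (j + 1) = M j j • 𝔢 (j + 1) := by
      calc (g : Matrix (Fin 3) (Fin 3) F) *ᵥ 𝔢 (j + 1)
          = (g : Matrix (Fin 3) (Fin 3) F) *ᵥ ((b : Matrix (Fin 3) (Fin 3) F) *ᵥ 𝔢 j) := by
            rw [h.hb j]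
        _ = ((g * b : GL (Fin 3) F) : Matrix (Fin 3) (Fin 3) F) *ᵥ 𝔢 j := by
            rw [Units.val_mul, Matrix.mulVec_mulVec]
        _ = ((b * g : GL (Fin 3) F) : Matrix (Fin 3) (Fin 3) F) *ᵥ 𝔢 j := by rw [hgb]
        _ = (b : Matrix (Fin 3) (Fin 3) F) *ᵥ ((g : Matrix (Fin 3) (Fin 3) F) *ᵥ 𝔢 j) := by
            rw [Units.val_mul, Matrix.mulVec_mulVec]
        _ = M j j • 𝔢 (j + 1) := by rw [hdiag j, Matrix.mulVec_smul, h.hb j]
    rw [hdiag (j + 1)] at h1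
    have h2 : (M (j + 1) (j + 1) - M j j) • 𝔢 (j + 1) = 0 := by
      rw [sub_smul, h1, sub_self]
    rcases smul_eq_zero.1 h2 with h4 | h4
    · exact sub_eq_zero.1 h4
    · exact absurd h4 (𝔢.ne_zero _)
  refine ⟨M 0 0, ?_⟩
  apply Matrix.toLin'.injective
  apply 𝔢.ext
  intro j
  rw [Matrix.toLin'_apply, Matrix.toLin'_apply, hdiag j, Matrix.smul_mulVec, Matrix.one_mulVec]
  congr 1
  fin_cases j
  · rfl
  · exact hstep 0
  · exact (hstep 1).trans (hstep 0)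

theorem IsNF.det_a (h : IsNF R a b cc lam 𝔢) : (a : Matrix (Fin 3) (Fin 3) F).det = 1 := by
  rw [← bmat_det 𝔢, h.bmat_a, Matrix.det_diagonal, Fin.prod_univ_three]
  show lam ^ 0 * lam ^ 1 * lam ^ 2 = 1
  linear_combination h.lam_cube

theorem IsNF.det_b (h : IsNF R a b cc lam 𝔢) : (b : Matrix (Fin 3) (Fin 3) F).det = 1 := by
  have hM : ∀ i j : Fin 3, bmat 𝔢 (b : Matrix (Fin 3) (Fin 3) F) i j
      = if j + 1 = i then (1 : F) else 0 :=
    bmat_of_mono 𝔢 (b : Matrix (Fin 3) (Fin 3) F) (fun j => j + 1) (fun _ => (1 : F))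
      (fun j => by rw [one_smul]; exact h.hb j)
  rw [← bmat_det 𝔢, Matrix.det_fin_three]
  simp only [hM]
  simp

theorem IsNF.le_specialLinear (h : IsNF R a b cc lam 𝔢) : R ≤ specialLinear (Fin 3) F := by
  have ha := h.det_a
  have hb := h.det_b
  rw [h.hgen, Subgroup.closure_le]
  intro y hy
  rcases hy with hy | hy
  · rw [hy]
    exact (mem_specialLinear_iff _).2 ha
  · rw [Set.mem_singleton_iff] at hy
    rw [hy]
    exact (mem_specialLinear_iff _).2 hb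

theorem IsNF.mem_normalizer (h : IsNF R a b cc lam 𝔢) [Finite R] (y : GL (Fin 3) F)
    (hya : ∃ a' ∈ R, y * a = a' * y) (hyb : ∃ b' ∈ R, y * b = b' * y) :
    y ∈ subgroupNormalizer R := by
  unfold subgroupNormalizer
  haveI : Finite (R : Set (GL (Fin 3) F)) := ‹Finite R›
  apply Subgroup.mem_normalizer_fintype
  intro n hn
  have hle : R ≤ R.comap (MulAut.conj y).toMonoidHom := by
    conv_lhs => rw [h.hgen]
    rw [Subgroup.closure_le]
    intro g hg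
    rcases hg with hg | hg
    · obtain ⟨a', ha', he⟩ := hya
      show y * g * y⁻¹ ∈ R
      have h1 : y * g * y⁻¹ = a' := by
        rw [hg, he]
        group
      rw [h1]
      exact ha'
    · rw [Set.mem_singleton_iff] at hg
      obtain ⟨b', hb', he⟩ := hyb
      show y * g * y⁻¹ ∈ R
      have h1 : y * g * y⁻¹ = b' := by
        rw [hg, he]
        group
      rw [h1]
      exact hb'
  exact hle hn

theorem IsNF.exists_pow_of_cube (h : IsNF R a b cc lam 𝔢) (x : F) (hx : x ^ 3 = 1) :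
    ∃ s : ℕ, x = lam ^ s := by
  have h1 : (x - 1) * (x - lam) * (x + 1 + lam) = 0 := by
    linear_combination hx - (x - 1) * h.hlam
  rcases mul_eq_zero.1 h1 with h2 | h2
  · rcases mul_eq_zero.1 h2 with h4 | h4
    · exact ⟨0, by rw [pow_zero]; exact sub_eq_zero.1 h4⟩
    · exact ⟨1, by rw [pow_one]; exact sub_eq_zero.1 h4⟩
  · exact ⟨2, by linear_combination h2 - h.hlam⟩

/-- Diagonal elements with cube-root-of-unity entries of product one lie in `R`. -/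
theorem IsNF.diag_mem (h : IsNF R a b cc lam 𝔢) (e : Fin 3 → F) (he : ∀ i, e i ^ 3 = 1)
    (hprod : e 0 * e 1 * e 2 = 1) (D : GL (Fin 3) F)
    (hD : ∀ i, (D : Matrix (Fin 3) (Fin 3) F) *ᵥ 𝔢 i = e i • 𝔢 i) : D ∈ R := by
  obtain ⟨k0, hk0⟩ := h.exists_pow_of_cube (e 0) (he 0)
  obtain ⟨k1, hk1⟩ := h.exists_pow_of_cube (e 1) (he 1)
  have hg : D = cc ^ k0 * a ^ k1 * a ^ (2 * k0) := by
    apply gl_ext 𝔢
    intro i
    rw [hD, Units.val_mul, Units.val_mul, ← Matrix.mulVec_mulVec, ← Matrix.mulVec_mulVec,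
      pow_mulVec_eigen a (𝔢 i) _ (h.ha i) (2 * k0), Matrix.mulVec_smul,
      pow_mulVec_eigen a (𝔢 i) _ (h.ha i) k1, Matrix.mulVec_smul, Matrix.mulVec_smul,
      pow_mulVec_eigen cc (𝔢 i) lam (h.cc_mulVec _) k0, smul_smul, smul_smul]
    congr 1
    have h0 := he 0
    have h2 := he 2
    fin_cases i
    · show e 0 = (lam ^ 0) ^ (2 * k0) * (lam ^ 0) ^ k1 * lam ^ k0
      rw [hk0]
      ring
    · show e 1 = (lam ^ 1) ^ (2 * k0) * (lam ^ 1) ^ k1 * lam ^ k0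
      have h5 : (lam ^ 1) ^ (2 * k0) * (lam ^ 1) ^ k1 * lam ^ k0
          = (lam ^ k0) ^ 3 * lam ^ k1 := by ring
      rw [h5, ← hk0, ← hk1, h0, one_mul]
    · show e 2 = (lam ^ 2) ^ (2 * k0) * (lam ^ 2) ^ k1 * lam ^ k0
      have h5 : (lam ^ 2) ^ (2 * k0) * (lam ^ 2) ^ k1 * lam ^ k0
          = (lam ^ k0) ^ 5 * (lam ^ k1) ^ 2 := by ring
      rw [h5, ← hk0, ← hk1]
      linear_combination (-(e 0 ^ 2 * e 1 ^ 2)) * h0 + (e 0 ^ 2 * e 1 ^ 2) * h2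
        - e 2 * (e 0 * e 1 * e 2 + 1) * hprod
  rw [hg]
  exact R.mul_mem (R.mul_mem (R.pow_mem h.hcc _) (R.pow_mem h.a_mem _)) (R.pow_mem h.a_mem _)

/-- Every diagonal matrix with entries `ζ d_i`, `d_i ^ 3 = 1`, normalizes `R`. -/
theorem IsNF.exists_diag (h : IsNF R a b cc lam 𝔢) [Finite R] (ζ : F) (hζ : ζ ≠ 0)
    (d : Fin 3 → F) (hd : ∀ i, d i ^ 3 = 1) :
    ∃ y ∈ subgroupNormalizer R,
      ∀ i, (y : Matrix (Fin 3) (Fin 3) F) *ᵥ 𝔢 i = (ζ * d i) • 𝔢 i := by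
  have hd0 : ∀ i, d i ≠ 0 := by
    intro i h0
    have h1 := hd i
    rw [h0] at h1
    norm_num at h1
  obtain ⟨y, hy⟩ := exists_mono 𝔢 (Equiv.refl _) (fun i => ζ * d i)
    (fun i => mul_ne_zero hζ (hd0 i))
  have hy' : ∀ i, (y : Matrix (Fin 3) (Fin 3) F) *ᵥ 𝔢 i = (ζ * d i) • 𝔢 i := fun i => hy i
  obtain ⟨e, he⟩ : ∃ e : Fin 3 → F, e = fun i => d i * (d (i + 2))⁻¹ := ⟨_, rfl⟩
  have hei : ∀ i, e i = d i * (d (i + 2))⁻¹ := by
    intro i
    rw [he]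
  have he0 : ∀ i, e i ≠ 0 := by
    intro i
    rw [hei]
    exact mul_ne_zero (hd0 _) (inv_ne_zero (hd0 _))
  obtain ⟨D, hD⟩ := exists_mono 𝔢 (Equiv.refl _) e he0
  have hD' : ∀ i, (D : Matrix (Fin 3) (Fin 3) F) *ᵥ 𝔢 i = e i • 𝔢 i := fun i => hD i
  have h02 : (0 : Fin 3) + 2 = 2 := rfl
  have h12 : (1 : Fin 3) + 2 = 0 := rfl
  have h22 : (2 : Fin 3) + 2 = 1 := rfl
  have hDR : D ∈ R := by
    apply h.diag_mem e _ _ D hD'
    · intro i
      rw [hei, mul_pow, inv_pow, hd, hd, inv_one, mul_one]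
    · rw [hei, hei, hei, h02, h12, h22]
      calc d 0 * (d 2)⁻¹ * (d 1 * (d 0)⁻¹) * (d 2 * (d 1)⁻¹)
          = (d 0 * (d 0)⁻¹) * (d 1 * (d 1)⁻¹) * (d 2 * (d 2)⁻¹) := by ring
        _ = 1 := by
          rw [mul_inv_cancel₀ (hd0 0), mul_inv_cancel₀ (hd0 1), mul_inv_cancel₀ (hd0 2), one_mul,
            one_mul]
  refine ⟨y, h.mem_normalizer y ⟨a, h.a_mem, ?_⟩ ⟨D * b, R.mul_mem hDR h.b_mem, ?_⟩, hy'⟩
  · apply gl_ext 𝔢
    intro i
    rw [Units.val_mul, Units.val_mul, ← Matrix.mulVec_mulVec, ← Matrix.mulVec_mulVec, h.ha,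
      Matrix.mulVec_smul, hy', Matrix.mulVec_smul, h.ha, smul_smul, smul_smul]
    congr 1
    ring
  · apply gl_ext 𝔢
    intro i
    have hi : i + 1 + 2 = i := by fin_cases i <;> rfl
    have hL : ((y * b : GL (Fin 3) F) : Matrix (Fin 3) (Fin 3) F) *ᵥ 𝔢 i
        = (ζ * d (i + 1)) • 𝔢 (i + 1) := by
      rw [Units.val_mul, ← Matrix.mulVec_mulVec, h.hb, hy']
    have hR : ((D * b * y : GL (Fin 3) F) : Matrix (Fin 3) (Fin 3) F) *ᵥ 𝔢 i
        = (ζ * d i * e (i + 1)) • 𝔢 (i + 1) := by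
      rw [Units.val_mul, Units.val_mul, ← Matrix.mulVec_mulVec, ← Matrix.mulVec_mulVec, hy',
        Matrix.mulVec_smul, h.hb, Matrix.mulVec_smul, hD', smul_smul]
    rw [hL, hR]
    congr 1
    rw [hei, hi]
    calc ζ * d (i + 1) = ζ * d (i + 1) * (d i * (d i)⁻¹) := by
          rw [mul_inv_cancel₀ (hd0 i), mul_one]
      _ = ζ * d i * (d (i + 1) * (d i)⁻¹) := by ring

/-- The element `𝔢 i ↦ -ζ 𝔢 (-i)` normalizes `R`. -/
theorem IsNF.exists_neg (h : IsNF R a b cc lam 𝔢) [Finite R] (ζ : F) (hζ : ζ ≠ 0) :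
    ∃ y ∈ subgroupNormalizer R,
      ∀ i, (y : Matrix (Fin 3) (Fin 3) F) *ᵥ 𝔢 i = (-ζ) • 𝔢 (-i) := by
  obtain ⟨y, hy⟩ := exists_mono 𝔢 (Equiv.neg (Fin 3)) (fun _ => -ζ)
    (fun _ => neg_ne_zero.2 hζ)
  have hy' : ∀ i, (y : Matrix (Fin 3) (Fin 3) F) *ᵥ 𝔢 i = (-ζ) • 𝔢 (-i) := fun i => hy i
  refine ⟨y, ?_, hy'⟩
  · -- membership in the normalizer
    refine h.mem_normalizer y ⟨a * a, R.mul_mem h.a_mem h.a_mem, ?_⟩
      ⟨b * b, R.mul_mem h.b_mem h.b_mem, ?_⟩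
    · apply gl_ext 𝔢
      intro i
      have hL : ((y * a : GL (Fin 3) F) : Matrix (Fin 3) (Fin 3) F) *ᵥ 𝔢 i
          = (lam ^ (i : ℕ) * -ζ) • 𝔢 (-i) := by
        rw [Units.val_mul, ← Matrix.mulVec_mulVec, h.ha, Matrix.mulVec_smul, hy', smul_smul]
      have hR : ((a * a * y : GL (Fin 3) F) : Matrix (Fin 3) (Fin 3) F) *ᵥ 𝔢 i
          = (-ζ * lam ^ ((-i : Fin 3) : ℕ) * lam ^ ((-i : Fin 3) : ℕ)) • 𝔢 (-i) := by
        rw [Units.val_mul, Units.val_mul, ← Matrix.mulVec_mulVec, ← Matrix.mulVec_mulVec, hy',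
          Matrix.mulVec_smul, h.ha, Matrix.mulVec_smul, Matrix.mulVec_smul, h.ha, smul_smul,
          smul_smul]
      rw [hL, hR]
      congr 1
      have hl3 := h.lam_cube
      fin_cases i
      · show lam ^ 0 * -ζ = -ζ * lam ^ 0 * lam ^ 0
        ring
      · show lam ^ 1 * -ζ = -ζ * lam ^ 2 * lam ^ 2
        linear_combination (ζ * lam) * hl3
      · show lam ^ 2 * -ζ = -ζ * lam ^ 1 * lam ^ 1
        ring
    · apply gl_ext 𝔢
      intro i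
      have hi : -i + 1 + 1 = -(i + 1) := by fin_cases i <;> rfl
      have hL : ((y * b : GL (Fin 3) F) : Matrix (Fin 3) (Fin 3) F) *ᵥ 𝔢 i
          = (-ζ) • 𝔢 (-(i + 1)) := by
        rw [Units.val_mul, ← Matrix.mulVec_mulVec, h.hb, hy']
      have hR : ((b * b * y : GL (Fin 3) F) : Matrix (Fin 3) (Fin 3) F) *ᵥ 𝔢 i
          = (-ζ) • 𝔢 (-i + 1 + 1) := by
        rw [Units.val_mul, Units.val_mul, ← Matrix.mulVec_mulVec, ← Matrix.mulVec_mulVec, hy',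
          Matrix.mulVec_smul, h.hb, Matrix.mulVec_smul, h.hb]
      rw [hL, hR, hi]

/-- The involution `ζ⁻¹ y`, for `y : 𝔢 i ↦ -ζ 𝔢 (-i)`, has determinant one and is not the
identity. -/
theorem invol_props (𝔢 : Basis (Fin 3) F (Fin 3 → F)) (h2 : (2 : F) ≠ 0) (ζ : F) (hζ : ζ ≠ 0)
    (y : Matrix (Fin 3) (Fin 3) F) (hy' : ∀ i, y *ᵥ 𝔢 i = (-ζ) • 𝔢 (-i))
    (u : Matrix (Fin 3) (Fin 3) F) (hu : u = ζ⁻¹ • y) :
    u * u = 1 ∧ u.det = 1 ∧ u ≠ 1 := by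
  have hu𝔢 : ∀ i, u *ᵥ 𝔢 i = (-1 : F) • 𝔢 (-i) := by
    intro i
    rw [hu, Matrix.smul_mulVec, hy', smul_smul]
    congr 1
    rw [mul_neg, inv_mul_cancel₀ hζ]
  have huu : u * u = 1 := by
    apply Matrix.toLin'.injective
    apply 𝔢.ext
    intro i
    rw [Matrix.toLin'_apply, ← Matrix.mulVec_mulVec, hu𝔢, Matrix.mulVec_smul, hu𝔢, smul_smul,
      neg_neg, Matrix.toLin'_one, LinearMap.id_apply, neg_mul_neg, one_mul, one_smul]
  have hdet : u.det = 1 := by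
    have hM : ∀ i j : Fin 3, bmat 𝔢 u i j = if -j = i then (-1 : F) else 0 :=
      bmat_of_mono 𝔢 u (fun j => -j) (fun _ => (-1 : F)) hu𝔢
    have n0 : -(0 : Fin 3) = 0 := rfl
    have n1 : -(1 : Fin 3) = 2 := rfl
    have n2 : -(2 : Fin 3) = 1 := rfl
    rw [← bmat_det 𝔢, Matrix.det_fin_three]
    simp only [hM, n0, n1, n2]
    simp
  have hne : u ≠ 1 := by
    intro h1
    have h0 := hu𝔢 0
    rw [h1, Matrix.one_mulVec, neg_zero] at h0
    have h4 : (2 : F) • 𝔢 0 = 0 := by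
      linear_combination (norm := module) h0
    rcases smul_eq_zero.1 h4 with h5 | h5
    · exact h2 h5
    · exact 𝔢.ne_zero 0 h5
  exact ⟨huu, hdet, hne⟩

/-- An element of the normalizer of `R` with eigenvalues `ζ, -ζ, -ζ`. -/
theorem IsNF.exists_invol (h : IsNF R a b cc lam 𝔢) [Finite R] (h2 : (2 : F) ≠ 0) (ζ : F)
    (hζ : ζ ≠ 0) :
    ∃ y ∈ subgroupNormalizer R, ∃ 𝔠 : Basis (Fin 1 ⊕ Fin 2) F (Fin 3 → F),
      (∀ i, (y : Matrix (Fin 3) (Fin 3) F) *ᵥ 𝔠 (Sum.inl i) = ζ • 𝔠 (Sum.inl i)) ∧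
      (∀ j, (y : Matrix (Fin 3) (Fin 3) F) *ᵥ 𝔠 (Sum.inr j) = (-ζ) • 𝔠 (Sum.inr j)) := by
  obtain ⟨y, hyN, hy'⟩ := h.exists_neg ζ hζ
  obtain ⟨u, hu⟩ : ∃ u : Matrix (Fin 3) (Fin 3) F,
      u = ζ⁻¹ • (y : Matrix (Fin 3) (Fin 3) F) := ⟨_, rfl⟩
  obtain ⟨huu, hdet, hne⟩ := invol_props 𝔢 h2 ζ hζ (y : Matrix (Fin 3) (Fin 3) F) hy' u hu
  obtain ⟨𝔠, hp, hm⟩ := invol_basis h2 u huu hdet hne
  have hyu : (y : Matrix (Fin 3) (Fin 3) F) = ζ • u := by
    rw [hu, smul_smul, mul_inv_cancel₀ hζ, one_smul]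
  refine ⟨y, hyN, 𝔠, ?_, ?_⟩
  · intro i
    rw [hyu, Matrix.smul_mulVec, hp]
  · intro j
    rw [hyu, Matrix.smul_mulVec, hm, smul_neg, neg_smul]

end NF

end Cfsg.Agent.Lib.Helper99.Nrm3
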