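/-
Helper99: overgroups of the rational orthogonal group (helper95's `OSub` setting), the tight case
for a quadratic extension `F = F₀ + F₀ θ`: every element of `M` lies in the rational group.
No involutions are needed: every root line of `M` is orthogonal to a rational hyperbolic pair.
-/
import Mathlib
import Cfsg.Agent.Lib.Helper95.OSubF

set_option autoImplicit false
set_option linter.unusedSimpArgs false
set_option linter.unusedSectionVars false
set_option linter.unusedVariables false

namespace Cfsg.Agent.Lib.Helper99.OSubR2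

open LinearMap (BilinForm)
open Module
open Cfsg.Agent.Lib.Helper94 Cfsg.Agent.Lib.Helper94.QuadData Cfsg.Agent.Lib.Helper44
open Cfsg.Agent.Lib.Helper95.OSub
open scoped commutatorElement

variable {F : Type*} [Field F] {V : Type*} [AddCommGroup V] [Module F V]
variable {F₀ : Subfield F} {W : Type*} [AddCommGroup W] [Module F₀ W]
variable {B : BilinForm F V} {Q : V → F} {Q₀ : QuadraticForm F₀ W} {ρ : W → V}

local notation "pol" => QuadraticMap.polar

/-- in degree two every vector is `ρ a + θ • ρ b` -/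
lemma exists_decomp [FiniteDimensional F V] (R : OSet B Q Q₀ ρ) (θ : F)
    (hθ : ∀ c : F, ∃ x y : F₀, c = (x : F) + (y : F) * θ) (w : V) :
    ∃ a b : W, w = ρ a + θ • ρ b := by
  have hN : B.Nondegenerate := by
    have := R.hQ.nondeg_toQF R.nd
    rwa [polarBilin_toQF] at this
  have hrefl : B.IsRefl := fun x y h => by rw [R.hQ.symm]; exact h
  set T := Submodule.span F (Set.range ρ) with hT
  have hmem : w ∈ T := by
    rw [← LinearMap.BilinForm.orthogonal_orthogonal hN hrefl T,
      LinearMap.BilinForm.mem_orthogonal_iff]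
    intro x hx
    rw [LinearMap.BilinForm.mem_orthogonal_iff] at hx
    show B x w = 0
    have hx0 : x = 0 := by
      apply R.sep
      intro a
      rw [R.hQ.symm]
      exact hx (ρ a) (Submodule.subset_span ⟨a, rfl⟩)
    rw [hx0, map_zero, LinearMap.zero_apply]
  have key : ∀ x ∈ T, ∃ a b : W, x = ρ a + θ • ρ b := by
    intro x hx
    induction hx using Submodule.closure_induction with
    | zero => exact ⟨0, 0, by rw [R.zero]; simp⟩
    | add x y _ _ ihx ihy =>
      obtain ⟨a, b, rfl⟩ := ihx
      obtain ⟨a', b', rfl⟩ := ihy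
      exact ⟨a + a', b + b', by rw [R.add, R.add, smul_add]; abel⟩
    | smul_mem c x hx =>
      obtain ⟨v, rfl⟩ := hx
      obtain ⟨x0, y0, hc⟩ := hθ c
      refine ⟨x0 • v, y0 • v, ?_⟩
      rw [R.smul, R.smul, hc]
      module
  exact key w hmem

section Main

variable [Finite F₀] [FiniteDimensional F₀ W]
variable (R : OSet B Q Q₀ ρ) (h13 : 13 ≤ finrank F₀ W) {M : Subgroup (V ≃ₗ[F] V)}
  (hM : Over Q ρ M) (hT : Tight B Q Q₀ ρ M)

include R h13 hM hT in
/-- in degree two every root element of `M` is rational -/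
lemma root_rat [FiniteDimensional F V] (θ : F)
    (hθ : ∀ c : F, ∃ x y : F₀, c = (x : F) + (y : F) * θ) {a b : V} (ha : Q a = 0)
    (hb : Q b = 0) (hab : B a b = 0) (hy : siegel B Q a b ∈ M) :
    Rat1 ρ (siegel B Q a b) := by
  obtain ⟨a1, a2, ha12⟩ := exists_decomp R θ hθ a
  obtain ⟨b1, b2, hb12⟩ := exists_decomp R θ hθ b
  obtain ⟨e, f, -, -, h1, -⟩ := exists_hyp2 Q₀ R.nd₀ h13
    (Submodule.span F₀ {a1, a2} ⊔ Submodule.span F₀ {b1, b2}) (finrank_span_four_le a1 a2 b1 b2)
  obtain ⟨he, hf, hef, hS⟩ := h1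
  have m1 : a1 ∈ (Submodule.span F₀ {a1, a2} ⊔ Submodule.span F₀ {b1, b2} : Submodule F₀ W) :=
    Submodule.mem_sup_left (Submodule.subset_span (by simp))
  have m2 : a2 ∈ (Submodule.span F₀ {a1, a2} ⊔ Submodule.span F₀ {b1, b2} : Submodule F₀ W) :=
    Submodule.mem_sup_left (Submodule.subset_span (by simp))
  have m3 : b1 ∈ (Submodule.span F₀ {a1, a2} ⊔ Submodule.span F₀ {b1, b2} : Submodule F₀ W) :=
    Submodule.mem_sup_right (Submodule.subset_span (by simp))
  have m4 : b2 ∈ (Submodule.span F₀ {a1, a2} ⊔ Submodule.span F₀ {b1, b2} : Submodule F₀ W) :=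
    Submodule.mem_sup_right (Submodule.subset_span (by simp))
  have has : B a (ρ e) = 0 := by
    rw [ha12, map_add, map_smul, LinearMap.add_apply, LinearMap.smul_apply,
      R.orth (hS a1 m1).1, R.orth (hS a2 m2).1]
    simp
  have has' : B a (ρ f) = 0 := by
    rw [ha12, map_add, map_smul, LinearMap.add_apply, LinearMap.smul_apply,
      R.orth (hS a1 m1).2, R.orth (hS a2 m2).2]
    simp
  have hbs : B b (ρ e) = 0 := by
    rw [hb12, map_add, map_smul, LinearMap.add_apply, LinearMap.smul_apply,
      R.orth (hS b1 m3).1, R.orth (hS b2 m4).1]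
    simp
  have hbs' : B b (ρ f) = 0 := by
    rw [hb12, map_add, map_smul, LinearMap.add_apply, LinearMap.smul_apply,
      R.orth (hS b1 m3).2, R.orth (hS b2 m4).2]
    simp
  exact star2 R h13 hM hT ha hb hab he hf hef has has' hbs hbs' hy

include R h13 hM hT in
/-- **the tight case in degree two**: every element of `M` is in the rational group -/
theorem ratU_of_tight_deg_two [FiniteDimensional F V] (θ : F)
    (hθ : ∀ c : F, ∃ x y : F₀, c = (x : F) + (y : F) * θ)
    (hθ0 : ∀ x y : F₀, (x : F) + (y : F) * θ = 0 → x = 0 ∧ y = 0) :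
    ∀ g ∈ M, RatU ρ g := by
  classical
  intro g hg
  have pc := QuadraticMap.polar_comm (⇑Q₀)
  have hgO : g ∈ OG Q := commutator_le_OG (hM.le hg)
  have hpt : ∀ u : W, Q₀ u = 0 → u ≠ 0 → ∃ (l : F) (u0 : W), g (ρ u) = l • ρ u0 := by
    intro u hu hu0
    by_contra hcon
    push Not at hcon
    obtain ⟨a1, a2, ha12⟩ := exists_decomp R θ hθ (g (ρ u))
    obtain ⟨e₁, f₁, e₂, f₂, h1, h2, h12, h12', h21, h21'⟩ := exists_hyp2 Q₀ R.nd₀ h13
      (Submodule.span F₀ {u, u}) ((finrank_span_pair_le u u).trans (by norm_num))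
    have huS : u ∈ Submodule.span F₀ ({u, u} : Set W) := Submodule.subset_span (by simp)
    have key : ∀ v : W, Q₀ v = 0 → pol (⇑Q₀) u v = 0 →
        ∃ x y : F, g (ρ v) = x • ρ a1 + y • ρ a2 := by
      intro v hv huv
      obtain ⟨b1, b2, hb12⟩ := exists_decomp R θ hθ (g (ρ v))
      by_cases hb : b1 ∈ Submodule.span F₀ {a1, a2} ∧ b2 ∈ Submodule.span F₀ {a1, a2}
      · obtain ⟨hb1, hb2⟩ := hb
        rw [Submodule.mem_span_pair] at hb1 hb2
        obtain ⟨p1, p2, hp⟩ := hb1
        obtain ⟨q1, q2, hq⟩ := hb2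
        refine ⟨(p1 : F) + θ * q1, (p2 : F) + θ * q2, ?_⟩
        rw [hb12, ← hp, ← hq, R.add, R.add, R.smul, R.smul, R.smul, R.smul]
        module
      · exfalso
        have hw : ∃ w : W, pol (⇑Q₀) w a1 = 0 ∧ pol (⇑Q₀) w a2 = 0 ∧
            (pol (⇑Q₀) w b1 ≠ 0 ∨ pol (⇑Q₀) w b2 ≠ 0) := by
          by_contra hno
          push Not at hno
          apply hb
          have hrefl₀ : (QuadraticMap.polarBilin Q₀).IsRefl := fun x y h => by
            rw [QuadraticMap.polarBilin_apply_apply] at h ⊢
            rw [pc]; exact h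
          have hmem : ∀ b : W, (∀ w, pol (⇑Q₀) w a1 = 0 → pol (⇑Q₀) w a2 = 0 →
              pol (⇑Q₀) w b = 0) → b ∈ Submodule.span F₀ {a1, a2} := by
            intro b hbw
            rw [← LinearMap.BilinForm.orthogonal_orthogonal R.nd₀ hrefl₀
              (Submodule.span F₀ {a1, a2}), LinearMap.BilinForm.mem_orthogonal_iff]
            intro w hw
            rw [LinearMap.BilinForm.mem_orthogonal_iff] at hw
            show QuadraticMap.polarBilin Q₀ w b = 0
            rw [QuadraticMap.polarBilin_apply_apply]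
            apply hbw
            · have h := hw a1 (Submodule.subset_span (by simp))
              rw [QuadraticMap.polarBilin_apply_apply] at h
              rw [pc]; exact h
            · have h := hw a2 (Submodule.subset_span (by simp))
              rw [QuadraticMap.polarBilin_apply_apply] at h
              rw [pc]; exact h
          exact ⟨hmem b1 fun w h1 h2 => (hno w h1 h2).1, hmem b2 fun w h1 h2 => (hno w h1 h2).2⟩
        obtain ⟨w, hw1, hw2, hwb⟩ := hw
        have hsM : siegel B Q (g (ρ u)) (g (ρ v)) ∈ M := by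
          rw [← conj_siegel R.hQ hgO (R.sing hu) (R.sing hv) (R.orth huv)]
          exact M.mul_mem (M.mul_mem hg (ratSiegel_mem R h13 hM hu hv huv)) (M.inv_mem hg)
        have ha : Q (g (ρ u)) = 0 := by rw [hgO, R.sing hu]
        have hbv : Q (g (ρ v)) = 0 := by rw [hgO, R.sing hv]
        have hab : B (g (ρ u)) (g (ρ v)) = 0 := by rw [R.hQ.B_map hgO, R.orth huv]
        have hrat := root_rat R h13 hM hT θ hθ ha hbv hab hsM
        obtain ⟨w', hw'⟩ := hrat w
        rw [siegel_apply R.hQ ha hbv hab] at hw'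
        have e1 : B (ρ w) (g (ρ u)) = 0 := by
          rw [ha12, map_add, map_smul, R.form, R.form, hw1, hw2]
          simp
        have e2 : B (ρ w) (g (ρ v)) ≠ 0 := by
          rw [hb12, map_add, map_smul, R.form, R.form]
          intro h0
          have h0' : ((pol (⇑Q₀) w b1 : F₀) : F) + ((pol (⇑Q₀) w b2 : F₀) : F) * θ = 0 := by
            rw [← h0, smul_eq_mul, mul_comm]
          have := hθ0 _ _ h0'
          rcases hwb with h | h
          · exact h this.1
          · exact h this.2
        rw [e1, zero_smul, add_zero] at hw'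
        apply hcon (B (ρ w) (g (ρ v)))⁻¹ (w - w')
        rw [R.sub, ← hw', sub_sub_cancel, smul_smul, inv_mul_cancel₀ e2, one_smul]
    obtain ⟨x, y, hxy⟩ := key e₁ h1.1 (h1.2.2.2 u huS).1
    obtain ⟨x', y', hxy'⟩ := key e₂ h2.1 (h2.2.2.2 u huS).1
    have rel : (x * y' - x' * y) • g (ρ u) - (y' - θ * x') • g (ρ e₁) +
        (y - θ * x) • g (ρ e₂) = 0 := by
      rw [hxy, hxy', ha12]
      module
    have rel' : g ((x * y' - x' * y) • ρ u - (y' - θ * x') • ρ e₁ + (y - θ * x) • ρ e₂) = 0 := by
      rw [map_add, map_sub, map_smul, map_smul, map_smul]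
      exact rel
    have rel'' := (LinearEquiv.map_eq_zero_iff g).1 rel'
    have c2 : y - θ * x = 0 := by
      have h := congrArg (fun z => B z (ρ f₂)) rel''
      simp only [map_add, map_sub, map_smul, LinearMap.add_apply, LinearMap.sub_apply,
        LinearMap.smul_apply, map_zero, LinearMap.zero_apply] at h
      rw [R.orth (h2.2.2.2 u huS).2, R.orth h12', R.one h2.2.2.1] at h
      simpa using h
    have hy : y = θ * x := by linear_combination c2
    have h3 : ρ e₁ = x • ρ u := by
      apply g.injective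
      rw [map_smul, hxy, ha12, hy]
      module
    have h4 := congrArg (fun z => B z (ρ f₁)) h3
    simp only [map_smul, LinearMap.smul_apply] at h4
    rw [R.one h1.2.2.1, R.orth (h1.2.2.2 u huS).2] at h4
    simp at h4
  obtain ⟨e, f, -, -, h1, -⟩ := exists_hyp2 Q₀ R.nd₀ h13 ⊥ (by rw [finrank_bot]; norm_num)
  obtain ⟨he, hf, hef, -⟩ := h1
  have he0 : e ≠ 0 := by
    rintro rfl
    rw [QuadraticMap.polar_zero_left] at hef
    exact zero_ne_one hef
  have hf0 : f ≠ 0 := by
    rintro rfl
    rw [QuadraticMap.polar_zero_right] at hef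
    exact zero_ne_one hef
  obtain ⟨l, s₁, hl⟩ := hpt e he he0
  obtain ⟨l', s₂, hl'⟩ := hpt f hf hf0
  exact ratU_of_pair R h13 hM hT hg he hf hef hl hl'

end Main

end Cfsg.Agent.Lib.Helper99.OSubR2
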