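/-
Helper99: a quadratic extension `F / F₀` has a basis `1, θ` (bridge for `OSubR2`).
-/
import Mathlib

set_option autoImplicit false

namespace Cfsg.Agent.Lib.Helper99.OSubR2

open Module

/-- a quadratic extension has a basis `1, θ` -/
theorem exists_theta {F : Type*} [Field F] (F₀ : Subfield F) (h : Module.finrank F₀ F = 2) :
    ∃ θ : F, (∀ c : F, ∃ x y : F₀, c = (x : F) + (y : F) * θ) ∧
      (∀ x y : F₀, (x : F) + (y : F) * θ = 0 → x = 0 ∧ y = 0) := by
  have hfd : FiniteDimensional F₀ F := Module.finite_of_finrank_pos (by rw [h]; norm_num)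
  obtain ⟨θ, hθ⟩ : ∃ θ : F, θ ∉ F₀ := by
    by_contra hcon
    push Not at hcon
    have h1 : Module.finrank F₀ F = 1 := by
      rw [finrank_eq_one_iff_of_nonzero' (1 : F) one_ne_zero]
      intro w
      exact ⟨⟨w, hcon w⟩, by rw [Subfield.smul_def]; simp⟩
    omega
  have hind : ∀ x y : F₀, (x : F) + (y : F) * θ = 0 → x = 0 ∧ y = 0 := by
    intro x y hxy
    have hy : y = 0 := by
      by_contra hy0
      apply hθ
      have hyF : (y : F) ≠ 0 := fun h0 => hy0 (Subtype.ext h0)
      have : θ = ((-x / y : F₀) : F) := by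
        push_cast
        field_simp
        linear_combination hxy
      rw [this]
      exact (-x / y).2
    refine ⟨?_, hy⟩
    rw [hy] at hxy
    apply Subtype.ext
    simpa using hxy
  refine ⟨θ, ?_, hind⟩
  have hli : LinearIndependent F₀ ![(1 : F), θ] := by
    rw [LinearIndependent.pair_iff]
    intro s t hst
    apply hind s t
    rw [Subfield.smul_def, Subfield.smul_def] at hst
    simpa using hst
  have hspan := hli.span_eq_top_of_card_eq_finrank (by rw [h]; simp)
  intro c
  have hc : c ∈ Submodule.span F₀ (Set.range ![(1 : F), θ]) := by rw [hspan]; trivial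
  rw [Submodule.mem_span_range_iff_exists_fun] at hc
  obtain ⟨k, hk⟩ := hc
  refine ⟨k 0, k 1, ?_⟩
  rw [← hk, Fin.sum_univ_two, Subfield.smul_def, Subfield.smul_def]
  simp

end Cfsg.Agent.Lib.Helper99.OSubR2
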