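/-
helper99: module [NOIDEM] for helper40's S2362 plan, exact form (on top of helper40's block-size lemma).
-/
import Mathlib
import Cfsg.Agent.Lib.Helper99.OrthSplit2
import Cfsg.Agent.Lib.Helper40.OrthBlock

set_option autoImplicit false

namespace Cfsg.Agent.Lib.Helper99.OrthSplit

open Matrix

variable {F : Type*} [Field F] [Fintype F]

/-- [NOIDEM] -/
theorem eq_one_or_neg_one_of_commute_of_ppd (p : ℕ) [Fact p.Prime] [CharP F p] (hp2 : p ≠ 2)
    {k m r : ℕ} (hr : r.Prime) (hr2 : r ≠ 2) (hm : 1 ≤ m)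
    (hord : orderOf ((Fintype.card F : ℕ) : ZMod r) = 2 * m ∨
      (orderOf ((Fintype.card F : ℕ) : ZMod r) = m ∧ Odd m))
    (hk4 : k < 4 * m)
    (G X : Matrix (Fin k) (Fin k) F) (hGs : Gᵀ = G) (hGdet : G.det ≠ 0) (hX : Xᵀ * G * X = G)
    (hXr : X ^ r = 1) (hX1 : (X - 1).det ≠ 0)
    (Y : Matrix (Fin k) (Fin k) F) (hY2 : Y * Y = 1) (hYX : Y * X = X * Y)
    (hY : Yᵀ * G * Y = G) : Y = 1 ∨ Y = -1 := by
  have hp := (Fact.out : p.Prime)
  have h2 : (2 : F) ≠ 0 := by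
    intro h0
    have : ((2 : ℕ) : F) = 0 := by exact_mod_cast h0
    rw [CharP.cast_eq_zero_iff F p] at this
    exact hp2 ((Nat.prime_dvd_prime_iff_eq hp Nat.prime_two).1 this)
  exact eq_one_or_neg_one_of_commute_of_ppd_aux h2 hk4
    (fun k' G' X' a b c d e =>
      Cfsg.Agent.Lib.Helper40.two_mul_le_of_isometry_of_ppd p hr hr2 hm hord G' X' a b c d e)
    G X hGs hGdet hX hXr hX1 Y hY2 hYX hY

end Cfsg.Agent.Lib.Helper99.OrthSplit
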