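import Cfsg.Agent.Lib.Helper99.Zsigmondy

set_option autoImplicit false

namespace Cfsg.Agent.Lib.Helper99

/-- A prime power `p^f` with `f ≥ 2` is never one less than a power of two. -/
lemma prime_pow_add_one_ne_two_pow {p f m : ℕ} (hp : p.Prime) (hf : 2 ≤ f) : p ^ f + 1 ≠ 2 ^ m := by
  intro h
  -- p is odd or p = 2
  by_cases hp2 : p = 2
  · subst hp2
    -- 2^f + 1 odd
    rcases Nat.eq_zero_or_pos m with rfl | hm
    · simp at h
    · have h1 : Even (2 ^ m) := (Nat.even_pow' hm.ne').mpr even_two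
      have h2 : Even (2 ^ f) := (Nat.even_pow' (by omega)).mpr even_two
      rw [← h] at h1
      have := (Nat.even_add_one.mp h1)
      exact this h2
  · -- apply Zsigmondy to (p, 2f)
    have h2f : 1 < 2 * f := by omega
    have hex : ¬ (p = 2 ∧ 2 * f = 6) := fun h' => hp2 h'.1
    have hex' : ¬ (2 * f = 2 ∧ ∃ m : ℕ, p + 1 = 2 ^ m) := fun h' => by omega
    obtain ⟨r, hr, hdvd, hprim⟩ := zsigmondy p (2 * f) hp.one_lt h2f hex hex'
    have hfact : p ^ (2 * f) - 1 = (p ^ f - 1) * (p ^ f + 1) := by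
      have h1 : 1 ≤ p ^ f := Nat.one_le_pow _ _ hp.pos
      have : p ^ (2 * f) = p ^ f * p ^ f := by rw [two_mul, pow_add]
      rw [this]
      zify [h1, Nat.one_le_iff_ne_zero.mpr (Nat.mul_ne_zero (by omega) (by omega) : p ^ f * p ^ f ≠ 0)]
      ring
    rw [hfact] at hdvd
    have hnot : ¬ r ∣ p ^ f - 1 := hprim f (by omega) (by omega)
    have h3 : r ∣ p ^ f + 1 := (hr.dvd_mul.mp hdvd).resolve_left hnot
    rw [h] at h3
    have hr2 : r = 2 := (Nat.prime_dvd_prime_iff_eq hr Nat.prime_two).mp (hr.dvd_of_dvd_pow h3)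
    subst hr2
    have h4 := hprim 1 (by norm_num) (by omega)
    rw [pow_one] at h4
    -- p odd so 2 ∣ p - 1
    have hodd : Odd p := hp.odd_of_ne_two hp2
    obtain ⟨t, ht⟩ := hodd
    apply h4
    exact ⟨t, by omega⟩

end Cfsg.Agent.Lib.Helper99
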