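import Cfsg.Agent.Lib.Helper99.S6Rel

set_option autoImplicit false

namespace Cfsg.Agent.Lib.Helper99.S6

open Equiv

lemma closure_gen : Subgroup.closure ({tA, sA} : Set G6) = ⊤ := by
  have h := Equiv.Perm.closure_cycle_adjacent_swap (σ := finRotate 6) (isCycle_finRotate (n := 4))
    (support_finRotate (n := 4)) (0 : Fin 6)
  have h2 : swap (0 : Fin 6) (finRotate 6 0) = sA := by
    unfold sA; congr 1
  rw [h2] at h
  exact h

lemma hom_ext_gen {f g : G6 →* G6} (hs : f sA = g sA) (ht : f tA = g tA) : f = g := by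
  apply MonoidHom.eq_of_eqOn_dense closure_gen
  intro x hx
  rcases hx with rfl | rfl
  · exact ht
  · exact hs

/-- `α` is an inner automorphism -/
def IsInner (α : G6 ≃* G6) : Prop := ∃ c : G6, ∀ g, α g = c * g * c⁻¹

/-- `α` is conjugate to the standard exotic form -/
def IsExotic (α : G6 ≃* G6) : Prop := ∃ c : G6, c * α sA * c⁻¹ = sB ∧ c * α tA * c⁻¹ = tB

lemma sA_ne_one : sA ≠ 1 := by decide
lemma sA_mul_self : sA * sA = 1 := by decide

theorem inner_or_exotic (α : G6 ≃* G6) : IsInner α ∨ IsExotic α := by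
  have hx1 : α sA * α sA = 1 := by rw [← map_mul, sA_mul_self, map_one]
  have hx2 : α sA ≠ 1 := fun h => sA_ne_one (α.injective (by rw [h, map_one]))
  obtain ⟨e0, he0⟩ := R4 (α sA) hx1 hx2
  -- α' = conj e0 ∘ α
  set α' : G6 ≃* G6 := α.trans (MulAut.conj e0) with hα'
  have hα'app : ∀ g, α' g = e0 * α g * e0⁻¹ := fun g => by simp [hα', MulAut.conj_apply]
  have hrel : Rel (α' sA) (α' tA) := rel_map α' rel_sA_tA
  have hconj : ∀ y : G6, e0 * α sA = y * e0 → α' sA = y := by
    intro y h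
    rw [hα'app, h, mul_assoc, mul_inv_cancel, mul_one]
  rcases he0 with h | h | h
  · -- inner
    left
    rw [hconj _ h] at hrel
    obtain ⟨e, hes, het⟩ := R1 _ hrel
    have hfg : α'.toMonoidHom = (MulAut.conj e).toMonoidHom := by
      apply hom_ext_gen
      · show α' sA = MulAut.conj e sA
        rw [hconj _ h, MulAut.conj_apply, hes, mul_assoc, mul_inv_cancel, mul_one]
      · show α' tA = MulAut.conj e tA
        rw [MulAut.conj_apply, het, mul_assoc, mul_inv_cancel, mul_one]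
    refine ⟨e0⁻¹ * e, fun g => ?_⟩
    have h1 : α' g = MulAut.conj e g := DFunLike.congr_fun hfg g
    rw [hα'app, MulAut.conj_apply] at h1
    have h2 : α g = e0⁻¹ * (e0 * α g * e0⁻¹) * e0 := by group
    rw [h2, h1]; group
  · exfalso
    rw [hconj _ h] at hrel
    exact R2 _ hrel
  · right
    rw [hconj _ h] at hrel
    obtain ⟨e, hes, het⟩ := R3 _ hrel
    refine ⟨e⁻¹ * e0, ?_, ?_⟩
    · have h1 : e0 * α sA * e0⁻¹ = sB := by rw [← hα'app]; exact hconj _ h
      have h2 : (e⁻¹ * e0) * α sA * (e⁻¹ * e0)⁻¹ = e⁻¹ * (e0 * α sA * e0⁻¹) * e := by group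
      rw [h2, h1]
      have : sB = e⁻¹ * (e * sB) := by group
      rw [hes] at this
      rw [mul_assoc, mul_assoc] at *
      exact this.symm
    · have h1 : e0 * α tA * e0⁻¹ = α' tA := (hα'app tA).symm
      have h2 : (e⁻¹ * e0) * α tA * (e⁻¹ * e0)⁻¹ = e⁻¹ * (e0 * α tA * e0⁻¹) * e := by group
      rw [h2, h1]
      have : tB = e⁻¹ * (e * tB) := by group
      rw [het] at this
      rw [mul_assoc] at *
      exact this.symm

theorem exotic_rel (α β : G6 ≃* G6) (hα : IsExotic α) (hβ : IsExotic β) :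
    ∃ c : G6, ∀ g, α g = c * β g * c⁻¹ := by
  obtain ⟨a, ha1, ha2⟩ := hα
  obtain ⟨b, hb1, hb2⟩ := hβ
  have hfg : (α.trans (MulAut.conj a)).toMonoidHom = (β.trans (MulAut.conj b)).toMonoidHom := by
    apply hom_ext_gen
    · show (α.trans (MulAut.conj a)) sA = (β.trans (MulAut.conj b)) sA
      simp only [MulEquiv.trans_apply, MulAut.conj_apply]
      rw [ha1, hb1]
    · show (α.trans (MulAut.conj a)) tA = (β.trans (MulAut.conj b)) tA
      simp only [MulEquiv.trans_apply, MulAut.conj_apply]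
      rw [ha2, hb2]
  refine ⟨a⁻¹ * b, fun g => ?_⟩
  have h1 : (α.trans (MulAut.conj a)) g = (β.trans (MulAut.conj b)) g := DFunLike.congr_fun hfg g
  simp only [MulEquiv.trans_apply, MulAut.conj_apply] at h1
  have h2 : α g = a⁻¹ * (a * α g * a⁻¹) * a := by group
  rw [h2, h1]; group

end Cfsg.Agent.Lib.Helper99.S6
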