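import Cfsg.Agent.Lib.Helper99.S6Total

set_option autoImplicit false

namespace Cfsg.Agent.Lib.Helper99.S6

open Equiv
open scoped Pointwise

/-- the exotic `S_5` inside `S_6` -/
def T0 : Subgroup (Perm (Fin 6)) := MulAction.stabilizer (Perm (Fin 6)) S0

lemma T0_card : Nat.card T0 = 120 := by
  have e : T0 ≃ {g : Perm (Fin 6) // g • S0 = S0} :=
    Equiv.subtypeEquivRight (fun g => MulAction.mem_stabilizer_iff)
  rw [Nat.card_congr e, Nat.card_eq_fintype_card, Fintype.card_subtype, card_filter_S0]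

lemma T0_index : T0.index = 6 := by
  have h := Subgroup.card_mul_index T0
  rw [T0_card, Nat.card_perm, Nat.card_fin] at h
  have : Nat.factorial 6 = 120 * 6 := by decide
  rw [this] at h
  exact Nat.eq_of_mul_eq_mul_left (by norm_num) h

lemma T0_no_swap (a b : Fin 6) (hab : a ≠ b) : swap a b ∉ T0 := by
  intro h
  exact swap_smul_S0_ne a b hab (MulAction.mem_stabilizer_iff.mp h)

/-- every subgroup of index 6 is the preimage of the stabilizer of `0` under an automorphism -/
theorem exists_aut_of_index_six (H : Subgroup (Perm (Fin 6))) (hH : H.index = 6) :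
    ∃ α : Perm (Fin 6) ≃* Perm (Fin 6), ∀ g, g ∈ H ↔ α g 0 = 0 := by
  classical
  have hfin : H.FiniteIndex := ⟨by rw [hH]; norm_num⟩
  have : Finite (Perm (Fin 6) ⧸ H) := inferInstance
  have : Fintype (Perm (Fin 6) ⧸ H) := Fintype.ofFinite _
  have hcardX : Nat.card (Perm (Fin 6) ⧸ H) = 6 := hH
  set φ := MulAction.toPermHom (Perm (Fin 6)) (Perm (Fin 6) ⧸ H) with hφ
  have hcore : H.normalCore = ⊥ := by
    by_contra hne
    have hnt : Nontrivial H.normalCore := (Subgroup.nontrivial_iff_ne_bot _).mpr hne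
    have hle : alternatingGroup (Fin 6) ≤ H.normalCore :=
      Equiv.Perm.alternatingGroup_le_of_normal (by simp) hnt
    have hle' : alternatingGroup (Fin 6) ≤ H := hle.trans H.normalCore_le
    have hdvd : H.index ∣ (alternatingGroup (Fin 6)).index := Subgroup.index_dvd_of_le hle'
    rw [alternatingGroup.index_eq_two, hH] at hdvd
    norm_num at hdvd
  have hinj : Function.Injective φ := by
    rw [← MonoidHom.ker_eq_bot_iff, hφ, ← Subgroup.normalCore_eq_ker, hcore]
  have hbij : Function.Bijective φ := by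
    rw [Fintype.bijective_iff_injective_and_card]
    refine ⟨hinj, ?_⟩
    rw [Fintype.card_perm, Fintype.card_perm, ← Nat.card_eq_fintype_card (α := Perm (Fin 6) ⧸ H), hcardX]
    simp
  set x0 : Perm (Fin 6) ⧸ H := ((1 : Perm (Fin 6)) : Perm (Fin 6) ⧸ H) with hx0
  let e0 : (Perm (Fin 6) ⧸ H) ≃ Fin 6 := Finite.equivFinOfCardEq hcardX
  let e : (Perm (Fin 6) ⧸ H) ≃ Fin 6 := e0.trans (swap (e0 x0) 0)
  have he : e x0 = 0 := by simp [e]
  refine ⟨(MulEquiv.ofBijective φ hbij).trans e.permCongrHom, ?_⟩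
  intro g
  have h1 : g ∈ H ↔ g • x0 = x0 := by
    rw [hx0, MulAction.Quotient.smul_mk, QuotientGroup.eq]
    simp
  rw [h1]
  have h2 : ((MulEquiv.ofBijective φ hbij).trans e.permCongrHom) g 0 = e (g • x0) := by
    simp only [MulEquiv.trans_apply, MulEquiv.ofBijective_apply]
    rw [Equiv.permCongrHom_coe, Equiv.permCongr_apply]
    rw [← he, Equiv.symm_apply_apply]
    rfl
  rw [h2, ← he]
  exact e.injective.eq_iff.symm

end Cfsg.Agent.Lib.Helper99.S6
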