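import Cfsg.Agent.Lib.Helper99.S6Aut
import Cfsg.Agent.Lib.Helper99.S6Sub

set_option autoImplicit false

namespace Cfsg.Agent.Lib.Helper99.S6

open Equiv MulAction

/-- point stabilizer -/
abbrev St (a : Fin 6) : Subgroup G6 := stabilizer G6 a

lemma mem_St (a : Fin 6) (g : G6) : g ∈ St a ↔ g a = a := MulAction.mem_stabilizer_iff

lemma St_index (a : Fin 6) : (St a).index = 6 := by
  rw [MulAction.index_stabilizer_of_transitive]
  simp

lemma exists_two_ne (a : Fin 6) : ∃ c d : Fin 6, c ≠ d ∧ c ≠ a ∧ d ≠ a := by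
  revert a; decide

lemma exists_ne_ne (a b : Fin 6) : ∃ c : Fin 6, c ≠ a ∧ c ≠ b := by
  revert a b; decide

lemma St_has_swap (a : Fin 6) : ∃ c d : Fin 6, c ≠ d ∧ swap c d ∈ St a := by
  obtain ⟨c, d, hcd, hc, hd⟩ := exists_two_ne a
  refine ⟨c, d, hcd, ?_⟩
  rw [mem_St]
  exact swap_apply_of_ne_of_ne (Ne.symm hc) (Ne.symm hd)

lemma St_injective : Function.Injective St := by
  intro a b hab
  by_contra hne
  obtain ⟨c, hca, hcb⟩ := exists_ne_ne a b
  have h1 : swap b c ∈ St a := by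
    rw [mem_St]
    exact swap_apply_of_ne_of_ne hne (Ne.symm hca)
  rw [hab, mem_St, swap_apply_left] at h1
  exact hcb h1

/-- the reference exotic automorphism -/
noncomputable def α0 : G6 ≃* G6 := Classical.choose (exists_aut_of_index_six T0 T0_index)

lemma α0_spec (g : G6) : g ∈ T0 ↔ α0 g 0 = 0 :=
  Classical.choose_spec (exists_aut_of_index_six T0 T0_index) g

/-- exotic subgroups -/
noncomputable abbrev Ex (a : Fin 6) : Subgroup G6 := (St a).comap α0.toMonoidHom

lemma mem_Ex (a : Fin 6) (g : G6) : g ∈ Ex a ↔ α0 g a = a := by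
  show α0 g ∈ St a ↔ _
  rw [mem_St]

lemma Ex_index (a : Fin 6) : (Ex a).index = 6 := by
  rw [Subgroup.index_comap_of_surjective _ α0.surjective, St_index]

lemma conj_swap (v : G6) (c d : Fin 6) : v * swap c d * v⁻¹ = swap (v c) (v d) := by
  exact (Equiv.swap_apply_apply v c d).symm

lemma Ex_no_swap (a c d : Fin 6) (hcd : c ≠ d) : swap c d ∉ Ex a := by
  intro h
  rw [mem_Ex] at h
  -- pick u with u 0 = a
  set u : G6 := swap 0 a with hu
  have hu0 : u 0 = a := swap_apply_left 0 a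
  set v : G6 := α0.symm u with hv
  have hαv : α0 v = u := by simp [hv]
  have h2 : v⁻¹ * swap c d * v ∈ T0 := by
    rw [α0_spec, map_mul, map_mul, map_inv, hαv]
    show u⁻¹ ((α0 (swap c d)) (u 0)) = 0
    rw [hu0, h, ← hu0]
    simp
  have h3 : v⁻¹ * swap c d * v = swap (v⁻¹ c) (v⁻¹ d) := by
    have := conj_swap v⁻¹ c d
    rwa [inv_inv] at this
  rw [h3] at h2
  exact T0_no_swap _ _ (fun h => hcd (v⁻¹.injective h)) h2

lemma St_eq_of_inner {H : Subgroup G6} {α : G6 ≃* G6} (hα : ∀ g, g ∈ H ↔ α g 0 = 0)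
    {c : G6} (hc : ∀ g, α g = c * g * c⁻¹) : H = St (c⁻¹ 0) := by
  ext g
  rw [hα, hc, mem_St]
  show c (g (c⁻¹ 0)) = 0 ↔ _
  constructor
  · intro h
    have := congrArg (c⁻¹ : G6) h
    simpa using this
  · intro h
    rw [h]; simp

lemma Ex_eq_of_rel {H : Subgroup G6} {α : G6 ≃* G6} (hα : ∀ g, g ∈ H ↔ α g 0 = 0)
    {c : G6} (hc : ∀ g, α g = c * α0 g * c⁻¹) : H = Ex (c⁻¹ 0) := by
  ext g
  rw [hα, hc, mem_Ex]
  show c (α0 g (c⁻¹ 0)) = 0 ↔ _
  constructor
  · intro h
    have := congrArg (c⁻¹ : G6) h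
    simpa using this
  · intro h
    rw [h]; simp

lemma α0_exotic : IsExotic α0 := by
  rcases inner_or_exotic α0 with ⟨c, hc⟩ | h
  · exfalso
    have h1 : T0 = St (c⁻¹ 0) := St_eq_of_inner α0_spec hc
    obtain ⟨x, y, hxy, hmem⟩ := St_has_swap (c⁻¹ 0)
    rw [← h1] at hmem
    exact T0_no_swap x y hxy hmem
  · exact h

/-- classification of subgroups of index 6 -/
theorem index_six_classification (H : Subgroup G6) (hH : H.index = 6) :
    (∃ a, H = St a) ∨ (∃ a, H = Ex a) := by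
  obtain ⟨α, hα⟩ := exists_aut_of_index_six H hH
  rcases inner_or_exotic α with ⟨c, hc⟩ | h
  · left; exact ⟨_, St_eq_of_inner hα hc⟩
  · right
    obtain ⟨c, hc⟩ := exotic_rel α α0 h α0_exotic
    exact ⟨_, Ex_eq_of_rel hα hc⟩

lemma St_ne_Ex (a b : Fin 6) : St a ≠ Ex b := by
  intro h
  obtain ⟨x, y, hxy, hmem⟩ := St_has_swap a
  rw [h] at hmem
  exact Ex_no_swap b x y hxy hmem

lemma Ex_injective : Function.Injective Ex := by
  intro a b hab
  apply St_injective
  exact Subgroup.comap_injective α0.surjective hab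

theorem card_index_six : Nat.card {H : Subgroup G6 // H.index = 6} = 12 := by
  let f : Fin 6 ⊕ Fin 6 → {H : Subgroup G6 // H.index = 6} := fun x =>
    match x with
    | Sum.inl a => ⟨St a, St_index a⟩
    | Sum.inr a => ⟨Ex a, Ex_index a⟩
  have hinj : Function.Injective f := by
    rintro (a | a) (b | b) h
    · exact congrArg Sum.inl (St_injective (congrArg Subtype.val h))
    · exact absurd (congrArg Subtype.val h) (St_ne_Ex a b)
    · exact absurd (congrArg Subtype.val h).symm (St_ne_Ex b a)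
    · exact congrArg Sum.inr (Ex_injective (congrArg Subtype.val h))
  have hsurj : Function.Surjective f := by
    rintro ⟨H, hH⟩
    rcases index_six_classification H hH with ⟨a, rfl⟩ | ⟨a, rfl⟩
    · exact ⟨Sum.inl a, rfl⟩
    · exact ⟨Sum.inr a, rfl⟩
  rw [← Nat.card_congr (Equiv.ofBijective f ⟨hinj, hsurj⟩)]
  simp

end Cfsg.Agent.Lib.Helper99.S6
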