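import Mathlib

set_option autoImplicit false

namespace Cfsg.Agent.Lib.Helper99.S6

open Equiv

abbrev G6 := Equiv.Perm (Fin 6)

def sA : G6 := swap 0 1
def tA : G6 := finRotate 6
def dA : G6 := swap 0 1 * swap 2 3
def sB : G6 := swap 0 1 * swap 2 3 * swap 4 5
def tB : G6 := swap 1 2 * (swap 3 4 * swap 4 5)

/-- the defining relations of `S_6` on a transposition-like `x` and a 6-cycle-like `g` (plus `g² ≠ 1`) -/
def Rel (x g : G6) : Prop :=
  x * x = 1 ∧ g ^ 6 = 1 ∧ (g * x) ^ 5 = 1 ∧ (x * g⁻¹ * x * g) ^ 3 = 1 ∧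
    (x * g⁻¹ ^ 2 * x * g ^ 2) ^ 2 = 1 ∧ (x * g⁻¹ ^ 3 * x * g ^ 3) ^ 2 = 1 ∧ g * g ≠ 1

instance (x g : G6) : Decidable (Rel x g) := by unfold Rel; infer_instance

lemma rel_sA_tA : Rel sA tA := by decide +kernel

lemma rel_map (α : G6 ≃* G6) {x g : G6} (h : Rel x g) : Rel (α x) (α g) := by
  obtain ⟨h1, h2, h3, h4, h5, h6, h7⟩ := h
  refine ⟨?_, ?_, ?_, ?_, ?_, ?_, ?_⟩
  · rw [← map_mul, h1, map_one]
  · rw [← map_pow, h2, map_one]
  · rw [← map_mul, ← map_pow, h3, map_one]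
  · rw [← map_inv, ← map_mul, ← map_mul, ← map_mul, ← map_pow, h4, map_one]
  · rw [← map_inv, ← map_pow, ← map_pow, ← map_mul, ← map_mul, ← map_mul, ← map_pow, h5, map_one]
  · rw [← map_inv, ← map_pow, ← map_pow, ← map_mul, ← map_mul, ← map_mul, ← map_pow, h6, map_one]
  · rw [← map_mul]
    intro h
    apply h7
    apply α.injective
    rw [h, map_one]

set_option maxRecDepth 100000 in
lemma R1 : ∀ g : G6, Rel sA g → ∃ e : G6, e * sA = sA * e ∧ e * tA = g * e := by decide +kernel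

set_option maxRecDepth 100000 in
lemma R2 : ∀ g : G6, ¬ Rel dA g := by decide +kernel

set_option maxRecDepth 100000 in
lemma R3 : ∀ g : G6, Rel sB g → ∃ e : G6, e * sB = sB * e ∧ e * tB = g * e := by decide +kernel

set_option maxRecDepth 100000 in
lemma R4 : ∀ x : G6, x * x = 1 → x ≠ 1 →
    ∃ e : G6, e * x = sA * e ∨ e * x = dA * e ∨ e * x = sB * e := by decide +kernel

end Cfsg.Agent.Lib.Helper99.S6
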