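import Mathlib

set_option autoImplicit false

namespace Cfsg.Agent.Lib.Helper99.S6

open Equiv
open scoped Pointwise

/-- a synthematic total -/
def S0 : Finset (Finset (Finset (Fin 6))) :=
  {{{5,0},{1,4},{2,3}}, {{5,1},{2,0},{3,4}}, {{5,2},{3,1},{4,0}}, {{5,3},{4,2},{0,1}}, {{5,4},{0,3},{1,2}}}

set_option maxRecDepth 100000 in
lemma card_filter_S0 :
    (Finset.univ.filter (fun g : Perm (Fin 6) => g • S0 = S0)).card = 120 := by decide +kernel

set_option maxRecDepth 100000 in
lemma swap_smul_S0_ne : ∀ a b : Fin 6, a ≠ b → swap a b • S0 ≠ S0 := by decide +kernel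

end Cfsg.Agent.Lib.Helper99.S6
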