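/-
helper99: the unitary subfield group `SU_n(q₀) < SU_n(q)`, `q = q₀^r`, `r` odd (S5658), part A:
the standard rational structure `F₀^n ⊂ F^n` for the standard hermitian form, lifting of rational
isometries, rational root elements.
-/
import Mathlib
import Cfsg.Agent.Lib.Helper94.UOrth4
import Cfsg.Agent.Lib.Helper94.SubfieldStd

set_option autoImplicit false
set_option linter.unusedSimpArgs false
set_option linter.unusedVariables false
set_option linter.unusedSectionVars false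

namespace Cfsg.Agent.Lib.Helper99.SUSub

open Matrix Module Cfsg.Agent.S0837 Cfsg.Agent.S0781 Cfsg.Agent.S2644 Cfsg.Agent.Lib.Helper37
  Cfsg.Agent.Lib.Helper13 Cfsg.Agent.Lib.Helper94

variable {F : Type*} [Field F] {σ : F →+* F} {n : ℕ} {F₀ : Subfield F}

/-- the data: an involution `σ` of `F` preserving the subfield `F₀` and nontrivial on it -/
structure Setup (σ : F →+* F) (F₀ : Subfield F) : Prop where
  hσ2 : ∀ a, σ (σ a) = a
  hmem : ∀ x ∈ F₀, σ x ∈ F₀
  hne : ∃ x ∈ F₀, σ x ≠ x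

namespace Setup

variable (S : Setup σ F₀)

/-- the restriction of `σ` to `F₀` -/
def sig0 (S : Setup σ F₀) : F₀ →+* F₀ := σ.restrict F₀ F₀ S.hmem

lemma coe_sig0 (x : F₀) : ((S.sig0 x : F₀) : F) = σ (x : F) := rfl

lemma sig0_sq (x : F₀) : S.sig0 (S.sig0 x) = x := by
  apply Subtype.ext
  rw [coe_sig0, coe_sig0, S.hσ2]

lemma sig0_ne : S.sig0 ≠ RingHom.id F₀ := by
  obtain ⟨x, hx, hne⟩ := S.hne
  intro h
  apply hne
  have := congrArg (fun f : F₀ →+* F₀ => ((f ⟨x, hx⟩ : F₀) : F)) h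
  simpa [coe_sig0] using this

include S in
lemma sig_ne : σ ≠ RingHom.id F := by
  obtain ⟨x, hx, hne⟩ := S.hne
  intro h
  apply hne
  rw [h]; rfl

/-- the form on rational vectors -/
lemma hf_ratV (a b : Fin n → F₀) :
    hf σ (ratV F₀ a) (ratV F₀ b) = ((hf S.sig0 a b : F₀) : F) := by
  unfold hf
  rw [← Subfield.subtype_apply, map_sum]
  refine Finset.sum_congr rfl fun i _ => ?_
  rw [Subfield.subtype_apply, Subfield.coe_mul, coe_sig0]
  rfl

include S in
lemma hf_ratV_mem (a b : Fin n → F₀) : hf σ (ratV F₀ a) (ratV F₀ b) ∈ F₀ := by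
  rw [S.hf_ratV]; exact (hf S.sig0 a b).2

lemma hf_ratV_eq_zero (a b : Fin n → F₀) :
    hf σ (ratV F₀ a) (ratV F₀ b) = 0 ↔ hf S.sig0 a b = 0 := by
  rw [S.hf_ratV]
  exact_mod_cast Iff.rfl

end Setup

lemma ratV_zero : ratV F₀ (0 : Fin n → F₀) = 0 := by
  funext i; simp [ratV]

lemma ratV_neg (a : Fin n → F₀) : ratV F₀ (-a) = -ratV F₀ a := by
  funext i; simp [ratV]

lemma ratV_sub (a b : Fin n → F₀) : ratV F₀ (a - b) = ratV F₀ a - ratV F₀ b := by
  funext i; simp [ratV]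

lemma ratV_injective : Function.Injective (ratV F₀ : (Fin n → F₀) → (Fin n → F)) := by
  intro a b h
  funext i
  have := congrFun h i
  exact Subtype.ext this

lemma ratV_ne_zero {a : Fin n → F₀} (ha : a ≠ 0) : ratV F₀ a ≠ 0 := by
  intro h
  apply ha
  apply ratV_injective
  rw [h, ratV_zero]

/-- a vector with coordinates in `F₀` is rational -/
lemma exists_ratV_of_mem {x : Fin n → F} (hx : ∀ i, x i ∈ F₀) : ∃ a : Fin n → F₀, x = ratV F₀ a :=
  ⟨fun i => ⟨x i, hx i⟩, rfl⟩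

/-- the lift of a rational invertible matrix -/
noncomputable def liftGL (F₀ : Subfield F) (A : GL (Fin n) F₀) : GL (Fin n) F :=
  Matrix.GeneralLinearGroup.map (F₀.subtype : F₀ →+* F) A

lemma liftGL_val (A : GL (Fin n) F₀) :
    ((liftGL F₀ A : GL (Fin n) F) : Matrix (Fin n) (Fin n) F) =
      (A : Matrix (Fin n) (Fin n) F₀).map F₀.subtype := rfl

lemma liftGL_mulVec (A : GL (Fin n) F₀) (a : Fin n → F₀) :
    ((liftGL F₀ A : GL (Fin n) F) : Matrix (Fin n) (Fin n) F) *ᵥ ratV F₀ a =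
      ratV F₀ ((A : Matrix (Fin n) (Fin n) F₀) *ᵥ a) := by
  rw [liftGL_val, ratV_mulVec]

lemma liftGL_mem_std (A : GL (Fin n) F₀) :
    liftGL F₀ A ∈ Cfsg.Geo.subfieldSubgroup F₀ (1 : GL (Fin n) F) := by
  rw [mem_std_iff]
  exact ⟨A, 1, by rw [liftGL_val]; simp⟩

lemma liftGL_det (A : GL (Fin n) F₀) :
    ((liftGL F₀ A : GL (Fin n) F) : Matrix (Fin n) (Fin n) F).det =
      (((A : Matrix (Fin n) (Fin n) F₀).det : F₀) : F) := by
  rw [liftGL_val]
  exact (RingHom.map_det F₀.subtype _).symm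

namespace Setup

variable (S : Setup σ F₀)

lemma hs_map (A : Matrix (Fin n) (Fin n) F₀) :
    hs σ (A.map F₀.subtype) = (hs S.sig0 A).map F₀.subtype := by
  ext i j
  simp only [hs_apply, Matrix.map_apply, Subfield.subtype_apply, coe_sig0]

lemma liftGL_mem_UG {A : GL (Fin n) F₀} (hA : A ∈ UG S.sig0 n) : liftGL F₀ A ∈ UG σ n := by
  have h1 : hs S.sig0 (A : Matrix (Fin n) (Fin n) F₀) * (A : Matrix (Fin n) (Fin n) F₀) = 1 :=
    hs_mul_self_of_preserves S.sig0 _ hA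
  intro x y
  apply preserves_of_hs_mul σ S.hσ2
  rw [liftGL_val, S.hs_map, ← Matrix.map_mul, h1]
  exact Matrix.map_one _ (map_zero _) (map_one _)

/-- rational isometries of determinant one lie in every overgroup of the subfield group -/
lemma lift_mem {M : Subgroup (GL (Fin n) F)}
    (hM : ∀ g : GL (Fin n) F, g ∈ UG σ n → (g : Matrix (Fin n) (Fin n) F).det = 1 →
      g ∈ Cfsg.Geo.subfieldSubgroup F₀ (1 : GL (Fin n) F) → g ∈ M)
    {A : GL (Fin n) F₀} (hA : A ∈ UG S.sig0 n) (hdet : (A : Matrix (Fin n) (Fin n) F₀).det = 1) :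
    liftGL F₀ A ∈ M := by
  apply hM _ (S.liftGL_mem_UG hA) _ (liftGL_mem_std A)
  rw [liftGL_det, hdet]; rfl

lemma lift_TG_mem {M : Subgroup (GL (Fin n) F)}
    (hM : ∀ g : GL (Fin n) F, g ∈ UG σ n → (g : Matrix (Fin n) (Fin n) F).det = 1 →
      g ∈ Cfsg.Geo.subfieldSubgroup F₀ (1 : GL (Fin n) F) → g ∈ M)
    {t : GL (Fin n) F₀} (ht : t ∈ TG S.sig0 n) : liftGL F₀ t ∈ M :=
  S.lift_mem hM (TG_le_UG S.sig0 S.sig0_sq ht) (det_of_mem_TG S.sig0 t ht)

/-- the lift of a rational Siegel matrix -/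
lemma sieg_map (a b : Fin n → F₀) (β : F₀) :
    (sieg S.sig0 a b β).map F₀.subtype = sieg σ (ratV F₀ a) (ratV F₀ b) (β : F) := by
  ext i j
  simp only [sieg, Matrix.map_apply, Matrix.sub_apply, Matrix.add_apply, vecMulVec_apply,
    Function.comp_apply, Pi.add_apply, Pi.smul_apply, smul_eq_mul, Subfield.subtype_apply,
    Subfield.coe_sub, Subfield.coe_add, Subfield.coe_mul, coe_sig0, ratV_apply, Matrix.one_apply]
  split_ifs <;> simp

lemma tv_map (a : Fin n → F₀) (c : F₀) :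
    (tv S.sig0 a c).map F₀.subtype = tv σ (ratV F₀ a) (c : F) := by
  unfold tv
  rw [S.sieg_map, ratV_zero]

/-- rational Siegel elements lie in every overgroup -/
lemma ratSieg_mem {M : Subgroup (GL (Fin n) F)}
    (hM : ∀ g : GL (Fin n) F, g ∈ UG σ n → (g : Matrix (Fin n) (Fin n) F).det = 1 →
      g ∈ Cfsg.Geo.subfieldSubgroup F₀ (1 : GL (Fin n) F) → g ∈ M)
    {a b : Fin n → F₀} {β : F₀} (ha : hf S.sig0 a a = 0) (hb : hf S.sig0 b a = 0)
    (hβ : β + S.sig0 β + hf S.sig0 b b = 0) :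
    InM M (sieg σ (ratV F₀ a) (ratV F₀ b) (β : F)) := by
  refine ⟨liftGL F₀ (siegGL S.sig0 S.sig0_sq a b β ha hb hβ), ?_, ?_⟩
  · apply S.lift_mem hM (siegGL_mem_UG S.sig0 S.sig0_sq a b β ha hb hβ)
    exact sieg_det S.sig0 S.sig0_sq a b β ha hb
  · rw [liftGL_val]
    exact S.sieg_map a b β

/-- rational transvections lie in every overgroup -/
lemma ratTv_mem {M : Subgroup (GL (Fin n) F)}
    (hM : ∀ g : GL (Fin n) F, g ∈ UG σ n → (g : Matrix (Fin n) (Fin n) F).det = 1 →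
      g ∈ Cfsg.Geo.subfieldSubgroup F₀ (1 : GL (Fin n) F) → g ∈ M)
    {a : Fin n → F₀} {c : F₀} (ha : hf S.sig0 a a = 0) (hc : c + S.sig0 c = 0) :
    InM M (tv σ (ratV F₀ a) (c : F)) := by
  have h := S.ratSieg_mem hM (a := a) (b := 0) (β := c) ha (hf_zero_left _ _)
    (by rw [hf_zero_left, add_zero]; exact hc)
  rw [ratV_zero] at h
  exact h

/-- a nonzero trace-zero element of `F₀` -/
lemma exists_c0 : ∃ c : F₀, c ≠ 0 ∧ c + S.sig0 c = 0 :=
  exists_trace_zero_ne S.sig0 S.sig0_ne S.sig0_sq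

end Setup

end Cfsg.Agent.Lib.Helper99.SUSub
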