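/-
helper99: the unitary subfield group (S5658), part B: coordinate planes, a standard rational frame,
transitivity of the rational special unitary group on pairs of orthogonal isotropic vectors.
-/
import Mathlib
import Cfsg.Agent.Lib.Helper99.SUSubA
import Cfsg.Agent.Lib.Helper13.HermWitt
import Cfsg.Agent.Lib.Helper37.UnitaryLines

set_option autoImplicit false
set_option linter.unusedSimpArgs false
set_option linter.unusedVariables false
set_option linter.unusedSectionVars false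

namespace Cfsg.Agent.Lib.Helper99.SUSub

open Matrix Module Cfsg.Agent.S0837 Cfsg.Agent.S0781 Cfsg.Agent.S2644 Cfsg.Agent.Lib.Helper37
  Cfsg.Agent.Lib.Helper13 Cfsg.Agent.Lib.Helper94

section Emb

variable {R : Type*} [Field R] (τ : R →+* R) {n : ℕ}

/-- the embedding of the plane on the coordinates `i`, `j` -/
def emb (i j : Fin n) (x : Fin 2 → R) : Fin n → R := x 0 • Pi.single i 1 + x 1 • Pi.single j 1

lemma emb_apply (i j : Fin n) (x : Fin 2 → R) (k : Fin n) :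
    emb i j x k = x 0 * (if k = i then 1 else 0) + x 1 * (if k = j then 1 else 0) := by
  simp [emb, Pi.single_apply]

lemma emb_left {i j : Fin n} (hij : i ≠ j) (x : Fin 2 → R) : emb i j x i = x 0 := by
  rw [emb_apply]; simp [hij]

lemma emb_right {i j : Fin n} (hij : i ≠ j) (x : Fin 2 → R) : emb i j x j = x 1 := by
  rw [emb_apply]; simp [hij.symm]

lemma emb_of_ne {i j k : Fin n} (hki : k ≠ i) (hkj : k ≠ j) (x : Fin 2 → R) : emb i j x k = 0 := by
  rw [emb_apply]; simp [hki, hkj]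

lemma emb_add (i j : Fin n) (x y : Fin 2 → R) : emb i j (x + y) = emb i j x + emb i j y := by
  unfold emb; simp only [Pi.add_apply]; module

lemma emb_smul (i j : Fin n) (c : R) (x : Fin 2 → R) : emb i j (c • x) = c • emb i j x := by
  unfold emb; simp only [Pi.smul_apply, smul_eq_mul]; module

lemma hf_emb_left (i j : Fin n) (x : Fin 2 → R) (w : Fin n → R) :
    hf τ (emb i j x) w = x 0 * τ (w i) + x 1 * τ (w j) := by
  unfold emb
  rw [hf_add_left, hf_smul_left, hf_smul_left, hf_single_left, hf_single_left]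

lemma hf_emb_right (i j : Fin n) (w : Fin n → R) (x : Fin 2 → R) :
    hf τ w (emb i j x) = w i * τ (x 0) + w j * τ (x 1) := by
  unfold emb
  rw [hf_add_right, hf_smul_right, hf_smul_right, hf_single_right, hf_single_right]
  ring

lemma hf_two (x y : Fin 2 → R) : hf τ x y = x 0 * τ (y 0) + x 1 * τ (y 1) := by
  unfold hf; rw [Fin.sum_univ_two]

lemma hf_emb {i j : Fin n} (hij : i ≠ j) (x y : Fin 2 → R) :
    hf τ (emb i j x) (emb i j y) = hf τ x y := by
  rw [hf_emb_left, emb_left hij, emb_right hij, hf_two]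

lemma hf_emb_disjoint {i j k l : Fin n} (hki : k ≠ i) (hkj : k ≠ j) (hli : l ≠ i) (hlj : l ≠ j)
    (x y : Fin 2 → R) : hf τ (emb i j x) (emb k l y) = 0 := by
  rw [hf_emb_right, emb_of_ne hki hkj, emb_of_ne hli hlj]; ring

lemma emb_ne_zero {i j : Fin n} (hij : i ≠ j) {x : Fin 2 → R} (hx : x ≠ 0) : emb i j x ≠ 0 := by
  intro h
  apply hx
  funext k
  fin_cases k
  · have := congrFun h i
    rwa [emb_left hij] at this
  · have := congrFun h j
    rwa [emb_right hij] at this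

/-- two vectors with "separating" coordinates are linearly independent -/
lemma indep_of_coords {x y : Fin n → R} {p q : Fin n} (hxp : x p ≠ 0) (hyp : y p = 0)
    (hyq : y q ≠ 0) (hxq : x q = 0) : LinearIndependent R ![x, y] := by
  rw [LinearIndependent.pair_iff]
  intro s t hst
  have h1 := congrFun hst p
  have h2 := congrFun hst q
  simp only [Pi.add_apply, Pi.smul_apply, smul_eq_mul, hyp, hxq, mul_zero, add_zero, zero_add,
    Pi.zero_apply] at h1 h2
  exact ⟨(mul_eq_zero.1 h1).resolve_right hxp, (mul_eq_zero.1 h2).resolve_right hyq⟩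

end Emb

variable {F : Type*} [Field F] {σ : F →+* F} {n : ℕ} {F₀ : Subfield F}

lemma ratV_emb (i j : Fin n) (x : Fin 2 → F₀) : ratV F₀ (emb i j x) = emb i j (ratV F₀ x) := by
  funext k
  rw [ratV_apply, emb_apply, emb_apply]
  push_cast
  simp only [ratV_apply]
  split_ifs <;> simp

/-- a standard rational frame: a hyperbolic pair of the rational plane and seven distinct coordinates -/
structure Frame (S : Setup σ F₀) (n : ℕ) where
  a₀ : Fin 2 → F₀
  b₀ : Fin 2 → F₀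
  hp : HP S.sig0 a₀ b₀
  I : Fin 7 → Fin n
  hI : Function.Injective I

namespace Frame

variable {S : Setup σ F₀} (Fr : Frame S n)

/-- first coordinate of the `k`-th plane -/
def i (k : Fin 3) : Fin n := Fr.I ⟨2 * k.val, by omega⟩
/-- second coordinate of the `k`-th plane -/
def j (k : Fin 3) : Fin n := Fr.I ⟨2 * k.val + 1, by omega⟩
/-- the spare coordinate -/
def l : Fin n := Fr.I 6

lemma i_ne_j (k k' : Fin 3) : Fr.i k ≠ Fr.j k' := by
  intro h
  have := Fr.hI h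
  simp only [Fin.mk.injEq] at this
  omega

lemma i_ne_i {k k' : Fin 3} (h : k ≠ k') : Fr.i k ≠ Fr.i k' := by
  intro h'
  have := Fr.hI h'
  simp only [Fin.mk.injEq] at this
  apply h
  apply Fin.ext
  omega

lemma j_ne_j {k k' : Fin 3} (h : k ≠ k') : Fr.j k ≠ Fr.j k' := by
  intro h'
  have := Fr.hI h'
  simp only [Fin.mk.injEq] at this
  apply h
  apply Fin.ext
  omega

lemma l_ne_i (k : Fin 3) : Fr.l ≠ Fr.i k := by
  intro h
  have := Fr.hI h
  have h2 := congrArg Fin.val this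
  simp at h2
  omega

lemma l_ne_j (k : Fin 3) : Fr.l ≠ Fr.j k := by
  intro h
  have := Fr.hI h
  have h2 := congrArg Fin.val this
  simp at h2
  omega

/-- the isotropic vectors of the frame -/
def e (k : Fin 3) : Fin n → F₀ := emb (Fr.i k) (Fr.j k) Fr.a₀
/-- their partners -/
def f (k : Fin 3) : Fin n → F₀ := emb (Fr.i k) (Fr.j k) Fr.b₀

lemma ee (k : Fin 3) : hf S.sig0 (Fr.e k) (Fr.e k) = 0 := by
  unfold e; rw [hf_emb _ (Fr.i_ne_j k k)]; exact Fr.hp.uu

lemma ff (k : Fin 3) : hf S.sig0 (Fr.f k) (Fr.f k) = 0 := by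
  unfold f; rw [hf_emb _ (Fr.i_ne_j k k)]; exact Fr.hp.vv

lemma fe (k : Fin 3) : hf S.sig0 (Fr.f k) (Fr.e k) = 1 := by
  unfold e f; rw [hf_emb _ (Fr.i_ne_j k k)]; exact Fr.hp.vu

lemma ef (k : Fin 3) : hf S.sig0 (Fr.e k) (Fr.f k) = 1 := by
  unfold e f; rw [hf_emb _ (Fr.i_ne_j k k)]; exact Fr.hp.uv S.sig0_sq

lemma ee' {k k' : Fin 3} (h : k ≠ k') : hf S.sig0 (Fr.e k) (Fr.e k') = 0 := by
  unfold e
  exact hf_emb_disjoint _ (Fr.i_ne_i (Ne.symm h)) (Fr.i_ne_j k' k) (Fr.i_ne_j k k').symm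
    (Fr.j_ne_j (Ne.symm h)) _ _

lemma ef' {k k' : Fin 3} (h : k ≠ k') : hf S.sig0 (Fr.e k) (Fr.f k') = 0 := by
  unfold e f
  exact hf_emb_disjoint _ (Fr.i_ne_i (Ne.symm h)) (Fr.i_ne_j k' k) (Fr.i_ne_j k k').symm
    (Fr.j_ne_j (Ne.symm h)) _ _

lemma fe' {k k' : Fin 3} (h : k ≠ k') : hf S.sig0 (Fr.f k) (Fr.e k') = 0 := by
  unfold e f
  exact hf_emb_disjoint _ (Fr.i_ne_i (Ne.symm h)) (Fr.i_ne_j k' k) (Fr.i_ne_j k k').symm
    (Fr.j_ne_j (Ne.symm h)) _ _

lemma ff' {k k' : Fin 3} (h : k ≠ k') : hf S.sig0 (Fr.f k) (Fr.f k') = 0 := by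
  unfold f
  exact hf_emb_disjoint _ (Fr.i_ne_i (Ne.symm h)) (Fr.i_ne_j k' k) (Fr.i_ne_j k k').symm
    (Fr.j_ne_j (Ne.symm h)) _ _

lemma a₀_ne : Fr.a₀ ≠ 0 := Fr.hp.ne_zero

lemma b₀_ne : Fr.b₀ ≠ 0 := (Fr.hp.symm S.sig0_sq).ne_zero

lemma e_ne (k : Fin 3) : Fr.e k ≠ 0 := emb_ne_zero (Fr.i_ne_j k k) Fr.a₀_ne

lemma f_ne (k : Fin 3) : Fr.f k ≠ 0 := emb_ne_zero (Fr.i_ne_j k k) Fr.b₀_ne

/-- a vector of the `k`-th plane and a vector vanishing on that plane are independent -/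
lemma indep_plane {k : Fin 3} {x : Fin 2 → F₀} (hx : x ≠ 0) {y : Fin n → F₀} (hy : y ≠ 0)
    (hyi : y (Fr.i k) = 0) (hyj : y (Fr.j k) = 0) :
    LinearIndependent F₀ ![emb (Fr.i k) (Fr.j k) x, y] := by
  obtain ⟨q, hq⟩ : ∃ q, y q ≠ 0 := by
    by_contra hcon
    push Not at hcon
    exact hy (funext hcon)
  have hqi : q ≠ Fr.i k := fun h => hq (h ▸ hyi)
  have hqj : q ≠ Fr.j k := fun h => hq (h ▸ hyj)
  by_cases h0 : x 0 = 0
  · have h1 : x 1 ≠ 0 := by
      intro h1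
      apply hx
      funext t
      fin_cases t
      · exact h0
      · exact h1
    exact indep_of_coords (p := Fr.j k) (q := q) (by rw [emb_right (Fr.i_ne_j k k)]; exact h1) hyj hq
      (emb_of_ne hqi hqj x)
  · exact indep_of_coords (p := Fr.i k) (q := q) (by rw [emb_left (Fr.i_ne_j k k)]; exact h0) hyi hq
      (emb_of_ne hqi hqj x)

lemma indep_ee {k k' : Fin 3} (h : k ≠ k') : LinearIndependent F₀ ![Fr.e k, Fr.e k'] :=
  Fr.indep_plane Fr.a₀_ne (Fr.e_ne k')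
    (emb_of_ne (Fr.i_ne_i h) (Fr.i_ne_j k k') _) (emb_of_ne (Fr.i_ne_j k' k).symm (Fr.j_ne_j h) _)

lemma indep_ef {k k' : Fin 3} (h : k ≠ k') : LinearIndependent F₀ ![Fr.e k, Fr.f k'] :=
  Fr.indep_plane Fr.a₀_ne (Fr.f_ne k')
    (emb_of_ne (Fr.i_ne_i h) (Fr.i_ne_j k k') _) (emb_of_ne (Fr.i_ne_j k' k).symm (Fr.j_ne_j h) _)

lemma indep_fe {k k' : Fin 3} (h : k ≠ k') : LinearIndependent F₀ ![Fr.f k, Fr.e k'] :=
  Fr.indep_plane Fr.b₀_ne (Fr.e_ne k')
    (emb_of_ne (Fr.i_ne_i h) (Fr.i_ne_j k k') _) (emb_of_ne (Fr.i_ne_j k' k).symm (Fr.j_ne_j h) _)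

end Frame

/-- a frame exists when `7 ≤ n` -/
lemma exists_frame [Finite F] (S : Setup σ F₀) (hn : 7 ≤ n) : Nonempty (Frame S n) := by
  have : Finite F₀ := Finite.of_injective (fun x : F₀ => (x : F)) Subtype.val_injective
  obtain ⟨a₀, b₀, hp⟩ := exists_HP S.sig0 S.sig0_ne S.sig0_sq (n := 2) le_rfl
  exact ⟨⟨a₀, b₀, hp, Fin.castLE hn, Fin.castLE_injective hn⟩⟩

end Cfsg.Agent.Lib.Helper99.SUSub
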