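/-
helper99: the unitary subfield group (S5658), part B2: transitivity of the rational special unitary group
on pairs of orthogonal isotropic independent rational vectors (Witt + a quasi-reflection).
-/
import Mathlib
import Cfsg.Agent.Lib.Helper99.SUSubB

set_option autoImplicit false
set_option linter.unusedSimpArgs false
set_option linter.unusedVariables false
set_option linter.unusedSectionVars false

namespace Cfsg.Agent.Lib.Helper99.SUSub

open Matrix Module Cfsg.Agent.S0837 Cfsg.Agent.S0781 Cfsg.Agent.S2644 Cfsg.Agent.Lib.Helper37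
  Cfsg.Agent.Lib.Helper13 Cfsg.Agent.Lib.Helper94

variable {F : Type*} [Field F] {σ : F →+* F} {n : ℕ} {F₀ : Subfield F}

/-- moving a pair to the standard pair -/
theorem exists_move_std [Finite F] (S : Setup σ F₀) (Fr : Frame S n) {s u : Fin n → F₀}
    (hs : hf S.sig0 s s = 0) (hu : hf S.sig0 u u = 0) (hsu : hf S.sig0 s u = 0)
    (hli : LinearIndependent F₀ ![s, u]) :
    ∃ A : GL (Fin n) F₀, A ∈ UG S.sig0 n ∧ (A : Matrix (Fin n) (Fin n) F₀).det = 1 ∧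
      (A : Matrix (Fin n) (Fin n) F₀) *ᵥ s = Fr.e 0 ∧
      (A : Matrix (Fin n) (Fin n) F₀) *ᵥ u = Fr.e 1 := by
  have : Finite F₀ := Finite.of_injective (fun x : F₀ => (x : F)) Subtype.val_injective
  obtain ⟨τ, hτ⟩ : ∃ τ : F₀ →+* F₀, τ = S.sig0 := ⟨_, rfl⟩
  have hτ2 : ∀ a, τ (τ a) = a := by rw [hτ]; exact S.sig0_sq
  have hτne : τ ≠ RingHom.id F₀ := by rw [hτ]; exact S.sig0_ne
  rw [← hτ] at hs hu hsu
  have hus : hf τ u s = 0 := by rw [hf_symm τ hτ2, hsu, map_zero]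
  have h01 : (0 : Fin 3) ≠ 1 := by decide
  have e00 : hf τ (Fr.e 0) (Fr.e 0) = 0 := by rw [hτ]; exact Fr.ee 0
  have e11 : hf τ (Fr.e 1) (Fr.e 1) = 0 := by rw [hτ]; exact Fr.ee 1
  have e01 : hf τ (Fr.e 0) (Fr.e 1) = 0 := by rw [hτ]; exact Fr.ee' h01
  have e10 : hf τ (Fr.e 1) (Fr.e 0) = 0 := by rw [hτ]; exact Fr.ee' h01.symm
  obtain ⟨T, hT, hTv⟩ := witt_families_herm τ hτne hτ2 (BV τ n) (BV_symm τ hτ2 n)
    (BV_nondeg τ hτ2 n) 2 ![s, u] ![Fr.e 0, Fr.e 1] hli (Fr.indep_ee h01) (by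
      intro i j
      fin_cases i <;> fin_cases j
      · show BV τ n s s = BV τ n (Fr.e 0) (Fr.e 0)
        rw [BV_apply, BV_apply, hs, e00]
      · show BV τ n s u = BV τ n (Fr.e 0) (Fr.e 1)
        rw [BV_apply, BV_apply, hus, e10]
      · show BV τ n u s = BV τ n (Fr.e 1) (Fr.e 0)
        rw [BV_apply, BV_apply, hsu, e01]
      · show BV τ n u u = BV τ n (Fr.e 1) (Fr.e 1)
        rw [BV_apply, BV_apply, hu, e11])
  have hT0 : T s = Fr.e 0 := hTv 0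
  have hT1 : T u = Fr.e 1 := hTv 1
  have hTh : ∀ z w, hf τ (T z) (T w) = hf τ z w := fun z w => hT w z
  set M₀ : Matrix (Fin n) (Fin n) F₀ := LinearMap.toMatrix' T.toLinearMap with hM₀
  have hM₀x : ∀ x, M₀ *ᵥ x = T x := fun x => by
    rw [hM₀, LinearMap.toMatrix'_mulVec]; rfl
  have hM₀p : ∀ x y, hf τ (M₀ *ᵥ x) (M₀ *ᵥ y) = hf τ x y := fun x y => by
    rw [hM₀x, hM₀x, hTh]
  have hd := det_norm_of_preserves τ M₀ hM₀p
  set d := M₀.det with hdd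
  have hd0 : d ≠ 0 := by
    rintro h
    rw [h, mul_zero] at hd
    exact zero_ne_one hd
  have hτd0 : τ d ≠ 0 := by
    intro h
    rw [h, zero_mul] at hd
    exact zero_ne_one hd
  set w : Fin n → F₀ := Pi.single Fr.l 1 with hw
  have hww : hf τ w w = 1 := by rw [hw, hf_single_single, if_pos rfl]
  set a : F₀ := d⁻¹ - 1 with ha
  have hQp : ∀ x y, hf τ (tv τ w a *ᵥ x) (tv τ w a *ᵥ y) = hf τ x y := by
    intro x y
    rw [hf_tv τ hτ2]
    have : a + τ a + a * τ a * hf τ w w = 0 := by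
      rw [hww, ha, map_sub, map_inv₀, map_one]
      field_simp
      linear_combination (-1 : F₀) * hd
    rw [this, zero_mul, add_zero]
  have hQdet : (tv τ w a).det = d⁻¹ := by
    rw [tv_det, hww, ha]; ring
  set A₀ : Matrix (Fin n) (Fin n) F₀ := tv τ w a * M₀ with hA₀
  have hA₀det : A₀.det = 1 := by
    rw [hA₀, Matrix.det_mul, hQdet, ← hdd, inv_mul_cancel₀ hd0]
  have hA₀p : ∀ x y, hf τ (A₀ *ᵥ x) (A₀ *ᵥ y) = hf τ x y := by
    intro x y
    rw [hA₀, ← mulVec_mulVec, ← mulVec_mulVec, hQp, hM₀p]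
  have hfix : ∀ k : Fin 3, tv τ w a *ᵥ Fr.e k = Fr.e k := by
    intro k
    rw [tv_mulVec, hw, hf_single_right]
    unfold Frame.e
    rw [emb_of_ne (Fr.l_ne_i k) (Fr.l_ne_j k), mul_zero, zero_smul, add_zero]
  refine ⟨Matrix.SpecialLinearGroup.toGL ⟨A₀, hA₀det⟩, ?_, hA₀det, ?_, ?_⟩
  · intro x y
    rw [hτ] at hA₀p
    exact hA₀p x y
  · show A₀ *ᵥ s = Fr.e 0
    rw [hA₀, ← mulVec_mulVec, hM₀x, hT0, hfix]
  · show A₀ *ᵥ u = Fr.e 1
    rw [hA₀, ← mulVec_mulVec, hM₀x, hT1, hfix]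

/-- transitivity on pairs -/
theorem exists_move_pair [Finite F] (S : Setup σ F₀) (hn : 7 ≤ n) {s u s' u' : Fin n → F₀}
    (hs : hf S.sig0 s s = 0) (hu : hf S.sig0 u u = 0) (hsu : hf S.sig0 s u = 0)
    (hli : LinearIndependent F₀ ![s, u])
    (hs' : hf S.sig0 s' s' = 0) (hu' : hf S.sig0 u' u' = 0) (hsu' : hf S.sig0 s' u' = 0)
    (hli' : LinearIndependent F₀ ![s', u']) :
    ∃ A : GL (Fin n) F₀, A ∈ UG S.sig0 n ∧ (A : Matrix (Fin n) (Fin n) F₀).det = 1 ∧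
      (A : Matrix (Fin n) (Fin n) F₀) *ᵥ s = s' ∧
      (A : Matrix (Fin n) (Fin n) F₀) *ᵥ u = u' := by
  obtain ⟨Fr⟩ := exists_frame S hn
  obtain ⟨A₁, hA₁, hd₁, h1s, h1u⟩ := exists_move_std S Fr hs hu hsu hli
  obtain ⟨A₂, hA₂, hd₂, h2s, h2u⟩ := exists_move_std S Fr hs' hu' hsu' hli'
  have hinv : ∀ x : Fin n → F₀, ((A₂⁻¹ : GL (Fin n) F₀) : Matrix (Fin n) (Fin n) F₀) *ᵥ
      ((A₂ : Matrix (Fin n) (Fin n) F₀) *ᵥ x) = x := by
    intro x
    rw [mulVec_mulVec, ← Units.val_mul, inv_mul_cancel, Units.val_one, one_mulVec]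
  refine ⟨A₂⁻¹ * A₁, (UG S.sig0 n).mul_mem ((UG S.sig0 n).inv_mem hA₂) hA₁, ?_, ?_, ?_⟩
  · have h1 : ((A₂⁻¹ : GL (Fin n) F₀) : Matrix (Fin n) (Fin n) F₀).det = 1 := by
      have h2 : ((A₂⁻¹ : GL (Fin n) F₀) : Matrix (Fin n) (Fin n) F₀) *
          (A₂ : Matrix (Fin n) (Fin n) F₀) = 1 := by
        rw [← Units.val_mul, inv_mul_cancel, Units.val_one]
      have := congrArg Matrix.det h2
      rwa [Matrix.det_mul, hd₂, mul_one, Matrix.det_one] at this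
    rw [Units.val_mul, Matrix.det_mul, h1, hd₁, mul_one]
  · rw [Units.val_mul, ← mulVec_mulVec, h1s, ← h2s, hinv]
  · rw [Units.val_mul, ← mulVec_mulVec, h1u, ← h2u, hinv]

end Cfsg.Agent.Lib.Helper99.SUSub
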