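/-
helper99: the unitary subfield group (S5658), part C: identities between Siegel elements and
transvections.
-/
import Mathlib
import Cfsg.Agent.Lib.Helper99.SUSubB2

set_option autoImplicit false
set_option linter.unusedSimpArgs false
set_option linter.unusedVariables false
set_option linter.unusedSectionVars false

namespace Cfsg.Agent.Lib.Helper99.SUSub

open Matrix Module Cfsg.Agent.S0837 Cfsg.Agent.S0781 Cfsg.Agent.S2644 Cfsg.Agent.Lib.Helper37
  Cfsg.Agent.Lib.Helper13 Cfsg.Agent.Lib.Helper94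

variable {F : Type*} [Field F] (σ : F →+* F) {n : ℕ}

lemma hf_eq_zero_symm (hσ2 : ∀ a, σ (σ a) = a) {u v : Fin n → F} (h : hf σ u v = 0) :
    hf σ v u = 0 := by
  rw [hf_symm σ hσ2, h, map_zero]

/-- the commutator relation of two short root elements -/
lemma sieg_comm (hσ2 : ∀ a, σ (σ a) = a) {p w p' w' : Fin n → F}
    (h1 : hf σ p p' = 0) (h2 : hf σ w p' = 0) (h3 : hf σ w w' = 0) (h4 : hf σ w w = 0)
    (h5 : hf σ w p = 0) (h6 : hf σ w' p' = 0) (h7 : hf σ p' p' = 0) :
    sieg σ p w 0 * sieg σ p' w' 0 =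
      sieg σ p' (hf σ w' p • w) 0 * (sieg σ p' w' 0 * sieg σ p w 0) := by
  have g1 := hf_eq_zero_symm σ hσ2 h1
  have g2 := hf_eq_zero_symm σ hσ2 h2
  have g3 := hf_eq_zero_symm σ hσ2 h3
  have g5 := hf_eq_zero_symm σ hσ2 h5
  have g6 := hf_eq_zero_symm σ hσ2 h6
  have g8 : hf σ p w' = σ (hf σ w' p) := hf_symm σ hσ2 p w'
  apply Matrix.toLin'.injective
  apply LinearMap.ext
  intro x
  simp only [Matrix.toLin'_apply, ← mulVec_mulVec, sieg_mulVec]
  simp only [hf_add_left, hf_sub_left, hf_smul_left, hf_add_right, hf_smul_right, h1, h2, h3, h4,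
    h5, h6, h7, g1, g2, g3, g5, g6, g8, zero_smul, add_zero, mul_zero, sub_zero, zero_mul]
  module

/-- splitting a Siegel element whose centre is a sum of two orthogonal isotropic vectors -/
lemma sieg_center_add (hσ2 : ∀ a, σ (σ a) = a) {p p'' w : Fin n → F} {β : F}
    (hpp : hf σ p p = 0) (hqq : hf σ p'' p'' = 0) (hww : hf σ w w = 0)
    (hpq : hf σ p p'' = 0) (hwp : hf σ w p = 0) (hwq : hf σ w p'' = 0) (hβ : σ β = -β) :
    sieg σ (p + p'') w β = sieg σ p w β * (sieg σ p'' w β * sieg σ p (β • p'') 0) := by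
  have gpq := hf_eq_zero_symm σ hσ2 hpq
  have gwp := hf_eq_zero_symm σ hσ2 hwp
  have gwq := hf_eq_zero_symm σ hσ2 hwq
  apply Matrix.toLin'.injective
  apply LinearMap.ext
  intro x
  simp only [Matrix.toLin'_apply, ← mulVec_mulVec, sieg_mulVec]
  simp only [hf_add_left, hf_sub_left, hf_smul_left, hf_add_right, hf_smul_right, hpp, hqq, hww,
    hpq, hwp, hwq, gpq, gwp, gwq, hβ, zero_smul, add_zero, mul_zero, sub_zero, zero_mul]
  module

/-- a transvection whose centre is a sum of two orthogonal isotropic vectors -/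
lemma tv_center_add (hσ2 : ∀ a, σ (σ a) = a) {y z : Fin n → F} {c lam : F}
    (hyy : hf σ y y = 0) (hzz : hf σ z z = 0) (hyz : hf σ y z = 0) (hc : σ c = -c) :
    tv σ (y + lam • z) c =
      tv σ y c * sieg σ z ((c * σ lam) • y) (c * lam * σ lam) := by
  have gyz := hf_eq_zero_symm σ hσ2 hyz
  apply Matrix.toLin'.injective
  apply LinearMap.ext
  intro x
  simp only [Matrix.toLin'_apply, ← mulVec_mulVec, sieg_mulVec, tv_mulVec]
  simp only [hf_add_left, hf_sub_left, hf_smul_left, hf_add_right, hf_smul_right, hyy, hzz, hyz,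
    gyz, map_mul, hσ2, hc, zero_smul, add_zero, mul_zero, sub_zero, zero_mul]
  module

/-- symmetry of short root elements -/
lemma sieg_swap (hσ2 : ∀ a, σ (σ a) = a) (y z : Fin n → F) (μ : F) :
    sieg σ y (μ • z) 0 = sieg σ z ((-σ μ) • y) 0 := by
  apply Matrix.toLin'.injective
  apply LinearMap.ext
  intro x
  simp only [Matrix.toLin'_apply, sieg_mulVec]
  simp only [hf_smul_right, map_neg, hσ2, zero_smul, add_zero]
  module

end Cfsg.Agent.Lib.Helper99.SUSub
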