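/-
helper99: S5658 (SU ∩ subfield group maximal, odd prime index): interface definitions shared by the
parts of the proof (standard form `P = 1`).
-/
import Mathlib
import Cfsg.Agent.Lib.Helper99.SUSubC

set_option autoImplicit false

namespace Cfsg.Agent.Lib.Helper99.SUSub

open Matrix Module Cfsg.Agent.S0837 Cfsg.Agent.S0781 Cfsg.Agent.S2644 Cfsg.Agent.Lib.Helper37
  Cfsg.Agent.Lib.Helper13 Cfsg.Agent.Lib.Helper94

variable {F : Type*} [Field F] {σ : F →+* F} {n : ℕ} {F₀ : Subfield F}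

/-- `M` contains every rational isometry of determinant one. -/
def HM (σ : F →+* F) (F₀ : Subfield F) (M : Subgroup (GL (Fin n) F)) : Prop :=
  ∀ g : GL (Fin n) F, g ∈ UG σ n → (g : Matrix (Fin n) (Fin n) F).det = 1 →
    g ∈ Cfsg.Geo.subfieldSubgroup F₀ (1 : GL (Fin n) F) → g ∈ M

/-- the "tight" case: every Siegel element of `M` on a rational totally isotropic pair has a
rational short parameter -/
def TightAll (S : Setup σ F₀) (M : Subgroup (GL (Fin n) F)) : Prop :=
  ∀ s u : Fin n → F₀, hf S.sig0 s s = 0 → hf S.sig0 u u = 0 → hf S.sig0 s u = 0 →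
    LinearIndependent F₀ ![s, u] → ∀ α β : F, β + σ β = 0 →
    InM M (sieg σ (ratV F₀ s) (α • ratV F₀ u) β) → α ∈ F₀

/-- (STAR): a transvection of `M` whose centre is orthogonal to some rational isotropic point has
a rational centre -/
def StarProp (S : Setup σ F₀) (M : Subgroup (GL (Fin n) F)) : Prop :=
  ∀ (v : Fin n → F) (c : F), c ≠ 0 → c + σ c = 0 → hf σ v v = 0 → InM M (tv σ v c) →
    ∀ s : Fin n → F₀, s ≠ 0 → hf S.sig0 s s = 0 → hf σ v (ratV F₀ s) = 0 →
    ∃ (lam : F) (v₀ : Fin n → F₀), v = lam • ratV F₀ v₀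

/-- (P): an element of `M` mapping one rational isotropic point to a rational point lies in the
subfield group -/
def PProp (S : Setup σ F₀) (M : Subgroup (GL (Fin n) F)) : Prop :=
  ∀ k ∈ M, ∀ (p p' : Fin n → F₀) (μ : F), p ≠ 0 → hf S.sig0 p p = 0 →
    (k : Matrix (Fin n) (Fin n) F) *ᵥ ratV F₀ p = μ • ratV F₀ p' →
    k ∈ Cfsg.Geo.subfieldSubgroup F₀ (1 : GL (Fin n) F)

end Cfsg.Agent.Lib.Helper99.SUSub
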