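/-
helper99: S5658 (SU ∩ subfield group maximal, odd prime index), part D: the non-tight case.
If some Siegel element of `M` on a rational totally isotropic pair has a non-rational short
parameter then `M` contains the special unitary group.
-/
import Mathlib
import Cfsg.Agent.Lib.Helper99.SUSubI

set_option autoImplicit false
set_option linter.unusedSimpArgs false
set_option linter.unusedVariables false
set_option linter.unusedSectionVars false

namespace Cfsg.Agent.Lib.Helper99.SUSub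

open Matrix Module Cfsg.Agent.S0837 Cfsg.Agent.S0781 Cfsg.Agent.S2644 Cfsg.Agent.Lib.Helper37
  Cfsg.Agent.Lib.Helper13 Cfsg.Agent.Lib.Helper94

variable {F : Type*} [Field F] {σ : F →+* F} {n : ℕ} {F₀ : Subfield F}

lemma inM_of_mul_eq' {M : Subgroup (GL (Fin n) F)} {A B C : Matrix (Fin n) (Fin n) F}
    (hB : InM M B) (hC : InM M C) (h : A * B = C) : InM M A := by
  obtain ⟨b, hb, rfl⟩ := hB
  obtain ⟨c, hc, rfl⟩ := hC
  refine ⟨c * b⁻¹, M.mul_mem hc (M.inv_mem hb), ?_⟩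
  rw [Units.val_mul, ← h, Matrix.mul_assoc, ← Units.val_mul, mul_inv_cancel, Units.val_one,
    Matrix.mul_one]

/-- the commutator relation of two short root elements, the second one with a long-root part -/
lemma sieg_comm_gen (σ : F →+* F) (hσ2 : ∀ a, σ (σ a) = a) {p w p' w' : Fin n → F} (β' : F)
    (h1 : hf σ p p' = 0) (h2 : hf σ w p' = 0) (h3 : hf σ w w' = 0) (h4 : hf σ w w = 0)
    (h5 : hf σ w p = 0) (h6 : hf σ w' p' = 0) (h7 : hf σ p' p' = 0) :
    sieg σ p w 0 * sieg σ p' w' β' =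
      sieg σ p' (hf σ w' p • w) 0 * (sieg σ p' w' β' * sieg σ p w 0) := by
  have g1 := hf_eq_zero_symm σ hσ2 h1
  have g2 := hf_eq_zero_symm σ hσ2 h2
  have g3 := hf_eq_zero_symm σ hσ2 h3
  have g5 := hf_eq_zero_symm σ hσ2 h5
  have g6 := hf_eq_zero_symm σ hσ2 h6
  have g8 : hf σ p w' = σ (hf σ w' p) := hf_symm σ hσ2 p w'
  apply Matrix.toLin'.injective
  apply LinearMap.ext
  intro x
  simp only [Matrix.toLin'_apply, ← mulVec_mulVec, sieg_mulVec]
  simp only [hf_add_left, hf_sub_left, hf_smul_left, hf_add_right, hf_smul_right, h1, h2, h3, h4,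
    h5, h6, h7, g1, g2, g3, g5, g6, g8, zero_smul, add_zero, mul_zero, sub_zero, zero_mul]
  module

/-- rational totally isotropic pairs -/
structure RP (S : Setup σ F₀) (s u : Fin n → F₀) : Prop where
  ss : hf S.sig0 s s = 0
  uu : hf S.sig0 u u = 0
  su : hf S.sig0 s u = 0
  li : LinearIndependent F₀ ![s, u]

/-- transfer of a Siegel element from one rational pair to another -/
lemma transfer [Finite F] (S : Setup σ F₀) (hn : 7 ≤ n) {M : Subgroup (GL (Fin n) F)}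
    (hM : HM σ F₀ M) {s u s' u' : Fin n → F₀} (h : RP S s u) (h' : RP S s' u') {α β : F}
    (hin : InM M (sieg σ (ratV F₀ s) (α • ratV F₀ u) β)) :
    InM M (sieg σ (ratV F₀ s') (α • ratV F₀ u') β) := by
  obtain ⟨A, hA, hdet, hAs, hAu⟩ :=
    exists_move_pair S hn h.ss h.uu h.su h.li h'.ss h'.uu h'.su h'.li
  have hg := S.lift_mem hM hA hdet
  have hgU := S.liftGL_mem_UG hA
  have := InM.sieg_conj hg hgU hin
  rwa [Matrix.mulVec_smul, liftGL_mulVec, liftGL_mulVec, hAs, hAu] at this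

/-- all short root elements on rational pairs lie in `M` -/
def ShortAll (S : Setup σ F₀) (M : Subgroup (GL (Fin n) F)) : Prop :=
  ∀ s u : Fin n → F₀, RP S s u → ∀ α : F, InM M (sieg σ (ratV F₀ s) (α • ratV F₀ u) 0)

namespace Frame

variable {S : Setup σ F₀} (Fr : Frame S n)

lemma rp_ee {k k' : Fin 3} (h : k ≠ k') : RP S (Fr.e k) (Fr.e k') :=
  ⟨Fr.ee k, Fr.ee k', Fr.ee' h, Fr.indep_ee h⟩

lemma rp_ef {k k' : Fin 3} (h : k ≠ k') : RP S (Fr.e k) (Fr.f k') :=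
  ⟨Fr.ee k, Fr.ff k', Fr.ef' h, Fr.indep_ef h⟩

lemma rp_fe {k k' : Fin 3} (h : k ≠ k') : RP S (Fr.f k) (Fr.e k') :=
  ⟨Fr.ff k, Fr.ee k', Fr.fe' h, Fr.indep_fe h⟩

lemma hEE (k k' : Fin 3) : hf σ (ratV F₀ (Fr.e k)) (ratV F₀ (Fr.e k')) = 0 := by
  rw [S.hf_ratV_eq_zero]
  by_cases h : k = k'
  · subst h; exact Fr.ee k
  · exact Fr.ee' h

lemma hPP (k k' : Fin 3) : hf σ (ratV F₀ (Fr.f k)) (ratV F₀ (Fr.f k')) = 0 := by
  rw [S.hf_ratV_eq_zero]
  by_cases h : k = k'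
  · subst h; exact Fr.ff k
  · exact Fr.ff' h

lemma hEP (k k' : Fin 3) :
    hf σ (ratV F₀ (Fr.e k)) (ratV F₀ (Fr.f k')) = if k = k' then 1 else 0 := by
  rw [S.hf_ratV]
  by_cases h : k = k'
  · subst h; rw [Fr.ef, if_pos rfl]; rfl
  · rw [Fr.ef' h, if_neg h]; rfl

lemma hPE (k k' : Fin 3) :
    hf σ (ratV F₀ (Fr.f k)) (ratV F₀ (Fr.e k')) = if k = k' then 1 else 0 := by
  rw [S.hf_ratV]
  by_cases h : k = k'
  · subst h; rw [Fr.fe, if_pos rfl]; rfl
  · rw [Fr.fe' h, if_neg h]; rfl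

/-- the frame with the two vectors of the hyperbolic pair interchanged -/
def swap : Frame S n := ⟨Fr.b₀, Fr.a₀, Fr.hp.symm S.sig0_sq, Fr.I, Fr.hI⟩

lemma swap_e (k : Fin 3) : Fr.swap.e k = Fr.f k := rfl

lemma swap_f (k : Fin 3) : Fr.swap.f k = Fr.e k := rfl

end Frame

/-- the key multiplicative closure of the short parameters -/
lemma short_mul [Finite F] (S : Setup σ F₀) (hn : 7 ≤ n) {M : Subgroup (GL (Fin n) F)}
    (hM : HM σ F₀ M) (Fr : Frame S n) {s u : Fin n → F₀} (hsu : RP S s u) {α' β' α : F}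
    (h' : InM M (sieg σ (ratV F₀ s) (α' • ratV F₀ u) β'))
    (h : InM M (sieg σ (ratV F₀ (Fr.e 0)) (α • ratV F₀ (Fr.e 1)) 0)) :
    InM M (sieg σ (ratV F₀ (Fr.e 0)) ((α' * α) • ratV F₀ (Fr.e 1)) 0) := by
  have h01 : (0 : Fin 3) ≠ 1 := by decide
  have h10 : (1 : Fin 3) ≠ 0 := by decide
  have h21 : (2 : Fin 3) ≠ 1 := by decide
  have h20 : (2 : Fin 3) ≠ 0 := by decide
  have hX := transfer S hn hM (Fr.rp_ee h01) (Fr.rp_fe h10) h
  have hY := transfer S hn hM hsu (Fr.rp_fe h21) h'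
  have e := sieg_comm_gen σ S.hσ2 (p := ratV F₀ (Fr.f 1)) (w := α • ratV F₀ (Fr.e 0))
    (p' := ratV F₀ (Fr.f 2)) (w' := α' • ratV F₀ (Fr.e 1)) β'
    (by simp [hf_smul_left, hf_smul_right, Fr.hEE, Fr.hPP, Fr.hEP, Fr.hPE])
    (by simp [hf_smul_left, hf_smul_right, Fr.hEE, Fr.hPP, Fr.hEP, Fr.hPE])
    (by simp [hf_smul_left, hf_smul_right, Fr.hEE, Fr.hPP, Fr.hEP, Fr.hPE])
    (by simp [hf_smul_left, hf_smul_right, Fr.hEE, Fr.hPP, Fr.hEP, Fr.hPE])
    (by simp [hf_smul_left, hf_smul_right, Fr.hEE, Fr.hPP, Fr.hEP, Fr.hPE])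
    (by simp [hf_smul_left, hf_smul_right, Fr.hEE, Fr.hPP, Fr.hEP, Fr.hPE])
    (by simp [hf_smul_left, hf_smul_right, Fr.hEE, Fr.hPP, Fr.hEP, Fr.hPE])
  have hc : hf σ (α' • ratV F₀ (Fr.e 1)) (ratV F₀ (Fr.f 1)) = α' := by
    rw [hf_smul_left, Fr.hEP, if_pos rfl, mul_one]
  rw [hc, smul_smul] at e
  have hZ := inM_of_mul_eq' (hY.mul hX) (hX.mul hY) e.symm
  exact transfer S hn hM (Fr.rp_fe h20) (Fr.rp_ee h01) hZ

/-- rational short root elements -/
lemma short_rat (S : Setup σ F₀) {M : Subgroup (GL (Fin n) F)} (hM : HM σ F₀ M)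
    {s u : Fin n → F₀} (hsu : RP S s u) (a : F₀) :
    InM M (sieg σ (ratV F₀ s) ((a : F) • ratV F₀ u) 0) := by
  have hus : hf S.sig0 u s = 0 := hf_eq_zero_symm S.sig0 S.sig0_sq hsu.su
  have := S.ratSieg_mem hM (a := s) (b := a • u) (β := 0) hsu.ss
    (by rw [hf_smul_left, hus, mul_zero])
    (by rw [hf_smul_left, hf_smul_right, hsu.uu]; simp)
  rwa [ratV_smul] at this

/-- in the non-tight case all short root elements lie in `M` -/
theorem shortAll_of_not_tight [Finite F] (S : Setup σ F₀) (hn : 7 ≤ n)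
    (hr : (Module.finrank F₀ F).Prime) {M : Subgroup (GL (Fin n) F)}
    (hM : HM σ F₀ M) (hnt : ¬ TightAll S M) : ShortAll S M := by
  obtain ⟨Fr⟩ := exists_frame S hn
  have h01 : (0 : Fin 3) ≠ 1 := by decide
  unfold TightAll at hnt
  push Not at hnt
  obtain ⟨s, u, hs, hu, hsu, hli, α, β, hβ, hin, hα⟩ := hnt
  let R : Subalgebra F₀ F :=
    { carrier := {α | InM M (sieg σ (ratV F₀ (Fr.e 0)) (α • ratV F₀ (Fr.e 1)) 0)}
      mul_mem' := fun {a b} ha hb => short_mul S hn hM Fr (Fr.rp_ee h01) ha hb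
      add_mem' := by
        intro a b ha hb
        have h := InM.mul ha hb
        rw [sieg_mul σ S.hσ2 _ _ _ _ _ (Fr.hEE 0 0)
          (by simp [hf_smul_left, hf_smul_right, Fr.hEE])
          (by simp [hf_smul_left, hf_smul_right, Fr.hEE])] at h
        have e1 : a • ratV F₀ (Fr.e 1) + b • ratV F₀ (Fr.e 1) = (a + b) • ratV F₀ (Fr.e 1) := by
          rw [add_smul]
        have e2 : (0 : F) + 0 - hf σ (b • ratV F₀ (Fr.e 1)) (a • ratV F₀ (Fr.e 1)) = 0 := by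
          simp [hf_smul_left, hf_smul_right, Fr.hEE]
        rw [e1, e2] at h
        exact h
      algebraMap_mem' := fun a => short_rat S hM (Fr.rp_ee h01) a }
  have hmemR : ∀ x : F, x ∈ R ↔ InM M (sieg σ (ratV F₀ (Fr.e 0)) (x • ratV F₀ (Fr.e 1)) 0) :=
    fun x => Iff.rfl
  have h1 : (1 : F) ∈ R := R.one_mem
  have hαR : α ∈ R := by
    have := short_mul S hn hM Fr ⟨hs, hu, hsu, hli⟩ hin ((hmemR 1).1 h1)
    rw [mul_one] at this
    exact (hmemR α).2 this
  have hso := Subalgebra.isSimpleOrder_of_finrank_prime F₀ F hr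
  rcases eq_bot_or_eq_top R with hbot | htop
  · exfalso
    rw [hbot, Algebra.mem_bot] at hαR
    obtain ⟨a, ha⟩ := hαR
    apply hα
    rw [← ha]
    exact a.2
  · intro s' u' hsu' α'
    have : α' ∈ R := by rw [htop]; exact Algebra.mem_top
    exact transfer S hn hM (Fr.rp_ee h01) hsu' ((hmemR α').1 this)

end Cfsg.Agent.Lib.Helper99.SUSub
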