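/-
helper99: S5658, part D2: from all short root elements to the whole special unitary group.
-/
import Mathlib
import Cfsg.Agent.Lib.Helper99.SUSubD

set_option autoImplicit false
set_option linter.unusedSimpArgs false
set_option linter.unusedVariables false
set_option linter.unusedSectionVars false

namespace Cfsg.Agent.Lib.Helper99.SUSub

open Matrix Module Cfsg.Agent.S0837 Cfsg.Agent.S0781 Cfsg.Agent.S2644 Cfsg.Agent.Lib.Helper37
  Cfsg.Agent.Lib.Helper13 Cfsg.Agent.Lib.Helper94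

variable {F : Type*} [Field F] {σ : F →+* F} {n : ℕ} {F₀ : Subfield F}

/-- the first frame vector carries all its transvections -/
lemma frame_ux [Finite F] (S : Setup σ F₀) {M : Subgroup (GL (Fin n) F)} (hMU : M ≤ UG σ n)
    (hM : HM σ F₀ M) (hsh : ShortAll S M) (Fr : Frame S n) : ratV F₀ (Fr.e 0) ∈ UX σ M := by
  have h01 : (0 : Fin 3) ≠ 1 := by decide
  have h10 : (1 : Fin 3) ≠ 0 := by decide
  rw [ux_iff]
  refine ⟨Fr.hEE 0 0, fun c hc => ?_⟩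
  obtain ⟨c₀, hc₀ne, hc₀⟩ := S.exists_c0
  have hc₀F : (c₀ : F) ≠ 0 := fun h => hc₀ne (Subtype.ext h)
  have hc₀' : (c₀ : F) + σ (c₀ : F) = 0 := by
    have := congrArg (fun x : F₀ => (x : F)) hc₀
    simpa [S.coe_sig0] using this
  have hsc : σ c = -c := eq_neg_of_add_eq_zero_right hc
  have hsc₀ : σ (c₀ : F) = -(c₀ : F) := eq_neg_of_add_eq_zero_right hc₀'
  obtain ⟨lam, hlam⟩ := Cfsg.Agent.Lib.Helper36.exists_mul_map_eq σ S.sig_ne S.hσ2 (c / c₀) (by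
    rw [map_div₀, hsc, hsc₀, neg_div_neg_eq])
  obtain ⟨g, hgM, hg⟩ := hsh _ _ (Fr.rp_fe h10) lam
  have hgU := hMU hgM
  have ht : InM M (sieg σ (ratV F₀ (Fr.e 1)) 0 (c₀ : F)) := S.ratTv_mem hM (Fr.ee 1) hc₀
  have h2 := InM.sieg_conj hgM hgU ht
  have hg1 : (g : Matrix (Fin n) (Fin n) F) *ᵥ ratV F₀ (Fr.e 1) =
      ratV F₀ (Fr.e 1) + lam • ratV F₀ (Fr.e 0) := by
    rw [hg, sieg_mulVec]
    simp [hf_smul_left, hf_smul_right, Fr.hEE, Fr.hPP, Fr.hEP, Fr.hPE]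
  rw [hg1, Matrix.mulVec_zero] at h2
  have e := tv_center_add σ S.hσ2 (y := ratV F₀ (Fr.e 1)) (z := ratV F₀ (Fr.e 0)) (c := (c₀ : F))
    (lam := lam) (Fr.hEE 1 1) (Fr.hEE 0 0) (Fr.hEE 1 0) hsc₀
  have h3 : InM M (sieg σ (ratV F₀ (Fr.e 0)) (((c₀ : F) * σ lam) • ratV F₀ (Fr.e 1))
      ((c₀ : F) * lam * σ lam)) := InM.of_mul_eq ht h2 e.symm
  have h4 := hsh _ _ (Fr.rp_ee h01) (-((c₀ : F) * σ lam))
  have h5 := h3.mul h4
  rw [sieg_mul σ S.hσ2 _ _ _ _ _ (Fr.hEE 0 0)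
    (by rw [hf_smul_left, Fr.hEE, mul_zero])
    (by rw [hf_smul_left, Fr.hEE, mul_zero])] at h5
  have e1 : ((c₀ : F) * σ lam) • ratV F₀ (Fr.e 1) + (-((c₀ : F) * σ lam)) • ratV F₀ (Fr.e 1) = 0 := by
    rw [neg_smul, add_neg_cancel]
  have e2 : (c₀ : F) * lam * σ lam + 0 - hf σ ((-((c₀ : F) * σ lam)) • ratV F₀ (Fr.e 1))
      (((c₀ : F) * σ lam) • ratV F₀ (Fr.e 1)) = c := by
    rw [hf_smul_left, hf_smul_right, Fr.hEE, mul_zero, mul_zero, sub_zero, add_zero, mul_assoc, hlam]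
    field_simp
  rw [e1, e2] at h5
  exact h5

/-- finite sums in `SQ` -/
lemma sq_sum (hσ : σ ≠ RingHom.id F) (hσ2 : ∀ a, σ (σ a) = a) {M : Subgroup (GL (Fin n) F)}
    {v : Fin n → F} (hv : v ∈ UX σ M) {ι : Type*} (s : Finset ι) (w : ι → Fin n → F)
    (h : ∀ k ∈ s, w k ∈ SQ σ M v) : ∑ k ∈ s, w k ∈ SQ σ M v := by
  classical
  induction s using Finset.induction_on with
  | empty => rw [Finset.sum_empty]; exact sq_zero hv
  | insert a s ha ih =>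
    rw [Finset.sum_insert ha]
    exact sq_add hσ hσ2 hv (h a (Finset.mem_insert_self a s))
      (ih fun k hk => h k (Finset.mem_insert_of_mem hk))

/-- the full unipotent radical at the first frame vector -/
lemma frame_sq [Finite F] (S : Setup σ F₀) {M : Subgroup (GL (Fin n) F)} (hMU : M ≤ UG σ n)
    (hM : HM σ F₀ M) (hsh : ShortAll S M) (Fr : Frame S n) {u : Fin n → F}
    (hu : hf σ u (ratV F₀ (Fr.e 0)) = 0) : u ∈ SQ σ M (ratV F₀ (Fr.e 0)) := by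
  have hX := frame_ux S hMU hM hsh Fr
  have hσne := S.sig_ne
  have h01 : (0 : Fin 3) ≠ 1 := by decide
  have h10 : (1 : Fin 3) ≠ 0 := by decide
  -- multiples of rational isotropic vectors
  have e1 : ∀ w : Fin n → F₀, RP S (Fr.e 0) w → ∀ α : F,
      α • ratV F₀ w ∈ SQ σ M (ratV F₀ (Fr.e 0)) := by
    intro w hw α
    have hw0 : hf S.sig0 w (Fr.e 0) = 0 := hf_eq_zero_symm S.sig0 S.sig0_sq hw.su
    have h0 : hf σ (α • ratV F₀ w) (ratV F₀ (Fr.e 0)) = 0 := by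
      rw [hf_smul_left, (S.hf_ratV_eq_zero _ _).2 hw0, mul_zero]
    apply sq_of_one S.hσ2 hX h0 (β₀ := 0) _ (hsh _ _ hw α)
    rw [hf_smul_left, hf_smul_right, (S.hf_ratV_eq_zero _ _).2 hw.uu]
    simp
  -- coordinate vectors
  have e3 : ∀ k : Fin n, k ≠ Fr.i 0 → k ≠ Fr.j 0 → ∀ α : F,
      (Pi.single k α : Fin n → F) ∈ SQ σ M (ratV F₀ (Fr.e 0)) := by
    intro k hki hkj α
    obtain ⟨k', hk'k, hk'i, hk'j⟩ : ∃ k' : Fin n, k' ≠ k ∧ k' ≠ Fr.i 0 ∧ k' ≠ Fr.j 0 := by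
      by_cases h : k = Fr.i 1
      · exact ⟨Fr.j 1, by rw [h]; exact (Fr.i_ne_j 1 1).symm, (Fr.i_ne_j 0 1).symm,
          Fr.j_ne_j h10⟩
      · exact ⟨Fr.i 1, fun h' => h h'.symm, Fr.i_ne_i h10, Fr.i_ne_j 1 0⟩
    have rpa : ∀ x : Fin 2 → F₀, x ≠ 0 → hf S.sig0 x x = 0 → RP S (Fr.e 0) (emb k k' x) := by
      intro x hx hxx
      refine ⟨Fr.ee 0, ?_, ?_, ?_⟩
      · rw [hf_emb S.sig0 hk'k.symm, hxx]
      · exact hf_emb_disjoint S.sig0 hki hkj hk'i hk'j _ _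
      · exact Fr.indep_plane (k := 0) Fr.a₀_ne (emb_ne_zero hk'k.symm hx)
          (emb_of_ne hki.symm hk'i.symm x) (emb_of_ne hkj.symm hk'j.symm x)
    have hy := span_two S.sig0 S.sig0_sq Fr.hp (![1, 0] : Fin 2 → F₀)
    obtain ⟨c₁, hc₁⟩ : ∃ c₁, c₁ = hf S.sig0 (![1, 0] : Fin 2 → F₀) Fr.b₀ := ⟨_, rfl⟩
    obtain ⟨c₂, hc₂⟩ : ∃ c₂, c₂ = hf S.sig0 (![1, 0] : Fin 2 → F₀) Fr.a₀ := ⟨_, rfl⟩
    rw [← hc₁, ← hc₂] at hy
    have hs : (Pi.single k 1 : Fin n → F₀) = emb k k' ![1, 0] := by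
      unfold emb; simp
    have hs2 : (Pi.single k 1 : Fin n → F₀) = c₁ • emb k k' Fr.a₀ + c₂ • emb k k' Fr.b₀ := by
      rw [hs, ← emb_smul, ← emb_smul, ← emb_add]
      exact congrArg _ hy
    have hs3 : (Pi.single k α : Fin n → F) = α • ratV F₀ (Pi.single k 1) := by
      rw [ratV_single]
      funext t
      simp [Pi.single_apply]
    rw [hs3, hs2, ratV_add, ratV_smul, ratV_smul, smul_add, smul_smul, smul_smul]
    exact sq_add hσne S.hσ2 hX (e1 _ (rpa _ Fr.a₀_ne Fr.hp.uu) _) (e1 _ (rpa _ Fr.b₀_ne Fr.hp.vv) _)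
  -- the plane part
  obtain ⟨y, hy⟩ : ∃ y : Fin 2 → F, y = ![u (Fr.i 0), u (Fr.j 0)] := ⟨_, rfl⟩
  have hpF : HP σ (ratV F₀ Fr.a₀) (ratV F₀ Fr.b₀) :=
    ⟨by rw [S.hf_ratV_eq_zero]; exact Fr.hp.uu, by rw [S.hf_ratV_eq_zero]; exact Fr.hp.vv,
      by rw [S.hf_ratV, Fr.hp.vu]; rfl⟩
  have hsp := span_two σ S.hσ2 hpF y
  have hE : ratV F₀ (Fr.e 0) = emb (Fr.i 0) (Fr.j 0) (ratV F₀ Fr.a₀) := ratV_emb _ _ _
  have hya : hf σ y (ratV F₀ Fr.a₀) = 0 := by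
    rw [← hu, hE, hf_emb_right, hf_two, hy]
    simp
  obtain ⟨lam, hlam⟩ : ∃ lam, lam = hf σ y (ratV F₀ Fr.b₀) := ⟨_, rfl⟩
  rw [hya, zero_smul, add_zero, ← hlam] at hsp
  have hu'i : (u - lam • ratV F₀ (Fr.e 0)) (Fr.i 0) = 0 := by
    have := congrFun hsp 0
    rw [hy] at this
    simp only [Matrix.cons_val_zero, Pi.smul_apply, smul_eq_mul] at this
    rw [hE, Pi.sub_apply, Pi.smul_apply, emb_left (Fr.i_ne_j 0 0), smul_eq_mul, this, sub_self]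
  have hu'j : (u - lam • ratV F₀ (Fr.e 0)) (Fr.j 0) = 0 := by
    have := congrFun hsp 1
    rw [hy] at this
    simp only [Matrix.cons_val_one, Matrix.cons_val_zero, Pi.smul_apply, smul_eq_mul] at this
    rw [hE, Pi.sub_apply, Pi.smul_apply, emb_right (Fr.i_ne_j 0 0), smul_eq_mul, this, sub_self]
  have hsum : u - lam • ratV F₀ (Fr.e 0) =
      ∑ k, Pi.single k ((u - lam • ratV F₀ (Fr.e 0)) k) := (Finset.univ_sum_single _).symm
  have hmem : (u - lam • ratV F₀ (Fr.e 0)) ∈ SQ σ M (ratV F₀ (Fr.e 0)) := by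
    rw [hsum]
    apply sq_sum hσne S.hσ2 hX
    intro k _
    by_cases hki : k = Fr.i 0
    · rw [hki, hu'i, Pi.single_zero]; exact sq_zero hX
    by_cases hkj : k = Fr.j 0
    · rw [hkj, hu'j, Pi.single_zero]; exact sq_zero hX
    exact e3 k hki hkj _
  have := sq_add hσne S.hσ2 hX (sq_smul_self S.hσ2 hX lam) hmem
  rwa [add_sub_cancel] at this

/-- generation from a hyperbolic pair with full unipotent radicals -/
theorem gen_of_pair [Finite F] (hσne : σ ≠ RingHom.id F) (hσ2 : ∀ a, σ (σ a) = a) (hn : 4 ≤ n)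
    {M : Subgroup (GL (Fin n) F)} (hMU : M ≤ UG σ n) {b b' : Fin n → F}
    (hbb0 : hf σ b b = 0) (hb'b'0 : hf σ b' b' = 0) (h1 : hf σ b' b = 1)
    (hbX : b ∈ UX σ M) (hb'X : b' ∈ UX σ M)
    (Q1 : ∀ u, hf σ u b = 0 → u ∈ SQ σ M b) (Q2 : ∀ u, hf σ u b' = 0 → u ∈ SQ σ M b') :
    ∀ g : GL (Fin n) F, g ∈ UG σ n → (g : Matrix (Fin n) (Fin n) F).det = 1 → g ∈ M := by
  have h1' : hf σ b b' = 1 := by rw [hf_symm σ hσ2, h1, map_one]
  have caseA : ∀ (c c' : Fin n → F), hf σ c c = 0 →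
      (∀ u, hf σ u c = 0 → u ∈ SQ σ M c) →
      c' ∈ UX σ M → hf σ c' c = 1 →
      ∀ z : Fin n → F, hf σ z z = 0 → hf σ z c ≠ 0 → z ∈ UX σ M := by
    intro c c' hcc hQ hc'X hc'c z hz hzc
    obtain ⟨l, hl⟩ : ∃ l : F, l = (hf σ z c)⁻¹ := ⟨_, rfl⟩
    have hl0 : l ≠ 0 := by rw [hl]; exact inv_ne_zero hzc
    have hz0 : hf σ (l • z) (l • z) = 0 := by rw [hf_smul_left, hf_smul_right, hz]; ring
    have hzw : hf σ (l • z) c = hf σ c' c := by
      rw [hf_smul_left, hl, inv_mul_cancel₀ hzc, hc'c]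
    have := ux_move hσ2 hMU hcc hQ hc'X (by rw [hc'c]; exact one_ne_zero) hz0 hzw
    have h3 := ux_smul σ hσ2 this l⁻¹
    rwa [smul_smul, inv_mul_cancel₀ hl0, one_smul] at h3
  have hA1 := caseA b b' hbb0 Q1 hb'X h1
  have hA2 := caseA b' b hb'b'0 Q2 hbX h1'
  have hall : ∀ z : Fin n → F, hf σ z z = 0 → z ∈ UX σ M := by
    intro z hz
    by_cases hzb : hf σ z b = 0
    · by_cases hzb' : hf σ z b' = 0
      · by_cases hz0 : z = 0
        · rw [hz0]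
          have := ux_smul σ hσ2 hbX 0
          rwa [zero_smul] at this
        · obtain ⟨y₀, hy₀⟩ := exists_hf_ne_zero σ hσ2 z hz0
          have hzy₀ : hf σ z y₀ ≠ 0 := by
            rw [hf_symm σ hσ2]; exact map_ne_zero_of_invol σ hσ2 hy₀
          obtain ⟨w', hw'⟩ : ∃ w' : Fin n → F, w' = y₀ - hf σ y₀ b' • b := ⟨_, rfl⟩
          have hw'b' : hf σ w' b' = 0 := by
            rw [hw', hf_sub_left, hf_smul_left, h1', mul_one, sub_self]
          have hzw' : hf σ z w' = hf σ z y₀ := by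
            rw [hw', hf_sub_right, hf_smul_right, hzb, mul_zero, sub_zero]
          obtain ⟨β, hβ⟩ := trace_surj σ hσne hσ2 (-hf σ w' w')
            (by rw [map_neg, hf_self_fixed σ hσ2])
          obtain ⟨q, hqM, hq⟩ := (Q2 w' hw'b').2 β (by rw [hβ]; ring)
          have hqz : (q : Matrix (Fin n) (Fin n) F) *ᵥ z = z - hf σ z y₀ • b' := by
            rw [hq, sieg_mulVec, hzb', hzw', zero_smul, add_zero]
          have hz1 : hf σ ((q : Matrix (Fin n) (Fin n) F) *ᵥ z)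
              ((q : Matrix (Fin n) (Fin n) F) *ᵥ z) = 0 := by rw [hMU hqM, hz]
          have hz1b : hf σ ((q : Matrix (Fin n) (Fin n) F) *ᵥ z) b ≠ 0 := by
            rw [hqz, hf_sub_left, hf_smul_left, hzb, h1, zero_sub, mul_one]
            exact neg_ne_zero.mpr hzy₀
          have h5 := hA1 _ hz1 hz1b
          have hqi : (q⁻¹ : GL (Fin n) F) ∈ M := M.inv_mem hqM
          have h6 := ux_map σ q⁻¹ hqi (hMU hqi) h5
          rwa [mulVec_mulVec, ← Units.val_mul, inv_mul_cancel, Units.val_one, one_mulVec] at h6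
      · exact hA2 z hz hzb'
    · exact hA1 z hz hzb
  have hTG : TG σ n ≤ M := by
    unfold TG
    rw [Subgroup.closure_le]
    rintro g ⟨z, c, hz, hc, hg⟩
    obtain ⟨_, h1⟩ := hall z hz
    have : g = tvGL σ z c hz := Units.ext hg
    rw [this]
    exact h1 c hc
  intro g hg hdet
  exact hTG (su_gen σ hσne hσ2 n (by omega) (fun h3 => absurd h3 (by omega)) g hg hdet)

/-- **Part I**: in the non-tight case `M` contains the special unitary group -/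
theorem su_le_of_not_tight [Finite F] (S : Setup σ F₀) (hn : 7 ≤ n)
    (hr : (Module.finrank F₀ F).Prime) {M : Subgroup (GL (Fin n) F)} (hMU : M ≤ UG σ n)
    (hM : HM σ F₀ M) (hnt : ¬ TightAll S M) :
    ∀ g : GL (Fin n) F, g ∈ UG σ n → (g : Matrix (Fin n) (Fin n) F).det = 1 → g ∈ M := by
  have hsh := shortAll_of_not_tight S hn hr hM hnt
  obtain ⟨Fr⟩ := exists_frame S hn
  exact gen_of_pair S.sig_ne S.hσ2 (by omega) hMU (Fr.hEE 0 0) (Fr.hPP 0 0)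
    (by rw [Fr.hPE, if_pos rfl])
    (frame_ux S hMU hM hsh Fr) (frame_ux S hMU hM hsh Fr.swap)
    (fun u hu => frame_sq S hMU hM hsh Fr hu) (fun u hu => frame_sq S hMU hM hsh Fr.swap hu)

end Cfsg.Agent.Lib.Helper99.SUSub
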