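/-
helper99: S5658, part E: the tight case, (STAR): a transvection of `M` whose centre is orthogonal
to a rational isotropic point has a rational centre.
-/
import Mathlib
import Cfsg.Agent.Lib.Helper99.SUSubD2

set_option autoImplicit false
set_option linter.unusedSimpArgs false
set_option linter.unusedVariables false
set_option linter.unusedSectionVars false

namespace Cfsg.Agent.Lib.Helper99.SUSub

open Matrix Module Cfsg.Agent.S0837 Cfsg.Agent.S0781 Cfsg.Agent.S2644 Cfsg.Agent.Lib.Helper37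
  Cfsg.Agent.Lib.Helper13 Cfsg.Agent.Lib.Helper94

variable {F : Type*} [Field F] {σ : F →+* F} {n : ℕ} {F₀ : Subfield F}

/-- a rational isotropic vector lies in a rational totally isotropic pair -/
lemma exists_rp [Finite F] (S : Setup σ F₀) (hn : 4 ≤ n) {s : Fin n → F₀} (hs0 : s ≠ 0)
    (hss : hf S.sig0 s s = 0) : ∃ u, RP S s u := by
  have : Finite F₀ := Finite.of_injective (fun x : F₀ => (x : F)) Subtype.val_injective
  obtain ⟨v, hv⟩ := exists_HP_of_isotropic S.sig0 S.sig0_ne S.sig0_sq s hs0 hss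
  obtain ⟨e, he0, hes, hev, hee⟩ := exists_isotropic_perp S.sig0 S.sig0_ne S.sig0_sq hn hv
  refine ⟨e, hss, hee, hf_eq_zero_symm S.sig0 S.sig0_sq hes, ?_⟩
  rw [LinearIndependent.pair_iff]
  intro a b hab
  have h1 := congrArg (fun x => hf S.sig0 x v) hab
  simp only [hf_add_left, hf_smul_left, hv.uv S.sig0_sq, hev, mul_one, mul_zero, add_zero,
    hf_zero_left] at h1
  subst h1
  rw [zero_smul, zero_add] at hab
  exact ⟨rfl, (smul_eq_zero.1 hab).resolve_right he0⟩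

/-- the rational special unitary group is transitive on rational isotropic vectors -/
lemma exists_move_vec [Finite F] (S : Setup σ F₀) (hn : 7 ≤ n) (Fr : Frame S n)
    {s : Fin n → F₀} (hs0 : s ≠ 0) (hss : hf S.sig0 s s = 0) :
    ∃ A : GL (Fin n) F₀, A ∈ UG S.sig0 n ∧ (A : Matrix (Fin n) (Fin n) F₀).det = 1 ∧
      (A : Matrix (Fin n) (Fin n) F₀) *ᵥ s = Fr.e 0 := by
  have h01 : (0 : Fin 3) ≠ 1 := by decide
  obtain ⟨u, hu⟩ := exists_rp S (by omega) hs0 hss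
  have h' := Fr.rp_ee h01
  obtain ⟨A, hA, hd, h1, h2⟩ :=
    exists_move_pair S hn hu.ss hu.uu hu.su hu.li h'.ss h'.uu h'.su h'.li
  exact ⟨A, hA, hd, h1⟩

namespace Frame

variable {S : Setup σ F₀} (Fr : Frame S n)

lemma exists_other (k : Fin n) : ∃ k' : Fin n, k' ≠ k ∧ k' ≠ Fr.i 0 ∧ k' ≠ Fr.j 0 := by
  have h10 : (1 : Fin 3) ≠ 0 := by decide
  by_cases h : k = Fr.i 1
  · exact ⟨Fr.j 1, by rw [h]; exact (Fr.i_ne_j 1 1).symm, (Fr.i_ne_j 0 1).symm, Fr.j_ne_j h10⟩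
  · exact ⟨Fr.i 1, fun h' => h h'.symm, Fr.i_ne_i h10, Fr.i_ne_j 1 0⟩

lemma rp_emb {k k' : Fin n} (hki : k ≠ Fr.i 0) (hkj : k ≠ Fr.j 0) (hk'k : k' ≠ k)
    (hk'i : k' ≠ Fr.i 0) (hk'j : k' ≠ Fr.j 0) {x : Fin 2 → F₀} (hx : x ≠ 0)
    (hxx : hf S.sig0 x x = 0) : RP S (Fr.e 0) (emb k k' x) := by
  refine ⟨Fr.ee 0, ?_, ?_, ?_⟩
  · rw [hf_emb S.sig0 hk'k.symm, hxx]
  · exact hf_emb_disjoint S.sig0 hki hkj hk'i hk'j _ _
  · exact Fr.indep_plane (k := 0) Fr.a₀_ne (emb_ne_zero hk'k.symm hx)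
      (emb_of_ne hki.symm hk'i.symm x) (emb_of_ne hkj.symm hk'j.symm x)

lemma single_eq {k k' : Fin n} (hk'k : k' ≠ k) : ∃ c₁ c₂ : F₀,
    (Pi.single k 1 : Fin n → F₀) = c₁ • emb k k' Fr.a₀ + c₂ • emb k k' Fr.b₀ := by
  have hy := span_two S.sig0 S.sig0_sq Fr.hp (![1, 0] : Fin 2 → F₀)
  refine ⟨hf S.sig0 (![1, 0] : Fin 2 → F₀) Fr.b₀, hf S.sig0 (![1, 0] : Fin 2 → F₀) Fr.a₀, ?_⟩
  have hs : (Pi.single k 1 : Fin n → F₀) = emb k k' ![1, 0] := by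
    unfold emb; simp
  rw [hs, ← emb_smul, ← emb_smul, ← emb_add]
  exact congrArg _ hy

/-- a vector orthogonal to the first frame vector: its part in the first plane -/
lemma plane_part {x : Fin n → F} (hx : hf σ x (ratV F₀ (Fr.e 0)) = 0) : ∃ lam : F,
    x (Fr.i 0) = (lam • ratV F₀ (Fr.e 0)) (Fr.i 0) ∧
    x (Fr.j 0) = (lam • ratV F₀ (Fr.e 0)) (Fr.j 0) := by
  obtain ⟨y, hy⟩ : ∃ y : Fin 2 → F, y = ![x (Fr.i 0), x (Fr.j 0)] := ⟨_, rfl⟩
  have hpF : HP σ (ratV F₀ Fr.a₀) (ratV F₀ Fr.b₀) :=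
    ⟨by rw [S.hf_ratV_eq_zero]; exact Fr.hp.uu, by rw [S.hf_ratV_eq_zero]; exact Fr.hp.vv,
      by rw [S.hf_ratV, Fr.hp.vu]; rfl⟩
  have hsp := span_two σ S.hσ2 hpF y
  have hE : ratV F₀ (Fr.e 0) = emb (Fr.i 0) (Fr.j 0) (ratV F₀ Fr.a₀) := ratV_emb _ _ _
  have hya : hf σ y (ratV F₀ Fr.a₀) = 0 := by
    rw [← hx, hE, hf_emb_right, hf_two, hy]
    simp
  obtain ⟨lam, hlam⟩ : ∃ lam, lam = hf σ y (ratV F₀ Fr.b₀) := ⟨_, rfl⟩
  rw [hya, zero_smul, add_zero, ← hlam] at hsp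
  refine ⟨lam, ?_, ?_⟩
  · have := congrFun hsp 0
    rw [hy] at this
    simp only [Matrix.cons_val_zero, Pi.smul_apply, smul_eq_mul] at this
    rw [hE, Pi.smul_apply, emb_left (Fr.i_ne_j 0 0), smul_eq_mul, this]
  · have := congrFun hsp 1
    rw [hy] at this
    simp only [Matrix.cons_val_one, Matrix.cons_val_zero, Pi.smul_apply, smul_eq_mul] at this
    rw [hE, Pi.smul_apply, emb_right (Fr.i_ne_j 0 0), smul_eq_mul, this]

end Frame

/-- tightness: the pairing of the short part with a rational vector is rational -/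
lemma tight_pairing [Finite F] (S : Setup σ F₀) {M : Subgroup (GL (Fin n) F)} (hMU : M ≤ UG σ n)
    (hM : HM σ F₀ M) (ht : TightAll S M) {s u : Fin n → F₀} (hsu : RP S s u) {x : Fin n → F}
    {β : F} (hx : hf σ x (ratV F₀ s) = 0) (hin : InM M (sieg σ (ratV F₀ s) x β)) :
    hf σ x (ratV F₀ u) ∈ F₀ := by
  obtain ⟨c₀, hc₀ne, hc₀⟩ := S.exists_c0
  have hc₀F : (c₀ : F) ≠ 0 := fun h => hc₀ne (Subtype.ext h)
  have hc₀' : (c₀ : F) + σ (c₀ : F) = 0 := by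
    have := congrArg (fun x : F₀ => (x : F)) hc₀
    simpa [S.coe_sig0] using this
  have hsc₀ : σ (c₀ : F) = -(c₀ : F) := eq_neg_of_add_eq_zero_right hc₀'
  obtain ⟨T, hTM, hT⟩ := S.ratTv_mem hM hsu.uu hc₀
  have hTU := hMU hTM
  have h2 := InM.sieg_conj hTM hTU hin
  obtain ⟨h, hh⟩ : ∃ h, h = hf σ x (ratV F₀ u) := ⟨_, rfl⟩
  have hss' : hf σ (ratV F₀ s) (ratV F₀ s) = 0 := (S.hf_ratV_eq_zero _ _).2 hsu.ss
  have hsu' : hf σ (ratV F₀ s) (ratV F₀ u) = 0 := (S.hf_ratV_eq_zero _ _).2 hsu.su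
  have hus' : hf σ (ratV F₀ u) (ratV F₀ s) = 0 := hf_eq_zero_symm σ S.hσ2 hsu'
  rw [hT, tv_mulVec, tv_mulVec, hsu', mul_zero, zero_smul, add_zero, ← hh] at h2
  have hux : hf σ (ratV F₀ u) x = σ h := by rw [hh]; exact hf_symm σ S.hσ2 _ _
  have e := sieg_mul σ S.hσ2 (ratV F₀ s) x (((c₀ : F) * h) • ratV F₀ u) β
    (hf σ (((c₀ : F) * h) • ratV F₀ u) x) hss' hx (by rw [hf_smul_left, hus', mul_zero])
  rw [add_sub_cancel_right] at e
  have h3 := InM.of_mul_eq hin h2 e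
  have h4 := ht s u hsu.ss hsu.uu hsu.su hsu.li _ _ (by
    rw [hf_smul_left, hux]; simp only [map_mul, S.hσ2, hsc₀]; ring) h3
  have : h = (c₀ : F)⁻¹ * ((c₀ : F) * h) := by field_simp
  rw [← hh, this]
  exact F₀.mul_mem (F₀.inv_mem c₀.2) h4

/-- tightness: the short part of a Siegel element of `M` centred at the first frame vector is
rational modulo the centre -/
lemma tight_sieg [Finite F] (S : Setup σ F₀) {M : Subgroup (GL (Fin n) F)} (hMU : M ≤ UG σ n)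
    (hM : HM σ F₀ M) (ht : TightAll S M) (Fr : Frame S n) {x : Fin n → F} {β : F}
    (hx : hf σ x (ratV F₀ (Fr.e 0)) = 0) (hin : InM M (sieg σ (ratV F₀ (Fr.e 0)) x β)) :
    ∃ (lam : F) (x₀ : Fin n → F₀), x = lam • ratV F₀ (Fr.e 0) + ratV F₀ x₀ ∧
      x₀ (Fr.i 0) = 0 ∧ x₀ (Fr.j 0) = 0 := by
  have hK : ∀ k : Fin n, k ≠ Fr.i 0 ∧ k ≠ Fr.j 0 → x k ∈ F₀ := by
    rintro k ⟨hki, hkj⟩
    obtain ⟨k', hk'k, hk'i, hk'j⟩ := Fr.exists_other k
    obtain ⟨c₁, c₂, hs2⟩ := Fr.single_eq hk'k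
    have h1 : x k = hf σ x (ratV F₀ (Pi.single k 1)) := by rw [ratV_single, hf_single_right]
    rw [h1, hs2, ratV_add, ratV_smul, ratV_smul, hf_add_right, hf_smul_right, hf_smul_right]
    exact F₀.add_mem
      (F₀.mul_mem (S.hmem _ c₁.2) (tight_pairing S hMU hM ht
        (Fr.rp_emb hki hkj hk'k hk'i hk'j Fr.a₀_ne Fr.hp.uu) hx hin))
      (F₀.mul_mem (S.hmem _ c₂.2) (tight_pairing S hMU hM ht
        (Fr.rp_emb hki hkj hk'k hk'i hk'j Fr.b₀_ne Fr.hp.vv) hx hin))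
  obtain ⟨lam, hli, hlj⟩ := Fr.plane_part hx
  classical
  refine ⟨lam, fun k => if h : k ≠ Fr.i 0 ∧ k ≠ Fr.j 0 then ⟨x k, hK k h⟩ else 0, ?_, ?_, ?_⟩
  · funext k
    by_cases hki : k = Fr.i 0
    · rw [hki, Pi.add_apply, ← hli, ratV_apply, dif_neg (not_and_of_not_left _ (not_not.2 rfl))]
      simp
    by_cases hkj : k = Fr.j 0
    · rw [hkj, Pi.add_apply, ← hlj, ratV_apply, dif_neg (not_and_of_not_right _ (not_not.2 rfl))]
      simp
    rw [Pi.add_apply, ratV_apply, dif_pos ⟨hki, hkj⟩, Pi.smul_apply, ratV_apply,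
      show (Fr.e 0) k = 0 from emb_of_ne hki hkj _]
    simp
  · dsimp only
    rw [dif_neg (not_and_of_not_left _ (not_not.2 rfl))]
  · dsimp only
    rw [dif_neg (not_and_of_not_right _ (not_not.2 rfl))]

end Cfsg.Agent.Lib.Helper99.SUSub
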