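/-
helper99: S5658, part E2: (STAR) in the tight case.
-/
import Mathlib
import Cfsg.Agent.Lib.Helper99.SUSubE

set_option autoImplicit false
set_option linter.unusedSimpArgs false
set_option linter.unusedVariables false
set_option linter.unusedSectionVars false

namespace Cfsg.Agent.Lib.Helper99.SUSub

open Matrix Module Cfsg.Agent.S0837 Cfsg.Agent.S0781 Cfsg.Agent.S2644 Cfsg.Agent.Lib.Helper37
  Cfsg.Agent.Lib.Helper13 Cfsg.Agent.Lib.Helper94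

variable {F : Type*} [Field F] {σ : F →+* F} {n : ℕ} {F₀ : Subfield F}

/-- (STAR) at the first frame vector -/
lemma star_frame [Finite F] (S : Setup σ F₀) {M : Subgroup (GL (Fin n) F)} (hMU : M ≤ UG σ n)
    (hM : HM σ F₀ M) (ht : TightAll S M) (Fr : Frame S n) {v : Fin n → F} {c : F} (hc0 : c ≠ 0)
    (hc : c + σ c = 0) (hvv : hf σ v v = 0) (hin : InM M (tv σ v c))
    (hvs : hf σ v (ratV F₀ (Fr.e 0)) = 0) :
    ∃ (lam : F) (v₀ : Fin n → F₀), v = lam • ratV F₀ v₀ := by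
  have hsc : σ c = -c := eq_neg_of_add_eq_zero_right hc
  have hsv : hf σ (ratV F₀ (Fr.e 0)) v = 0 := hf_eq_zero_symm σ S.hσ2 hvs
  obtain ⟨T, hTM, hT⟩ := id hin
  have hTU := hMU hTM
  have : Finite F₀ := Finite.of_injective (fun x : F₀ => (x : F)) Subtype.val_injective
  -- Step 1
  have step1 : ∀ k : Fin n, k ≠ Fr.i 0 → k ≠ Fr.j 0 → ∃ (lam : F) (x₀ : Fin n → F₀),
      (c * σ (v k)) • v = lam • ratV F₀ (Fr.e 0) + ratV F₀ x₀ ∧ x₀ (Fr.i 0) = 0 ∧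
        x₀ (Fr.j 0) = 0 := by
    intro k hki hkj
    obtain ⟨β₀, hβ₀⟩ := trace_surj S.sig0 S.sig0_ne S.sig0_sq (-1) (by rw [map_neg, map_one])
    have hek : (Fr.e 0) k = 0 := emb_of_ne hki hkj _
    have hY := S.ratSieg_mem hM (a := Fr.e 0) (b := Pi.single k 1) (β := β₀) (Fr.ee 0)
      (by rw [hf_single_left, hek, map_zero])
      (by rw [hf_single_single, if_pos rfl, hβ₀]; ring)
    have h2 := InM.sieg_conj hTM hTU hY
    rw [hT, tv_mulVec, tv_mulVec, hsv, mul_zero, zero_smul, add_zero, ratV_single,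
      hf_single_left] at h2
    have hx : hf σ (Pi.single k 1 + (c * σ (v k)) • v) (ratV F₀ (Fr.e 0)) = 0 := by
      rw [hf_add_left, hf_smul_left, hvs, mul_zero, add_zero, hf_single_left, ratV_apply, hek]
      simp
    obtain ⟨lam, x₁, hx₁, hi, hj⟩ := tight_sieg S hMU hM ht Fr hx h2
    refine ⟨lam, x₁ - Pi.single k 1, ?_, ?_, ?_⟩
    · rw [ratV_sub, ratV_single, ← add_sub_assoc, ← hx₁, add_sub_cancel_left]
    · rw [Pi.sub_apply, hi, Pi.single_eq_of_ne hki.symm, sub_zero]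
    · rw [Pi.sub_apply, hj, Pi.single_eq_of_ne hkj.symm, sub_zero]
  by_cases hall : ∀ k : Fin n, k ≠ Fr.i 0 → k ≠ Fr.j 0 → v k = 0
  · obtain ⟨lam, hli, hlj⟩ := Fr.plane_part hvs
    refine ⟨lam, Fr.e 0, ?_⟩
    funext k
    by_cases hki : k = Fr.i 0
    · rw [hki, hli]
    by_cases hkj : k = Fr.j 0
    · rw [hkj, hlj]
    rw [hall k hki hkj, Pi.smul_apply, ratV_apply, show (Fr.e 0) k = 0 from emb_of_ne hki hkj _]
    simp
  · push Not at hall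
    obtain ⟨k₁, hki, hkj, hvk⟩ := hall
    obtain ⟨γ, x₀, hx₀, hi, hj⟩ := step1 k₁ hki hkj
    obtain ⟨μ, hμ⟩ : ∃ μ, μ = (c * σ (v k₁))⁻¹ := ⟨_, rfl⟩
    have ha0 : c * σ (v k₁) ≠ 0 := mul_ne_zero hc0 ((map_ne_zero σ).2 hvk)
    have hμ0 : μ ≠ 0 := by rw [hμ]; exact inv_ne_zero ha0
    have hv : v = μ • (ratV F₀ x₀ + γ • ratV F₀ (Fr.e 0)) := by
      rw [add_comm, ← hx₀, smul_smul, hμ, inv_mul_cancel₀ ha0, one_smul]
    have hvk₁ : v k₁ = μ * (x₀ k₁ : F) := by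
      have h1 := congrFun hv k₁
      simp only [Pi.smul_apply, Pi.add_apply, ratV_apply, smul_eq_mul,
        show (Fr.e 0) k₁ = 0 from emb_of_ne hki hkj _] at h1
      rw [h1]
      simp
    have hx₀k : (x₀ k₁ : F) ≠ 0 := by
      intro h
      rw [hvk₁, h, mul_zero] at hvk
      exact hvk rfl
    have hx₀ne : x₀ ≠ 0 := by
      intro h
      apply hx₀k
      rw [h]
      simp
    obtain ⟨c₁, hc₁⟩ : ∃ c₁, c₁ = c * (μ * σ μ) := ⟨_, rfl⟩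
    have hc₁F : c₁ ∈ F₀ := by
      have h1 : c₁ * σ (x₀ k₁ : F) = 1 := by
        have h2 : μ * (c * σ (v k₁)) = 1 := by rw [hμ, inv_mul_cancel₀ ha0]
        rw [hvk₁, map_mul] at h2
        rw [hc₁]
        linear_combination h2
      have h2 : c₁ = (σ (x₀ k₁ : F))⁻¹ := eq_inv_of_mul_eq_one_left h1
      rw [h2]
      exact F₀.inv_mem (S.hmem _ (x₀ k₁).2)
    have hsc₁ : σ c₁ = -c₁ := by
      rw [hc₁]; simp only [map_mul, S.hσ2, hsc]; ring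
    have hx₀e : hf σ (ratV F₀ x₀) (ratV F₀ (Fr.e 0)) = 0 := by
      have h1 := hvs
      rw [hv, hf_smul_left, hf_add_left, hf_smul_left, Fr.hEE, mul_zero, add_zero] at h1
      exact (mul_eq_zero.1 h1).resolve_left hμ0
    have hex₀ := hf_eq_zero_symm σ S.hσ2 hx₀e
    have hx₀x₀ : hf σ (ratV F₀ x₀) (ratV F₀ x₀) = 0 := by
      have hww : hf σ (ratV F₀ x₀ + γ • ratV F₀ (Fr.e 0)) (ratV F₀ x₀ + γ • ratV F₀ (Fr.e 0)) =
          hf σ (ratV F₀ x₀) (ratV F₀ x₀) := by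
        simp only [hf_add_left, hf_add_right, hf_smul_left, hf_smul_right, Fr.hEE, hx₀e, hex₀]
        ring
      have h1 := hvv
      rw [hv, hf_smul_left, hf_smul_right, hww] at h1
      rcases mul_eq_zero.1 h1 with h2 | h2
      · exact absurd h2 hμ0
      rcases mul_eq_zero.1 h2 with h3 | h3
      · exact absurd h3 ((map_ne_zero σ).2 hμ0)
      · exact h3
    have hrp : RP S (Fr.e 0) x₀ :=
      ⟨Fr.ee 0, (S.hf_ratV_eq_zero _ _).1 hx₀x₀, (S.hf_ratV_eq_zero _ _).1 hex₀,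
        Fr.indep_plane (k := 0) Fr.a₀_ne hx₀ne hi hj⟩
    have e1 : tv σ v c = tv σ (ratV F₀ x₀ + γ • ratV F₀ (Fr.e 0)) c₁ := by
      rw [hv, tv_smul_center, hc₁]
    have e2 := tv_center_add σ S.hσ2 (y := ratV F₀ x₀) (z := ratV F₀ (Fr.e 0)) (c := c₁)
      (lam := γ) hx₀x₀ (Fr.hEE 0 0) hx₀e hsc₁
    obtain ⟨c₁₀, hc₁₀⟩ : ∃ c₁₀ : F₀, (c₁₀ : F) = c₁ := ⟨⟨c₁, hc₁F⟩, rfl⟩
    have hc₁₀t : c₁₀ + S.sig0 c₁₀ = 0 := by
      apply Subtype.ext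
      rw [Subfield.coe_add, S.coe_sig0, hc₁₀, hsc₁]
      simp
    have h3 := S.ratTv_mem hM hrp.uu hc₁₀t
    rw [hc₁₀] at h3
    have h4 : InM M (tv σ v c) := hin
    rw [e1, e2] at h4
    have h5 := InM.of_mul_eq h3 h4 rfl
    have h6 := ht (Fr.e 0) x₀ hrp.ss hrp.uu hrp.su hrp.li _ _ (by
      simp only [map_mul, S.hσ2, hsc₁]; ring) h5
    have hc₁0 : c₁ ≠ 0 := by
      rw [hc₁]; exact mul_ne_zero hc0 (mul_ne_zero hμ0 ((map_ne_zero σ).2 hμ0))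
    have h7 : σ γ ∈ F₀ := by
      have h8 : σ γ = c₁⁻¹ * (c₁ * σ γ) := by field_simp
      rw [h8]
      exact F₀.mul_mem (F₀.inv_mem hc₁F) h6
    have h8 : γ ∈ F₀ := by
      have := S.hmem _ h7
      rwa [S.hσ2] at this
    obtain ⟨γ₀, hγ₀⟩ : ∃ γ₀ : F₀, (γ₀ : F) = γ := ⟨⟨γ, h8⟩, rfl⟩
    refine ⟨μ, x₀ + γ₀ • Fr.e 0, ?_⟩
    rw [hv, ratV_add, ratV_smul, hγ₀]

/-- **(STAR)** in the tight case -/
theorem star_of_tight [Finite F] (S : Setup σ F₀) (hn : 7 ≤ n) {M : Subgroup (GL (Fin n) F)}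
    (hMU : M ≤ UG σ n) (hM : HM σ F₀ M) (ht : TightAll S M) : StarProp S M := by
  intro v c hc0 hc hvv hin s hs0 hss hvs
  obtain ⟨Fr⟩ := exists_frame S hn
  obtain ⟨A, hA, hdet, hAs⟩ := exists_move_vec S hn Fr hs0 hss
  have hg := S.lift_mem hM hA hdet
  have hgU := S.liftGL_mem_UG hA
  have h1 : InM M (sieg σ v 0 c) := hin
  have h2 := InM.sieg_conj hg hgU h1
  rw [Matrix.mulVec_zero] at h2
  have hvv' : hf σ ((liftGL F₀ A : GL (Fin n) F).1 *ᵥ v) ((liftGL F₀ A : GL (Fin n) F).1 *ᵥ v) = 0 := by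
    rw [hgU, hvv]
  have hvs' : hf σ ((liftGL F₀ A : GL (Fin n) F).1 *ᵥ v) (ratV F₀ (Fr.e 0)) = 0 := by
    rw [← hAs, ← liftGL_mulVec, hgU, hvs]
  obtain ⟨lam, v₀, hv₀⟩ := star_frame S hMU hM ht Fr hc0 hc hvv' h2 hvs'
  refine ⟨lam, ((A⁻¹ : GL (Fin n) F₀) : Matrix (Fin n) (Fin n) F₀) *ᵥ v₀, ?_⟩
  have h3 := congrArg (fun x => ((liftGL F₀ A⁻¹ : GL (Fin n) F) : Matrix (Fin n) (Fin n) F) *ᵥ x) hv₀
  simp only [Matrix.mulVec_smul, liftGL_mulVec] at h3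
  rw [← h3, mulVec_mulVec]
  have h4 : ((liftGL F₀ A⁻¹ : GL (Fin n) F) : Matrix (Fin n) (Fin n) F) *
      ((liftGL F₀ A : GL (Fin n) F) : Matrix (Fin n) (Fin n) F) = 1 := by
    rw [← Units.val_mul]
    unfold liftGL
    rw [← map_mul, inv_mul_cancel, map_one, Units.val_one]
  rw [h4, one_mulVec]

end Cfsg.Agent.Lib.Helper99.SUSub
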