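/-
helper99: S5658, part F: (P): an element of `M` mapping one rational isotropic point to a rational
point lies in the subfield group (given (STAR)).
-/
import Mathlib
import Cfsg.Agent.Lib.Helper99.SUSubE2

set_option autoImplicit false
set_option linter.unusedSimpArgs false
set_option linter.unusedVariables false
set_option linter.unusedSectionVars false

namespace Cfsg.Agent.Lib.Helper99.SUSub

open Matrix Module Cfsg.Agent.S0837 Cfsg.Agent.S0781 Cfsg.Agent.S2644 Cfsg.Agent.Lib.Helper37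
  Cfsg.Agent.Lib.Helper13 Cfsg.Agent.Lib.Helper94

variable {F : Type*} [Field F] {σ : F →+* F} {n : ℕ} {F₀ : Subfield F}

/-- a matrix whose entries are multiplied by a common factor under a field endomorphism with fixed
field `F₀` lies in the standard subfield group -/
lemma mem_std_of_entries (φ : F →+* F) (hfix : ∀ x, x ∈ F₀ ↔ φ x = x) (j0 : Fin n)
    (g : GL (Fin n) F) (κ : F)
    (hent : ∀ i j, φ ((g : Matrix (Fin n) (Fin n) F) i j) = κ * (g : Matrix (Fin n) (Fin n) F) i j) :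
    g ∈ Cfsg.Geo.subfieldSubgroup F₀ (1 : GL (Fin n) F) := by
  obtain ⟨i0, hi0⟩ : ∃ i0, (g : Matrix (Fin n) (Fin n) F) i0 j0 ≠ 0 := by
    by_contra hcon
    push Not at hcon
    have hz : (g : Matrix (Fin n) (Fin n) F) *ᵥ Pi.single j0 1 = 0 := by
      rw [Matrix.mulVec_single_one]
      funext i
      exact hcon i
    have hz2 := gl_mulVec_inj g (hz.trans (mulVec_zero _).symm)
    have := congrFun hz2 j0
    simp at this
  obtain ⟨l, hl⟩ : ∃ l : F, l = (g : Matrix (Fin n) (Fin n) F) i0 j0 := ⟨_, rfl⟩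
  have hl0 : l ≠ 0 := by rw [hl]; exact hi0
  have hσl : φ l = κ * l := by rw [hl]; exact hent i0 j0
  have hκ0 : κ ≠ 0 := by
    intro h0
    rw [h0, zero_mul] at hσl
    exact hl0 ((map_eq_zero φ).mp hσl)
  have hA : ∀ i j, (g : Matrix (Fin n) (Fin n) F) i j * l⁻¹ ∈ F₀ := by
    intro i j
    rw [hfix, map_mul, map_inv₀, hent, hσl]
    field_simp
  obtain ⟨A, hAdef⟩ : ∃ A : Matrix (Fin n) (Fin n) F₀,
      A = Matrix.of fun i j => (⟨(g : Matrix (Fin n) (Fin n) F) i j * l⁻¹, hA i j⟩ : F₀) :=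
    ⟨_, rfl⟩
  have hNA : (g : Matrix (Fin n) (Fin n) F) = l • A.map F₀.subtype := by
    ext i j
    rw [hAdef, Matrix.smul_apply, Matrix.map_apply, Matrix.of_apply, smul_eq_mul]
    show _ = l * ((g : Matrix (Fin n) (Fin n) F) i j * l⁻¹)
    field_simp
  have hdet : A.det ≠ 0 := by
    intro h0
    have h1 : (g : Matrix (Fin n) (Fin n) F).det = 0 := by
      rw [hNA, Matrix.det_smul, ← RingHom.mapMatrix_apply, ← RingHom.map_det, h0, map_zero,
        mul_zero]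
    have h2 : IsUnit (g : Matrix (Fin n) (Fin n) F).det :=
      (Matrix.isUnit_iff_isUnit_det _).mp g.isUnit
    rw [h1] at h2
    exact not_isUnit_zero h2
  rw [mem_std_iff]
  exact ⟨Matrix.GeneralLinearGroup.mkOfDetNeZero A hdet, Units.mk0 l hl0, hNA⟩

/-- eigenvalues of vectors with disjoint supports agree -/
lemma eigen_disjoint (S : Setup σ F₀) (L : Matrix (Fin n) (Fin n) F)
    (h : ∀ a : Fin n → F₀, hf S.sig0 a a = 0 → ∃ κ : F, L *ᵥ ratV F₀ a = κ • ratV F₀ a)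
    {r w : Fin n → F₀} {κ : F} (hr : hf S.sig0 r r = 0) (hw : hf S.sig0 w w = 0)
    (hrw : hf S.sig0 r w = 0) (hLr : L *ᵥ ratV F₀ r = κ • ratV F₀ r) {p : Fin n} (hp : r p ≠ 0)
    (hwp : w p = 0) (hdis : ∀ q, w q ≠ 0 → r q = 0) : L *ᵥ ratV F₀ w = κ • ratV F₀ w := by
  by_cases hw0 : w = 0
  · rw [hw0, ratV_zero, mulVec_zero, smul_zero]
  obtain ⟨q, hq⟩ : ∃ q, w q ≠ 0 := by
    by_contra hcon
    push Not at hcon
    exact hw0 (funext hcon)
  have hrq := hdis q hq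
  obtain ⟨κw, hκw⟩ := h w hw
  have hwr : hf S.sig0 w r = 0 := hf_eq_zero_symm S.sig0 S.sig0_sq hrw
  obtain ⟨κ', hκ'⟩ := h (r + w) (by
    rw [hf_add_left, hf_add_right, hf_add_right, hr, hw, hrw, hwr]; ring)
  rw [ratV_add, mulVec_add, hLr, hκw] at hκ'
  have e1 := congrFun hκ' p
  have e2 := congrFun hκ' q
  simp only [Pi.add_apply, Pi.smul_apply, ratV_apply, smul_eq_mul, hwp, hrq, ZeroMemClass.coe_zero,
    mul_zero, add_zero, zero_add] at e1 e2
  have hpF : ((r p : F₀) : F) ≠ 0 := fun h0 => hp (Subtype.ext h0)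
  have hqF : ((w q : F₀) : F) ≠ 0 := fun h0 => hq (Subtype.ext h0)
  have h1 : κ = κ' := mul_right_cancel₀ hpF e1
  have h2 : κw = κ' := mul_right_cancel₀ hqF e2
  rw [hκw, h2, ← h1]

namespace Frame

variable {S : Setup σ F₀} (Fr : Frame S n)

/-- eigenvalue of vectors vanishing on the `m`-th plane -/
lemma eigen_plane (L : Matrix (Fin n) (Fin n) F)
    (h : ∀ a : Fin n → F₀, hf S.sig0 a a = 0 → ∃ κ : F, L *ᵥ ratV F₀ a = κ • ratV F₀ a)
    (m : Fin 3) {κ : F} (hLr : L *ᵥ ratV F₀ (Fr.e m) = κ • ratV F₀ (Fr.e m))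
    {w : Fin n → F₀} (hw : hf S.sig0 w w = 0) (hwi : w (Fr.i m) = 0) (hwj : w (Fr.j m) = 0) :
    L *ᵥ ratV F₀ w = κ • ratV F₀ w := by
  have hrw : hf S.sig0 (Fr.e m) w = 0 := by
    show hf S.sig0 (emb (Fr.i m) (Fr.j m) Fr.a₀) w = 0
    rw [hf_emb_left, hwi, hwj, map_zero, mul_zero, mul_zero, add_zero]
  have hdis : ∀ q, w q ≠ 0 → (Fr.e m) q = 0 := by
    intro q hq
    apply emb_of_ne
    · intro h1; exact hq (h1 ▸ hwi)
    · intro h1; exact hq (h1 ▸ hwj)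
  by_cases h0 : Fr.a₀ 0 = 0
  · have h1 : Fr.a₀ 1 ≠ 0 := by
      intro h1
      apply Fr.a₀_ne
      funext t
      fin_cases t
      · exact h0
      · exact h1
    exact eigen_disjoint S L h (Fr.ee m) hw hrw hLr (p := Fr.j m)
      (by show emb (Fr.i m) (Fr.j m) Fr.a₀ (Fr.j m) ≠ 0
          rw [emb_right (Fr.i_ne_j m m)]; exact h1) hwj hdis
  · exact eigen_disjoint S L h (Fr.ee m) hw hrw hLr (p := Fr.i m)
      (by show emb (Fr.i m) (Fr.j m) Fr.a₀ (Fr.i m) ≠ 0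
          rw [emb_left (Fr.i_ne_j m m)]; exact h0) hwi hdis

include Fr in
/-- a matrix having all rational isotropic vectors as eigenvectors is scalar -/
lemma scalar_of_eigen (L : Matrix (Fin n) (Fin n) F)
    (h : ∀ a : Fin n → F₀, hf S.sig0 a a = 0 → ∃ κ : F, L *ᵥ ratV F₀ a = κ • ratV F₀ a) :
    ∃ κ : F, ∀ k : Fin n, L *ᵥ Pi.single k 1 = κ • Pi.single k 1 := by
  have h01 : (0 : Fin 3) ≠ 1 := by decide
  have h10 : (1 : Fin 3) ≠ 0 := by decide
  obtain ⟨κ, hκ⟩ := h (Fr.e 0) (Fr.ee 0)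
  have hκ1 : L *ᵥ ratV F₀ (Fr.e 1) = κ • ratV F₀ (Fr.e 1) :=
    Fr.eigen_plane L h 0 hκ (Fr.ee 1) (emb_of_ne (Fr.i_ne_i h01) (Fr.i_ne_j 0 1) _)
      (emb_of_ne (Fr.i_ne_j 1 0).symm (Fr.j_ne_j h01) _)
  refine ⟨κ, fun k => ?_⟩
  -- a second coordinate and a plane avoiding both
  obtain ⟨k', m, hk'k, hki, hkj, hk'i, hk'j, hm⟩ : ∃ (k' : Fin n) (m : Fin 3), k' ≠ k ∧
      k ≠ Fr.i m ∧ k ≠ Fr.j m ∧ k' ≠ Fr.i m ∧ k' ≠ Fr.j m ∧
      L *ᵥ ratV F₀ (Fr.e m) = κ • ratV F₀ (Fr.e m) := by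
    by_cases hki : k = Fr.i 0
    · exact ⟨Fr.j 0, 1, by rw [hki]; exact (Fr.i_ne_j 0 0).symm, by rw [hki]; exact Fr.i_ne_i h01,
        by rw [hki]; exact Fr.i_ne_j 0 1, (Fr.i_ne_j 1 0).symm, Fr.j_ne_j h01, hκ1⟩
    by_cases hkj : k = Fr.j 0
    · exact ⟨Fr.i 0, 1, by rw [hkj]; exact Fr.i_ne_j 0 0, by rw [hkj]; exact (Fr.i_ne_j 1 0).symm,
        by rw [hkj]; exact Fr.j_ne_j h01, Fr.i_ne_i h01, Fr.i_ne_j 0 1, hκ1⟩
    obtain ⟨k', hk'k, hk'i, hk'j⟩ := Fr.exists_other k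
    exact ⟨k', 0, hk'k, hki, hkj, hk'i, hk'j, hκ⟩
  obtain ⟨c₁, c₂, hs2⟩ := Fr.single_eq hk'k
  have ha := Fr.eigen_plane L h m hm (w := emb k k' Fr.a₀)
    (by rw [hf_emb S.sig0 hk'k.symm]; exact Fr.hp.uu)
    (emb_of_ne hki.symm hk'i.symm _) (emb_of_ne hkj.symm hk'j.symm _)
  have hb := Fr.eigen_plane L h m hm (w := emb k k' Fr.b₀)
    (by rw [hf_emb S.sig0 hk'k.symm]; exact Fr.hp.vv)
    (emb_of_ne hki.symm hk'i.symm _) (emb_of_ne hkj.symm hk'j.symm _)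
  have hs3 : (Pi.single k 1 : Fin n → F) = ratV F₀ (Pi.single k 1) := (ratV_single F₀ k).symm
  rw [hs3, hs2, ratV_add, ratV_smul, ratV_smul, mulVec_add, mulVec_smul, mulVec_smul, ha, hb,
    smul_add, smul_comm κ, smul_comm κ]

end Frame

/-- **Frame lemma for isotropic vectors**: an invertible matrix mapping every rational isotropic
vector to a multiple of a rational vector lies in the standard subfield group. -/
theorem mem_std_of_iso_proprat [Finite F] (S : Setup σ F₀) (Fr : Frame S n) (g : GL (Fin n) F)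
    (h : ∀ a : Fin n → F₀, hf S.sig0 a a = 0 → ∃ (l : F) (c : Fin n → F₀),
      (g : Matrix (Fin n) (Fin n) F) *ᵥ ratV F₀ a = l • ratV F₀ c) :
    g ∈ Cfsg.Geo.subfieldSubgroup F₀ (1 : GL (Fin n) F) := by
  have : Finite F₀ := Finite.of_injective (fun x : F₀ => (x : F)) Subtype.val_injective
  haveI : Fintype F₀ := Fintype.ofFinite F₀
  obtain ⟨φ, hφ⟩ : ∃ φ : F →+* F, φ = (FiniteField.frobeniusAlgHom F₀ F : F →ₐ[F₀] F).toRingHom :=
    ⟨_, rfl⟩
  have hfix : ∀ x, x ∈ F₀ ↔ φ x = x := by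
    intro x
    rw [mem_iff_pow_card, hφ]
    rfl
  have hσrat : ∀ a : Fin n → F₀, φ ∘ ratV F₀ a = ratV F₀ a :=
    fun a => funext fun i => (hfix _).mp (a i).2
  have hN2 : ∀ a : Fin n → F₀, hf S.sig0 a a = 0 →
      ∃ κ : F, ((g : Matrix (Fin n) (Fin n) F).map φ) *ᵥ ratV F₀ a =
      κ • ((g : Matrix (Fin n) (Fin n) F) *ᵥ ratV F₀ a) := by
    intro a haa
    obtain ⟨l, c, hlc⟩ := h a haa
    have h1 : ((g : Matrix (Fin n) (Fin n) F).map φ) *ᵥ ratV F₀ a = φ l • ratV F₀ c := by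
      funext i
      have := RingHom.map_mulVec φ (g : Matrix (Fin n) (Fin n) F) (ratV F₀ a) i
      rw [hσrat] at this
      rw [← this, hlc, Pi.smul_apply, Pi.smul_apply, smul_eq_mul, smul_eq_mul, map_mul]
      congr 1
      exact (hfix _).mp (c i).2
    by_cases hl : l = 0
    · refine ⟨0, ?_⟩
      rw [h1, hl, map_zero, zero_smul, zero_smul]
    · refine ⟨φ l * l⁻¹, ?_⟩
      rw [h1, hlc, smul_smul, mul_assoc, inv_mul_cancel₀ hl, mul_one]
  obtain ⟨L, hL⟩ : ∃ L : Matrix (Fin n) (Fin n) F,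
      L = ((g⁻¹ : GL (Fin n) F) : Matrix (Fin n) (Fin n) F) * (g : Matrix (Fin n) (Fin n) F).map φ :=
    ⟨_, rfl⟩
  have hgi : ((g⁻¹ : GL (Fin n) F) : Matrix (Fin n) (Fin n) F) * (g : Matrix (Fin n) (Fin n) F) = 1 := by
    rw [← Units.val_mul, inv_mul_cancel, Units.val_one]
  have hgi' : (g : Matrix (Fin n) (Fin n) F) * ((g⁻¹ : GL (Fin n) F) : Matrix (Fin n) (Fin n) F) = 1 := by
    rw [← Units.val_mul, mul_inv_cancel, Units.val_one]
  have hLe : ∀ a : Fin n → F₀, hf S.sig0 a a = 0 → ∃ κ : F, L *ᵥ ratV F₀ a = κ • ratV F₀ a := by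
    intro a haa
    obtain ⟨κ, hκ⟩ := hN2 a haa
    refine ⟨κ, ?_⟩
    rw [hL, ← mulVec_mulVec, hκ, mulVec_smul, mulVec_mulVec, hgi, one_mulVec]
  obtain ⟨κ, hκ⟩ := Fr.scalar_of_eigen L hLe
  have hent : ∀ i j, φ ((g : Matrix (Fin n) (Fin n) F) i j) = κ * (g : Matrix (Fin n) (Fin n) F) i j := by
    intro i j
    have h1 := congrArg (fun x => (g : Matrix (Fin n) (Fin n) F) *ᵥ x) (hκ j)
    simp only [hL, mulVec_mulVec, ← Matrix.mul_assoc, hgi', Matrix.one_mul, mulVec_smul] at h1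
    have h2 := congrFun h1 i
    rw [Matrix.mulVec_single_one, Matrix.mulVec_single_one, Pi.smul_apply, Matrix.col_apply,
      Matrix.col_apply, Matrix.map_apply, smul_eq_mul] at h2
    exact h2
  exact mem_std_of_entries φ hfix (Fr.i 0) g κ hent

end Cfsg.Agent.Lib.Helper99.SUSub
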