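/-
helper99: S5658, part F2: (P) from (STAR).
-/
import Mathlib
import Cfsg.Agent.Lib.Helper99.SUSubF

set_option autoImplicit false
set_option linter.unusedSimpArgs false
set_option linter.unusedVariables false
set_option linter.unusedSectionVars false

namespace Cfsg.Agent.Lib.Helper99.SUSub

open Matrix Module Cfsg.Agent.S0837 Cfsg.Agent.S0781 Cfsg.Agent.S2644 Cfsg.Agent.Lib.Helper37
  Cfsg.Agent.Lib.Helper13 Cfsg.Agent.Lib.Helper94

variable {F : Type*} [Field F] {σ : F →+* F} {n : ℕ} {F₀ : Subfield F}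

/-- an element of `M` mapping a rational isotropic point to a rational point maps the rational
isotropic points orthogonal to it to rational points -/
lemma ratpt_of_perp (S : Setup σ F₀) {M : Subgroup (GL (Fin n) F)} (hMU : M ≤ UG σ n)
    (hM : HM σ F₀ M) (hstar : StarProp S M) {k : GL (Fin n) F} (hk : k ∈ M)
    {p p' : Fin n → F₀} {μ : F} (hp0 : p ≠ 0) (hpp : hf S.sig0 p p = 0)
    (hkp : (k : Matrix (Fin n) (Fin n) F) *ᵥ ratV F₀ p = μ • ratV F₀ p')
    {q : Fin n → F₀} (hqq : hf S.sig0 q q = 0) (hqp : hf S.sig0 q p = 0) :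
    ∃ (l : F) (c : Fin n → F₀), (k : Matrix (Fin n) (Fin n) F) *ᵥ ratV F₀ q = l • ratV F₀ c := by
  have hkU := hMU hk
  have hne : (k : Matrix (Fin n) (Fin n) F) *ᵥ ratV F₀ p ≠ 0 := by
    intro h
    exact ratV_ne_zero hp0 (gl_mulVec_inj k (h.trans (mulVec_zero _).symm))
  have hμ0 : μ ≠ 0 := by
    intro h
    rw [h, zero_smul] at hkp
    exact hne hkp
  have hp'0 : p' ≠ 0 := by
    intro h
    rw [h, ratV_zero, smul_zero] at hkp
    exact hne hkp
  have hsμ0 : σ μ ≠ 0 := (map_ne_zero σ).2 hμ0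
  have hp'p' : hf S.sig0 p' p' = 0 := by
    have h1 : hf σ ((k : Matrix (Fin n) (Fin n) F) *ᵥ ratV F₀ p)
        ((k : Matrix (Fin n) (Fin n) F) *ᵥ ratV F₀ p) = 0 := by
      rw [hkU]; exact (S.hf_ratV_eq_zero _ _).2 hpp
    rw [hkp, hf_smul_left, hf_smul_right] at h1
    rcases mul_eq_zero.1 h1 with h2 | h2
    · exact absurd h2 hμ0
    rcases mul_eq_zero.1 h2 with h3 | h3
    · exact absurd h3 hsμ0
    · exact (S.hf_ratV_eq_zero _ _).1 h3
  obtain ⟨c₀, hc₀ne, hc₀⟩ := S.exists_c0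
  have hc₀F : (c₀ : F) ≠ 0 := fun h => hc₀ne (Subtype.ext h)
  have hc₀' : (c₀ : F) + σ (c₀ : F) = 0 := by
    have := congrArg (fun x : F₀ => (x : F)) hc₀
    simpa [S.coe_sig0] using this
  have hT : InM M (sieg σ (ratV F₀ q) 0 (c₀ : F)) := S.ratTv_mem hM hqq hc₀
  have h2 := InM.sieg_conj hk hkU hT
  rw [Matrix.mulVec_zero] at h2
  have hvv : hf σ ((k : Matrix (Fin n) (Fin n) F) *ᵥ ratV F₀ q)
      ((k : Matrix (Fin n) (Fin n) F) *ᵥ ratV F₀ q) = 0 := by
    rw [hkU]; exact (S.hf_ratV_eq_zero _ _).2 hqq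
  have hvs : hf σ ((k : Matrix (Fin n) (Fin n) F) *ᵥ ratV F₀ q) (ratV F₀ p') = 0 := by
    have h1 : hf σ ((k : Matrix (Fin n) (Fin n) F) *ᵥ ratV F₀ q)
        ((k : Matrix (Fin n) (Fin n) F) *ᵥ ratV F₀ p) = 0 := by
      rw [hkU]; exact (S.hf_ratV_eq_zero _ _).2 hqp
    rw [hkp, hf_smul_right] at h1
    exact (mul_eq_zero.1 h1).resolve_left hsμ0
  exact hstar _ _ hc₀F hc₀' hvv h2 p' hp'0 hp'p' hvs

/-- **(P)** from (STAR) -/
theorem pprop_of_star [Finite F] (S : Setup σ F₀) (hn : 7 ≤ n) {M : Subgroup (GL (Fin n) F)}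
    (hMU : M ≤ UG σ n) (hM : HM σ F₀ M) (hstar : StarProp S M) : PProp S M := by
  intro k hk p p' μ hp0 hpp hkp
  obtain ⟨Fr⟩ := exists_frame S hn
  have : Finite F₀ := Finite.of_injective (fun x : F₀ => (x : F)) Subtype.val_injective
  apply mem_std_of_iso_proprat S Fr k
  intro a haa
  by_cases hap : hf S.sig0 a p = 0
  · exact ratpt_of_perp S hMU hM hstar hk hp0 hpp hkp haa hap
  · obtain ⟨h, hh⟩ : ∃ h, h = hf S.sig0 a p := ⟨_, rfl⟩
    rw [← hh] at hap
    have hHP : HP S.sig0 p (h⁻¹ • a) :=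
      ⟨hpp, by rw [hf_smul_left, hf_smul_right, haa, mul_zero, mul_zero],
        by rw [hf_smul_left, ← hh, inv_mul_cancel₀ hap]⟩
    obtain ⟨t, ht0, htp, hta', htt⟩ :=
      exists_isotropic_perp S.sig0 S.sig0_ne S.sig0_sq (by omega) hHP
    have hta : hf S.sig0 t a = 0 := by
      rw [hf_smul_right] at hta'
      exact (mul_eq_zero.1 hta').resolve_left ((map_ne_zero S.sig0).2 (inv_ne_zero hap))
    obtain ⟨l, t', hkt⟩ := ratpt_of_perp S hMU hM hstar hk hp0 hpp hkp htt htp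
    exact ratpt_of_perp S hMU hM hstar hk ht0 htt hkt haa
      (hf_eq_zero_symm S.sig0 S.sig0_sq hta)

end Cfsg.Agent.Lib.Helper99.SUSub
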