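import Mathlib
import Cfsg.Agent.S0721

set_option autoImplicit false

namespace Cfsg.Agent.Lib.Helper99

/-- `|H / (N ∩ H)| * |N| = |H|` for `N ≤ H` -/
lemma card_quot_subgroupOf_mul {G : Type*} [Group G] (N H : Subgroup G) (hNH : N ≤ H) :
    Nat.card (↥H ⧸ N.subgroupOf H) * Nat.card N = Nat.card H := by
  rw [Subgroup.card_eq_card_quotient_mul_card_subgroup (N.subgroupOf H),
    Nat.card_congr (Subgroup.subgroupOfEquivOfLe hNH).toEquiv]

/-- If a prime `p0` divides `|G|` exactly once, there is a chief factor `H / N` of `G` which is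
simple and whose order is divisible by `p0`; moreover `p0 ∤ |N|`. -/
theorem exists_simple_section {G : Type*} [Group G] [Finite G] {p0 : ℕ} (hp0 : p0.Prime)
    (h1 : p0 ∣ Nat.card G) (h2 : ¬ p0 ^ 2 ∣ Nat.card G) :
    ∃ (N H : Subgroup G) (_ : N.Normal) (_ : H.Normal), N < H ∧
      IsSimpleGroup (↥H ⧸ N.subgroupOf H) ∧ p0 ∣ Nat.card H ∧ ¬ p0 ∣ Nat.card N := by
  classical
  -- minimal normal H with p0 ∣ |H|
  obtain ⟨H, hHmin⟩ := (Set.toFinite {H : Subgroup G | H.Normal ∧ p0 ∣ Nat.card H}).exists_minimal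
    ⟨⊤, Subgroup.normal_top, by rw [Subgroup.card_top]; exact h1⟩
  have hHn : H.Normal := hHmin.prop.1
  have hHp : p0 ∣ Nat.card H := hHmin.prop.2
  have hHbot : (⊥ : Subgroup G) < H := by
    rw [bot_lt_iff_ne_bot]
    rintro rfl
    rw [Subgroup.card_bot] at hHp
    exact hp0.one_lt.ne' (Nat.dvd_one.mp hHp)
  -- maximal normal N < H
  obtain ⟨N, hNmax⟩ := (Set.toFinite {N : Subgroup G | N.Normal ∧ N < H}).exists_maximal
    ⟨⊥, Subgroup.normal_bot, hHbot⟩
  have hNn : N.Normal := hNmax.prop.1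
  have hNH : N < H := hNmax.prop.2
  have hNp : ¬ p0 ∣ Nat.card N := by
    intro h
    have := hHmin.2 (show N ∈ {H : Subgroup G | H.Normal ∧ p0 ∣ Nat.card H} from ⟨hNn, h⟩) hNH.le
    exact absurd this (not_le_of_gt hNH)
  refine ⟨N, H, hNn, hHn, hNH, ?_, hHp, hNp⟩
  -- pass to the quotient
  let π : G →* G ⧸ N := QuotientGroup.mk' N
  have hπ : Function.Surjective π := QuotientGroup.mk'_surjective N
  have hker : π.ker = N := QuotientGroup.ker_mk' N
  set Hb : Subgroup (G ⧸ N) := H.map π with hHb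
  have hHbn : Hb.Normal := hHn.map π hπ
  have hcomapHb : Hb.comap π = H := by
    rw [hHb, Subgroup.comap_map_eq, hker]
    exact sup_eq_left.mpr hNH.le
  have hHb_ne : Hb ≠ ⊥ := by
    intro h
    have : H ≤ N := by
      rw [← hker, ← (Subgroup.map_eq_bot_iff H)]
      exact h
    exact absurd this (not_le_of_gt hNH)
  have hminimal : ∀ M : Subgroup (G ⧸ N), M.Normal → M ≤ Hb → M = ⊥ ∨ M = Hb := by
    intro Mb hMbn hMbHb
    have hMn : (Mb.comap π).Normal := hMbn.comap π
    have hNM : N ≤ Mb.comap π := hker.symm.le.trans (Subgroup.ker_le_comap π Mb)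
    have hMH : Mb.comap π ≤ H := by
      rw [← hcomapHb]; exact Subgroup.comap_mono hMbHb
    have hmc : Mb = (Mb.comap π).map π := (Subgroup.map_comap_eq_self_of_surjective hπ Mb).symm
    by_cases hEq : Mb.comap π = H
    · right
      rw [hmc, hEq]
    · left
      have hlt : Mb.comap π < H := lt_of_le_of_ne hMH hEq
      have hle : Mb.comap π ≤ N :=
        hNmax.2 (show Mb.comap π ∈ {N : Subgroup G | N.Normal ∧ N < H} from ⟨hMn, hlt⟩) hNM
      have : Mb.comap π = N := le_antisymm hle hNM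
      rw [hmc, this]
      exact QuotientGroup.map_mk'_self N
  obtain ⟨T, instT, m, hT, hm, ⟨e⟩⟩ := Cfsg.Agent.S0721.result Hb hHb_ne hminimal
  -- the quotient H / N is isomorphic to Hb
  let φ : H →* Hb := π.subgroupMap H
  have hφ : Function.Surjective φ := π.subgroupMap_surjective H
  have hφker : φ.ker = N.subgroupOf H := by
    ext x
    rw [MonoidHom.mem_ker, Subgroup.mem_subgroupOf]
    constructor
    · intro hx
      have : π (x : G) = 1 := congrArg Subtype.val hx
      rw [← hker]; exact this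
    · intro hx
      apply Subtype.ext
      have : π (x : G) = 1 := by
        rw [← MonoidHom.mem_ker, hker]; exact hx
      exact this
  have : (N.subgroupOf H).Normal := hNn.subgroupOf H
  let e1 : (↥H ⧸ N.subgroupOf H) ≃* Hb :=
    (QuotientGroup.quotientMulEquivOfEq hφker.symm).trans
      (QuotientGroup.quotientKerEquivOfSurjective φ hφ)
  -- m = 1
  have hcardHb : Nat.card Hb = Nat.card T ^ m := by
    rw [Nat.card_congr e.toEquiv, Nat.card_fun, Nat.card_fin]
  have hcardq : Nat.card (↥H ⧸ N.subgroupOf H) = Nat.card Hb := Nat.card_congr e1.toEquiv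
  have hmul := card_quot_subgroupOf_mul N H hNH.le
  have hpq : p0 ∣ Nat.card Hb := by
    rw [← hcardq]
    rw [← hmul] at hHp
    exact ((Nat.Prime.dvd_mul hp0).mp hHp).resolve_right hNp
  have hp2q : ¬ p0 ^ 2 ∣ Nat.card Hb := by
    intro h
    apply h2
    rw [← hcardq] at h
    exact (h.trans (Dvd.intro _ hmul)).trans (Subgroup.card_subgroup_dvd_card H)
  have hpT : p0 ∣ Nat.card T := by
    rw [hcardHb] at hpq
    exact hp0.dvd_of_dvd_pow hpq
  have hm1 : m = 1 := by
    by_contra hne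
    have hm2 : 2 ≤ m := by omega
    apply hp2q
    rw [hcardHb]
    exact (pow_dvd_pow p0 hm2).trans (pow_dvd_pow_of_dvd hpT m)
  subst hm1
  let e2 : (↥H ⧸ N.subgroupOf H) ≃* T := (e1.trans e).trans (MulEquiv.funUnique (Fin 1) T)
  exact e2.isSimpleGroup

end Cfsg.Agent.Lib.Helper99
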