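import Mathlib
import Cfsg.Agent.Lib.Helper99.FrobElt
import Cfsg.Agent.Lib.Helper99.PrimeOrdMain
import Cfsg.Agent.Lib.Helper40.SemisimpleGL

/-!
# Elements of prime order and normalizers of Singer cycles (helper99)
-/

set_option autoImplicit false
set_option linter.unusedSectionVars false

namespace Cfsg.Agent.Lib.Helper99.FieldNorm

open Module Polynomial Cfsg.Geo Matrix Cfsg.Agent.Lib.Helper99.PrimeOrd

variable {F : Type*} [Field F] [Fintype F]

theorem cyclotomic_irreducible_of_order {p q : ℕ} [Fact p.Prime] [CharP F p]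
    (hF : Fintype.card F = q) {n : ℕ} (hnp : n.Prime) (hnchar : n ≠ p)
    (hord : orderOf (q : ZMod n) = n - 1) : Irreducible (cyclotomic n F) := by
  have hcdeg : (cyclotomic n F).natDegree = n - 1 := by
    rw [natDegree_cyclotomic, Nat.totient_prime hnp]
  have hpos : 0 < (cyclotomic n F).natDegree := by
    rw [hcdeg]
    have := hnp.two_le
    omega
  obtain ⟨m₀, hirr, hdvd⟩ := exists_irreducible_of_natDegree_pos hpos
  have hdeg : m₀.natDegree = n - 1 := by
    rw [natDegree_of_irreducible_dvd_cyclotomic hF n hnp hnchar m₀ hirr hdvd, hord]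
  have hass := associated_of_dvd_of_natDegree_le hdvd (cyclotomic_ne_zero n F)
    (by rw [hcdeg, hdeg])
  exact hass.irreducible hirr

/-- A non-identity matrix with `y ^ n = 1` has characteristic polynomial `X ^ n - 1` when the
`n`-th cyclotomic polynomial is irreducible over `F`. -/
theorem charpoly_eq_of_pow_eq_one {p q : ℕ} [Fact p.Prime] [CharP F p]
    (hF : Fintype.card F = q) {n : ℕ} (hnp : n.Prime) (hnchar : n ≠ p)
    (hord : orderOf (q : ZMod n) = n - 1) (hn3 : 2 < n) (y : Matrix (Fin n) (Fin n) F)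
    (hy : y ^ n = 1) (hy1 : y ≠ 1) : y.charpoly = X ^ n - 1 := by
  have hnF : Fact n.Prime := ⟨hnp⟩
  have hq1 : 1 ≤ q := by rw [← hF]; exact Fintype.card_pos
  have hΦ := cyclotomic_irreducible_of_order hF hnp hnchar hord
  have hprod : cyclotomic n F * (X - 1) = X ^ n - 1 := cyclotomic_prime_mul_X_sub_one F n
  have hr1 : ¬ n ∣ Fintype.card F - 1 := by
    rw [hF, ← PrimeOrdNT.orderOf_eq_one_iff_dvd hq1, hord]
    omega
  have hμ : minpoly F y ∣ X ^ n - 1 := by
    apply minpoly.dvd
    rw [map_sub, map_pow, aeval_X, map_one, hy, sub_self]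
  have hΦμ : cyclotomic n F ∣ minpoly F y := by
    by_contra hnd
    have hcop : IsCoprime (cyclotomic n F) (minpoly F y) := (hΦ.coprime_iff_not_dvd).mpr hnd
    rw [← hprod, mul_comm] at hμ
    have h1 : minpoly F y ∣ X - 1 := hcop.symm.dvd_of_dvd_mul_right hμ
    have h2 := aeval_eq_zero_of_dvd_aeval_eq_zero h1 (minpoly.aeval F y)
    rw [map_sub, aeval_X, map_one, sub_eq_zero] at h2
    exact hy1 h2
  obtain ⟨h, hh⟩ := hΦμ.trans (Matrix.minpoly_dvd_charpoly y)
  have hχm : y.charpoly.Monic := Matrix.charpoly_monic y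
  have hΦm : (cyclotomic n F).Monic := cyclotomic.monic n F
  have hhm : h.Monic := by
    apply hΦm.of_mul_monic_left
    rw [← hh]; exact hχm
  have hhdeg : h.natDegree = 1 := by
    have h1 := congrArg natDegree hh
    rw [Matrix.charpoly_natDegree_eq_dim, Fintype.card_fin, hΦm.natDegree_mul hhm,
      natDegree_cyclotomic, Nat.totient_prime hnp] at h1
    omega
  have hhX := hhm.eq_X_add_C hhdeg
  -- the root of `h` is an eigenvalue, hence equal to one
  have hroot : y.charpoly.IsRoot (-h.coeff 0) := by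
    rw [hh, IsRoot.def, eval_mul]
    have : eval (-h.coeff 0) h = 0 := by
      rw [hhX]; simp
    rw [this, mul_zero]
  rw [← Matrix.charpoly_toLin', ← Module.End.hasEigenvalue_iff_isRoot_charpoly] at hroot
  obtain ⟨v, hv⟩ := hroot.exists_hasEigenvector
  have h3 := hv.pow_apply n
  rw [← Matrix.toLin'_pow, hy, Matrix.toLin'_one, LinearMap.id_apply] at h3
  have h4 : (-h.coeff 0) ^ n = 1 := by
    have h5 : ((-h.coeff 0) ^ n - 1) • v = 0 := by rw [sub_smul, one_smul, ← h3, sub_self]
    rcases smul_eq_zero.mp h5 with h6 | h6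
    · exact sub_eq_zero.mp h6
    · exact absurd h6 hv.2
  have h7 := PrimeOrdNT.eq_one_of_pow_eq_one hnp hr1 h4
  have h8 : h.coeff 0 = -1 := neg_eq_iff_eq_neg.mp h7
  rw [hh, hhX, ← hprod, h8, map_neg, map_one, sub_eq_add_neg]

/-- The scalar `lam` as an element of `GL`. -/
def scalarGL (n : ℕ) {lam : F} (h : lam ≠ 0) : GL (Fin n) F :=
  ⟨lam • 1, lam⁻¹ • 1, by rw [smul_mul_smul_comm, mul_one, mul_inv_cancel₀ h, one_smul],
    by rw [smul_mul_smul_comm, mul_one, inv_mul_cancel₀ h, one_smul]⟩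

theorem scalarGL_mem {n : ℕ} (K : Subalgebra F (Matrix (Fin n) (Fin n) F)) {lam : F}
    (h : lam ≠ 0) : scalarGL n h ∈ subalgebraNormalizer K := by
  intro k
  show k ∈ K ↔ (lam • (1 : Matrix (Fin n) (Fin n) F)) * k * (lam⁻¹ • 1) ∈ K
  rw [smul_mul_assoc, one_mul, mul_smul_comm, mul_one, smul_smul, inv_mul_cancel₀ h, one_smul]

/-- A criterion for an `SL`-conjugate to lie in the normalizer of `K`. -/
theorem conj_mem_of_matrix_eq {n : ℕ} (K : Subalgebra F (Matrix (Fin n) (Fin n) F))
    (x P : Matrix.SpecialLinearGroup (Fin n) F) {lam : F} (hlam : lam ≠ 0) (G : GL (Fin n) F)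
    (hG : G ∈ subalgebraNormalizer K)
    (h : (x : Matrix (Fin n) (Fin n) F) * (P : Matrix (Fin n) (Fin n) F)
      = lam • ((P : Matrix (Fin n) (Fin n) F) * (G : Matrix (Fin n) (Fin n) F))) :
    P⁻¹ * x * P ∈ (subalgebraNormalizer K).comap
      (Matrix.SpecialLinearGroup.toGL :
        Matrix.SpecialLinearGroup (Fin n) F →* GL (Fin n) F) := by
  rw [Subgroup.mem_comap]
  have heq : Matrix.SpecialLinearGroup.toGL (P⁻¹ * x * P) = scalarGL n hlam * G := by
    apply Units.ext
    rw [Matrix.SpecialLinearGroup.coe_GL_coe_matrix, Units.val_mul,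
      Matrix.SpecialLinearGroup.coe_mul, Matrix.SpecialLinearGroup.coe_mul]
    show _ = (lam • (1 : Matrix (Fin n) (Fin n) F)) * (G : Matrix (Fin n) (Fin n) F)
    have hPP : ((P⁻¹ : Matrix.SpecialLinearGroup (Fin n) F) : Matrix (Fin n) (Fin n) F)
        * (P : Matrix (Fin n) (Fin n) F) = 1 := by
      rw [← Matrix.SpecialLinearGroup.coe_mul, inv_mul_cancel, Matrix.SpecialLinearGroup.coe_one]
    rw [mul_assoc, h, mul_smul_comm, ← mul_assoc, hPP, one_mul, smul_mul_assoc, one_mul]
  rw [heq]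
  exact Subgroup.mul_mem _ (scalarGL_mem K hlam) hG

/-- A diagonal element of order `n` with a two-dimensional fixed space (`n ∣ q - 1`). -/
theorem exists_diag_bad {q : ℕ} (hF : Fintype.card F = q) {n : ℕ} (hnp : n.Prime)
    (hn4 : 4 ≤ n) (hdvd : n ∣ q - 1) :
    ∃ x : Matrix.SpecialLinearGroup (Fin n) F,
      ((x ^ n : Matrix.SpecialLinearGroup (Fin n) F) : Matrix (Fin n) (Fin n) F)
        = (1 : F) • (1 : Matrix (Fin n) (Fin n) F) ∧
      (∀ c : F, (x : Matrix (Fin n) (Fin n) F) ≠ c • (1 : Matrix (Fin n) (Fin n) F)) ∧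
      2 ≤ finrank F (LinearMap.ker (Matrix.toLin' (x : Matrix (Fin n) (Fin n) F)
        - (1 : F) • (1 : Module.End F (Fin n → F)))) := by
  classical
  have hnF : Fact n.Prime := ⟨hnp⟩
  have hcard : n ∣ Nat.card Fˣ := by
    rw [Nat.card_eq_fintype_card, Fintype.card_units, hF]
    exact hdvd
  obtain ⟨ζ, hζ⟩ := exists_prime_orderOf_dvd_card' n hcard
  have hζn : (ζ : F) ^ n = 1 := by
    rw [← Units.val_pow_eq_pow_val, ← hζ, pow_orderOf_eq_one, Units.val_one]
  have hζ1 : (ζ : F) ≠ 1 := by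
    intro h
    have : ζ = 1 := Units.ext h
    rw [this, orderOf_one] at hζ
    exact hnp.one_lt.ne hζ
  let i0 : Fin n := ⟨0, by omega⟩
  let i1 : Fin n := ⟨1, by omega⟩
  let i2 : Fin n := ⟨2, by omega⟩
  let i3 : Fin n := ⟨3, by omega⟩
  let d : Fin n → F := fun j => (if j = i0 then (ζ : F) else 1) * (if j = i1 then (ζ : F)⁻¹ else 1)
  have h01 : i0 ≠ i1 := fun h => by
    have h' : (0 : ℕ) = 1 := congrArg Fin.val h
    omega
  have h20 : i2 ≠ i0 := fun h => by
    have h' : (2 : ℕ) = 0 := congrArg Fin.val h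
    omega
  have h21 : i2 ≠ i1 := fun h => by
    have h' : (2 : ℕ) = 1 := congrArg Fin.val h
    omega
  have h30 : i3 ≠ i0 := fun h => by
    have h' : (3 : ℕ) = 0 := congrArg Fin.val h
    omega
  have h31 : i3 ≠ i1 := fun h => by
    have h' : (3 : ℕ) = 1 := congrArg Fin.val h
    omega
  have h23 : i2 ≠ i3 := fun h => by
    have h' : (2 : ℕ) = 3 := congrArg Fin.val h
    omega
  have hd0 : d i0 = ζ := by
    show (if i0 = i0 then (ζ : F) else 1) * (if i0 = i1 then (ζ : F)⁻¹ else 1) = ζ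
    rw [if_pos rfl, if_neg h01, mul_one]
  have hd2 : d i2 = 1 := by
    show (if i2 = i0 then (ζ : F) else 1) * (if i2 = i1 then (ζ : F)⁻¹ else 1) = 1
    rw [if_neg h20, if_neg h21, mul_one]
  have hd3 : d i3 = 1 := by
    show (if i3 = i0 then (ζ : F) else 1) * (if i3 = i1 then (ζ : F)⁻¹ else 1) = 1
    rw [if_neg h30, if_neg h31, mul_one]
  have hdn : ∀ j, d j ^ n = 1 := by
    intro j
    simp only [d]
    rw [mul_pow]
    split_ifs <;> simp [hζn, inv_pow]
  have hdet : (Matrix.diagonal d).det = 1 := by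
    rw [Matrix.det_diagonal]
    simp only [d]
    rw [Finset.prod_mul_distrib, Finset.prod_ite_eq', Finset.prod_ite_eq',
      if_pos (Finset.mem_univ _), if_pos (Finset.mem_univ _), mul_inv_cancel₀ (Units.ne_zero ζ)]
  obtain ⟨x, hx⟩ : ∃ x : Matrix.SpecialLinearGroup (Fin n) F,
      (x : Matrix (Fin n) (Fin n) F) = Matrix.diagonal d := ⟨⟨_, hdet⟩, rfl⟩
  refine ⟨x, ?_, ?_, ?_⟩
  · rw [Matrix.SpecialLinearGroup.coe_pow, hx, Matrix.diagonal_pow, one_smul,
      ← Matrix.diagonal_one]
    congr 1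
    funext j
    exact hdn j
  · intro c hc
    rw [hx] at hc
    have h0 := congrFun (congrFun hc i0) i0
    have h2 := congrFun (congrFun hc i2) i2
    simp only [Matrix.diagonal_apply_eq, Matrix.smul_apply, Matrix.one_apply_eq, smul_eq_mul,
      mul_one] at h0 h2
    rw [hd0] at h0
    rw [hd2] at h2
    exact hζ1 (h0.trans h2.symm)
  · rw [hx]
    have hmem : ∀ j : Fin n, d j = 1 → (Pi.single j 1 : Fin n → F) ∈
        LinearMap.ker (Matrix.toLin' (Matrix.diagonal d)
          - (1 : F) • (1 : Module.End F (Fin n → F))) := by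
      intro j hj
      rw [LinearMap.mem_ker, LinearMap.sub_apply, one_smul, Module.End.one_apply,
        Matrix.toLin'_apply, Matrix.mulVec_single, sub_eq_zero]
      funext l
      by_cases hl : l = j
      · subst hl
        simp [hj]
      · simp [Matrix.diagonal_apply_ne _ hl, hl]
    have hLI : LinearIndependent F ![(Pi.single i2 1 : Fin n → F), Pi.single i3 1] := by
      rw [LinearIndependent.pair_iff]
      intro s t hst
      have e2 := congrFun hst i2
      have e3 := congrFun hst i3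
      simp only [Pi.add_apply, Pi.smul_apply, Pi.single_eq_same, Pi.single_eq_of_ne h23,
        Pi.single_eq_of_ne h23.symm, smul_eq_mul, mul_one, mul_zero, add_zero, zero_add,
        Pi.zero_apply] at e2 e3
      exact ⟨e2, e3⟩
    have hle : Submodule.span F (Set.range ![(Pi.single i2 1 : Fin n → F), Pi.single i3 1]) ≤
        LinearMap.ker (Matrix.toLin' (Matrix.diagonal d)
          - (1 : F) • (1 : Module.End F (Fin n → F))) := by
      rw [Submodule.span_le]
      rintro _ ⟨a, rfl⟩
      fin_cases a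
      · exact hmem i2 hd2
      · exact hmem i3 hd3
    calc 2 = finrank F (Submodule.span F
          (Set.range ![(Pi.single i2 1 : Fin n → F), Pi.single i3 1])) := by
          rw [finrank_span_eq_card hLI, Fintype.card_fin]
      _ ≤ _ := Submodule.finrank_mono hle

end Cfsg.Agent.Lib.Helper99.FieldNorm
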