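import Mathlib
import Cfsg.Agent.Lib.Helper99.SingerMain

/-!
# Conjugating elements into the normalizer of a Singer field (helper99)

* `not_conj_mem_of_finrank_ker` : an element with an eigenspace of dimension at least two has no
  conjugate in the normalizer of `K` (`n` prime).
* `exists_comm_det` : the centralizer of a matrix `G` with `G ^ n = 1` and a fixed vector contains
  elements of every determinant.
* `exists_sl_conj` : an element of `SL_n(F)` that is a scalar multiple of a matrix with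
  characteristic polynomial `X ^ n - 1` is `SL_n(F)`-conjugate into the normalizer of `K`.
* `charpoly_eq_of_cube` : the characteristic polynomial of a non-scalar `3 × 3` matrix of
  determinant one and cube one.
-/

set_option autoImplicit false
set_option linter.unusedSectionVars false

namespace Cfsg.Agent.Lib.Helper99.FieldNorm

open Module Polynomial Cfsg.Geo Matrix Cfsg.Agent.Lib.Helper99.PrimeOrd

section general

variable {F : Type*} [Field F] {n : ℕ} {K : Subalgebra F (Matrix (Fin n) (Fin n) F)}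

theorem pow_eq_one_of_charpoly (M : Matrix (Fin n) (Fin n) F) (h : M.charpoly = X ^ n - 1) :
    M ^ n = 1 := by
  have h1 := Matrix.aeval_self_charpoly M
  rw [h, map_sub, map_pow, aeval_X, map_one, sub_eq_zero] at h1
  exact h1

theorem exists_fixed_of_charpoly (M : Matrix (Fin n) (Fin n) F)
    (h : M.charpoly = X ^ n - 1) : ∃ v : Fin n → F, v ≠ 0 ∧ M *ᵥ v = v := by
  have hroot : M.charpoly.IsRoot 1 := by
    rw [h, IsRoot.def, eval_sub, eval_pow, eval_X, eval_one, one_pow, sub_self]
  rw [← Matrix.charpoly_toLin', ← Module.End.hasEigenvalue_iff_isRoot_charpoly] at hroot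
  obtain ⟨v, hv⟩ := hroot.exists_hasEigenvector
  refine ⟨v, hv.2, ?_⟩
  have h1 := hv.apply_eq_smul
  rw [Matrix.toLin'_apply, one_smul] at h1
  exact h1

theorem pow_mulVec_fixed (M : Matrix (Fin n) (Fin n) F) (v : Fin n → F) (hv : M *ᵥ v = v)
    (i : ℕ) : (M ^ i) *ᵥ v = v := by
  induction i with
  | zero => rw [pow_zero, Matrix.one_mulVec]
  | succ i ih => rw [pow_succ, ← Matrix.mulVec_mulVec, hv, ih]

/-- The centralizer of a matrix `G` with `G ^ n = 1` that fixes a nonzero vector contains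
elements of every determinant. -/
theorem exists_comm_det (G : Matrix (Fin n) (Fin n) F) (hG : G ^ n = 1) (hnF : (n : F) ≠ 0)
    (v : Fin n → F) (hv : v ≠ 0) (hGv : G *ᵥ v = v) (a : F) :
    ∃ h : Matrix (Fin n) (Fin n) F, h * G = G * h ∧ h.det = a := by
  classical
  set S : Matrix (Fin n) (Fin n) F := ∑ i ∈ Finset.range n, G ^ i with hS
  have hSG : S * G = S := by
    have h1 := geom_sum_mul G n
    rw [hG, sub_self, mul_sub, mul_one, sub_eq_zero] at h1
    exact h1
  have hSv : S *ᵥ v = (n : F) • v := by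
    rw [hS, Matrix.sum_mulVec, Finset.sum_congr rfl (fun i _ => pow_mulVec_fixed G v hGv i),
      Finset.sum_const, Finset.card_range, Nat.cast_smul_eq_nsmul]
  obtain ⟨j₀, hj₀⟩ : ∃ j, v j ≠ 0 := by
    by_contra hcon
    apply hv
    funext j
    by_contra hj
    exact hcon ⟨j, hj⟩
  have hc0 : (n : F) * v j₀ ≠ 0 := mul_ne_zero hnF hj₀
  set c : F := ((n : F) * v j₀)⁻¹ with hc
  set w : Fin n → F := fun j => c * S j₀ j with hw
  have hwv : w ⬝ᵥ v = 1 := by
    have h1 : w ⬝ᵥ v = c * (S *ᵥ v) j₀ := by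
      simp only [dotProduct, Matrix.mulVec, hw, Finset.mul_sum, mul_assoc]
    rw [h1, hSv, Pi.smul_apply, smul_eq_mul, hc, inv_mul_cancel₀ hc0]
  have hwG : w ᵥ* G = w := by
    funext j
    have h1 : (w ᵥ* G) j = c * (S * G) j₀ j := by
      simp only [Matrix.vecMul, dotProduct, hw, Matrix.mul_apply, Finset.mul_sum, mul_assoc]
    rw [h1, hSG]
  refine ⟨1 + (a - 1) • Matrix.vecMulVec v w, ?_, ?_⟩
  · rw [add_mul, mul_add, one_mul, mul_one, smul_mul_assoc, mul_smul_comm, Matrix.vecMulVec_mul,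
      Matrix.mul_vecMulVec, hwG, hGv]
  · rw [← Matrix.smul_vecMulVec, Matrix.vecMulVec_eq (Fin 1),
      Matrix.det_one_add_replicateCol_mul_replicateRow, dotProduct_smul, hwv, smul_eq_mul,
      mul_one]
    ring

theorem toGL_conj_val (x P : Matrix.SpecialLinearGroup (Fin n) F) :
    ((Matrix.SpecialLinearGroup.toGL (P⁻¹ * x * P) : GL (Fin n) F) : Matrix (Fin n) (Fin n) F) =
      (((Matrix.SpecialLinearGroup.toGL P)⁻¹ : GL (Fin n) F) : Matrix (Fin n) (Fin n) F) *
        (x : Matrix (Fin n) (Fin n) F) *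
        ((Matrix.SpecialLinearGroup.toGL P : GL (Fin n) F) : Matrix (Fin n) (Fin n) F) := by
  simp only [map_mul, map_inv, Units.val_mul, Matrix.SpecialLinearGroup.coe_GL_coe_matrix]

/-- An element with an eigenspace of dimension at least two has no conjugate in the normalizer
of the Singer field `K`. -/
theorem not_conj_mem_of_finrank_ker (hK : IsFieldSubalgebra n K) (hnp : n.Prime)
    (x : Matrix.SpecialLinearGroup (Fin n) F)
    (hns : ∀ c : F, (x : Matrix (Fin n) (Fin n) F) ≠ c • (1 : Matrix (Fin n) (Fin n) F))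
    (lam : F) (h2 : 2 ≤ finrank F (LinearMap.ker (Matrix.toLin' (x : Matrix (Fin n) (Fin n) F)
        - lam • (1 : Module.End F (Fin n → F)))))
    (P : Matrix.SpecialLinearGroup (Fin n) F) :
    P⁻¹ * x * P ∉ (subalgebraNormalizer K).comap
      (Matrix.SpecialLinearGroup.toGL :
        Matrix.SpecialLinearGroup (Fin n) F →* GL (Fin n) F) := by
  intro hmem
  rw [Subgroup.mem_comap] at hmem
  have hval := toGL_conj_val x P
  set T : GL (Fin n) F := Matrix.SpecialLinearGroup.toGL P with hT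
  have hTT : (T : Matrix (Fin n) (Fin n) F) * ((T⁻¹ : GL (Fin n) F) : Matrix (Fin n) (Fin n) F)
      = 1 := by
    rw [← Units.val_mul, mul_inv_cancel, Units.val_one]
  have hgns : ∀ c : F, ((Matrix.SpecialLinearGroup.toGL (P⁻¹ * x * P) : GL (Fin n) F) :
      Matrix (Fin n) (Fin n) F) ≠ c • 1 := by
    intro c hc
    apply hns c
    rw [hval] at hc
    calc (x : Matrix (Fin n) (Fin n) F)
        = ((T : Matrix (Fin n) (Fin n) F) * ((T⁻¹ : GL (Fin n) F) : Matrix (Fin n) (Fin n) F))
          * (x : Matrix (Fin n) (Fin n) F) *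
          ((T : Matrix (Fin n) (Fin n) F) * ((T⁻¹ : GL (Fin n) F) : Matrix (Fin n) (Fin n) F)) := by
          rw [hTT, one_mul, mul_one]
      _ = (T : Matrix (Fin n) (Fin n) F) * (((T⁻¹ : GL (Fin n) F) : Matrix (Fin n) (Fin n) F)
          * (x : Matrix (Fin n) (Fin n) F) * (T : Matrix (Fin n) (Fin n) F)) *
          ((T⁻¹ : GL (Fin n) F) : Matrix (Fin n) (Fin n) F) := by
          simp only [mul_assoc]
      _ = c • 1 := by
          rw [hc, mul_smul_comm, mul_one, smul_mul_assoc, hTT]
  have h1 := finrank_ker_le_one hK hnp _ hmem hgns lam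
  rw [hval, finrank_ker_conj] at h1
  omega

/-- A non-scalar `3 × 3` matrix of determinant one whose cube is one has characteristic
polynomial `X ^ 3 - 1`. -/
theorem charpoly_eq_of_cube (y : Matrix (Fin 3) (Fin 3) F) (hy : y ^ 3 = 1) (hdet : y.det = 1)
    (hns : ∀ c : F, y ≠ c • (1 : Matrix (Fin 3) (Fin 3) F)) : y.charpoly = X ^ 3 - 1 := by
  have hm : y.charpoly.Monic := Matrix.charpoly_monic y
  have hdeg : y.charpoly.natDegree = 3 := by
    rw [Matrix.charpoly_natDegree_eq_dim, Fintype.card_fin]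
  have hχ : y.charpoly = X ^ 3 + C (y.charpoly.coeff 2) * X ^ 2 + C (y.charpoly.coeff 1) * X
      + C (y.charpoly.coeff 0) := by
    conv_lhs => rw [hm.as_sum, hdeg]
    simp only [Finset.sum_range_succ, Finset.sum_range_zero, pow_zero, pow_one, mul_one, zero_add]
    ring
  set c0 := y.charpoly.coeff 0 with hc0def
  set c1 := y.charpoly.coeff 1 with hc1def
  set c2 := y.charpoly.coeff 2 with hc2def
  have hc0 : c0 = -1 := by
    have h1 := Matrix.det_eq_sign_charpoly_coeff y
    rw [hdet, Fintype.card_fin, ← hc0def] at h1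
    linear_combination h1
  have hCH := Matrix.aeval_self_charpoly y
  rw [hχ] at hCH
  simp only [map_add, map_mul, map_pow, aeval_X, aeval_C, Algebra.algebraMap_eq_smul_one,
    smul_mul_assoc, one_mul] at hCH
  rw [hy, hc0, neg_smul, one_smul] at hCH
  have h2 : c2 • y ^ 2 + c1 • y = 0 := by
    rw [← hCH]
    abel
  have hy4 : y ^ 2 * y ^ 2 = y := by
    rw [← pow_add]
    show y ^ (3 + 1) = y
    rw [pow_succ, hy, one_mul]
  have hy3 : y * y ^ 2 = 1 := by
    rw [← pow_succ', hy]
  have h3 : c2 • y + c1 • (1 : Matrix (Fin 3) (Fin 3) F) = 0 := by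
    have h4 := congrArg (· * y ^ 2) h2
    simp only [add_mul, smul_mul_assoc, hy4, hy3, zero_mul] at h4
    exact h4
  have hc2 : c2 = 0 := by
    by_contra hne
    apply hns (c2⁻¹ * -c1)
    have h5 : c2 • y = (-c1) • (1 : Matrix (Fin 3) (Fin 3) F) := by
      rw [neg_smul]
      exact eq_neg_of_add_eq_zero_left h3
    rw [mul_smul, ← h5, smul_smul, inv_mul_cancel₀ hne, one_smul]
  have hc1 : c1 = 0 := by
    rw [hc2, zero_smul, zero_add] at h3
    have h6 := congrFun (congrFun h3 0) 0
    simpa using h6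
  rw [hχ, hc2, hc1, hc0]
  simp only [map_zero, zero_mul, add_zero, map_neg, map_one]
  ring

end general

section finite

variable {F : Type*} [Field F] [Fintype F] {n : ℕ} {K : Subalgebra F (Matrix (Fin n) (Fin n) F)}

/-- An element of `SL_n(F)` that is a scalar multiple of a matrix with characteristic polynomial
`X ^ n - 1` is conjugate in `SL_n(F)` into the normalizer of the Singer field `K`. -/
theorem exists_sl_conj (hK : IsFieldSubalgebra n K) (hn : 0 < n) (hnF : (n : F) ≠ 0)
    (x : Matrix.SpecialLinearGroup (Fin n) F) {lam : F} (hlam : lam ≠ 0)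
    (y : Matrix (Fin n) (Fin n) F) (hxy : (x : Matrix (Fin n) (Fin n) F) = lam • y)
    (hy : y.charpoly = X ^ n - 1) :
    ∃ P : Matrix.SpecialLinearGroup (Fin n) F, P⁻¹ * x * P ∈ (subalgebraNormalizer K).comap
      (Matrix.SpecialLinearGroup.toGL :
        Matrix.SpecialLinearGroup (Fin n) F →* GL (Fin n) F) := by
  classical
  obtain ⟨G, hGmem, hGchar⟩ := exists_frob hK hn
  have hyn := pow_eq_one_of_charpoly y hy
  have hGn := pow_eq_one_of_charpoly (G : Matrix (Fin n) (Fin n) F) hGchar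
  have hys := Cfsg.Agent.Lib.Helper40.isSemisimple_toLin'_of_pow_eq_one y n hnF hyn
  have hGs := Cfsg.Agent.Lib.Helper40.isSemisimple_toLin'_of_pow_eq_one
    (G : Matrix (Fin n) (Fin n) F) n hnF hGn
  obtain ⟨Q, hQ⟩ := Cfsg.Agent.Lib.Helper40.exists_gl_conj_of_charpoly_eq y
    (G : Matrix (Fin n) (Fin n) F) hys hGs (hy.trans hGchar.symm)
  have hQ1 : ((Q⁻¹ : GL (Fin n) F) : Matrix (Fin n) (Fin n) F) * (Q : Matrix (Fin n) (Fin n) F)
      = 1 := by
    rw [← Units.val_mul, inv_mul_cancel, Units.val_one]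
  have hQ2 : (Q : Matrix (Fin n) (Fin n) F) * ((Q⁻¹ : GL (Fin n) F) : Matrix (Fin n) (Fin n) F)
      = 1 := by
    rw [← Units.val_mul, mul_inv_cancel, Units.val_one]
  set R : Matrix (Fin n) (Fin n) F := ((Q⁻¹ : GL (Fin n) F) : Matrix (Fin n) (Fin n) F) with hR
  have hyR : y * R = R * (G : Matrix (Fin n) (Fin n) F) := by
    calc y * R = (R * (Q : Matrix (Fin n) (Fin n) F)) * y * R := by rw [hQ1, one_mul]
      _ = R * ((Q : Matrix (Fin n) (Fin n) F) * y) * R := by rw [mul_assoc R]
      _ = R * ((G : Matrix (Fin n) (Fin n) F) * (Q : Matrix (Fin n) (Fin n) F)) * R := by rw [hQ]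
      _ = R * (G : Matrix (Fin n) (Fin n) F) * ((Q : Matrix (Fin n) (Fin n) F) * R) := by
          simp only [mul_assoc]
      _ = R * (G : Matrix (Fin n) (Fin n) F) := by rw [hQ2, mul_one]
  have hdetR : R.det ≠ 0 := by
    intro h0
    have h1 := congrArg Matrix.det hQ1
    rw [Matrix.det_mul, h0, zero_mul, Matrix.det_one] at h1
    exact zero_ne_one h1
  obtain ⟨v, hv0, hGv⟩ := exists_fixed_of_charpoly (G : Matrix (Fin n) (Fin n) F) hGchar
  obtain ⟨h, hhG, hhdet⟩ := exists_comm_det (G : Matrix (Fin n) (Fin n) F) hGn hnF v hv0 hGv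
    (R.det)⁻¹
  have hdetP : (R * h).det = 1 := by rw [Matrix.det_mul, hhdet, mul_inv_cancel₀ hdetR]
  obtain ⟨P, hP⟩ : ∃ P : Matrix.SpecialLinearGroup (Fin n) F,
      (P : Matrix (Fin n) (Fin n) F) = R * h := ⟨⟨_, hdetP⟩, rfl⟩
  refine ⟨P, conj_mem_of_matrix_eq K x P hlam G hGmem ?_⟩
  rw [hP, hxy, smul_mul_assoc]
  congr 1
  calc y * (R * h) = (y * R) * h := by rw [mul_assoc]
    _ = R * ((G : Matrix (Fin n) (Fin n) F) * h) := by rw [hyR, mul_assoc]
    _ = R * (h * (G : Matrix (Fin n) (Fin n) F)) := by rw [hhG]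
    _ = R * h * (G : Matrix (Fin n) (Fin n) F) := by rw [mul_assoc]

end finite

end Cfsg.Agent.Lib.Helper99.FieldNorm
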