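import Mathlib
import Cfsg.Agent.Lib.Helper99.SingerConj
import Cfsg.Agent.Lib.Helper57.CardSL

/-!
# Elements of order three of `SL_3(q)` and the normalizer of a Singer cycle (helper99)
-/

set_option autoImplicit false
set_option linter.unusedSectionVars false

namespace Cfsg.Agent.Lib.Helper99.FieldNorm

open Module Polynomial Cfsg.Geo Matrix Cfsg.Agent.Lib.Helper99.PrimeOrd

section general

variable {F : Type*} [Field F]

/-- Two standard basis vectors that are eigenvectors give an eigenspace of dimension at least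
two. -/
theorem two_le_finrank_ker {n : ℕ} (A : Matrix (Fin n) (Fin n) F) (lam : F) (j₁ j₂ : Fin n)
    (hne : j₁ ≠ j₂)
    (h₁ : A *ᵥ Pi.single j₁ 1 = lam • Pi.single j₁ 1)
    (h₂ : A *ᵥ Pi.single j₂ 1 = lam • Pi.single j₂ 1) :
    2 ≤ finrank F (LinearMap.ker (Matrix.toLin' A - lam • (1 : Module.End F (Fin n → F)))) := by
  classical
  have hmem : ∀ v : Fin n → F, A *ᵥ v = lam • v →
      v ∈ LinearMap.ker (Matrix.toLin' A - lam • (1 : Module.End F (Fin n → F))) := by
    intro v hv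
    rw [LinearMap.mem_ker, LinearMap.sub_apply, LinearMap.smul_apply, Module.End.one_apply,
      Matrix.toLin'_apply, hv, sub_self]
  have hLI : LinearIndependent F ![(Pi.single j₁ 1 : Fin n → F), Pi.single j₂ 1] := by
    rw [LinearIndependent.pair_iff]
    intro s t hst
    have e1 := congrFun hst j₁
    have e2 := congrFun hst j₂
    simp only [Pi.add_apply, Pi.smul_apply, Pi.single_eq_same, Pi.single_eq_of_ne hne,
      Pi.single_eq_of_ne hne.symm, smul_eq_mul, mul_one, mul_zero, add_zero, zero_add,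
      Pi.zero_apply] at e1 e2
    exact ⟨e1, e2⟩
  have hle : Submodule.span F (Set.range ![(Pi.single j₁ 1 : Fin n → F), Pi.single j₂ 1]) ≤
      LinearMap.ker (Matrix.toLin' A - lam • (1 : Module.End F (Fin n → F))) := by
    rw [Submodule.span_le]
    rintro _ ⟨a, rfl⟩
    fin_cases a
    · exact hmem _ h₁
    · exact hmem _ h₂
  calc 2 = finrank F (Submodule.span F
        (Set.range ![(Pi.single j₁ 1 : Fin n → F), Pi.single j₂ 1])) := by
        rw [finrank_span_eq_card hLI, Fintype.card_fin]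
    _ ≤ _ := Submodule.finrank_mono hle

/-- In characteristic three a transvection of `SL_3` has order three and a two-dimensional fixed
space. -/
theorem exists_transvection_bad [CharP F 3] :
    ∃ x : Matrix.SpecialLinearGroup (Fin 3) F,
      ((x ^ 3 : Matrix.SpecialLinearGroup (Fin 3) F) : Matrix (Fin 3) (Fin 3) F)
        = (1 : F) • (1 : Matrix (Fin 3) (Fin 3) F) ∧
      (∀ c : F, (x : Matrix (Fin 3) (Fin 3) F) ≠ c • (1 : Matrix (Fin 3) (Fin 3) F)) ∧
      2 ≤ finrank F (LinearMap.ker (Matrix.toLin' (x : Matrix (Fin 3) (Fin 3) F)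
        - (1 : F) • (1 : Module.End F (Fin 3 → F)))) := by
  classical
  have h01 : (0 : Fin 3) ≠ 1 := by decide
  obtain ⟨x, hx⟩ : ∃ x : Matrix.SpecialLinearGroup (Fin 3) F,
      (x : Matrix (Fin 3) (Fin 3) F) = Matrix.transvection 0 1 1 :=
    ⟨⟨_, Matrix.det_transvection_of_ne 0 1 h01 1⟩, rfl⟩
  have h3' : (3 : F) = 0 := by exact_mod_cast CharP.cast_eq_zero F 3
  have h3 : (1 : F) + 1 + 1 = 0 := by rw [← h3']; norm_num
  refine ⟨x, ?_, ?_, ?_⟩
  · rw [Matrix.SpecialLinearGroup.coe_pow, hx, pow_succ, pow_succ, pow_one,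
      Matrix.transvection_mul_transvection_same 0 1 h01,
      Matrix.transvection_mul_transvection_same 0 1 h01, h3, Matrix.transvection_zero, one_smul]
  · intro c hc
    rw [hx] at hc
    have h := congrFun (congrFun hc 0) 1
    simp [Matrix.transvection] at h
  · rw [hx]
    apply two_le_finrank_ker _ 1 0 2 (by decide)
    · rw [Matrix.transvection, Matrix.add_mulVec, Matrix.one_mulVec, Matrix.single_mulVec_eq,
        one_smul]
      simp
    · rw [Matrix.transvection, Matrix.add_mulVec, Matrix.one_mulVec, Matrix.single_mulVec_eq,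
        one_smul]
      simp

end general

section finite

variable {F : Type*} [Field F] [Fintype F]

/-- If `9 ∣ q - 1` there is a diagonal element of order three modulo scalars of `SL_3(q)` with a
two-dimensional eigenspace. -/
theorem exists_diag_bad_three (h9 : 9 ∣ Fintype.card F - 1) :
    ∃ x : Matrix.SpecialLinearGroup (Fin 3) F,
      (∃ z : F, ((x ^ 3 : Matrix.SpecialLinearGroup (Fin 3) F) : Matrix (Fin 3) (Fin 3) F)
        = z • (1 : Matrix (Fin 3) (Fin 3) F)) ∧
      (∀ c : F, (x : Matrix (Fin 3) (Fin 3) F) ≠ c • (1 : Matrix (Fin 3) (Fin 3) F)) ∧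
      ∃ lam : F, 2 ≤ finrank F (LinearMap.ker (Matrix.toLin' (x : Matrix (Fin 3) (Fin 3) F)
        - lam • (1 : Module.End F (Fin 3 → F)))) := by
  classical
  obtain ⟨g, hg⟩ := IsCyclic.exists_generator (α := Fˣ)
  have hord := PrimeOrdNT.orderOf_generator hg
  obtain ⟨m, hm⟩ := h9
  have hm0 : 0 < m := by
    have := Fintype.one_lt_card (α := F)
    omega
  have hγ9 : (g ^ m) ^ 9 = 1 := by
    rw [← pow_mul, mul_comm, ← hm, ← hord, pow_orderOf_eq_one]
  have hγ3 : (g ^ m) ^ 3 ≠ 1 := by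
    rw [← pow_mul]
    apply pow_ne_one_of_lt_orderOf (by omega)
    rw [hord, hm]
    omega
  set a : F := ((g ^ m : Fˣ) : F) with ha
  have ha0 : a ≠ 0 := Units.ne_zero _
  have ha9 : a ^ 9 = 1 := by
    rw [ha, ← Units.val_pow_eq_pow_val, hγ9, Units.val_one]
  have ha3 : a ^ 3 ≠ 1 := by
    intro h
    apply hγ3
    apply Units.ext
    rw [Units.val_pow_eq_pow_val, Units.val_one]
    exact h
  have ha6 : a ^ 2 * a = a ^ 3 := by ring
  have hdet : (Matrix.diagonal ![a ^ 2, a⁻¹, a⁻¹]).det = 1 := by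
    rw [Matrix.det_diagonal, Fin.prod_univ_three]
    show a ^ 2 * a⁻¹ * a⁻¹ = 1
    field_simp
  obtain ⟨x, hx⟩ : ∃ x : Matrix.SpecialLinearGroup (Fin 3) F,
      (x : Matrix (Fin 3) (Fin 3) F) = Matrix.diagonal ![a ^ 2, a⁻¹, a⁻¹] := ⟨⟨_, hdet⟩, rfl⟩
  have hcube : (a ^ 2) ^ 3 = (a⁻¹) ^ 3 := by
    rw [inv_pow]
    apply eq_inv_of_mul_eq_one_left
    rw [← ha9]
    ring
  refine ⟨x, ⟨(a⁻¹) ^ 3, ?_⟩, ?_, a⁻¹, ?_⟩
  · rw [Matrix.SpecialLinearGroup.coe_pow, hx, Matrix.diagonal_pow, Matrix.smul_one_eq_diagonal]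
    congr 1
    funext j
    fin_cases j
    · exact hcube
    · rfl
    · rfl
  · intro c hc
    rw [hx] at hc
    have h0 := congrFun (congrFun hc 0) 0
    have h1 := congrFun (congrFun hc 1) 1
    simp only [Matrix.diagonal_apply_eq, Matrix.smul_apply, Matrix.one_apply_eq, smul_eq_mul,
      mul_one, Matrix.cons_val_zero, Matrix.cons_val_one] at h0 h1
    apply ha3
    rw [← ha6, h0, ← h1, inv_mul_cancel₀ ha0]
  · rw [hx]
    apply two_le_finrank_ker _ a⁻¹ 1 2 (by decide)
    · rw [Matrix.diagonal_mulVec_single, ← Pi.single_smul', smul_eq_mul]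
      rfl
    · rw [Matrix.diagonal_mulVec_single, ← Pi.single_smul', smul_eq_mul]
      rfl

variable {K : Subalgebra F (Matrix (Fin 3) (Fin 3) F)}

/-- The normalizer of a Singer field in `SL_3(q)`, `3 ∤ q`, has order divisible by three. -/
theorem three_dvd_card_normalizer (hK : IsFieldSubalgebra 3 K) (h3F : (3 : F) ≠ 0) :
    3 ∣ Nat.card ((subalgebraNormalizer K).comap (Matrix.SpecialLinearGroup.toGL :
      Matrix.SpecialLinearGroup (Fin 3) F →* GL (Fin 3) F)) := by
  classical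
  obtain ⟨G, hGmem, hGchar⟩ := exists_frob hK (by norm_num)
  have hG3 := pow_eq_one_of_charpoly (G : Matrix (Fin 3) (Fin 3) F) hGchar
  have hcoeff0 : (X ^ 3 - 1 : F[X]).coeff 0 = -1 := by
    simp [coeff_X_pow, coeff_one]
  have hcoeff2 : (X ^ 3 - 1 : F[X]).coeff 2 = 0 := by
    simp [coeff_X_pow, coeff_one]
  have hdet : (G : Matrix (Fin 3) (Fin 3) F).det = 1 := by
    rw [Matrix.det_eq_sign_charpoly_coeff, hGchar, hcoeff0, Fintype.card_fin]
    norm_num
  have hne1 : (G : Matrix (Fin 3) (Fin 3) F) ≠ 1 := by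
    intro h1
    have htr := Matrix.trace_eq_neg_charpoly_coeff (G : Matrix (Fin 3) (Fin 3) F)
    rw [hGchar, h1, Matrix.trace_one, Fintype.card_fin, show (3 - 1 : ℕ) = 2 from rfl, hcoeff2,
      neg_zero] at htr
    exact h3F (by exact_mod_cast htr)
  obtain ⟨g, hg⟩ : ∃ g : Matrix.SpecialLinearGroup (Fin 3) F,
      (g : Matrix (Fin 3) (Fin 3) F) = (G : Matrix (Fin 3) (Fin 3) F) := ⟨⟨_, hdet⟩, rfl⟩
  have hgG : Matrix.SpecialLinearGroup.toGL g = G := by
    apply Units.ext
    rw [Matrix.SpecialLinearGroup.coe_GL_coe_matrix, hg]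
  have hgmem : g ∈ (subalgebraNormalizer K).comap (Matrix.SpecialLinearGroup.toGL :
      Matrix.SpecialLinearGroup (Fin 3) F →* GL (Fin 3) F) := by
    rw [Subgroup.mem_comap, hgG]
    exact hGmem
  have hg3 : g ^ 3 = 1 := by
    apply Subtype.ext
    rw [Matrix.SpecialLinearGroup.coe_pow, hg, hG3, Matrix.SpecialLinearGroup.coe_one]
  have hg1 : g ≠ 1 := by
    intro h
    apply hne1
    rw [← hg, h, Matrix.SpecialLinearGroup.coe_one]
  have hord : orderOf (⟨g, hgmem⟩ : ((subalgebraNormalizer K).comap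
      (Matrix.SpecialLinearGroup.toGL :
        Matrix.SpecialLinearGroup (Fin 3) F →* GL (Fin 3) F))) = 3 := by
    apply orderOf_eq_prime
    · apply Subtype.ext
      exact hg3
    · intro h
      exact hg1 (congrArg Subtype.val h)
  have hfin := orderOf_dvd_natCard (⟨g, hgmem⟩ : ((subalgebraNormalizer K).comap
      (Matrix.SpecialLinearGroup.toGL :
        Matrix.SpecialLinearGroup (Fin 3) F →* GL (Fin 3) F)))
  rw [hord] at hfin
  exact hfin

/-- For `q ≡ 2, 5 (mod 9)` the index of the normalizer of a Singer field in `SL_3(q)` is prime to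
three. -/
theorem not_three_dvd_index {p q : ℕ} [Fact p.Prime] [CharP F p] (hq : Fintype.card F = q)
    (hK : IsFieldSubalgebra 3 K) (hq9 : q % 9 = 2 ∨ q % 9 = 5) :
    ¬ 3 ∣ ((subalgebraNormalizer K).comap (Matrix.SpecialLinearGroup.toGL :
      Matrix.SpecialLinearGroup (Fin 3) F →* GL (Fin 3) F)).index := by
  intro hidx
  have hq1 : 1 ≤ q := by rw [← hq]; exact Fintype.card_pos
  have hpq : p ∣ q := by
    rw [← hq, ← CharP.cast_eq_zero_iff F p]
    exact Nat.cast_card_eq_zero F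
  have h3p : 3 ≠ p := by
    rintro rfl
    omega
  have h3F : (3 : F) ≠ 0 := by
    exact_mod_cast natCast_ne_zero_of_ne_char (F := F) 3 Nat.prime_three h3p
  have h3H := three_dvd_card_normalizer hK h3F
  have h9 : 3 * 3 ∣ Nat.card (Matrix.SpecialLinearGroup (Fin 3) F) := by
    rw [← Subgroup.card_mul_index ((subalgebraNormalizer K).comap
      (Matrix.SpecialLinearGroup.toGL :
        Matrix.SpecialLinearGroup (Fin 3) F →* GL (Fin 3) F))]
    exact Nat.mul_dvd_mul h3H hidx
  have hf := Cfsg.Agent.Lib.Helper57.card_SL_formula (F := F) 3 (by norm_num)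
  have h9' : 9 ∣ ∏ i : Fin 3, (Fintype.card F ^ 3 - Fintype.card F ^ (i : ℕ)) := by
    rw [← hf]
    exact Dvd.dvd.mul_left h9 _
  rw [Fin.prod_univ_three, hq] at h9'
  simp only [Fin.val_zero, Fin.val_one, Fin.val_two, pow_zero, pow_one] at h9'
  have hz := (ZMod.natCast_eq_zero_iff _ 9).mpr h9'
  have h1 : 1 ≤ q ^ 3 := Nat.one_le_pow _ _ hq1
  have h2 : q ≤ q ^ 3 := Nat.le_self_pow (by norm_num) q
  have h3 : q ^ 2 ≤ q ^ 3 := Nat.pow_le_pow_right hq1 (by norm_num)
  rw [Nat.cast_mul, Nat.cast_mul, Nat.cast_sub h1, Nat.cast_sub h2, Nat.cast_sub h3] at hz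
  push_cast at hz
  have hqz : (q : ZMod 9) = ((q % 9 : ℕ) : ZMod 9) := (ZMod.natCast_mod q 9).symm
  rcases hq9 with h | h
  · rw [hqz, h] at hz
    revert hz
    decide
  · rw [hqz, h] at hz
    revert hz
    decide

/-- For `9 ∤ q - 1`, `3 ∤ q`, an element of `SL_3(q)` with scalar cube has cube one. -/
theorem scalar_eq_one_of_cube {p : ℕ} [Fact p.Prime] [CharP F p] (h3p : 3 ≠ p)
    (h9 : ¬ 9 ∣ Fintype.card F - 1) (x : Matrix.SpecialLinearGroup (Fin 3) F) (z : F)
    (hz : ((x ^ 3 : Matrix.SpecialLinearGroup (Fin 3) F) : Matrix (Fin 3) (Fin 3) F)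
      = z • (1 : Matrix (Fin 3) (Fin 3) F)) : z = 1 := by
  classical
  have hA : (x : Matrix (Fin 3) (Fin 3) F) ^ 3 = z • (1 : Matrix (Fin 3) (Fin 3) F) := by
    rw [← Matrix.SpecialLinearGroup.coe_pow]
    exact hz
  have hz0 : z ≠ 0 := scalar_ne_zero (by norm_num) (x ^ 3) z hz
  by_cases hcube : ∃ lam : F, lam ^ 3 = z
  · obtain ⟨lam, rfl⟩ := hcube
    have hz3 : (lam ^ 3) ^ 3 = 1 := by
      have h1 := congrArg Matrix.det hz
      rw [Matrix.SpecialLinearGroup.det_coe, Matrix.det_smul, Matrix.det_one, mul_one,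
        Fintype.card_fin] at h1
      exact h1.symm
    have hlam0 : lam ≠ 0 := by
      rintro rfl
      exact hz0 (zero_pow (by norm_num))
    have hu : (Units.mk0 lam hlam0) ^ 9 = 1 := by
      apply Units.ext
      rw [Units.val_pow_eq_pow_val, Units.val_mk0, Units.val_one, ← hz3, ← pow_mul]
    have hd9 : orderOf (Units.mk0 lam hlam0) ∣ 3 ^ 2 := by
      have := orderOf_dvd_of_pow_eq_one hu
      norm_num
      exact this
    have hdq : orderOf (Units.mk0 lam hlam0) ∣ Fintype.card F - 1 := by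
      rw [← Fintype.card_units]
      exact orderOf_dvd_card
    obtain ⟨m, hm, hmo⟩ := (Nat.dvd_prime_pow Nat.prime_three).mp hd9
    have hm1 : m ≤ 1 := by
      by_contra hcon
      have hm2 : m = 2 := by omega
      rw [hm2] at hmo
      apply h9
      rw [show (9 : ℕ) = 3 ^ 2 by norm_num, ← hmo]
      exact hdq
    have hd3 : orderOf (Units.mk0 lam hlam0) ∣ 3 := by
      rw [hmo]
      interval_cases m <;> norm_num
    have h5 := orderOf_dvd_iff_pow_eq_one.mp hd3
    have h6 := congrArg Units.val h5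
    rw [Units.val_pow_eq_pow_val, Units.val_mk0, Units.val_one] at h6
    exact h6
  · have hc : ∀ μ : F, μ ^ 3 ≠ z := fun μ hμ => hcube ⟨μ, hμ⟩
    obtain ⟨e, he, hdet, -, -⟩ := nonsplit_type 3 Nat.prime_three h3p
      (x : Matrix (Fin 3) (Fin 3) F) z hz0 hc hA
    have he1 : e = 1 := by omega
    rw [he1, x.det_coe] at hdet
    linear_combination -hdet

end finite

end Cfsg.Agent.Lib.Helper99.FieldNorm
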