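import Cfsg.Agent.Lib.Helper99.SingerAlg

set_option autoImplicit false
set_option linter.style.haveILetI false

namespace Cfsg.Agent.Lib.Helper99

open Module

variable {F K : Type*} [Field F] [Fintype F] [Field K] [Fintype K] [Algebra F K]

/-- the set of underlying endomorphisms of a subgroup of units -/
def coeSet (U : Subgroup (Module.End F K)ˣ) : Set (Module.End F K) :=
  (fun t : (Module.End F K)ˣ => (t : Module.End F K)) '' (U : Set (Module.End F K)ˣ)

lemma ncard_coeSet (U : Subgroup (Module.End F K)ˣ) : (coeSet U).ncard = Nat.card U := by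
  unfold coeSet
  rw [Set.ncard_image_of_injective _ Units.val_injective]
  rfl

/-- Core: if `U` is abelian of order `|K| - 1` and contains an element acting irreducibly, then `U`
is conjugate to the Singer group. -/
theorem conj_singer_of_irreducible (U : Subgroup (Module.End F K)ˣ) (hU : IsMulCommutative U)
    (hcard : Nat.card U = Fintype.card K - 1) (u : (Module.End F K)ˣ) (hu : u ∈ U)
    (hirr : ∀ W : Submodule F K, (∀ w ∈ W, (u : Module.End F K) w ∈ W) → W = ⊥ ∨ W = ⊤) :
    ∃ g : (Module.End F K)ˣ, U.map (MulAut.conj g).toMonoidHom =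
      (Units.map ((Algebra.lmul F K : K →ₐ[F] Module.End F K) : K →* Module.End F K)).range := by
  classical
  set f : Module.End F K := (u : Module.End F K) with hf
  set A : Subalgebra F (Module.End F K) := Subalgebra.centralizer F {f} with hA
  have hAmem : ∀ T : Module.End F K, T ∈ A ↔ f * T = T * f := by
    intro T
    rw [hA, Subalgebra.mem_centralizer_iff]
    simp
  have hK1 : 1 ≤ Fintype.card K := Fintype.card_pos
  -- U' ⊆ A \ {0}
  have hsub : coeSet U ⊆ (A : Set (Module.End F K)) \ {0} := by
    rintro _ ⟨t, ht, rfl⟩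
    refine ⟨?_, ?_⟩
    · show (t : Module.End F K) ∈ A
      rw [hAmem]
      have hc : (⟨u, hu⟩ : U) * ⟨t, ht⟩ = ⟨t, ht⟩ * ⟨u, hu⟩ := hU.is_comm.comm _ _
      have hc' : u * t = t * u := congrArg Subtype.val hc
      have := congrArg Units.val hc'
      simpa using this
    · simp only [Set.mem_singleton_iff]
      exact t.ne_zero
  -- card A ≤ card K
  have hAfin : (A : Set (Module.End F K)).Finite := Set.toFinite _
  have hAle : (A : Set (Module.End F K)).ncard ≤ Fintype.card K := by
    have := Set.ncard_le_ncard_of_injOn (s := (A : Set (Module.End F K))) (t := (Set.univ : Set K))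
      (fun T => T 1) (fun _ _ => Set.mem_univ _)
      (fun T hT S hS h => eq_of_apply_one_eq f hirr ((hAmem T).mp hT) ((hAmem S).mp hS) h)
      Set.finite_univ
    simpa [Set.ncard_univ, Nat.card_eq_fintype_card] using this
  have h0A : (0 : Module.End F K) ∈ (A : Set (Module.End F K)) := A.zero_mem
  have hdiff : ((A : Set (Module.End F K)) \ {0}).ncard = (A : Set (Module.End F K)).ncard - 1 :=
    Set.ncard_sdiff_singleton_of_mem h0A
  have hUcard : (coeSet U).ncard = Fintype.card K - 1 := by rw [ncard_coeSet, hcard]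
  have hUeq : coeSet U = (A : Set (Module.End F K)) \ {0} := by
    apply Set.eq_of_subset_of_ncard_le hsub _ (hAfin.subset Set.sdiff_subset)
    rw [hdiff, hUcard]; omega
  have hAcard : (A : Set (Module.End F K)).ncard = Fintype.card K := by
    have h1 : (coeSet U).ncard = (A : Set (Module.End F K)).ncard - 1 := by rw [hUeq, hdiff]
    have h2 : 0 < (A : Set (Module.End F K)).ncard := Set.ncard_pos hAfin |>.mpr ⟨0, h0A⟩
    omega
  have hAnat : Nat.card A = Fintype.card K := by
    rw [← hAcard]; rfl
  -- commutativity and no zero divisors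
  have hcomm : ∀ x y : A, x * y = y * x := by
    intro x y
    by_cases hx : (x : Module.End F K) = 0
    · have : x = 0 := Subtype.ext hx
      subst this; simp
    by_cases hy : (y : Module.End F K) = 0
    · have : y = 0 := Subtype.ext hy
      subst this; simp
    have hx' : (x : Module.End F K) ∈ coeSet U := by rw [hUeq]; exact ⟨x.2, hx⟩
    have hy' : (y : Module.End F K) ∈ coeSet U := by rw [hUeq]; exact ⟨y.2, hy⟩
    obtain ⟨t, ht, htx⟩ := hx'
    obtain ⟨s, hs, hsy⟩ := hy'
    have hc : (⟨t, ht⟩ : U) * ⟨s, hs⟩ = ⟨s, hs⟩ * ⟨t, ht⟩ := hU.is_comm.comm _ _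
    have hc' : t * s = s * t := congrArg Subtype.val hc
    have hc'' := congrArg Units.val hc'
    apply Subtype.ext
    simp only [Units.val_mul] at hc''
    show (x : Module.End F K) * y = y * x
    rw [← htx, ← hsy]; exact hc''
  have hdom : ∀ x y : A, x * y = 0 → x = 0 ∨ y = 0 := by
    intro x y hxy
    by_cases hx : (x : Module.End F K) = 0
    · left; exact Subtype.ext hx
    right
    have hinj := injective_of_comm f hirr ((hAmem _).mp x.2) hx
    apply Subtype.ext
    ext v
    have h1 : (x : Module.End F K) ((y : Module.End F K) v) = 0 := by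
      have := congrArg (fun z : A => (z : Module.End F K) v) hxy
      simpa using this
    have : (y : Module.End F K) v = 0 := hinj (by rw [h1, map_zero])
    simpa using this
  obtain ⟨σ, hσ⟩ := exists_algHom_into A hcomm hdom hAnat
  have hσinj : Function.Injective σ := σ.toRingHom.injective
  -- ψ
  let ψ : K →ₗ[F] K := (LinearMap.applyₗ (1 : K)).comp σ.toLinearMap
  have hψ : ∀ x, ψ x = σ x 1 := fun x => rfl
  have hψinj : Function.Injective ψ := by
    intro x y hxy
    apply hσinj
    exact eq_of_apply_one_eq f hirr ((hAmem _).mp (hσ x)) ((hAmem _).mp (hσ y)) hxy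
  have hψbij : Function.Bijective ψ := ⟨hψinj, Finite.injective_iff_surjective.mp hψinj⟩
  let ψe : K ≃ₗ[F] K := LinearEquiv.ofBijective ψ hψbij
  let G : (Module.End F K)ˣ := LinearMap.GeneralLinearGroup.ofLinearEquiv ψe
  have hG : (G : Module.End F K) = ψ := by
    ext v; rfl
  have hint : ∀ x : K, σ x * ψ = ψ * Algebra.lmul F K x := by
    intro x
    ext y
    simp only [Module.End.mul_apply, hψ]
    have : (Algebra.lmul F K x) y = x * y := rfl
    rw [this, map_mul, Module.End.mul_apply]
  -- conjugation formula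
  have hconj : ∀ (x : K) (hx : x ≠ 0) (t : (Module.End F K)ˣ), (t : Module.End F K) = σ x →
      (MulAut.conj G⁻¹) t = Units.map ((Algebra.lmul F K : K →ₐ[F] Module.End F K) : K →* Module.End F K) (Units.mk0 x hx) := by
    intro x hx t ht
    rw [MulAut.conj_apply, inv_inv]
    apply Units.ext
    simp only [Units.val_mul, Units.coe_map, Units.val_mk0]
    have h1 : (G : Module.End F K) * Algebra.lmul F K x = (t : Module.End F K) * G := by
      rw [hG, ht, hint]
    calc ((G⁻¹ : (Module.End F K)ˣ) : Module.End F K) * t * G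
        = ((G⁻¹ : (Module.End F K)ˣ) : Module.End F K) * (t * G) := by rw [mul_assoc]
      _ = ((G⁻¹ : (Module.End F K)ˣ) : Module.End F K) * (G * Algebra.lmul F K x) := by rw [h1]
      _ = Algebra.lmul F K x := by rw [← mul_assoc, ← Units.val_mul, inv_mul_cancel, Units.val_one, one_mul]
  -- the image of σ on nonzero elements is exactly coeSet U
  have himg : σ '' {x : K | x ≠ 0} = coeSet U := by
    rw [hUeq]
    have hsub2 : σ '' {x : K | x ≠ 0} ⊆ (A : Set (Module.End F K)) \ {0} := by
      rintro _ ⟨x, hx, rfl⟩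
      refine ⟨hσ x, ?_⟩
      simp only [Set.mem_singleton_iff]
      intro h0
      exact hx (hσinj (by rw [h0, map_zero]))
    apply Set.eq_of_subset_of_ncard_le hsub2 _ (hAfin.subset Set.sdiff_subset)
    rw [Set.ncard_image_of_injective _ hσinj, hdiff, hAcard]
    have : {x : K | x ≠ 0} = (Set.univ : Set K) \ {0} := by ext; simp
    rw [this, Set.ncard_sdiff_singleton_of_mem (Set.mem_univ _), Set.ncard_univ, Nat.card_eq_fintype_card]
  refine ⟨G⁻¹, ?_⟩
  ext t
  constructor
  · rintro ⟨s, hs, rfl⟩
    have hs' : (s : Module.End F K) ∈ coeSet U := ⟨s, hs, rfl⟩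
    rw [← himg] at hs'
    obtain ⟨x, hx, hxs⟩ := hs'
    exact ⟨Units.mk0 x hx, (hconj x hx s hxs.symm).symm⟩
  · rintro ⟨x, rfl⟩
    have hx : (x : K) ≠ 0 := x.ne_zero
    have hmem : σ (x : K) ∈ coeSet U := by rw [← himg]; exact ⟨x, hx, rfl⟩
    obtain ⟨s, hs, hsx⟩ := hmem
    refine ⟨s, hs, ?_⟩
    have := hconj (x : K) hx s hsx
    rw [MulEquiv.coe_toMonoidHom, this]
    congr 1
    exact Units.ext rfl

end Cfsg.Agent.Lib.Helper99
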