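import Cfsg.Agent.Lib.Helper99.SingerIrred

set_option autoImplicit false
set_option linter.style.haveILetI false

namespace Cfsg.Agent.Lib.Helper99

open Module

section
variable {F K : Type*} [Field F] [Fintype F] [Field K] [Fintype K] [Algebra F K]

instance finite_end_h99 : Finite (Module.End F K) :=
  Finite.of_injective (fun f : Module.End F K => (f : K → K)) DFunLike.coe_injective

/-- A commutative subalgebra of `End_F(K)` without zero divisors and with as many elements as `K`
receives an `F`-algebra embedding of `K`. -/
lemma exists_algHom_into (A : Subalgebra F (Module.End F K)) (hcomm : ∀ x y : A, x * y = y * x)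
    (hdom : ∀ x y : A, x * y = 0 → x = 0 ∨ y = 0) (hcard : Nat.card A = Fintype.card K) :
    ∃ σ : K →ₐ[F] Module.End F K, ∀ x, σ x ∈ A := by
  classical
  letI : CommRing A := { (inferInstance : Ring A) with mul_comm := hcomm }
  haveI : NoZeroDivisors A := ⟨fun {a b} h => hdom a b h⟩
  haveI : IsDomain A := NoZeroDivisors.to_isDomain A
  haveI : Finite A := Finite.of_injective (fun a : A => (a : Module.End F K)) Subtype.val_injective
  haveI : Fintype A := Fintype.ofFinite A
  letI : Field A := Fintype.fieldOfDomain A
  have hfr : finrank F K = finrank F A := by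
    have h1 : Fintype.card K = Fintype.card F ^ finrank F K := Module.card_eq_pow_finrank
    have h2 : Fintype.card A = Fintype.card F ^ finrank F A := Module.card_eq_pow_finrank
    rw [Nat.card_eq_fintype_card, h1, h2] at hcard
    exact (Nat.pow_right_injective Fintype.one_lt_card hcard).symm
  obtain ⟨τ⟩ := FiniteField.nonempty_algHom_of_finrank_dvd (F := F) (K := K) (L := A) (by rw [hfr])
  exact ⟨A.val.comp τ, fun x => (τ x).2⟩

variable (f : Module.End F K)
    (hirr : ∀ W : Submodule F K, (∀ w ∈ W, f w ∈ W) → W = ⊥ ∨ W = ⊤)

include hirr in
/-- nonzero elements commuting with an irreducible `f` are injective -/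
lemma injective_of_comm {T : Module.End F K} (hT : f * T = T * f) (h0 : T ≠ 0) :
    Function.Injective T := by
  have hinv : ∀ w ∈ LinearMap.ker T, f w ∈ LinearMap.ker T := by
    intro w hw
    rw [LinearMap.mem_ker] at hw ⊢
    have : T (f w) = f (T w) := by
      have := congrArg (fun S : Module.End F K => S w) hT
      simpa using this.symm
    rw [this, hw, map_zero]
  rcases hirr _ hinv with h | h
  · exact LinearMap.ker_eq_bot.mp h
  · exfalso; apply h0
    exact LinearMap.ker_eq_top.mp h

include hirr in
lemma eq_of_apply_one_eq {T S : Module.End F K} (hT : f * T = T * f) (hS : f * S = S * f)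
    (h : T 1 = S 1) : T = S := by
  by_contra hne
  have hsub : f * (T - S) = (T - S) * f := by rw [mul_sub, sub_mul, hT, hS]
  have hinj := injective_of_comm f hirr hsub (sub_ne_zero.mpr hne)
  have : (T - S) 1 = (T - S) 0 := by simp [h]
  exact one_ne_zero (hinj this)

end

end Cfsg.Agent.Lib.Helper99
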