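import Mathlib

set_option autoImplicit false

namespace Cfsg.Agent.Lib.Helper99

open Module

variable {F V : Type*} [Field F] [AddCommGroup V] [Module F V] [Finite V]

/-- fixed point lemma: an invariant subspace whose cardinality is not `≡ 1 mod r` contains a nonzero
fixed vector of an endomorphism with `f^r = 1`. -/
lemma exists_fixed_ne_zero (f : Module.End F V) {r : ℕ} [hr : Fact r.Prime] (hfr : f ^ r = 1)
    (W : Submodule F V) (hW : ∀ w ∈ W, f w ∈ W) (hcard : ¬ r ∣ Nat.card W - 1) :
    ∃ w ∈ W, w ≠ 0 ∧ f w = w := by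
  classical
  have : Fintype W := Fintype.ofFinite W
  by_contra hcon
  push Not at hcon
  let g : Function.End W := fun w => ⟨f w.1, hW w.1 w.2⟩
  have hpow : ∀ j : ℕ, ∀ w : W, ((g ^ j) w : V) = (f ^ j) w.1 := by
    intro j
    induction j with
    | zero => intro w; rfl
    | succ j ih =>
      intro w
      rw [pow_succ, pow_succ]
      show ((g ^ j) (g w) : V) = (f ^ j) (f w.1)
      rw [ih]
  have hg : g ^ r ^ 1 = 1 := by
    rw [pow_one]
    funext w
    apply Subtype.ext
    rw [hpow, hfr]
    rfl
  have hmod := Equiv.Perm.card_fixedPoints_modEq (p := r) (n := 1) hg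
  have hfix : Fintype.card (Function.fixedPoints g) = 1 := by
    rw [Fintype.card_eq_one_iff]
    refine ⟨⟨0, ?_⟩, ?_⟩
    · show g 0 = 0
      apply Subtype.ext
      simp [g]
    · rintro ⟨w, hw⟩
      apply Subtype.ext
      apply Subtype.ext
      have hw' : g w = w := hw
      have h1 : f w.1 = w.1 := congrArg Subtype.val hw'
      by_contra hne
      exact hcon w.1 w.2 (fun h0 => hne (by simpa using h0)) h1
  rw [hfix] at hmod
  apply hcard
  rw [Nat.card_eq_fintype_card]
  exact (Nat.modEq_iff_dvd' Fintype.card_pos).mp hmod.symm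

end Cfsg.Agent.Lib.Helper99
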