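import Cfsg.Agent.Lib.Helper99.SingerFixed

set_option autoImplicit false

namespace Cfsg.Agent.Lib.Helper99

open Module

variable {F V : Type*} [Field F] [Fintype F] [AddCommGroup V] [Module F V] [Finite V]

lemma natCard_submodule (W : Submodule F V) : Nat.card W = Fintype.card F ^ finrank F W := by
  classical
  have : Fintype W := Fintype.ofFinite W
  rw [Nat.card_eq_fintype_card]
  exact Module.card_eq_pow_finrank

/-- An endomorphism of prime order `r`, where `r` is a primitive prime divisor of `q^n - 1`,
acts irreducibly on an `n`-dimensional space over the field with `q` elements. -/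
theorem irreducible_of_ppd (f : Module.End F V) {r : ℕ} [hr : Fact r.Prime] (hfr : f ^ r = 1)
    (hf1 : f ≠ 1) (hrF : (r : F) ≠ 0)
    (hprim : ∀ k : ℕ, 0 < k → k < finrank F V → ¬ r ∣ Fintype.card F ^ k - 1)
    (W : Submodule F V) (hW : ∀ w ∈ W, f w ∈ W) : W = ⊥ ∨ W = ⊤ := by
  have : FiniteDimensional F V := Module.Finite.of_finite
  -- Step 0
  have step0 : ∀ W : Submodule F V, (∀ w ∈ W, f w ∈ W) → W ≠ ⊥ → W ≠ ⊤ →
      ∃ w ∈ W, w ≠ 0 ∧ f w = w := by
    intro W hW h0 h1
    apply exists_fixed_ne_zero f hfr W hW
    rw [natCard_submodule]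
    apply hprim
    · exact Nat.pos_of_ne_zero (fun h => h0 (Submodule.finrank_eq_zero.mp h))
    · exact Submodule.finrank_lt h1
  -- Step 1
  set C : Submodule F V := LinearMap.ker (f - 1) with hC
  have hCmem : ∀ v, v ∈ C ↔ f v = v := by
    intro v
    rw [hC, LinearMap.mem_ker, LinearMap.sub_apply, sub_eq_zero]
    rfl
  have hCtop : C ≠ ⊤ := by
    intro h
    apply hf1
    ext v
    have : v ∈ C := by rw [h]; trivial
    rw [hCmem] at this
    simpa using this
  have hCbot : C = ⊥ := by
    by_contra hne
    set I : Submodule F V := LinearMap.range (f - 1) with hI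
    have hIinv : ∀ w ∈ I, f w ∈ I := by
      rintro w ⟨v, rfl⟩
      refine ⟨f v, ?_⟩
      simp [map_sub]
    have hrk := LinearMap.finrank_range_add_finrank_ker (f - 1)
    have hC0 : 0 < finrank F C := Nat.pos_of_ne_zero (fun h => hne (Submodule.finrank_eq_zero.mp h))
    have hCn : finrank F C < finrank F V := Submodule.finrank_lt hCtop
    have hI0 : I ≠ ⊥ := by
      intro h
      have : finrank F I = 0 := by rw [h]; simp
      rw [← hI, ← hC] at hrk
      omega
    have hI1 : I ≠ ⊤ := by
      intro h
      have : finrank F I = finrank F V := by rw [h]; simp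
      rw [← hI, ← hC] at hrk
      omega
    obtain ⟨w, ⟨v, hv⟩, hw0, hfw⟩ := step0 I hIinv hI0 hI1
    have hfv : f v = v + w := by
      rw [← hv]; simp
    have hpow : ∀ j : ℕ, (f ^ j) v = v + j • w := by
      intro j
      induction j with
      | zero => simp
      | succ j ih =>
        rw [pow_succ', Module.End.mul_apply, ih, map_add, map_nsmul, hfv, hfw, succ_nsmul]
        abel
    have h := hpow r
    rw [hfr] at h
    have h2 : (r : F) • w = 0 := by
      have : r • w = 0 := by simpa using h.symm
      rwa [← Nat.cast_smul_eq_nsmul F] at this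
    exact hw0 ((smul_eq_zero.mp h2).resolve_left hrF)
  -- Step 2
  by_contra hcon
  push Not at hcon
  obtain ⟨w, _, hw0, hfw⟩ := step0 W hW hcon.1 hcon.2
  have : w ∈ C := (hCmem w).mpr hfw
  rw [hCbot] at this
  exact hw0 (by simpa using this)

end Cfsg.Agent.Lib.Helper99
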