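import Cfsg.Agent.S1593

set_option autoImplicit false

/-!
# Monomial automorphisms of the length-12 ternary code: basic facts

`Pres σ c` says that the signed permutation `(σ, c)` preserves the code.  The permutation parts
form a subgroup `M0` of the symmetric group, contained in the automorphism group of the hexad
system.
-/

namespace Cfsg.Agent.Lib.Helper99.TG

open Cfsg Cfsg.Agent.Lib.Helper27
open scoped Pointwise

/-- build a map of the 12 positions from a table -/
def tbl (t : Fin 4 → Fin 3 → ArrayPt) (p : ArrayPt) : ArrayPt := t p.1 p.2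

/-- build a sign vector from a table -/
def stbl (t : Fin 4 → Fin 3 → (ZMod 3)ˣ) (p : ArrayPt) : (ZMod 3)ˣ := t p.1 p.2

/-- the monomial pair preserves the code -/
def Pres (σ : Equiv.Perm ArrayPt) (c : ArrayPt → (ZMod 3)ˣ) : Prop :=
  ∀ x ∈ ternaryGolayCode, monomialMap σ c x ∈ ternaryGolayCode

theorem pres_of_dec (σ : Equiv.Perm ArrayPt) (c : ArrayPt → (ZMod 3)ˣ)
    (h : ∀ p : P6, IsTGWordDec (monomialMap σ c (tgGen p))) : Pres σ c := by
  intro x hx
  obtain ⟨p, rfl⟩ := (mem_tg_iff_exists x).mp hx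
  exact (mem_tg_iff _).mpr (h p)

theorem monomialMap_comp (σ τ : Equiv.Perm ArrayPt) (c d : ArrayPt → (ZMod 3)ˣ)
    (x : ArrayPt → ZMod 3) :
    monomialMap σ c (monomialMap τ d x) =
      monomialMap (σ * τ) (fun i => c i * d (σ.symm i)) x := by
  funext i
  have h : (σ * τ).symm i = τ.symm (σ.symm i) := rfl
  simp only [monomialMap, Units.val_mul, h]
  ring

theorem monomialMap_one (x : ArrayPt → ZMod 3) :
    monomialMap (1 : Equiv.Perm ArrayPt) (fun _ => (1 : (ZMod 3)ˣ)) x = x := by
  funext i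
  have h : (1 : Equiv.Perm ArrayPt).symm i = i := rfl
  simp [monomialMap, h]

theorem Pres.mul {σ τ : Equiv.Perm ArrayPt} {c d : ArrayPt → (ZMod 3)ˣ}
    (hσ : Pres σ c) (hτ : Pres τ d) : Pres (σ * τ) (fun i => c i * d (σ.symm i)) := by
  intro x hx
  rw [← monomialMap_comp]
  exact hσ _ (hτ x hx)

theorem pres_one : Pres 1 (fun _ => 1) := by
  intro x hx
  rw [monomialMap_one]
  exact hx

theorem Pres.neg {σ : Equiv.Perm ArrayPt} {c : ArrayPt → (ZMod 3)ˣ} (h : Pres σ c) :
    Pres σ (fun i => -c i) := by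
  intro x hx
  have : monomialMap σ (fun i => -c i) x = -monomialMap σ c x := by
    funext i
    simp [monomialMap]
  rw [this]
  exact ternaryGolayCode.neg_mem (h x hx)

theorem exists_pres_pow {σ : Equiv.Perm ArrayPt} (h : ∃ c, Pres σ c) (n : ℕ) :
    ∃ c, Pres (σ ^ n) c := by
  induction n with
  | zero => exact ⟨_, by rw [pow_zero]; exact pres_one⟩
  | succ n ih =>
    obtain ⟨c, hc⟩ := h
    obtain ⟨d, hd⟩ := ih
    exact ⟨_, by rw [pow_succ]; exact hd.mul hc⟩

theorem exists_pres_inv {σ : Equiv.Perm ArrayPt} (h : ∃ c, Pres σ c) : ∃ c, Pres σ⁻¹ c := by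
  have h1 : σ ^ (orderOf σ - 1) * σ = 1 := by
    rw [← pow_succ, Nat.sub_add_cancel (orderOf_pos σ), pow_orderOf_eq_one]
  have h2 : σ⁻¹ = σ ^ (orderOf σ - 1) := inv_eq_of_mul_eq_one_left h1
  rw [h2]
  exact exists_pres_pow h _

/-- the permutation parts of the monomial automorphisms of the code -/
def M0 : Subgroup (Equiv.Perm ArrayPt) where
  carrier := {σ | ∃ c, Pres σ c}
  mul_mem' := by
    rintro σ τ ⟨c, hc⟩ ⟨d, hd⟩
    exact ⟨_, hc.mul hd⟩
  one_mem' := ⟨_, pres_one⟩
  inv_mem' := fun h => exists_pres_inv h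

theorem mem_M0 {σ : Equiv.Perm ArrayPt} : σ ∈ M0 ↔ ∃ c, Pres σ c := Iff.rfl

theorem mem_ternarySupport {x : ArrayPt → ZMod 3} {a : ArrayPt} :
    a ∈ ternarySupport x ↔ x a ≠ 0 := by
  simp [ternarySupport]

theorem support_monomialMap (σ : Equiv.Perm ArrayPt) (c : ArrayPt → (ZMod 3)ˣ)
    (x : ArrayPt → ZMod 3) :
    ternarySupport (monomialMap σ c x) = (ternarySupport x).image σ := by
  ext a
  rw [mem_ternarySupport, Finset.mem_image]
  have hm : monomialMap σ c x a = (c a : ZMod 3) * x (σ.symm a) := rfl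
  rw [hm]
  constructor
  · intro h
    refine ⟨σ.symm a, ?_, by simp⟩
    rw [mem_ternarySupport]
    intro h0
    apply h
    rw [h0, mul_zero]
  · rintro ⟨b, hb, rfl⟩
    rw [mem_ternarySupport] at hb
    rw [Equiv.symm_apply_apply]
    exact mul_ne_zero (Units.ne_zero _) hb

theorem smul_finset_eq (σ : Equiv.Perm ArrayPt) (b : Finset ArrayPt) : σ • b = b.image σ := rfl

theorem smul_hexSet_subset {σ : Equiv.Perm ArrayPt} (h : σ ∈ M0) : σ • hexSet ⊆ hexSet := by
  obtain ⟨c, hc⟩ := h
  rintro b' ⟨b, ⟨x, hx, rfl, h6⟩, rfl⟩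
  refine ⟨monomialMap σ c x, hc x hx, ?_, ?_⟩
  · rw [support_monomialMap]; rfl
  · show ((ternarySupport x).image σ).card = 6
    rw [Finset.card_image_of_injective _ σ.injective]
    exact h6

theorem M0_le_aut : M0 ≤ setSystemAut hexSet := by
  intro σ hσ
  rw [MulAction.mem_stabilizer_iff]
  apply Set.Subset.antisymm (smul_hexSet_subset hσ)
  rw [Set.subset_smul_set_iff]
  exact smul_hexSet_subset (M0.inv_mem hσ)

/-- two sign vectors for the same permutation differ by a global sign -/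
theorem pres_unique {σ : Equiv.Perm ArrayPt} {c c' : ArrayPt → (ZMod 3)ˣ}
    (h : Pres σ c) (h' : Pres σ c') : (∀ p, c' p = c p) ∨ (∀ p, c' p = -c p) := by
  obtain ⟨e, he⟩ := exists_pres_inv ⟨c, h⟩
  have k := he.mul h
  have k' := he.mul h'
  rw [inv_mul_cancel] at k k'
  have hs : ∀ i, (σ⁻¹ : Equiv.Perm ArrayPt).symm i = σ i := fun i => rfl
  simp only [hs] at k k'
  have r := Cfsg.Agent.S1593.result _ k
  have r' := Cfsg.Agent.S1593.result _ k'
  have key : ∀ p, ∃ i, σ i = p := fun p => ⟨σ.symm p, by simp⟩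
  rcases r with r | r <;> rcases r' with r' | r'
  · left
    intro p
    obtain ⟨i, rfl⟩ := key p
    have := (r i).trans (r' i).symm
    exact (mul_left_cancel this).symm
  · right
    intro p
    obtain ⟨i, rfl⟩ := key p
    have h1 := r i
    have h2 := r' i
    have : e i * c' (σ i) = e i * (-c (σ i)) := by rw [mul_neg, h1, h2]
    exact mul_left_cancel this
  · right
    intro p
    obtain ⟨i, rfl⟩ := key p
    have h1 := r i
    have h2 := r' i
    have : e i * c' (σ i) = e i * (-c (σ i)) := by rw [mul_neg, h1, h2, neg_neg]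
    exact mul_left_cancel this
  · left
    intro p
    obtain ⟨i, rfl⟩ := key p
    have := (r i).trans (r' i).symm
    exact (mul_left_cancel this).symm

end Cfsg.Agent.Lib.Helper99.TG
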