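import Cfsg.Agent.Lib.Helper99.TGBasic

set_option autoImplicit false

/-!
# Explicit monomial automorphisms of the length-12 ternary code and five-fold transitivity
-/

namespace Cfsg.Agent.Lib.Helper99.TG

open Cfsg Cfsg.Agent.Lib.Helper27

def g1F : ArrayPt → ArrayPt := tbl ![![(1,0),(1,1),(0,1)],![(2,0),(2,1),(0,2)],![(3,2),(3,1),(0,0)],![(3,0),(2,2),(1,2)]]
def g1I : ArrayPt → ArrayPt := tbl ![![(2,2),(0,2),(1,2)],![(0,0),(0,1),(3,2)],![(1,0),(1,1),(3,1)],![(3,0),(2,1),(2,0)]]
def g1 : Equiv.Perm ArrayPt := ⟨g1F, g1I, by decide, by decide⟩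
def g1C : ArrayPt → (ZMod 3)ˣ := stbl ![![1,1,1],![1,-1,-1],![1,-1,-1],![-1,1,-1]]
def g2F : ArrayPt → ArrayPt := tbl ![![(0,2),(0,1),(3,1)],![(0,0),(2,0),(1,2)],![(3,0),(1,1),(1,0)],![(3,2),(2,2),(2,1)]]
def g2I : ArrayPt → ArrayPt := tbl ![![(1,0),(0,1),(0,0)],![(2,2),(2,1),(1,2)],![(1,1),(3,2),(3,1)],![(2,0),(0,2),(3,0)]]
def g2 : Equiv.Perm ArrayPt := ⟨g2F, g2I, by decide, by decide⟩
def g2C : ArrayPt → (ZMod 3)ˣ := stbl ![![1,1,-1],![1,-1,1],![1,-1,1],![-1,-1,-1]]

set_option maxRecDepth 100000 in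
theorem g1_pres_dec : ∀ p : P6, IsTGWordDec (monomialMap g1 g1C (tgGen p)) := by
  decide +kernel

set_option maxRecDepth 100000 in
theorem g2_pres_dec : ∀ p : P6, IsTGWordDec (monomialMap g2 g2C (tgGen p)) := by
  decide +kernel

theorem g1_mem : g1 ∈ M0 := ⟨g1C, pres_of_dec _ _ g1_pres_dec⟩
theorem g2_mem : g2 ∈ M0 := ⟨g2C, pres_of_dec _ _ g2_pres_dec⟩

/-- the four letters: the two generators and their inverses -/
def gs : Fin 4 → Equiv.Perm ArrayPt := ![g1, g2, g1⁻¹, g2⁻¹]

/-- the four letters as plain functions -/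
def fs : Fin 4 → ArrayPt → ArrayPt := ![g1F, g2F, g1I, g2I]

theorem gs_mem (k : Fin 4) : gs k ∈ M0 := by
  fin_cases k
  · exact g1_mem
  · exact g2_mem
  · exact M0.inv_mem g1_mem
  · exact M0.inv_mem g2_mem

theorem gs_apply (k : Fin 4) (p : ArrayPt) : gs k p = fs k p := by
  fin_cases k <;> rfl

/-- the product of a word in the letters -/
def wordProd : List (Fin 4) → Equiv.Perm ArrayPt
  | [] => 1
  | k :: l => gs k * wordProd l

/-- the action of a word on a position -/
def wordAct : List (Fin 4) → ArrayPt → ArrayPt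
  | [], p => p
  | k :: l, p => fs k (wordAct l p)

theorem wordProd_mem (l : List (Fin 4)) : wordProd l ∈ M0 := by
  induction l with
  | nil => exact M0.one_mem
  | cons k l ih => exact M0.mul_mem (gs_mem k) ih

theorem wordProd_apply (l : List (Fin 4)) (p : ArrayPt) : wordProd l p = wordAct l p := by
  induction l with
  | nil => rfl
  | cons k l ih =>
    show gs k (wordProd l p) = fs k (wordAct l p)
    rw [ih, gs_apply]

/-- the five base positions -/
def basePt : Fin 5 → ArrayPt := ![(0,0),(0,1),(0,2),(1,0),(1,1)]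

theorem pt_cases' (p : ArrayPt) : p = (0,0) ∨ p = (0,1) ∨ p = (0,2) ∨ p = (1,0) ∨ p = (1,1) ∨ p = (1,2) ∨
    p = (2,0) ∨ p = (2,1) ∨ p = (2,2) ∨ p = (3,0) ∨ p = (3,1) ∨ p = (3,2) := by
  revert p; decide

theorem chain_of_word (k : Fin 5) (q : ArrayPt) (l : List (Fin 4))
    (h1 : ∀ i : Fin 5, i.val < k.val → wordAct l (basePt i) = basePt i)
    (h2 : wordAct l (basePt k) = q) :
    ∃ σ ∈ M0, (∀ i : Fin 5, i.val < k.val → σ (basePt i) = basePt i) ∧ σ (basePt k) = q :=
  ⟨wordProd l, wordProd_mem l, fun i hi => by rw [wordProd_apply]; exact h1 i hi, by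
    rw [wordProd_apply]; exact h2⟩

theorem chain0 (q : ArrayPt) (hq : ∀ i : Fin 5, i.val < 0 → q ≠ basePt i) :
    ∃ σ ∈ M0, (∀ i : Fin 5, i.val < 0 → σ (basePt i) = basePt i) ∧ σ (basePt 0) = q := by
  rcases pt_cases' q with rfl | rfl | rfl | rfl | rfl | rfl | rfl | rfl | rfl | rfl | rfl | rfl
  · exact chain_of_word 0 _ [] (by decide) (by decide)
  · exact chain_of_word 0 _ [0,1] (by decide) (by decide)
  · exact chain_of_word 0 _ [1] (by decide) (by decide)
  · exact chain_of_word 0 _ [0] (by decide) (by decide)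
  · exact chain_of_word 0 _ [0,0,1] (by decide) (by decide)
  · exact chain_of_word 0 _ [2,1] (by decide) (by decide)
  · exact chain_of_word 0 _ [0,0] (by decide) (by decide)
  · exact chain_of_word 0 _ [2,1,1] (by decide) (by decide)
  · exact chain_of_word 0 _ [2] (by decide) (by decide)
  · exact chain_of_word 0 _ [1,0,0] (by decide) (by decide)
  · exact chain_of_word 0 _ [1,1] (by decide) (by decide)
  · exact chain_of_word 0 _ [0,0,0] (by decide) (by decide)

theorem chain1 (q : ArrayPt) (hq : ∀ i : Fin 5, i.val < 1 → q ≠ basePt i) :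
    ∃ σ ∈ M0, (∀ i : Fin 5, i.val < 1 → σ (basePt i) = basePt i) ∧ σ (basePt 1) = q := by
  rcases pt_cases' q with rfl | rfl | rfl | rfl | rfl | rfl | rfl | rfl | rfl | rfl | rfl | rfl
  · exact absurd rfl (hq 0 (by decide))
  · exact chain_of_word 1 _ [] (by decide) (by decide)
  · exact chain_of_word 1 _ [2,3] (by decide) (by decide)
  · exact chain_of_word 1 _ [1,0,0,3,0] (by decide) (by decide)
  · exact chain_of_word 1 _ [0,3,3] (by decide) (by decide)
  · exact chain_of_word 1 _ [3,3,2,2] (by decide) (by decide)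
  · exact chain_of_word 1 _ [1,0] (by decide) (by decide)
  · exact chain_of_word 1 _ [2,1,2] (by decide) (by decide)
  · exact chain_of_word 1 _ [1,1,2] (by decide) (by decide)
  · exact chain_of_word 1 _ [0,3,0,1,0] (by decide) (by decide)
  · exact chain_of_word 1 _ [0,3,0] (by decide) (by decide)
  · exact chain_of_word 1 _ [0,1,2,3,0] (by decide) (by decide)

theorem chain2 (q : ArrayPt) (hq : ∀ i : Fin 5, i.val < 2 → q ≠ basePt i) :
    ∃ σ ∈ M0, (∀ i : Fin 5, i.val < 2 → σ (basePt i) = basePt i) ∧ σ (basePt 2) = q := by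
  rcases pt_cases' q with rfl | rfl | rfl | rfl | rfl | rfl | rfl | rfl | rfl | rfl | rfl | rfl
  · exact absurd rfl (hq 0 (by decide))
  · exact absurd rfl (hq 1 (by decide))
  · exact chain_of_word 2 _ [] (by decide) (by decide)
  · exact chain_of_word 2 _ [1,0,0,1,2,2] (by decide) (by decide)
  · exact chain_of_word 2 _ [0,0,3,2,2,3] (by decide) (by decide)
  · exact chain_of_word 2 _ [1,2,1,0,0,1] (by decide) (by decide)
  · exact chain_of_word 2 _ [3,0,3,0,0,0,3] (by decide) (by decide)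
  · exact chain_of_word 2 _ [0,1,0,1,0,0,0] (by decide) (by decide)
  · exact chain_of_word 2 _ [0,0,3,0,3,3,0] (by decide) (by decide)
  · exact chain_of_word 2 _ [0,3,0,1,0,1,0] (by decide) (by decide)
  · exact chain_of_word 2 _ [3,2,3,0,3,3,2] (by decide) (by decide)
  · exact chain_of_word 2 _ [3,2,2,3,0,3] (by decide) (by decide)

theorem chain3 (q : ArrayPt) (hq : ∀ i : Fin 5, i.val < 3 → q ≠ basePt i) :
    ∃ σ ∈ M0, (∀ i : Fin 5, i.val < 3 → σ (basePt i) = basePt i) ∧ σ (basePt 3) = q := by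
  rcases pt_cases' q with rfl | rfl | rfl | rfl | rfl | rfl | rfl | rfl | rfl | rfl | rfl | rfl
  · exact absurd rfl (hq 0 (by decide))
  · exact absurd rfl (hq 1 (by decide))
  · exact absurd rfl (hq 2 (by decide))
  · exact chain_of_word 3 _ [] (by decide) (by decide)
  · exact chain_of_word 3 _ [0,3,0,3,2,3,0,1] (by decide) (by decide)
  · exact chain_of_word 3 _ [0,1,2,2,1,0] (by decide) (by decide)
  · exact chain_of_word 3 _ [0,1,2,3,3,2,3] (by decide) (by decide)
  · exact chain_of_word 3 _ [3,2,1,2,1,2,1,1] (by decide) (by decide)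
  · exact chain_of_word 3 _ [1,0,1,1,2,1,0] (by decide) (by decide)
  · exact chain_of_word 3 _ [2,3,0,0,3,2] (by decide) (by decide)
  · exact chain_of_word 3 _ [2,3,0,3,3,2,3] (by decide) (by decide)
  · exact chain_of_word 3 _ [3,2,1,0,1,2,1,2] (by decide) (by decide)

theorem chain4 (q : ArrayPt) (hq : ∀ i : Fin 5, i.val < 4 → q ≠ basePt i) :
    ∃ σ ∈ M0, (∀ i : Fin 5, i.val < 4 → σ (basePt i) = basePt i) ∧ σ (basePt 4) = q := by
  rcases pt_cases' q with rfl | rfl | rfl | rfl | rfl | rfl | rfl | rfl | rfl | rfl | rfl | rfl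
  · exact absurd rfl (hq 0 (by decide))
  · exact absurd rfl (hq 1 (by decide))
  · exact absurd rfl (hq 2 (by decide))
  · exact absurd rfl (hq 3 (by decide))
  · exact chain_of_word 4 _ [] (by decide) (by decide)
  · exact chain_of_word 4 _ [0,0,3,2,1,0,0,3,0,0,3,0] (by decide) (by decide)
  · exact chain_of_word 4 _ [1,1,2,1,1,0,1,1,2,1,2] (by decide) (by decide)
  · exact chain_of_word 4 _ [0,0,0,0,3,0,1,1,2,3,0] (by decide) (by decide)
  · exact chain_of_word 4 _ [0,1,1,0,3,2,1] (by decide) (by decide)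
  · exact chain_of_word 4 _ [0,3,0,3,3,2,3,3,0,3,3] (by decide) (by decide)
  · exact chain_of_word 4 _ [3,0,1,2,3,3,2] (by decide) (by decide)
  · exact chain_of_word 4 _ [0,3,0,1,0,3,3,2,2,2,3] (by decide) (by decide)

end Cfsg.Agent.Lib.Helper99.TG
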