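import Cfsg.Agent.Lib.Helper99.TGStab
import Cfsg.Agent.Lib.Helper99.TGGens

set_option autoImplicit false

/-!
# The monomial automorphism group of the length-12 ternary code

The permutation parts `M0` of the monomial automorphisms coincide with the automorphism group of
the hexad system, which has order 95040; the monomial group itself has order 190080.
-/

namespace Cfsg.Agent.Lib.Helper99.TG

open Cfsg Cfsg.Agent.Lib.Helper27

theorem basePt_injective : Function.Injective basePt := by decide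

theorem step (k : Fin 5) (f : Fin 5 ↪ ArrayPt) (τ : Equiv.Perm ArrayPt) (hτ : τ ∈ M0)
    (hτf : ∀ i : Fin 5, i.val < k.val → τ (basePt i) = f i)
    (chain : ∀ q : ArrayPt, (∀ i : Fin 5, i.val < k.val → q ≠ basePt i) →
      ∃ σ ∈ M0, (∀ i : Fin 5, i.val < k.val → σ (basePt i) = basePt i) ∧ σ (basePt k) = q) :
    ∃ τ' ∈ M0, ∀ i : Fin 5, i.val < k.val + 1 → τ' (basePt i) = f i := by
  have hq : ∀ i : Fin 5, i.val < k.val → τ.symm (f k) ≠ basePt i := by
    intro i hi h
    have h1 : f k = τ (basePt i) := by rw [← h]; simp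
    rw [hτf i hi] at h1
    have := f.injective h1
    rw [this] at hi
    exact lt_irrefl _ hi
  obtain ⟨σ, hσ, hσ1, hσ2⟩ := chain _ hq
  refine ⟨τ * σ, M0.mul_mem hτ hσ, fun i hi => ?_⟩
  rcases Nat.lt_succ_iff_lt_or_eq.mp hi with h | h
  · show τ (σ (basePt i)) = f i
    rw [hσ1 i h, hτf i h]
  · have : i = k := Fin.ext h
    subst this
    show τ (σ (basePt i)) = f i
    rw [hσ2]; simp

theorem exists_M0_map (f : Fin 5 ↪ ArrayPt) : ∃ σ ∈ M0, ∀ i, σ (basePt i) = f i := by
  obtain ⟨t1, ht1, e1⟩ := step 0 f 1 M0.one_mem (fun i hi => absurd hi (Nat.not_lt_zero _)) chain0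
  obtain ⟨t2, ht2, e2⟩ := step 1 f t1 ht1 e1 chain1
  obtain ⟨t3, ht3, e3⟩ := step 2 f t2 ht2 e2 chain2
  obtain ⟨t4, ht4, e4⟩ := step 3 f t3 ht3 e3 chain3
  obtain ⟨t5, ht5, e5⟩ := step 4 f t4 ht4 e4 chain4
  exact ⟨t5, ht5, fun i => e5 i i.isLt⟩

theorem stab_trivial' {σ : Equiv.Perm ArrayPt} (hσ : σ ∈ setSystemAut hexSet)
    (h : ∀ i, σ (basePt i) = basePt i) : σ = 1 :=
  stab_trivial hσ (h 0) (h 1) (h 2) (h 3) (h 4)

theorem aut_eq_M0 : setSystemAut hexSet = M0 := by
  apply le_antisymm _ M0_le_aut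
  intro σ hσ
  let f : Fin 5 ↪ ArrayPt := ⟨fun i => σ (basePt i), fun i j hij =>
    basePt_injective (σ.injective hij)⟩
  obtain ⟨τ, hτ, hτf⟩ := exists_M0_map f
  have h1 : τ⁻¹ * σ = 1 := by
    apply stab_trivial' ((setSystemAut hexSet).mul_mem
      ((setSystemAut hexSet).inv_mem (M0_le_aut hτ)) hσ)
    intro i
    show τ⁻¹ (σ (basePt i)) = basePt i
    have : σ (basePt i) = τ (basePt i) := (hτf i).symm
    rw [this]
    simp
  have h2 : σ = τ := by
    have := congrArg (fun x => τ * x) h1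
    simpa using this
  rw [h2]; exact hτ

theorem card_M0 : Nat.card M0 = 95040 := by
  have hbij : Function.Bijective (fun σ : M0 => (⟨fun i => σ.1 (basePt i), fun i j hij =>
      basePt_injective (σ.1.injective hij)⟩ : Fin 5 ↪ ArrayPt)) := by
    constructor
    · intro σ τ h
      have hf : ∀ i, σ.1 (basePt i) = τ.1 (basePt i) := fun i =>
        congrArg (fun g : Fin 5 ↪ ArrayPt => g i) h
      have h1 : τ.1⁻¹ * σ.1 = 1 := by
        apply stab_trivial' (M0_le_aut (M0.mul_mem (M0.inv_mem τ.2) σ.2))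
        intro i
        show τ.1⁻¹ (σ.1 (basePt i)) = basePt i
        rw [hf i]
        simp
      have h2 : σ.1 = τ.1 := by
        have := congrArg (fun x => τ.1 * x) h1
        simpa using this
      exact Subtype.ext h2
    · intro f
      obtain ⟨σ, hσ, hσf⟩ := exists_M0_map f
      refine ⟨⟨σ, hσ⟩, ?_⟩
      apply Function.Embedding.ext
      intro i
      exact hσf i
  rw [Nat.card_eq_of_bijective _ hbij, Nat.card_eq_fintype_card, Fintype.card_embedding_eq,
    card_arraypt, Fintype.card_fin]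
  rfl

theorem units_neg_ne : ∀ u : (ZMod 3)ˣ, -u ≠ u := by decide

theorem units_eq_neg_of_ne : ∀ u v : (ZMod 3)ˣ, v ≠ u → -v = u := by decide

/-- the monomial automorphisms of the code -/
abbrev MonoAut : Type :=
  {f : Equiv.Perm ArrayPt × (ArrayPt → (ZMod 3)ˣ) //
    ∀ x ∈ ternaryGolayCode, monomialMap f.1 f.2 x ∈ ternaryGolayCode}

theorem card_monoAut : Nat.card MonoAut = 190080 := by
  have hbij : Function.Bijective (fun f : MonoAut =>
      ((⟨f.1.1, ⟨f.1.2, f.2⟩⟩ : M0), f.1.2 (0,0))) := by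
    constructor
    · rintro ⟨⟨σ, c⟩, hc⟩ ⟨⟨σ', c'⟩, hc'⟩ h
      simp only [Prod.mk.injEq] at h
      obtain ⟨h1, h2⟩ := h
      have h1' : σ = σ' := congrArg Subtype.val h1
      subst h1'
      have hcc : c' = c := by
        rcases pres_unique hc hc' with h3 | h3
        · exact funext h3
        · exfalso
          have : c' (0,0) = -c (0,0) := h3 (0,0)
          rw [← h2] at this
          exact units_neg_ne _ this.symm
      subst hcc
      rfl
    · rintro ⟨⟨σ, c, hc⟩, u⟩
      by_cases h : c (0,0) = u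
      · exact ⟨⟨(σ, c), hc⟩, by simp [h]⟩
      · refine ⟨⟨(σ, fun i => -c i), hc.neg⟩, ?_⟩
        simp only [Prod.mk.injEq, true_and]
        exact units_eq_neg_of_ne _ _ h
  rw [Nat.card_eq_of_bijective _ hbij, Nat.card_prod, card_M0, Nat.card_eq_fintype_card]
  rfl

end Cfsg.Agent.Lib.Helper99.TG
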