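import Cfsg.Agent.Lib.Helper99.TGBasic

/-!
# Pointwise stabiliser of five points in the automorphism group of the hexad system is trivial
-/

set_option autoImplicit false

namespace Cfsg.Agent.Lib.Helper99.TG

open Cfsg Cfsg.Agent.Lib.Helper27
open scoped Pointwise

theorem hex_mem_of (p : P6) (b : Finset ArrayPt) (h : ternarySupport (tgGen p) = b)
    (h6 : b.card = 6) : b ∈ hexF :=
  hexF_mem_iff.mpr ⟨tgGen p, tgGen_mem p, h, h6⟩

theorem image_mem_hexF {σ : Equiv.Perm ArrayPt} (hσ : σ ∈ setSystemAut hexSet)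
    {b : Finset ArrayPt} (hb : b ∈ hexF) : b.image σ ∈ hexF := by
  have h1 : σ • hexSet = hexSet := MulAction.mem_stabilizer_iff.mp hσ
  have h2 : b ∈ hexSet := by rw [hexSet_eq]; exact hb
  have h3 : σ • b ∈ σ • hexSet := Set.smul_mem_smul_set h2
  rw [h1, hexSet_eq] at h3
  exact h3

theorem image_eq_of_five {σ : Equiv.Perm ArrayPt} (hσ : σ ∈ setSystemAut hexSet)
    {b b' : Finset ArrayPt} (hb : b ∈ hexF) (hb' : b' ∈ hexF) (s : Finset ArrayPt)
    (hs : 5 ≤ s.card) (hsb : s ⊆ b) (hsb' : s.image σ ⊆ b') : b.image σ = b' := by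
  by_contra hne
  have h1 := hexF_inter (image_mem_hexF hσ hb) hb' hne
  have h2 : s.image σ ⊆ b.image σ ∩ b' :=
    Finset.subset_inter (Finset.image_subset_image hsb) hsb'
  have h3 := Finset.card_le_card h2
  rw [Finset.card_image_of_injective _ σ.injective] at h3
  omega

theorem propagate {σ : Equiv.Perm ArrayPt} (hσ : σ ∈ setSystemAut hexSet)
    {b b' : Finset ArrayPt} (hb : b ∈ hexF) (hb' : b' ∈ hexF)
    (F : Finset ArrayPt) (hF : ∀ p ∈ F, σ p = p) (hFc : F.card = 4) (a a2 a' a2' : ArrayPt)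
    (hbe : b = insert a (insert a2 F)) (hb'e : b' = insert a' (insert a2' F)) (ha : σ a = a') :
    σ a2 = a2' := by
  have h6 := hexF_card_mem hb
  have ha2F : a2 ∉ F := by
    intro h
    rw [hbe, Finset.insert_eq_of_mem h] at h6
    have := Finset.card_insert_le a F
    omega
  have haF : a ∉ insert a2 F := by
    intro h
    rw [hbe, Finset.insert_eq_of_mem h] at h6
    have := Finset.card_insert_le a2 F
    omega
  have hFim : F.image σ = F := by
    ext p
    rw [Finset.mem_image]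
    constructor
    · rintro ⟨q, hq, rfl⟩
      rw [hF q hq]; exact hq
    · intro hp
      exact ⟨p, hp, hF p hp⟩
  have hs5 : 5 ≤ (insert a F).card := by
    rw [Finset.card_insert_of_notMem (fun h => haF (Finset.mem_insert_of_mem h)), hFc]
  have hsb : insert a F ⊆ b := by
    rw [hbe]
    intro p hp
    rcases Finset.mem_insert.mp hp with rfl | hp
    · exact Finset.mem_insert_self _ _
    · exact Finset.mem_insert_of_mem (Finset.mem_insert_of_mem hp)
  have hsb' : (insert a F).image σ ⊆ b' := by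
    rw [Finset.image_insert, hFim, ha, hb'e]
    intro p hp
    rcases Finset.mem_insert.mp hp with rfl | hp
    · exact Finset.mem_insert_self _ _
    · exact Finset.mem_insert_of_mem (Finset.mem_insert_of_mem hp)
  have himg := image_eq_of_five hσ hb hb' _ hs5 hsb hsb'
  have hmem : σ a2 ∈ b' := by
    rw [← himg, hbe]
    exact Finset.mem_image_of_mem _ (Finset.mem_insert_of_mem (Finset.mem_insert_self _ _))
  rw [hb'e] at hmem
  rcases Finset.mem_insert.mp hmem with h | h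
  · exfalso
    rw [← ha] at h
    have := σ.injective h
    exact haF (this ▸ Finset.mem_insert_self _ _)
  rcases Finset.mem_insert.mp h with h | h
  · exact h
  · exfalso
    have : σ a2 = σ (σ a2) := (hF _ h).symm
    have := σ.injective this
    exact ha2F (this ▸ h)


theorem pt_cases (p : ArrayPt) : p = (0,0) ∨ p = (0,1) ∨ p = (0,2) ∨ p = (1,0) ∨ p = (1,1) ∨ p = (1,2) ∨
    p = (2,0) ∨ p = (2,1) ∨ p = (2,2) ∨ p = (3,0) ∨ p = (3,1) ∨ p = (3,2) := by
  revert p; decide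
theorem hx_0_1_2_3_4_5 : ({(0,0),(0,1),(0,2),(1,0),(1,1),(1,2)} : Finset ArrayPt) ∈ hexF :=
  hex_mem_of (1,1,1,2,2,0) _ (by decide +kernel) (by decide)
theorem hx_0_1_3_4_6_8 : ({(0,0),(0,1),(1,0),(1,1),(2,0),(2,2)} : Finset ArrayPt) ∈ hexF :=
  hex_mem_of (1,2,0,1,2,1) _ (by decide +kernel) (by decide)
theorem hx_0_1_3_4_7_9 : ({(0,0),(0,1),(1,0),(1,1),(2,1),(3,0)} : Finset ArrayPt) ∈ hexF :=
  hex_mem_of (1,1,0,1,1,0) _ (by decide +kernel) (by decide)
theorem hx_0_2_4_5_6_8 : ({(0,0),(0,2),(1,1),(1,2),(2,0),(2,2)} : Finset ArrayPt) ∈ hexF :=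
  hex_mem_of (1,0,2,0,2,2) _ (by decide +kernel) (by decide)
theorem hx_0_2_4_5_7_11 : ({(0,0),(0,2),(1,1),(1,2),(2,1),(3,2)} : Finset ArrayPt) ∈ hexF :=
  hex_mem_of (1,0,1,0,1,0) _ (by decide +kernel) (by decide)
theorem hx_0_1_4_5_6_7 : ({(0,0),(0,1),(1,1),(1,2),(2,0),(2,1)} : Finset ArrayPt) ∈ hexF :=
  hex_mem_of (1,2,0,0,1,2) _ (by decide +kernel) (by decide)
theorem hx_0_1_4_5_8_10 : ({(0,0),(0,1),(1,1),(1,2),(2,2),(3,1)} : Finset ArrayPt) ∈ hexF :=
  hex_mem_of (1,1,0,0,1,0) _ (by decide +kernel) (by decide)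
theorem hx_0_2_3_5_6_7 : ({(0,0),(0,2),(1,0),(1,2),(2,0),(2,1)} : Finset ArrayPt) ∈ hexF :=
  hex_mem_of (1,0,2,1,0,1) _ (by decide +kernel) (by decide)
theorem hx_0_2_3_5_8_9 : ({(0,0),(0,2),(1,0),(1,2),(2,2),(3,0)} : Finset ArrayPt) ∈ hexF :=
  hex_mem_of (1,0,1,1,0,0) _ (by decide +kernel) (by decide)
theorem hx_0_1_4_5_9_11 : ({(0,0),(0,1),(1,1),(1,2),(3,0),(3,2)} : Finset ArrayPt) ∈ hexF :=
  hex_mem_of (1,2,0,0,2,0) _ (by decide +kernel) (by decide)
theorem hx_0_2_3_5_10_11 : ({(0,0),(0,2),(1,0),(1,2),(3,1),(3,2)} : Finset ArrayPt) ∈ hexF :=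
  hex_mem_of (1,0,2,2,0,0) _ (by decide +kernel) (by decide)
theorem hx_0_1_2_3_6_9 : ({(0,0),(0,1),(0,2),(1,0),(2,0),(3,0)} : Finset ArrayPt) ∈ hexF :=
  hex_mem_of (1,2,2,2,0,2) _ (by decide +kernel) (by decide)
theorem hx_0_1_2_5_6_10 : ({(0,0),(0,1),(0,2),(1,2),(2,0),(3,1)} : Finset ArrayPt) ∈ hexF :=
  hex_mem_of (1,2,1,0,0,1) _ (by decide +kernel) (by decide)
theorem hx_0_1_2_4_6_11 : ({(0,0),(0,1),(0,2),(1,1),(2,0),(3,2)} : Finset ArrayPt) ∈ hexF :=
  hex_mem_of (1,1,2,0,1,1) _ (by decide +kernel) (by decide)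

theorem stab_trivial {σ : Equiv.Perm ArrayPt} (hσ : σ ∈ setSystemAut hexSet)
    (h0 : σ (0,0) = (0,0)) (h1 : σ (0,1) = (0,1)) (h2 : σ (0,2) = (0,2))
    (h3 : σ (1,0) = (1,0)) (h4 : σ (1,1) = (1,1)) : σ = 1 := by
  have h5 : σ (1,2) = (1,2) :=
    propagate hσ hx_0_1_2_3_4_5 hx_0_1_2_3_4_5 {(0,0),(0,1),(0,2),(1,0)} (by
      intro p hp
      simp only [Finset.mem_insert, Finset.mem_singleton] at hp
      rcases hp with rfl | rfl | rfl | rfl <;> assumption) (by decide) (1,1) (1,2) (1,1) (1,2)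
      (by decide) (by decide) h4
  have fixH : ∀ p ∈ ({(0,0),(0,1),(0,2),(1,0),(1,1),(1,2)} : Finset ArrayPt), σ p = p := by
    intro p hp
    simp only [Finset.mem_insert, Finset.mem_singleton] at hp
    rcases hp with rfl | rfl | rfl | rfl | rfl | rfl <;> assumption
  have h6 : σ (2,0) = (2,0) := by
    rcases pt_cases (σ (2,0)) with h | h | h | h | h | h | h | h | h | h | h | h
    · exact absurd (σ.injective (h.trans h0.symm)) (by decide)
    · exact absurd (σ.injective (h.trans h1.symm)) (by decide)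
    · exact absurd (σ.injective (h.trans h2.symm)) (by decide)
    · exact absurd (σ.injective (h.trans h3.symm)) (by decide)
    · exact absurd (σ.injective (h.trans h4.symm)) (by decide)
    · exact absurd (σ.injective (h.trans h5.symm)) (by decide)
    · exact h
    · have e1 := propagate hσ hx_0_1_3_4_6_8 hx_0_1_3_4_7_9 {(0,0),(0,1),(1,0),(1,1)} (fun p hp => fixH p (Finset.mem_of_subset (by decide) hp)) (by decide) (2,0) (2,2) (2,1) (3,0) (by decide) (by decide) h
      have e2 := propagate hσ hx_0_2_4_5_6_8 hx_0_2_4_5_7_11 {(0,0),(0,2),(1,1),(1,2)} (fun p hp => fixH p (Finset.mem_of_subset (by decide) hp)) (by decide) (2,0) (2,2) (2,1) (3,2) (by decide) (by decide) h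
      exact absurd (e1.symm.trans e2) (by decide)
    · have e1 := propagate hσ hx_0_1_4_5_6_7 hx_0_1_4_5_8_10 {(0,0),(0,1),(1,1),(1,2)} (fun p hp => fixH p (Finset.mem_of_subset (by decide) hp)) (by decide) (2,0) (2,1) (2,2) (3,1) (by decide) (by decide) h
      have e2 := propagate hσ hx_0_2_3_5_6_7 hx_0_2_3_5_8_9 {(0,0),(0,2),(1,0),(1,2)} (fun p hp => fixH p (Finset.mem_of_subset (by decide) hp)) (by decide) (2,0) (2,1) (2,2) (3,0) (by decide) (by decide) h
      exact absurd (e1.symm.trans e2) (by decide)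
    · have e1 := propagate hσ hx_0_1_4_5_6_7 hx_0_1_4_5_9_11 {(0,0),(0,1),(1,1),(1,2)} (fun p hp => fixH p (Finset.mem_of_subset (by decide) hp)) (by decide) (2,0) (2,1) (3,0) (3,2) (by decide) (by decide) h
      have e2 := propagate hσ hx_0_2_3_5_6_7 hx_0_2_3_5_8_9 {(0,0),(0,2),(1,0),(1,2)} (fun p hp => fixH p (Finset.mem_of_subset (by decide) hp)) (by decide) (2,0) (2,1) (3,0) (2,2) (by decide) (by decide) h
      exact absurd (e1.symm.trans e2) (by decide)
    · have e1 := propagate hσ hx_0_1_4_5_6_7 hx_0_1_4_5_8_10 {(0,0),(0,1),(1,1),(1,2)} (fun p hp => fixH p (Finset.mem_of_subset (by decide) hp)) (by decide) (2,0) (2,1) (3,1) (2,2) (by decide) (by decide) h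
      have e2 := propagate hσ hx_0_2_3_5_6_7 hx_0_2_3_5_10_11 {(0,0),(0,2),(1,0),(1,2)} (fun p hp => fixH p (Finset.mem_of_subset (by decide) hp)) (by decide) (2,0) (2,1) (3,1) (3,2) (by decide) (by decide) h
      exact absurd (e1.symm.trans e2) (by decide)
    · have e1 := propagate hσ hx_0_1_4_5_6_7 hx_0_1_4_5_9_11 {(0,0),(0,1),(1,1),(1,2)} (fun p hp => fixH p (Finset.mem_of_subset (by decide) hp)) (by decide) (2,0) (2,1) (3,2) (3,0) (by decide) (by decide) h
      have e2 := propagate hσ hx_0_2_3_5_6_7 hx_0_2_3_5_10_11 {(0,0),(0,2),(1,0),(1,2)} (fun p hp => fixH p (Finset.mem_of_subset (by decide) hp)) (by decide) (2,0) (2,1) (3,2) (3,1) (by decide) (by decide) h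
      exact absurd (e1.symm.trans e2) (by decide)
  have h7 : σ (2,1) = (2,1) := propagate hσ hx_0_1_4_5_6_7 hx_0_1_4_5_6_7 {(0,0),(0,1),(1,1),(1,2)} (fun p hp => fixH p (Finset.mem_of_subset (by decide) hp)) (by decide) (2,0) (2,1) (2,0) (2,1) (by decide) (by decide) h6
  have h8 : σ (2,2) = (2,2) := propagate hσ hx_0_1_3_4_6_8 hx_0_1_3_4_6_8 {(0,0),(0,1),(1,0),(1,1)} (fun p hp => fixH p (Finset.mem_of_subset (by decide) hp)) (by decide) (2,0) (2,2) (2,0) (2,2) (by decide) (by decide) h6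
  have h9 : σ (3,0) = (3,0) := propagate hσ hx_0_1_2_3_6_9 hx_0_1_2_3_6_9 {(0,0),(0,1),(0,2),(1,0)} (fun p hp => fixH p (Finset.mem_of_subset (by decide) hp)) (by decide) (2,0) (3,0) (2,0) (3,0) (by decide) (by decide) h6
  have h10 : σ (3,1) = (3,1) := propagate hσ hx_0_1_2_5_6_10 hx_0_1_2_5_6_10 {(0,0),(0,1),(0,2),(1,2)} (fun p hp => fixH p (Finset.mem_of_subset (by decide) hp)) (by decide) (2,0) (3,1) (2,0) (3,1) (by decide) (by decide) h6
  have h11 : σ (3,2) = (3,2) := propagate hσ hx_0_1_2_4_6_11 hx_0_1_2_4_6_11 {(0,0),(0,1),(0,2),(1,1)} (fun p hp => fixH p (Finset.mem_of_subset (by decide) hp)) (by decide) (2,0) (3,2) (2,0) (3,2) (by decide) (by decide) h6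
  refine Equiv.ext fun p => ?_
  rcases pt_cases p with rfl | rfl | rfl | rfl | rfl | rfl | rfl | rfl | rfl | rfl | rfl | rfl
  · exact h0
  · exact h1
  · exact h2
  · exact h3
  · exact h4
  · exact h5
  · exact h6
  · exact h7
  · exact h8
  · exact h9
  · exact h10
  · exact h11

end Cfsg.Agent.Lib.Helper99.TG
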