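/-
helper99: S5707 project, CORE.  In standard coordinates (`V = F^(Fin t → Fin k)`, char 2, quadratic
form `Q` with polar form `c • J^{⊗t}` vanishing on pure tensors) the normaliser in `Ω(Q)` of the
Clifford subspace `∑ i, op i (D.s)` lies strictly between `(GL_k ≀ S_t) ∩ Ω` and `Ω`.
Uses the modules of helper11 ([OP-A],[OP-B]), helper9 ([UNIQ]), helper33 ([GRAM],[PURE],[TRACK]),
helper23 ([PERM]), helper75 ([S2],[S4]).
-/
import Mathlib
import Cfsg.Prelude.Def_GeometricClasses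
import Cfsg.Agent.Lib.Helper99.TWDefs
import Cfsg.Agent.Lib.Helper11.TWOpA
import Cfsg.Agent.Lib.Helper11.TWOpB
import Cfsg.Agent.Lib.Helper9.TWUniq
import Cfsg.Agent.Lib.Helper33.TWGram
import Cfsg.Agent.Lib.Helper33.TWPure
import Cfsg.Agent.Lib.Helper33.TWTrack
import Cfsg.Agent.Lib.Helper23.TWPerm

set_option autoImplicit false

namespace Cfsg.Agent.Lib.Helper99.TW

open Matrix
open scoped commutatorElement
open Cfsg.Agent.Lib.Helper11.TW Cfsg.Agent.Lib.Helper23.TW Cfsg.Agent.Lib.Helper33.TW Cfsg.Agent.Lib.Helper9.TW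

/-! ## CORE -/
section core
variable {F : Type*} [Field F] {k : ℕ} [NeZero k] {t : ℕ}

omit [NeZero k] in
lemma mat_add_self (h2 : (2 : F) = 0) {m : Type*} (X : Matrix m m F) : X + X = 0 := by
  rw [← two_smul F X, h2, zero_smul]

omit [NeZero k] in
lemma sq_sum_of_commute {R : Type*} [Ring R] (hadd : ∀ x : R, x + x = 0) {κ : Type*}
    [DecidableEq κ] (s : Finset κ) (A : κ → R)
    (hc : ∀ i ∈ s, ∀ j ∈ s, Commute (A i) (A j)) :
    (∑ i ∈ s, A i) * (∑ i ∈ s, A i) = ∑ i ∈ s, A i * A i := by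
  induction s using Finset.induction_on with
  | empty => simp
  | insert a s ha ih =>
    rw [Finset.sum_insert ha, Finset.sum_insert ha]
    have hcomm : Commute (A a) (∑ i ∈ s, A i) :=
      Commute.sum_right _ _ _ (fun j hj =>
        hc a (Finset.mem_insert_self a s) j (Finset.mem_insert_of_mem hj))
    have ih' := ih (fun i hi j hj =>
      hc i (Finset.mem_insert_of_mem hi) j (Finset.mem_insert_of_mem hj))
    rw [add_mul, mul_add, mul_add, ih', ← hcomm.eq]
    have := hadd (A a * ∑ i ∈ s, A i)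
    calc A a * A a + A a * ∑ i ∈ s, A i + (A a * ∑ i ∈ s, A i + ∑ i ∈ s, A i * A i)
        = A a * A a + (A a * ∑ i ∈ s, A i + A a * ∑ i ∈ s, A i) + ∑ i ∈ s, A i * A i := by
          abel
      _ = A a * A a + ∑ i ∈ s, A i * A i := by rw [this, add_zero]

lemma IsCl.add {D : CData k F} {X Y : Matrix (Idx k t) (Idx k t) F} (hX : IsCl D X)
    (hY : IsCl D Y) : IsCl D (X + Y) := by
  obtain ⟨Ns, hNs, rfl⟩ := hX
  obtain ⟨Ms, hMs, rfl⟩ := hY
  refine ⟨fun i => Ns i + Ms i, fun i => D.s.add_mem (hNs i) (hMs i), ?_⟩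
  rw [← Finset.sum_add_distrib]
  exact Finset.sum_congr rfl (fun i _ => (op_add i _ _).symm)

lemma IsCl.smul {D : CData k F} {X : Matrix (Idx k t) (Idx k t) F} (c : F) (hX : IsCl D X) :
    IsCl D (c • X) := by
  obtain ⟨Ns, hNs, rfl⟩ := hX
  refine ⟨fun i => c • Ns i, fun i => D.s.smul_mem c (hNs i), ?_⟩
  rw [Finset.smul_sum]
  exact Finset.sum_congr rfl (fun i _ => (op_smul i c _).symm)

lemma isCl_op (D : CData k F) (i : Fin t) (N : Matrix (Fin k) (Fin k) F) (hN : N ∈ D.s) :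
    IsCl D (op i N) := by
  refine ⟨fun j => if j = i then N else 0, fun j => ?_, ?_⟩
  · by_cases h : j = i
    · simp only [h, if_true]; exact hN
    · simp only [h, if_false]; exact D.s.zero_mem
  · rw [Finset.sum_eq_single i]
    · simp
    · intro j _ hj
      simp only [hj, if_false]
      exact op_zero j
    · intro h; exact absurd (Finset.mem_univ i) h

lemma IsCl.apply_eq_zero {D : CData k F} {X : Matrix (Idx k t) (Idx k t) F} (hX : IsCl D X)
    (a b : Idx k t) (j j' : Fin t) (hjj' : j ≠ j') (hj : a j ≠ b j) (hj' : a j' ≠ b j') :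
    X a b = 0 := by
  obtain ⟨Ns, _, rfl⟩ := hX
  rw [Matrix.sum_apply]
  exact Finset.sum_eq_zero (fun i _ => op_apply_of_two i _ a b j j' hjj' hj hj')

lemma IsCl.sq {D : CData k F} (h2 : (2 : F) = 0) {X : Matrix (Idx k t) (Idx k t) F}
    (hX : IsCl D X) : ∃ lam : F, X * X = lam • (1 : Matrix (Idx k t) (Idx k t) F) := by
  classical
  obtain ⟨Ns, hNs, rfl⟩ := hX
  refine ⟨∑ i, D.q (Ns i), ?_⟩
  rw [sq_sum_of_commute (fun x => mat_add_self h2 x) Finset.univ (fun i => op i (Ns i))]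
  · rw [Finset.sum_smul]
    refine Finset.sum_congr rfl (fun i _ => ?_)
    rw [← op_mul, D.sq _ (hNs i), op_smul, op_one]
  · intro i _ j _
    by_cases hij : i = j
    · subst hij; exact Commute.refl _
    · exact op_comm i j hij _ _

lemma IsCl.selfadj {D : CData k F} {X : Matrix (Idx k t) (Idx k t) F} (hX : IsCl D X) (c : F) :
    Xᵀ * gram k t c = gram k t c * X := by
  obtain ⟨Ns, hNs, rfl⟩ := hX
  rw [Matrix.transpose_sum, Finset.sum_mul, Finset.mul_sum]
  exact Finset.sum_congr rfl (fun i _ => op_gram i _ _ c (D.selfadj _ (hNs i)))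

/-- conjugation by a Clifford involution preserves the Clifford subspace -/
lemma conj_cl {D : CData k F} (h2 : (2 : F) = 0) {x M : Matrix (Idx k t) (Idx k t) F}
    (hx : IsCl D x) (hx1 : x * x = 1) (hM : IsCl D M) : IsCl D (x * M * x) := by
  obtain ⟨l1, h1⟩ := (hx.add hM).sq h2
  obtain ⟨l2, h3⟩ := hM.sq h2
  have hmu : x * M + M * x = (l1 - 1 - l2) • (1 : Matrix (Idx k t) (Idx k t) F) := by
    have : (x + M) * (x + M) = x * x + (x * M + M * x) + M * M := by
      rw [add_mul, mul_add, mul_add]; abel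
    rw [this, hx1, h3] at h1
    rw [sub_smul, sub_smul, one_smul, ← h1]
    abel
  have : x * M * x = (l1 - 1 - l2) • x + (-1 : F) • M := by
    have h4 : x * M = (l1 - 1 - l2) • (1 : Matrix (Idx k t) (Idx k t) F) - M * x := by
      rw [← hmu]; abel
    rw [h4, sub_mul, Matrix.smul_mul, one_mul, mul_assoc, hx1, mul_one, neg_smul, one_smul]
    abel
  rw [this]
  exact (hx.smul _).add (hM.smul _)

/-- the unit attached to an involutive matrix -/
def invU (x : Matrix (Idx k t) (Idx k t) F) (hx1 : x * x = 1) : GL (Idx k t) F :=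
  ⟨x, x, hx1, hx1⟩

omit [NeZero k] in
@[simp] lemma invU_val (x : Matrix (Idx k t) (Idx k t) F) (hx1 : x * x = 1) :
    ((invU x hx1 : GL (Idx k t) F) : Matrix (Idx k t) (Idx k t) F) = x := rfl

omit [NeZero k] in
@[simp] lemma invU_inv_val (x : Matrix (Idx k t) (Idx k t) F) (hx1 : x * x = 1) :
    (((invU x hx1)⁻¹ : GL (Idx k t) F) : Matrix (Idx k t) (Idx k t) F) = x := rfl

lemma mem_Nrm_of {D : CData k F} (g : GL (Idx k t) F)
    (h1 : ∀ X, IsCl D X → IsCl D ((g : Matrix (Idx k t) (Idx k t) F) * X *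
      ((g⁻¹ : GL (Idx k t) F) : Matrix (Idx k t) (Idx k t) F)))
    (h2 : ∀ X, IsCl D X → IsCl D (((g⁻¹ : GL (Idx k t) F) : Matrix (Idx k t) (Idx k t) F) * X *
      (g : Matrix (Idx k t) (Idx k t) F))) : g ∈ Nrm D t := by
  intro X
  refine ⟨h1 X, fun h => ?_⟩
  have := h2 _ h
  have e : ((g⁻¹ : GL (Idx k t) F) : Matrix (Idx k t) (Idx k t) F) *
      ((g : Matrix (Idx k t) (Idx k t) F) * X *
        ((g⁻¹ : GL (Idx k t) F) : Matrix (Idx k t) (Idx k t) F)) *
      (g : Matrix (Idx k t) (Idx k t) F) = X := by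
    simp only [← mul_assoc, ← Units.val_mul, inv_mul_cancel, Units.val_one, one_mul]
    rw [mul_assoc, ← Units.val_mul, inv_mul_cancel, Units.val_one, mul_one]
  rwa [e] at this

lemma invU_mem_Nrm {D : CData k F} (h2 : (2 : F) = 0) (x : Matrix (Idx k t) (Idx k t) F)
    (hx : IsCl D x) (hx1 : x * x = 1) : invU x hx1 ∈ Nrm D t := by
  apply mem_Nrm_of
  · intro X hX
    exact conj_cl h2 hx hx1 hX
  · intro X hX
    exact conj_cl h2 hx hx1 hX

end core


section core2
variable {F : Type*} [Field F] {k : ℕ} [NeZero k] {t : ℕ}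

omit [NeZero k] in
/-- the adjoint relation is preserved under conjugation by an isometry of the Gram matrix -/
lemma adj_conj {Γ A A' : Matrix (Idx k t) (Idx k t) F} (g : GL (Idx k t) F)
    (hg : (g : Matrix (Idx k t) (Idx k t) F)ᵀ * Γ * (g : Matrix (Idx k t) (Idx k t) F) = Γ)
    (hA : Aᵀ * Γ = Γ * A') :
    ((g : Matrix (Idx k t) (Idx k t) F) * A *
        ((g⁻¹ : GL (Idx k t) F) : Matrix (Idx k t) (Idx k t) F))ᵀ * Γ =
      Γ * ((g : Matrix (Idx k t) (Idx k t) F) * A' *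
        ((g⁻¹ : GL (Idx k t) F) : Matrix (Idx k t) (Idx k t) F)) := by
  set G : Matrix (Idx k t) (Idx k t) F := (g : Matrix (Idx k t) (Idx k t) F) with hG
  set Gi : Matrix (Idx k t) (Idx k t) F :=
    ((g⁻¹ : GL (Idx k t) F) : Matrix (Idx k t) (Idx k t) F) with hGi
  have e1 : G * Gi = 1 := by rw [hG, hGi, ← Units.val_mul, mul_inv_cancel, Units.val_one]
  have h1 : Gᵀ * Γ = Γ * Gi := by
    calc Gᵀ * Γ = Gᵀ * Γ * (G * Gi) := by rw [e1, mul_one]
      _ = (Gᵀ * Γ * G) * Gi := by simp only [mul_assoc]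
      _ = Γ * Gi := by rw [hg]
  have h2 : Giᵀ * Γ = Γ * G := by
    calc Giᵀ * Γ = Giᵀ * (Gᵀ * Γ * G) := by rw [hg]
      _ = (Giᵀ * Gᵀ) * Γ * G := by simp only [mul_assoc]
      _ = Γ * G := by rw [← Matrix.transpose_mul, e1, Matrix.transpose_one, one_mul]
  calc (G * A * Gi)ᵀ * Γ = Giᵀ * Aᵀ * (Gᵀ * Γ) := by
        rw [Matrix.transpose_mul, Matrix.transpose_mul]; simp only [mul_assoc]
    _ = Giᵀ * (Aᵀ * Γ) * Gi := by rw [h1]; simp only [mul_assoc]
    _ = (Giᵀ * Γ) * A' * Gi := by rw [hA]; simp only [mul_assoc]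
    _ = Γ * (G * A' * Gi) := by rw [h2]; simp only [mul_assoc]

lemma track_isCl {D : CData k F} {c : F} (hc : c ≠ 0) (g : GL (Idx k t) F) (hT : Track g)
    (hg : (g : Matrix (Idx k t) (Idx k t) F)ᵀ * gram k t c *
      (g : Matrix (Idx k t) (Idx k t) F) = gram k t c)
    (X : Matrix (Idx k t) (Idx k t) F) (hX : IsCl D X) :
    IsCl D ((g : Matrix (Idx k t) (Idx k t) F) * X *
      ((g⁻¹ : GL (Idx k t) F) : Matrix (Idx k t) (Idx k t) F)) := by
  obtain ⟨σ, gs, hconj⟩ := hT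
  obtain ⟨Ns, hNs, rfl⟩ := hX
  have hN' : ∀ i, (gs i : Matrix (Fin k) (Fin k) F) * Ns i *
      (((gs i)⁻¹ : GL (Fin k) F) : Matrix (Fin k) (Fin k) F) ∈ D.s := by
    intro i
    refine D.inv (gs i) (Ns i) (hNs i) (fun Y Y' hYY' => ?_)
    have := adj_conj g hg (op_gram i Y Y' c hYY')
    rw [hconj i Y, hconj i Y'] at this
    exact op_gram_conv (σ i) _ _ c hc this
  refine ⟨fun j => (gs (σ⁻¹ j) : Matrix (Fin k) (Fin k) F) * Ns (σ⁻¹ j) *
      (((gs (σ⁻¹ j))⁻¹ : GL (Fin k) F) : Matrix (Fin k) (Fin k) F), fun j => hN' _, ?_⟩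
  rw [Finset.mul_sum, Finset.sum_mul]
  rw [← Equiv.sum_comp σ (fun j => op j ((gs (σ⁻¹ j) : Matrix (Fin k) (Fin k) F) * Ns (σ⁻¹ j) *
      (((gs (σ⁻¹ j))⁻¹ : GL (Fin k) F) : Matrix (Fin k) (Fin k) F)))]
  refine Finset.sum_congr rfl (fun i _ => ?_)
  rw [hconj i (Ns i)]
  simp

omit [NeZero k] in
lemma omegaGL_le_isometry (Q : (Idx k t → F) → F) {g : GL (Idx k t) F}
    (hg : g ∈ Cfsg.Geo.omegaGL Q) : g ∈ Cfsg.isometryGroup F Q := by
  obtain ⟨x, _, rfl⟩ := hg
  exact x.2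

lemma le_Nrm {D : CData k F} {c : F} (hc : c ≠ 0) (Q : (Idx k t → F) → F)
    (hpol : ∀ x y, QuadraticMap.polar Q x y = x ⬝ᵥ (gram k t c *ᵥ y)) :
    Cfsg.Geo.tensorWreathStandard k t F ⊓ Cfsg.Geo.omegaGL Q ≤ Nrm D t := by
  intro g hg
  have hgT := hg.1
  have hgI := omegaGL_le_isometry Q hg.2
  have hgT' : g⁻¹ ∈ Cfsg.Geo.tensorWreathStandard k t F := inv_mem hgT
  have hgI' : g⁻¹ ∈ Cfsg.isometryGroup F Q := inv_mem hgI
  apply mem_Nrm_of
  · intro X hX
    exact track_isCl hc g (track_of_mem g hgT) (gram_of_mem_isometryGroup Q c hpol g hgI) X hX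
  · intro X hX
    have := track_isCl hc g⁻¹ (track_of_mem _ hgT')
      (gram_of_mem_isometryGroup Q c hpol _ hgI') X hX
    rwa [inv_inv] at this

omit [NeZero k] in
lemma single_dot (M : Matrix (Fin k) (Fin k) F) (p p' : Fin k) :
    (Pi.single p 1 : Fin k → F) ⬝ᵥ (M *ᵥ Pi.single p' 1) = M p p' := by
  simp

omit [NeZero k] in
lemma mulVec_single_dot (N J : Matrix (Fin k) (Fin k) F) (p : Fin k) :
    (N *ᵥ (Pi.single p 1 : Fin k → F)) ⬝ᵥ (J *ᵥ Pi.single p 1) = (Nᵀ * J) p p := by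
  simp [Matrix.mul_apply, dotProduct]

lemma Q_cl_single {D : CData k F} (hrev : ∀ l : Fin k, Fin.rev l ≠ l)
    (halt : 3 ≤ t ∨ ∀ N ∈ D.s, ∀ l, (Jm k F * N) l l = 0)
    (Q : (Idx k t → F) → F)
    (hsm : ∀ (c : F) (v : Idx k t → F), Q (c • v) = c ^ 2 * Q v) (c : F)
    (hpol : ∀ x y, QuadraticMap.polar Q x y = x ⬝ᵥ (gram k t c *ᵥ y))
    (hpure : ∀ xs : Fin t → Fin k → F, Q (pureV xs) = 0)
    {X : Matrix (Idx k t) (Idx k t) F} (hX : IsCl D X) (a : Idx k t) :
    Q (X *ᵥ Pi.single a 1) = 0 := by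
  classical
  obtain ⟨Ns, hNs, rfl⟩ := hX
  set E : Fin t → Fin k → F := fun i => Pi.single (a i) 1 with hE
  have hu : (∑ i, op i (Ns i)) *ᵥ (Pi.single a 1 : Idx k t → F) =
      ∑ i ∈ Finset.univ, pureV (Function.update E i (Ns i *ᵥ E i)) := by
    rw [Matrix.sum_mulVec]
    refine Finset.sum_congr rfl (fun i _ => ?_)
    rw [single_eq_pureV, op_mulVec_pureV]
  rw [hu]
  apply Q_sum_eq_zero Q hsm c hpol
  · intro i _; exact hpure _
  · intro i _ j _ hij
    rw [hpol, gram_pure]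
    apply mul_eq_zero_of_right
    rcases halt with h3 | halt
    · have hcard : ({i, j} : Finset (Fin t)).card < (Finset.univ : Finset (Fin t)).card := by
        rw [Finset.card_univ, Fintype.card_fin]
        exact lt_of_le_of_lt Finset.card_le_two h3
      obtain ⟨l, _, hl⟩ := Finset.exists_mem_notMem_of_card_lt_card hcard
      have hli : l ≠ i := fun h => hl (by simp [h])
      have hlj : l ≠ j := fun h => hl (by simp [h])
      apply Finset.prod_eq_zero (Finset.mem_univ l)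
      rw [Function.update_of_ne hli, Function.update_of_ne hlj, hE]
      simp only
      rw [single_dot]
      simp only [Jm]
      rw [if_neg (fun h => hrev (a l) h.symm)]
    · apply Finset.prod_eq_zero (Finset.mem_univ i)
      rw [Function.update_self, Function.update_of_ne hij, hE]
      simp only
      rw [mulVec_single_dot, D.selfadj _ (hNs i)]
      exact halt _ (hNs i) _

lemma invU_mem_isometry {D : CData k F} (hrev : ∀ l : Fin k, Fin.rev l ≠ l)
    (halt : 3 ≤ t ∨ ∀ N ∈ D.s, ∀ l, (Jm k F * N) l l = 0)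
    (Q : (Idx k t → F) → F)
    (hsm : ∀ (c : F) (v : Idx k t → F), Q (c • v) = c ^ 2 * Q v) (c : F)
    (hpol : ∀ x y, QuadraticMap.polar Q x y = x ⬝ᵥ (gram k t c *ᵥ y))
    (hpure : ∀ xs : Fin t → Fin k → F, Q (pureV xs) = 0)
    (x : Matrix (Idx k t) (Idx k t) F) (hx : IsCl D x) (hx1 : x * x = 1) :
    invU x hx1 ∈ Cfsg.isometryGroup F Q := by
  apply mem_isometryGroup_of Q hsm c hpol
  · intro a; rw [single_eq_pureV]; exact hpure _
  · show xᵀ * gram k t c * x = gram k t c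
    rw [hx.selfadj c, mul_assoc, hx1, mul_one]
  · intro a
    exact Q_cl_single hrev halt Q hsm c hpol hpure hx a

omit [NeZero k] in
lemma op_single_of_col (i : Fin t) (N : Matrix (Fin k) (Fin k) F) (a : Idx k t) (p : Fin k)
    (hcol : ∀ l, N l (a i) = if l = p then 1 else 0) :
    op i N *ᵥ (Pi.single a 1 : Idx k t → F) = Pi.single (Function.update a i p) 1 := by
  rw [op_mulVec_single, Finset.sum_eq_single p]
  · rw [hcol, if_pos rfl, one_smul]
  · intro s _ hs
    rw [hcol, if_neg hs, zero_smul]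
  · intro h; exact absurd (Finset.mem_univ p) h

omit [NeZero k] in
lemma op_single_zero (i : Fin t) (N : Matrix (Fin k) (Fin k) F) (a : Idx k t)
    (h0 : ∀ l, N l (a i) = 0) :
    op i N *ᵥ (Pi.single a 1 : Idx k t → F) = 0 := by
  rw [op_mulVec_single]
  exact Finset.sum_eq_zero (fun s _ => by rw [h0, zero_smul])

omit [NeZero k] in
lemma mem_omegaGL_comm (Q : (Idx k t → F) → F) {x y : GL (Idx k t) F}
    (hx : x ∈ Cfsg.isometryGroup F Q) (hy : y ∈ Cfsg.isometryGroup F Q) :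
    ⁅x, y⁆ ∈ Cfsg.Geo.omegaGL Q := by
  refine ⟨⁅(⟨x, hx⟩ : Cfsg.isometryGroup F Q), ⟨y, hy⟩⁆, ?_, rfl⟩
  show _ ∈ commutator _
  rw [commutator_def]
  exact Subgroup.commutator_mem_commutator (Subgroup.mem_top _) (Subgroup.mem_top _)

theorem exists_g {D : CData k F} (h2 : (2 : F) = 0) (hrev : ∀ l : Fin k, Fin.rev l ≠ l)
    (halt : 3 ≤ t ∨ ∀ N ∈ D.s, ∀ l, (Jm k F * N) l l = 0) (ht : 2 ≤ t)
    (Q : (Idx k t → F) → F)
    (hsm : ∀ (c : F) (v : Idx k t → F), Q (c • v) = c ^ 2 * Q v) (c : F)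
    (hpol : ∀ x y, QuadraticMap.polar Q x y = x ⬝ᵥ (gram k t c *ᵥ y))
    (hpure : ∀ xs : Fin t → Fin k → F, Q (pureV xs) = 0) :
    ∃ g : GL (Idx k t) F, g ∈ Cfsg.Geo.omegaGL Q ∧ g ∈ Nrm D t ∧
      g ∉ Cfsg.Geo.tensorWreathStandard k t F := by
  classical
  set i₁ : Fin t := ⟨0, by omega⟩ with hi₁
  set i₂ : Fin t := ⟨1, by omega⟩ with hi₂
  have hne : i₁ ≠ i₂ := by
    intro h; have := congrArg Fin.val h; simp [hi₁, hi₂] at this
  set A : Matrix (Idx k t) (Idx k t) F := op i₁ D.S with hA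
  set B : Matrix (Idx k t) (Idx k t) F := op i₂ D.nu with hB
  set C : Matrix (Idx k t) (Idx k t) F := op i₂ D.S with hC
  have hAA : A * A = 1 := by rw [hA, ← op_mul, D.S_sq, op_one]
  have hBB : B * B = 0 := by rw [hB, ← op_mul, D.nu_sq, op_zero]
  have hCC : C * C = 1 := by rw [hC, ← op_mul, D.S_sq, op_one]
  have hAB : A * B = B * A := op_comm i₁ i₂ hne _ _
  have hAC : A * C = C * A := op_comm i₁ i₂ hne _ _
  have hBC : B * C + C * B = 1 := by rw [hB, hC, ← op_mul, ← op_mul, ← op_add, D.anti, op_one]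
  have hx1 : (A + B) * (A + B) = 1 := by
    have : (A + B) * (A + B) = A * A + (A * B + A * B) + B * B := by
      rw [add_mul, mul_add, mul_add, ← hAB]; abel
    rw [this, hAA, hBB, mat_add_self h2, add_zero, add_zero]
  have hxy : (A + B) * C + C * (A + B) = 1 := by
    have : (A + B) * C + C * (A + B) = (A * C + A * C) + (B * C + C * B) := by
      rw [add_mul, mul_add, ← hAC]; abel
    rw [this, mat_add_self h2, zero_add, hBC]
  have hxCl : IsCl D (A + B) := (isCl_op D i₁ _ D.S_mem).add (isCl_op D i₂ _ D.nu_mem)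
  have hyCl : IsCl D C := isCl_op D i₂ _ D.S_mem
  set xU : GL (Idx k t) F := invU (A + B) hx1 with hxU
  set yU : GL (Idx k t) F := invU C hCC with hyU
  have hxI : xU ∈ Cfsg.isometryGroup F Q :=
    invU_mem_isometry hrev halt Q hsm c hpol hpure _ hxCl hx1
  have hyI : yU ∈ Cfsg.isometryGroup F Q :=
    invU_mem_isometry hrev halt Q hsm c hpol hpure _ hyCl hCC
  have hxN : xU ∈ Nrm D t := invU_mem_Nrm h2 _ hxCl hx1
  have hyN : yU ∈ Nrm D t := invU_mem_Nrm h2 _ hyCl hCC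
  refine ⟨⁅xU, yU⁆, mem_omegaGL_comm Q hxI hyI, ?_, ?_⟩
  · rw [commutatorElement_def]
    exact mul_mem (mul_mem (mul_mem hxN hyN) (inv_mem hxN)) (inv_mem hyN)
  · intro hgT
    have hgval : ((⁅xU, yU⁆ : GL (Idx k t) F) : Matrix (Idx k t) (Idx k t) F) =
        (A + B) * C * (A + B) * C := by
      rw [commutatorElement_def]
      simp only [Units.val_mul]
      rfl
    have hyx : C * (A + B) = 1 + (A + B) * C := by
      have h := mat_add_self h2 ((A + B) * C)
      calc C * (A + B) = ((A + B) * C + C * (A + B)) + (A + B) * C - ((A + B) * C + (A + B) * C) := by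
            abel
        _ = 1 + (A + B) * C := by rw [hxy, h, sub_zero]
    have hBC' : B * C = op i₂ (D.nu * D.S) := by rw [hB, hC, ← op_mul]
    have hg1 : (A + B) * C * (A + B) * C = 1 + (A * C + op i₂ (D.nu * D.S)) := by
      calc (A + B) * C * (A + B) * C = (A + B) * (C * (A + B)) * C := by simp only [mul_assoc]
        _ = (A + B) * (1 + (A + B) * C) * C := by rw [hyx]
        _ = (A + B) * C + ((A + B) * (A + B)) * (C * C) := by
            rw [mul_add, mul_one, add_mul]; simp only [mul_assoc]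
        _ = (A + B) * C + 1 := by rw [hx1, hCC, mul_one]
        _ = 1 + (A * C + op i₂ (D.nu * D.S)) := by rw [add_mul, hBC']; abel
    set z : Idx k t := fun _ => 0 with hz
    set a₀ : Idx k t := Function.update z i₂ D.h with ha₀
    set a' : Idx k t := Function.update z i₁ D.h with ha'
    have ha₀2 : a₀ i₂ = D.h := by rw [ha₀, Function.update_self]
    have ha₀1 : a₀ i₁ = 0 := by rw [ha₀, Function.update_of_ne hne]
    have ha'1 : a' i₁ = D.h := by rw [ha', Function.update_self]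
    have ha'2 : a' i₂ = 0 := by rw [ha', Function.update_of_ne hne.symm]
    obtain ⟨ys, hys⟩ := pure_of_mem _ hgT (fun i => Pi.single (a₀ i) 1)
    rw [← single_eq_pureV, hgval, hg1] at hys
    have e1 : op i₂ (D.nu * D.S) *ᵥ (Pi.single a₀ 1 : Idx k t → F) = 0 :=
      op_single_zero i₂ _ a₀ (fun l => by rw [ha₀2]; exact D.nuS_h l)
    have e2 : C *ᵥ (Pi.single a₀ 1 : Idx k t → F) = Pi.single z 1 := by
      rw [hC, op_single_of_col i₂ D.S a₀ 0 (fun l => by rw [ha₀2]; exact D.S_h l)]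
      congr 1
      funext j
      by_cases h : j = i₂
      · subst h; simp [hz]
      · simp [ha₀, hz, Function.update_of_ne h]
    have e3 : A *ᵥ (Pi.single z 1 : Idx k t → F) = Pi.single a' 1 := by
      rw [hA, op_single_of_col i₁ D.S z D.h (fun l => D.S_zero l)]
    have e4 : (1 + (A * C + op i₂ (D.nu * D.S))) *ᵥ (Pi.single a₀ 1 : Idx k t → F) =
        Pi.single a₀ 1 + Pi.single a' 1 := by
      rw [Matrix.add_mulVec, Matrix.one_mulVec, Matrix.add_mulVec, e1, add_zero,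
        ← Matrix.mulVec_mulVec, e2, e3]
    rw [e4] at hys
    refine not_pure_add a₀ a' i₁ i₂ hne ?_ ?_ ⟨ys, hys⟩
    · rw [ha₀1, ha'1]; exact D.h_ne.symm
    · rw [ha₀2, ha'2]; exact D.h_ne

end core2


section core3
variable {F : Type*} [Field F] {k : ℕ} [NeZero k] {t : ℕ}

omit [NeZero k] in
lemma mulVec_single_apply (M : Matrix (Idx k t) (Idx k t) F) (x y : Idx k t) :
    (M *ᵥ (Pi.single y 1 : Idx k t → F)) x = M x y := by
  simp

theorem exists_w {D : CData k F} (hrev : ∀ l : Fin k, Fin.rev l ≠ l) (ht : 2 ≤ t)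
    (hpos : 3 ≤ t ∨ D.h ≠ Fin.rev 0)
    (Q : (Idx k t → F) → F)
    (hsm : ∀ (c : F) (v : Idx k t → F), Q (c • v) = c ^ 2 * Q v) (c : F)
    (hpol : ∀ x y, QuadraticMap.polar Q x y = x ⬝ᵥ (gram k t c *ᵥ y))
    (hpure : ∀ xs : Fin t → Fin k → F, Q (pureV xs) = 0) :
    ∃ w : GL (Idx k t) F, w ∈ Cfsg.Geo.omegaGL Q ∧ w ∉ Nrm D t := by
  classical
  set i₁ : Fin t := ⟨0, by omega⟩ with hi₁
  set i₂ : Fin t := ⟨1, by omega⟩ with hi₂
  have hne : i₁ ≠ i₂ := by
    intro h; have := congrArg Fin.val h; simp [hi₁, hi₂] at this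
  set z : Idx k t := fun _ => 0 with hz
  set y' : Idx k t := Function.update z i₁ D.h with hy'
  set b : Idx k t := Function.update z i₂ D.h with hb
  have hy'1 : y' i₁ = D.h := by rw [hy', Function.update_self]
  have hy'2 : ∀ j, j ≠ i₁ → y' j = 0 := fun j hj => by rw [hy', Function.update_of_ne hj]
  have hb2 : b i₂ = D.h := by rw [hb, Function.update_self]
  have hb1 : ∀ j, j ≠ i₂ → b j = 0 := fun j hj => by rw [hb, Function.update_of_ne hj]
  have hr0 : Fin.rev (0 : Fin k) ≠ 0 := hrev 0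
  have hbasis : ∀ a : Idx k t, Q (Pi.single a 1) = 0 := by
    intro a; rw [single_eq_pureV]; exact hpure _
  have hab : z ≠ b := by
    intro h; have := congrFun h i₂; rw [hb2] at this; exact D.h_ne this.symm
  have hab' : z ≠ bar b := by
    intro h; have := congrFun h i₁
    simp only [bar] at this
    rw [hb1 i₁ hne] at this
    exact hr0 this.symm
  have hy1 : y' ≠ z := by
    intro h; have := congrFun h i₁; rw [hy'1] at this; exact D.h_ne this
  have hy2 : y' ≠ bar z := by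
    intro h; have := congrFun h i₂
    rw [hy'2 i₂ hne.symm] at this
    exact hr0 this.symm
  have hy3 : y' ≠ b := by
    intro h; have := congrFun h i₁; rw [hy'1, hb1 i₁ hne] at this; exact D.h_ne this
  have hy4 : y' ≠ bar b := by
    intro h
    rcases hpos with h3 | hh
    · set i₃ : Fin t := ⟨2, by omega⟩ with hi₃
      have h31 : i₃ ≠ i₁ := by
        intro h; have := congrArg Fin.val h; simp [hi₁, hi₃] at this
      have h32 : i₃ ≠ i₂ := by
        intro h; have := congrArg Fin.val h; simp [hi₂, hi₃] at this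
      have := congrFun h i₃
      simp only [bar] at this
      rw [hy'2 i₃ h31, hb1 i₃ h32] at this
      exact hr0 this.symm
    · have := congrFun h i₁
      simp only [bar] at this
      rw [hy'1, hb1 i₁ hne] at this
      exact hh this
  obtain ⟨w, hwO, hw1, hw2⟩ := exists_omega hrev Q hsm c hpol hbasis z b y' hab hab' hy1 hy2 hy3 hy4
  refine ⟨w, hwO, fun hwN => ?_⟩
  have hM : IsCl D (op i₁ D.nu : Matrix (Idx k t) (Idx k t) F) := isCl_op D i₁ _ D.nu_mem
  have hconj := (hwN _).mp hM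
  -- the entry at (bar z, y') vanishes
  have hzero : ((w : Matrix (Idx k t) (Idx k t) F) * op i₁ D.nu *
      ((w⁻¹ : GL (Idx k t) F) : Matrix (Idx k t) (Idx k t) F)) (bar z) y' = 0 := by
    rcases hpos with h3 | hh
    · set i₃ : Fin t := ⟨2, by omega⟩ with hi₃
      have h31 : i₃ ≠ i₁ := by
        intro h; have := congrArg Fin.val h; simp [hi₁, hi₃] at this
      have h32 : i₃ ≠ i₂ := by
        intro h; have := congrArg Fin.val h; simp [hi₂, hi₃] at this
      refine hconj.apply_eq_zero (bar z) y' i₂ i₃ h32.symm ?_ ?_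
      · rw [hy'2 i₂ hne.symm]; exact hr0
      · rw [hy'2 i₃ h31]; exact hr0
    · refine hconj.apply_eq_zero (bar z) y' i₁ i₂ hne ?_ ?_
      · rw [hy'1]; exact fun h => hh h.symm
      · rw [hy'2 i₂ hne.symm]; exact hr0
  -- but it equals 1
  have hM1 : op i₁ D.nu *ᵥ (Pi.single y' 1 : Idx k t → F) = Pi.single z 1 := by
    rw [op_single_of_col i₁ D.nu y' 0 (fun l => by rw [hy'1]; exact D.nu_h l)]
    congr 1
    funext j
    by_cases h : j = i₁
    · subst h; simp [hz]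
    · simp [hy', hz, Function.update_of_ne h]
  have hone : ((w : Matrix (Idx k t) (Idx k t) F) * op i₁ D.nu *
      ((w⁻¹ : GL (Idx k t) F) : Matrix (Idx k t) (Idx k t) F)) (bar z) y' = 1 := by
    rw [← mulVec_single_apply ((w : Matrix (Idx k t) (Idx k t) F) * op i₁ D.nu *
      ((w⁻¹ : GL (Idx k t) F) : Matrix (Idx k t) (Idx k t) F)) (bar z) y',
      ← Matrix.mulVec_mulVec, ← Matrix.mulVec_mulVec, hw2, hM1, hw1]
    simp
  rw [hzero] at hone
  exact zero_ne_one hone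

theorem core {D : CData k F} (h2 : (2 : F) = 0) (hrev : ∀ l : Fin k, Fin.rev l ≠ l)
    (ht : 2 ≤ t) (halt : 3 ≤ t ∨ ∀ N ∈ D.s, ∀ l, (Jm k F * N) l l = 0)
    (hpos : 3 ≤ t ∨ D.h ≠ Fin.rev 0) (c : F) (hc : c ≠ 0)
    (Q : (Idx k t → F) → F)
    (hsm : ∀ (c : F) (v : Idx k t → F), Q (c • v) = c ^ 2 * Q v)
    (hpol : ∀ x y, QuadraticMap.polar Q x y = x ⬝ᵥ (gram k t c *ᵥ y))
    (hpure : ∀ xs : Fin t → Fin k → F, Q (pureV xs) = 0) :
    ∃ K : Subgroup (GL (Idx k t) F),
      Cfsg.Geo.tensorWreathStandard k t F ⊓ Cfsg.Geo.omegaGL Q < K ∧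
        K < Cfsg.Geo.omegaGL Q := by
  obtain ⟨g, hgO, hgN, hgT⟩ := exists_g (D := D) h2 hrev halt ht Q hsm c hpol hpure
  obtain ⟨w, hwO, hwN⟩ := exists_w (D := D) hrev ht hpos Q hsm c hpol hpure
  refine ⟨Cfsg.Geo.omegaGL Q ⊓ Nrm D t, ?_, ?_⟩
  · refine lt_of_le_of_ne (le_inf inf_le_right (le_Nrm hc Q hpol)) (fun heq => hgT ?_)
    have : g ∈ Cfsg.Geo.omegaGL Q ⊓ Nrm D t := ⟨hgO, hgN⟩
    rw [← heq] at this
    exact this.1
  · refine lt_of_le_of_ne inf_le_left (fun heq => hwN ?_)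
    have : w ∈ Cfsg.Geo.omegaGL Q := hwO
    rw [← heq] at this
    exact this.2

end core3



end Cfsg.Agent.Lib.Helper99.TW
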