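import Mathlib

set_option autoImplicit false

namespace Cfsg.Agent.Lib.Helper99

open Real in
/-- A strengthened version of Mathlib's `Bertrand.real_main_inequality` with an extra factor `2x`. -/
theorem real_main_inequality_two {x : ℝ} (x_large : (512 : ℝ) ≤ x) :
    x * (2 * x) * (2 * x) ^ √(2 * x) * 4 ^ (2 * x / 3) ≤ 4 ^ x := by
  let f : ℝ → ℝ := fun x => log x + log (2 * x) + √(2 * x) * log (2 * x) - log 4 / 3 * x
  have hf' : ∀ x, 0 < x → 0 < x * (2 * x) * (2 * x) ^ √(2 * x) / 4 ^ (x / 3) := fun x h =>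
    div_pos (mul_pos (mul_pos h (mul_pos two_pos h)) (rpow_pos_of_pos (mul_pos two_pos h) _))
      (rpow_pos_of_pos four_pos _)
  have hf : ∀ x, 0 < x → f x = log (x * (2 * x) * (2 * x) ^ √(2 * x) / 4 ^ (x / 3)) := by
    intro x h5
    have h6 := mul_pos (zero_lt_two' ℝ) h5
    have h7 := rpow_pos_of_pos h6 (√(2 * x))
    rw [log_div (mul_pos (mul_pos h5 h6) h7).ne' (rpow_pos_of_pos four_pos _).ne',
      log_mul (mul_pos h5 h6).ne' h7.ne', log_mul h5.ne' h6.ne',
      log_rpow h6, log_rpow zero_lt_four, ← mul_div_right_comm, ← mul_div, mul_comm x]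
  have h5 : 0 < x := lt_of_lt_of_le (by norm_num1) x_large
  rw [← div_le_one (rpow_pos_of_pos four_pos x), ← div_div_eq_mul_div, ← rpow_sub four_pos, ←
    mul_div 2 x, mul_div_left_comm, ← mul_one_sub, (by norm_num1 : (1 : ℝ) - 2 / 3 = 1 / 3),
    mul_one_div, ← log_nonpos_iff (hf' x h5).le, ← hf x h5]
  have hlog2 : ConcaveOn ℝ (Set.Ioi 0.5) fun x : ℝ => log (2 * x) := by
    have := (strictConcaveOn_log_Ioi.concaveOn.comp_linearMap ((2 : ℝ) • LinearMap.id))
    refine this.subset ?_ (convex_Ioi 0.5)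
    intro a ha
    simp only [Set.mem_Ioi, Set.mem_preimage, LinearMap.smul_apply, LinearMap.id_coe, id_eq,
      smul_eq_mul] at ha ⊢
    linarith
  have h : ConcaveOn ℝ (Set.Ioi 0.5) f := by
    apply ConcaveOn.sub
    · apply ConcaveOn.add
      · apply ConcaveOn.add
        · exact strictConcaveOn_log_Ioi.concaveOn.subset
            (Set.Ioi_subset_Ioi (by norm_num)) (convex_Ioi 0.5)
        · exact hlog2
      convert!
        ((strictConcaveOn_sqrt_mul_log_Ioi.concaveOn.comp_linearMap ((2 : ℝ) • LinearMap.id)))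
        using 1
      ext x
      simp only [Set.mem_Ioi, Set.mem_preimage, LinearMap.smul_apply,
        LinearMap.id_coe, id_eq, smul_eq_mul]
      rw [← mul_lt_mul_iff_right₀ (two_pos)]
      norm_num1
      rfl
    apply ConvexOn.smul
    · refine div_nonneg (log_nonneg (by norm_num1)) (by norm_num1)
    · exact convexOn_id (convex_Ioi (0.5 : ℝ))
  suffices ∃ x1 x2, 0.5 < x1 ∧ x1 < x2 ∧ x2 ≤ x ∧ 0 ≤ f x1 ∧ f x2 ≤ 0 by
    obtain ⟨x1, x2, h1, h2, h0, h3, h4⟩ := this
    exact (h.right_le_of_le_left'' h1 ((h1.trans h2).trans_le h0) h2 h0 (h4.trans h3)).trans h4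
  refine ⟨18, 512, by norm_num1, by norm_num1, x_large, ?_, ?_⟩
  · have : √(2 * 18 : ℝ) = 6 := (sqrt_eq_iff_mul_self_eq_of_pos (by norm_num1)).mpr (by norm_num1)
    rw [hf _ (by norm_num1), log_nonneg_iff (by positivity), this, one_le_div (by norm_num1)]
    norm_num1
  · have : √(2 * 512) = 32 :=
      (sqrt_eq_iff_mul_self_eq_of_pos (by norm_num1)).mpr (by norm_num1)
    rw [hf _ (by norm_num1), log_nonpos_iff (hf' _ (by norm_num1)).le, this,
        div_le_one (by positivity)]
    conv in 512 => equals 2 ^ 9 => norm_num1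
    conv in 2 * 512 => equals 2 ^ 10 => norm_num1
    conv in 2 * 512 => equals 2 ^ 10 => norm_num1
    conv in 32 => rw [← Nat.cast_ofNat]
    rw [rpow_natCast, ← pow_mul, ← pow_add, ← pow_add]
    conv in 4 => equals 2 ^ (2 : ℝ) => rw [rpow_two]; norm_num1
    rw [← rpow_mul, ← rpow_natCast]
    on_goal 1 => apply rpow_le_rpow_of_exponent_le
    all_goals norm_num1

open Nat in
/-- natural-number version -/
theorem main_inequality_two {n : ℕ} (n_large : 512 ≤ n) :
    n * (2 * n) * (2 * n) ^ sqrt (2 * n) * 4 ^ (2 * n / 3) ≤ 4 ^ n := by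
  rw [← @cast_le ℝ]
  simp only [cast_mul, cast_pow, ← Real.rpow_natCast, cast_ofNat]
  refine _root_.trans ?_ (real_main_inequality_two (by exact_mod_cast n_large))
  gcongr
  · have n2_pos : 0 < 2 * n := by positivity
    exact mod_cast n2_pos
  · exact_mod_cast Real.nat_sqrt_le_real_sqrt
  · norm_num1
  · exact cast_div_le.trans (by norm_cast)

open Nat in
/-- If `(n, 2n]` contains at most one prime, the central binomial coefficient is small. -/
theorem centralBinom_le_of_le_one_prime (n : ℕ) (n_large : 2 < n)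
    (h : ∀ p q : ℕ, p.Prime → q.Prime → n < p → p < q → q ≤ 2 * n → False) :
    centralBinom n ≤ (2 * n) ^ sqrt (2 * n) * 4 ^ (2 * n / 3) * (2 * n) := by
  have n_pos : 0 < n := (Nat.zero_le _).trans_lt n_large
  have n2_pos : 1 ≤ 2 * n := mul_pos (zero_lt_two' ℕ) n_pos
  let f x := x ^ n.centralBinom.factorization x
  have hsplit : centralBinom n =
      (∏ x ∈ Finset.range (2 * n / 3 + 1), f x) * ∏ x ∈ Finset.Ico (2 * n / 3 + 1) (2 * n + 1), f x := by
    rw [Finset.prod_range_mul_prod_Ico f (by omega : 2 * n / 3 + 1 ≤ 2 * n + 1)]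
    exact n.prod_pow_factorization_centralBinom.symm
  -- the first product, as in Mathlib
  have hfirst : ∏ x ∈ Finset.range (2 * n / 3 + 1), f x ≤ (2 * n) ^ sqrt (2 * n) * 4 ^ (2 * n / 3) := by
    let S := {p ∈ Finset.range (2 * n / 3 + 1) | Nat.Prime p}
    have : ∏ x ∈ S, f x = ∏ x ∈ Finset.range (2 * n / 3 + 1), f x := by
      refine Finset.prod_filter_of_ne fun p _ h => ?_
      contrapose h; dsimp only [f]
      rw [factorization_eq_zero_of_not_prime n.centralBinom h, _root_.pow_zero]
    rw [← this, ← Finset.prod_filter_mul_prod_filter_not S (· ≤ sqrt (2 * n))]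
    apply mul_le_mul'
    · refine (Finset.prod_le_prod' fun p _ => (?_ : f p ≤ 2 * n)).trans ?_
      · exact pow_factorization_choose_le (mul_pos two_pos n_pos)
      have : (Finset.Icc 1 (sqrt (2 * n))).card = sqrt (2 * n) := by rw [card_Icc, Nat.add_sub_cancel]
      rw [Finset.prod_const]
      refine pow_right_mono₀ n2_pos ((Finset.card_le_card fun x hx => ?_).trans this.le)
      obtain ⟨h1, h2⟩ := Finset.mem_filter.1 hx
      exact Finset.mem_Icc.mpr ⟨(Finset.mem_filter.1 h1).2.one_lt.le, h2⟩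
    · refine le_trans ?_ (primorial_le_four_pow (2 * n / 3))
      refine (Finset.prod_le_prod' fun p hp => (?_ : f p ≤ p)).trans ?_
      · obtain ⟨h1, h2⟩ := Finset.mem_filter.1 hp
        refine (pow_right_mono₀ (Finset.mem_filter.1 h1).2.one_lt.le ?_).trans (pow_one p).le
        exact Nat.factorization_choose_le_one (sqrt_lt'.mp <| not_le.1 h2)
      refine Finset.prod_le_prod_of_subset_of_one_le' (Finset.filter_subset _ _) ?_
      exact fun p hp _ => (Finset.mem_filter.1 hp).2.one_lt.le
  -- the second product has at most one nontrivial factor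
  have hone : ∀ x ∈ Finset.Ico (2 * n / 3 + 1) (2 * n + 1), ¬ (x.Prime ∧ n < x) → f x = 1 := by
    intro x hx hnot
    rw [Finset.mem_Ico] at hx
    dsimp only [f]
    by_cases hxp : x.Prime
    · have hxn : x ≤ n := by
        by_contra hlt
        exact hnot ⟨hxp, by omega⟩
      have h2x : 2 * n < 3 * x := by omega
      rw [factorization_centralBinom_of_two_mul_self_lt_three_mul n_large hxn h2x, _root_.pow_zero]
    · rw [factorization_eq_zero_of_not_prime n.centralBinom hxp, _root_.pow_zero]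
  have hsecond : ∏ x ∈ Finset.Ico (2 * n / 3 + 1) (2 * n + 1), f x ≤ 2 * n := by
    by_cases hex : ∃ q : ℕ, q.Prime ∧ n < q ∧ q ≤ 2 * n
    · obtain ⟨q, hq, hnq, hq2⟩ := hex
      have hqmem : q ∈ Finset.Ico (2 * n / 3 + 1) (2 * n + 1) := by
        rw [Finset.mem_Ico]; omega
      rw [Finset.prod_eq_single_of_mem q hqmem]
      · have hle : n.centralBinom.factorization q ≤ 1 := by
          apply Nat.factorization_choose_le_one
          nlinarith
        calc f q = q ^ n.centralBinom.factorization q := rfl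
          _ ≤ q ^ 1 := pow_right_mono₀ hq.one_lt.le hle
          _ = q := pow_one q
          _ ≤ 2 * n := hq2
      · intro x hx hxq
        apply hone x hx
        rintro ⟨hxp, hnx⟩
        rw [Finset.mem_Ico] at hx
        rcases lt_or_gt_of_ne hxq with hlt | hgt
        · exact h x q hxp hq hnx hlt hq2
        · exact h q x hq hxp hnq hgt (by omega)
    · rw [Finset.prod_eq_one]
      · exact n2_pos
      · intro x hx
        apply hone x hx
        rintro ⟨hxp, hnx⟩
        rw [Finset.mem_Ico] at hx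
        exact hex ⟨x, hxp, hnx, by omega⟩
  rw [hsplit]
  exact Nat.mul_le_mul hfirst hsecond

open Nat in
/-- two primes in `(n, 2n]` for large `n` -/
theorem exists_two_primes_eventually (n : ℕ) (n_large : 512 ≤ n) :
    ∃ p q : ℕ, p.Prime ∧ q.Prime ∧ n < p ∧ p < q ∧ q ≤ 2 * n := by
  have no_prime : 4 ^ n < n * n.centralBinom :=
    Nat.four_pow_lt_mul_centralBinom n (le_trans (by norm_num1) n_large)
  by_contra hcon
  have h : ∀ p q : ℕ, p.Prime → q.Prime → n < p → p < q → q ≤ 2 * n → False :=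
    fun p q hp hq h1 h2 h3 => hcon ⟨p, q, hp, hq, h1, h2, h3⟩
  have h1 := centralBinom_le_of_le_one_prime n (lt_of_lt_of_le (by norm_num1) n_large) h
  have h2 := main_inequality_two n_large
  have : n * n.centralBinom ≤ 4 ^ n := by
    calc n * n.centralBinom ≤ n * ((2 * n) ^ sqrt (2 * n) * 4 ^ (2 * n / 3) * (2 * n)) :=
          Nat.mul_le_mul_left _ h1
      _ = n * (2 * n) * (2 * n) ^ sqrt (2 * n) * 4 ^ (2 * n / 3) := by ring
      _ ≤ 4 ^ n := h2
  omega

lemma two_primes_of_chain {lo p1 p2 n : ℕ} (hp1 : p1.Prime) (hp2 : p2.Prime) (h12 : p1 < p2)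
    (h2 : p2 ≤ 2 * lo) (hlo : lo ≤ n) (hn : n < p1) :
    ∃ p q : ℕ, p.Prime ∧ q.Prime ∧ n < p ∧ p < q ∧ q ≤ 2 * n :=
  ⟨p1, p2, hp1, hp2, hn, h12, by omega⟩

/-- **Two primes between `n` and `2n`** for `n ≥ 6`. -/
theorem exists_two_primes (n : ℕ) (hn : 6 ≤ n) :
    ∃ p q : ℕ, p.Prime ∧ q.Prime ∧ n < p ∧ p < q ∧ q ≤ 2 * n := by
  rcases Nat.lt_or_ge n 512 with hsmall | hbig
  swap
  · exact exists_two_primes_eventually n hbig
  rcases Nat.lt_or_ge n 7 with h | h
  · exact two_primes_of_chain (lo := 6) (p1 := 7) (p2 := 11) (by norm_num) (by norm_num) (by norm_num) (by norm_num) hn h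
  rcases Nat.lt_or_ge n 11 with h' | h'
  · exact two_primes_of_chain (lo := 7) (p1 := 11) (p2 := 13) (by norm_num) (by norm_num) (by norm_num) (by norm_num) h h'
  rcases Nat.lt_or_ge n 13 with h | h
  · exact two_primes_of_chain (lo := 11) (p1 := 13) (p2 := 19) (by norm_num) (by norm_num) (by norm_num) (by norm_num) h' h
  rcases Nat.lt_or_ge n 19 with h' | h'
  · exact two_primes_of_chain (lo := 13) (p1 := 19) (p2 := 23) (by norm_num) (by norm_num) (by norm_num) (by norm_num) h h'
  rcases Nat.lt_or_ge n 23 with h | h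
  · exact two_primes_of_chain (lo := 19) (p1 := 23) (p2 := 37) (by norm_num) (by norm_num) (by norm_num) (by norm_num) h' h
  rcases Nat.lt_or_ge n 37 with h' | h'
  · exact two_primes_of_chain (lo := 23) (p1 := 37) (p2 := 43) (by norm_num) (by norm_num) (by norm_num) (by norm_num) h h'
  rcases Nat.lt_or_ge n 43 with h | h
  · exact two_primes_of_chain (lo := 37) (p1 := 43) (p2 := 73) (by norm_num) (by norm_num) (by norm_num) (by norm_num) h' h
  rcases Nat.lt_or_ge n 73 with h' | h'
  · exact two_primes_of_chain (lo := 43) (p1 := 73) (p2 := 83) (by norm_num) (by norm_num) (by norm_num) (by norm_num) h h'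
  rcases Nat.lt_or_ge n 83 with h | h
  · exact two_primes_of_chain (lo := 73) (p1 := 83) (p2 := 139) (by norm_num) (by norm_num) (by norm_num) (by norm_num) h' h
  rcases Nat.lt_or_ge n 139 with h' | h'
  · exact two_primes_of_chain (lo := 83) (p1 := 139) (p2 := 163) (by norm_num) (by norm_num) (by norm_num) (by norm_num) h h'
  rcases Nat.lt_or_ge n 163 with h | h
  · exact two_primes_of_chain (lo := 139) (p1 := 163) (p2 := 277) (by norm_num) (by norm_num) (by norm_num) (by norm_num) h' h
  rcases Nat.lt_or_ge n 277 with h' | h'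
  · exact two_primes_of_chain (lo := 163) (p1 := 277) (p2 := 317) (by norm_num) (by norm_num) (by norm_num) (by norm_num) h h'
  rcases Nat.lt_or_ge n 317 with h | h
  · exact two_primes_of_chain (lo := 277) (p1 := 317) (p2 := 547) (by norm_num) (by norm_num) (by norm_num) (by norm_num) h' h
  · exact two_primes_of_chain (lo := 317) (p1 := 547) (p2 := 631) (by norm_num) (by norm_num) (by norm_num) (by norm_num) h (by omega)

/-- Two primes in `(N/2, N]` for `N ≥ 11`. -/
theorem exists_two_primes_half (N : ℕ) (hN : 11 ≤ N) :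
    ∃ p q : ℕ, p.Prime ∧ q.Prime ∧ p < q ∧ N < 2 * p ∧ q ≤ N := by
  rcases Nat.lt_or_ge N 12 with h | h
  · exact ⟨7, 11, by norm_num, by norm_num, by norm_num, by omega, by omega⟩
  · obtain ⟨p, q, hp, hq, h1, h2, h3⟩ := exists_two_primes (N / 2) (by omega)
    exact ⟨p, q, hp, hq, h2, by omega, by omega⟩

end Cfsg.Agent.Lib.Helper99
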