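import Mathlib
import Cfsg.Prelude.Def_GeometricClasses
import Cfsg.Prelude.Def_LieClassical
import Cfsg.Agent.Lib.Helper13.GU
import Cfsg.Agent.Lib.Helper36.HermOrtho
import Cfsg.Agent.Lib.Helper36.HermNorm
import Cfsg.Agent.Lib.Helper99.NrmC

/-!
# Unitary groups: orthonormal eigenbases and conjugacy (helper99)
-/

set_option autoImplicit false
set_option linter.unusedSectionVars false

namespace Cfsg.Agent.Lib.Helper99.Uni3

open Module Matrix Cfsg Cfsg.Geo Cfsg.Agent.Lib.Helper99.Nrm3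

section form

variable {F : Type*} [Field F] {n : ℕ}

/-- The form `(u, v) ↦ Σ v_i σ(u_i)` as a sesquilinear map. -/
noncomputable def sB (σ : F →+* F) : (Fin n → F) →ₛₗ[σ] (Fin n → F) →ₗ[F] F :=
  LinearMap.mk₂'ₛₗ σ (RingHom.id F) (fun u v => ∑ i, v i * σ (u i))
    (by intro u u' v; simp [mul_add, Finset.sum_add_distrib])
    (by
      intro c u v
      simp only [Pi.smul_apply, smul_eq_mul, map_mul, Finset.mul_sum]
      apply Finset.sum_congr rfl
      intro i _
      ring)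
    (by intro u v v'; simp [add_mul, Finset.sum_add_distrib])
    (by
      intro c u v
      simp only [Pi.smul_apply, smul_eq_mul, RingHom.id_apply, Finset.mul_sum]
      apply Finset.sum_congr rfl
      intro i _
      ring)

theorem sB_apply (σ : F →+* F) (u v : Fin n → F) : sB σ u v = ∑ i, v i * σ (u i) := rfl

theorem sB_eq_hermForm (σ : F →+* F) {q : ℕ} (hσq : ∀ x, σ x = x ^ q) (u v : Fin n → F) :
    sB σ u v = hermForm n F q v u := by
  rw [sB_apply]
  unfold hermForm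
  simp only [hσq]

theorem sB_isSymm (σ : F →+* F) (hσ2 : ∀ a : F, σ (σ a) = a) : (sB (n := n) σ).IsSymm := by
  refine ⟨fun u v => ?_⟩
  rw [sB_apply, sB_apply, map_sum]
  apply Finset.sum_congr rfl
  intro i _
  rw [map_mul, hσ2, mul_comm]

theorem sB_nondegenerate (σ : F →+* F) : (sB (n := n) σ).Nondegenerate := by
  classical
  constructor
  · intro u hu
    ext i
    have h := hu (Pi.single i 1)
    rw [sB_apply, Finset.sum_eq_single i] at h
    · simpa using h
    · intro j _ hj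
      simp [hj]
    · intro h'
      exact absurd (Finset.mem_univ i) h'
  · intro v hv
    ext i
    have h := hv (Pi.single i 1)
    rw [sB_apply, Finset.sum_eq_single i] at h
    · simpa using h
    · intro j _ hj
      simp [hj]
    · intro h'
      exact absurd (Finset.mem_univ i) h'

/-- The Frobenius-type involution of a field with `q ^ 2` elements is not the identity. -/
theorem frob_ne_id [Fintype F] {q : ℕ} (hF : Fintype.card F = q ^ 2) (σ : F →+* F)
    (hσq : ∀ x, σ x = x ^ q) : σ ≠ RingHom.id F := by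
  classical
  intro h
  have hq : 2 ≤ q := Cfsg.Agent.Lib.Helper13.two_le_of_card_eq_sq hF
  have hall : ∀ x : F, x ^ q = x := fun x => by rw [← hσq, h]; rfl
  have hP : (Polynomial.X ^ q - Polynomial.X : Polynomial F) ≠ 0 :=
    FiniteField.X_pow_card_sub_X_ne_zero F (by omega)
  have hdeg := FiniteField.X_pow_card_sub_X_natDegree_eq F (p := q) (by omega)
  have hsub : (Finset.univ : Finset F) ⊆
      (Polynomial.X ^ q - Polynomial.X : Polynomial F).roots.toFinset := by
    intro x _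
    rw [Multiset.mem_toFinset, Polynomial.mem_roots hP]
    simp [hall x]
  have h1 := Finset.card_le_card hsub
  have h2 := Multiset.toFinset_card_le (Polynomial.X ^ q - Polynomial.X : Polynomial F).roots
  have h3 := Polynomial.card_roots' (Polynomial.X ^ q - Polynomial.X : Polynomial F)
  rw [Finset.card_univ, hF] at h1
  nlinarith

theorem hermForm_zero_right {q : ℕ} (hq : q ≠ 0) (u : Fin n → F) : hermForm n F q u 0 = 0 := by
  unfold hermForm
  simp [hq]

end form

section unitary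

variable {F : Type*} [Field F] [Fintype F] {n q : ℕ}

/-- A matrix preserving the Gram matrix of a basis preserves the hermitian form. -/
theorem preserves_of_basis (hF : Fintype.card F = q ^ 2) {ι : Type*}
    (𝔢 : Basis ι F (Fin n → F)) (M : Matrix (Fin n) (Fin n) F)
    (h : ∀ i j, hermForm n F q (M *ᵥ 𝔢 i) (M *ᵥ 𝔢 j) = hermForm n F q (𝔢 i) (𝔢 j))
    (u v : Fin n → F) :
    hermForm n F q (M *ᵥ u) (M *ᵥ v) = hermForm n F q u v := by
  obtain ⟨σ, hσq, hσ2⟩ := Cfsg.Agent.Lib.Helper13.exists_frob hF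
  have hBB : ((sB (n := n) σ).comp (Matrix.toLin' M)).compl₂ (Matrix.toLin' M) = sB σ := by
    apply LinearMap.ext_basis 𝔢 𝔢
    intro i j
    rw [LinearMap.compl₂_apply, LinearMap.comp_apply, Matrix.toLin'_apply, Matrix.toLin'_apply,
      sB_eq_hermForm σ hσq, sB_eq_hermForm σ hσq]
    exact h j i
  have h1 := LinearMap.congr_fun (LinearMap.congr_fun hBB v) u
  rw [LinearMap.compl₂_apply, LinearMap.comp_apply, Matrix.toLin'_apply, Matrix.toLin'_apply,
    sB_eq_hermForm σ hσq, sB_eq_hermForm σ hσq] at h1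
  exact h1

theorem mem_GU_of_basis (hF : Fintype.card F = q ^ 2) {ι : Type*}
    (𝔢 : Basis ι F (Fin n → F)) (g : GL (Fin n) F)
    (h : ∀ i j, hermForm n F q ((g : Matrix (Fin n) (Fin n) F) *ᵥ 𝔢 i)
      ((g : Matrix (Fin n) (Fin n) F) *ᵥ 𝔢 j) = hermForm n F q (𝔢 i) (𝔢 j)) :
    g ∈ GU n F q := by
  rw [Cfsg.Agent.Lib.Helper13.mem_GU_iff]
  exact preserves_of_basis hF 𝔢 _ h

/-- A monomial transformation of an orthonormal basis with coefficients of norm one is
unitary. -/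
theorem mem_GU_of_mono (hF : Fintype.card F = q ^ 2) (𝔢 : Basis (Fin n) F (Fin n → F))
    (h𝔢 : ∀ i j, hermForm n F q (𝔢 i) (𝔢 j) = if i = j then 1 else 0)
    (y : GL (Fin n) F) (π : Equiv.Perm (Fin n)) (t : Fin n → F)
    (hy : ∀ i, (y : Matrix (Fin n) (Fin n) F) *ᵥ 𝔢 i = t i • 𝔢 (π i))
    (ht : ∀ i, t i ^ (q + 1) = 1) : y ∈ GU n F q := by
  apply mem_GU_of_basis hF 𝔢
  intro i j
  rw [hy, hy, Cfsg.Agent.Lib.Helper13.hermForm_smul_left,
    Cfsg.Agent.Lib.Helper13.hermForm_smul_right hF, h𝔢, h𝔢]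
  by_cases hij : i = j
  · subst hij
    rw [if_pos rfl, if_pos rfl, mul_one, ← pow_succ', ht]
  · rw [if_neg hij, if_neg (fun h' => hij (π.injective h')), mul_zero, mul_zero]

end unitary

section maps

variable {F : Type*} [Field F]

theorem exists_basis_map {m : Type*} [Fintype m] [DecidableEq m] {ι : Type*}
    (𝔠 𝔟 : Basis ι F (m → F)) :
    ∃ g : GL m F, ∀ i, (g : Matrix m m F) *ᵥ 𝔠 i = 𝔟 i := by
  classical
  obtain ⟨φ, hφdef⟩ : ∃ φ : (m → F) ≃ₗ[F] (m → F), φ = 𝔠.equiv 𝔟 (Equiv.refl ι) := ⟨_, rfl⟩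
  have hφ : ∀ i, φ (𝔠 i) = 𝔟 i := by
    intro i
    rw [hφdef, Basis.equiv_apply, Equiv.refl_apply]
  have h1 : LinearMap.toMatrix' (φ : (m → F) →ₗ[F] (m → F))
      * LinearMap.toMatrix' (φ.symm : (m → F) →ₗ[F] (m → F)) = 1 := by
    rw [← LinearMap.toMatrix'_comp, ← LinearMap.toMatrix'_id]
    congr 1
    apply LinearMap.ext
    intro v
    simp
  have h2 := mul_eq_one_comm.1 h1
  refine ⟨⟨_, _, h1, h2⟩, ?_⟩
  intro i
  show LinearMap.toMatrix' (φ : (m → F) →ₗ[F] (m → F)) *ᵥ 𝔠 i = _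
  rw [LinearMap.toMatrix'_mulVec, LinearEquiv.coe_coe]
  exact hφ i

end maps

section conj

variable {F : Type*} [Field F] [Fintype F] {n q : ℕ}

/-- Two elements of `GL_n(F)` with orthonormal eigenbases having the same eigenvalues are
conjugate under a unitary element of determinant one. -/
theorem exists_conj_of_orthonormal_eigenbases [NeZero n] (hF : Fintype.card F = q ^ 2)
    (x y : GL (Fin n) F) (𝔟 𝔠 : Basis (Fin n) F (Fin n → F)) (d : Fin n → F)
    (hx : ∀ i, (x : Matrix (Fin n) (Fin n) F) *ᵥ 𝔟 i = d i • 𝔟 i)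
    (hy : ∀ i, (y : Matrix (Fin n) (Fin n) F) *ᵥ 𝔠 i = d i • 𝔠 i)
    (h𝔟 : ∀ i j, hermForm n F q (𝔟 i) (𝔟 j) = if i = j then 1 else 0)
    (h𝔠 : ∀ i j, hermForm n F q (𝔠 i) (𝔠 j) = if i = j then 1 else 0) :
    ∃ g ∈ GU n F q ⊓ specialLinear (Fin n) F, g⁻¹ * x * g = y := by
  classical
  obtain ⟨g0, hg0⟩ := exists_basis_map 𝔠 𝔟
  have hg0U : g0 ∈ GU n F q := by
    apply mem_GU_of_basis hF 𝔠
    intro i j
    rw [hg0, hg0, h𝔟, h𝔠]
  obtain ⟨δ, hδ⟩ : ∃ δ : F, δ = (g0 : Matrix (Fin n) (Fin n) F).det := ⟨_, rfl⟩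
  have hδn : δ ^ (q + 1) = 1 := by
    rw [hδ]
    exact Cfsg.Agent.Lib.Helper13.det_pow_of_mem_GU hF hg0U
  have hδ0 : δ ≠ 0 := by
    intro h0
    rw [h0, zero_pow (Nat.succ_ne_zero q)] at hδn
    exact zero_ne_one hδn
  obtain ⟨w, hw⟩ : ∃ w : Fin n → F, w = fun i => if i = 0 then δ⁻¹ else 1 := ⟨_, rfl⟩
  have hw0 : ∀ i, w i ≠ 0 := by
    intro i
    rw [hw]
    by_cases hi : i = 0
    · simp only [hi, if_true]
      exact inv_ne_zero hδ0
    · simp only [hi, if_false]
      exact one_ne_zero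
  have hwn : ∀ i, w i ^ (q + 1) = 1 := by
    intro i
    rw [hw]
    by_cases hi : i = 0
    · simp only [hi, if_true]
      rw [inv_pow, hδn, inv_one]
    · simp only [hi, if_false]
      exact one_pow _
  obtain ⟨c, hc⟩ := exists_mono 𝔠 (Equiv.refl _) w hw0
  have hc' : ∀ i, (c : Matrix (Fin n) (Fin n) F) *ᵥ 𝔠 i = w i • 𝔠 i := fun i => hc i
  have hcU : c ∈ GU n F q := mem_GU_of_mono hF 𝔠 h𝔠 c (Equiv.refl _) w hc hwn
  have hdetc : (c : Matrix (Fin n) (Fin n) F).det = δ⁻¹ := by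
    rw [← bmat_det 𝔠]
    have h3 : bmat 𝔠 (c : Matrix (Fin n) (Fin n) F) = Matrix.diagonal w := by
      ext s t
      rw [bmat_of_mono 𝔠 (c : Matrix (Fin n) (Fin n) F) id w hc', Matrix.diagonal_apply]
      by_cases hst : s = t
      · subst hst
        simp
      · rw [if_neg hst, if_neg (fun h' => hst h'.symm)]
    rw [h3, Matrix.det_diagonal, hw, Finset.prod_ite_eq']
    simp
  refine ⟨g0 * c, Subgroup.mem_inf.2 ⟨(GU n F q).mul_mem hg0U hcU,
    (mem_specialLinear_iff _).2 ?_⟩, ?_⟩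
  · rw [Units.val_mul, Matrix.det_mul, hdetc, ← hδ, mul_inv_cancel₀ hδ0]
  · have hxg : x * (g0 * c) = (g0 * c) * y := by
      apply gl_ext 𝔠
      intro i
      have hL : ((x * (g0 * c) : GL (Fin n) F) : Matrix (Fin n) (Fin n) F) *ᵥ 𝔠 i
          = (w i * d i) • 𝔟 i := by
        rw [Units.val_mul, Units.val_mul, ← Matrix.mulVec_mulVec, ← Matrix.mulVec_mulVec, hc',
          Matrix.mulVec_smul, hg0, Matrix.mulVec_smul, hx, smul_smul]
      have hR : ((g0 * c * y : GL (Fin n) F) : Matrix (Fin n) (Fin n) F) *ᵥ 𝔠 i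
          = (d i * w i) • 𝔟 i := by
        rw [Units.val_mul, Units.val_mul, ← Matrix.mulVec_mulVec, ← Matrix.mulVec_mulVec, hy,
          Matrix.mulVec_smul, hc', Matrix.mulVec_smul, Matrix.mulVec_smul, hg0, smul_smul]
      rw [hL, hR, mul_comm]
    rw [mul_assoc, hxg, ← mul_assoc, inv_mul_cancel, one_mul]

end conj

end Cfsg.Agent.Lib.Helper99.Uni3
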