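import Mathlib
import Cfsg.Agent.Lib.Helper99.UniA

/-!
# Unitary groups: orthonormal eigenbases; the normal form of `3^{1+2}` in `GU_3` (helper99)
-/

set_option autoImplicit false
set_option linter.unusedSectionVars false

namespace Cfsg.Agent.Lib.Helper99.Uni3

open Module Matrix Cfsg Cfsg.Geo Cfsg.Agent.Lib.Helper99.Nrm3 Cfsg.Agent.Lib.Helper13

section eigen

variable {F : Type*} [Field F] [Fintype F] {n q : ℕ}

/-- A diagonalizable isometry of the hermitian form all of whose eigenvalues have norm one has an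
orthonormal basis of eigenvectors. -/
theorem exists_orthonormal_eigenbasis (hF : Fintype.card F = q ^ 2)
    (u : Matrix (Fin n) (Fin n) F)
    (hu : ∀ v w, hermForm n F q (u *ᵥ v) (u *ᵥ w) = hermForm n F q v w)
    (htop : ⨆ t : F, Module.End.eigenspace (Matrix.toLin' u) t = ⊤)
    (hnorm : ∀ (t : F) (v : Fin n → F), v ≠ 0 → u *ᵥ v = t • v → t ^ (q + 1) = 1) :
    ∃ (𝔟 : Basis (Fin n) F (Fin n → F)) (d : Fin n → F), (∀ i, u *ᵥ 𝔟 i = d i • 𝔟 i) ∧
      (∀ i j, hermForm n F q (𝔟 i) (𝔟 j) = if i = j then 1 else 0) := by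
  classical
  obtain ⟨σ, hσq, hσ2⟩ := exists_frob hF
  have hσne := frob_ne_id hF σ hσq
  have hq0 : q ≠ 0 := by
    have := two_le_of_card_eq_sq hF
    omega
  set φ : Module.End F (Fin n → F) := Matrix.toLin' u with hφ
  have hmemE : ∀ (t : F) (v : Fin n → F), v ∈ Module.End.eigenspace φ t ↔ u *ᵥ v = t • v := by
    intro t v
    rw [Module.End.mem_eigenspace_iff, hφ, Matrix.toLin'_apply]
  have horth : ∀ t s : F, t ≠ s → ∀ v w : Fin n → F, u *ᵥ v = t • v → u *ᵥ w = s • w →
      hermForm n F q v w = 0 := by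
    intro t s hts v w hv hw
    by_cases hw0 : w = 0
    · rw [hw0, hermForm_zero_right hq0]
    have hs := hnorm s w hw0 hw
    have h1 := hu v w
    rw [hv, hw, hermForm_smul_left, hermForm_smul_right hF] at h1
    by_contra hne
    apply hts
    have h2 : t * s ^ q = 1 := by
      have h3 : (t * s ^ q - 1) * hermForm n F q v w = 0 := by linear_combination h1
      rcases mul_eq_zero.1 h3 with h4 | h4
      · exact sub_eq_zero.1 h4
      · exact absurd h4 hne
    calc t = t * s ^ (q + 1) := by rw [hs, mul_one]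
      _ = (t * s ^ q) * s := by rw [pow_succ]; ring
      _ = s := by rw [h2, one_mul]
  have hsymm : ∀ t : F, ((sB (n := n) σ).domRestrict₁₂ (Module.End.eigenspace φ t)
      (Module.End.eigenspace φ t)).IsSymm := by
    intro t
    refine ⟨fun x y => ?_⟩
    rw [LinearMap.domRestrict₁₂_apply, LinearMap.domRestrict₁₂_apply]
    exact (sB_isSymm σ hσ2).eq _ _
  have hsepL : ∀ (t : F) (w : Fin n → F), u *ᵥ w = t • w →
      (∀ w', u *ᵥ w' = t • w' → sB σ w w' = 0) → w = 0 := by
    intro t w hw hall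
    apply (sB_nondegenerate (n := n) σ).1 w
    have hle : (⨆ s : F, Module.End.eigenspace φ s) ≤ LinearMap.ker (sB σ w) := by
      apply iSup_le
      intro s v hv
      rw [hmemE] at hv
      rw [LinearMap.mem_ker]
      by_cases hst : s = t
      · subst hst
        exact hall v hv
      · rw [sB_eq_hermForm σ hσq]
        exact horth s t hst v w hv hw
    rw [htop] at hle
    intro v
    exact LinearMap.mem_ker.1 (hle Submodule.mem_top)
  have hnd : ∀ t : F, ((sB (n := n) σ).domRestrict₁₂ (Module.End.eigenspace φ t)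
      (Module.End.eigenspace φ t)).Nondegenerate := by
    intro t
    constructor
    · intro x hx
      have h1 := hsepL t x.1 ((hmemE t x.1).1 x.2)
        (fun w' hw' => hx ⟨w', (hmemE t w').2 hw'⟩)
      exact Subtype.ext h1
    · intro y hy
      have h1 := hsepL t y.1 ((hmemE t y.1).1 y.2) (fun w' hw' => by
        have h2 := hy ⟨w', (hmemE t w').2 hw'⟩
        rw [LinearMap.domRestrict₁₂_apply] at h2
        rw [← (sB_isSymm σ hσ2).eq w' y.1, h2, map_zero])
      exact Subtype.ext h1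
  have hex : ∀ t : F, ∃ b : Basis (Fin (finrank F (Module.End.eigenspace φ t))) F
      (Module.End.eigenspace φ t), ∀ i j, (sB (n := n) σ).domRestrict₁₂
        (Module.End.eigenspace φ t) (Module.End.eigenspace φ t) (b i) (b j)
        = if i = j then 1 else 0 :=
    fun t => Cfsg.Agent.Lib.Helper36.exists_orthonormal_basis σ hσne hσ2 _ (hsymm t) (hnd t)
  choose ob hob using hex
  have hint : DirectSum.IsInternal (fun t : F => Module.End.eigenspace φ t) :=
    DirectSum.isInternal_submodule_of_iSupIndep_of_iSup_eq_top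
      (Module.End.eigenspaces_iSupIndep φ) htop
  set cb := hint.collectedBasis ob with hcb
  have hcard : Fintype.card (Σ t : F, Fin (finrank F (Module.End.eigenspace φ t))) = n := by
    rw [← Module.finrank_eq_card_basis cb, Module.finrank_fintype_fun_eq_card, Fintype.card_fin]
  set eq := Fintype.equivFinOfCardEq hcard with heq
  have hcbval : ∀ (t : F) (i : Fin (finrank F (Module.End.eigenspace φ t))),
      cb ⟨t, i⟩ = ((ob t i : Module.End.eigenspace φ t) : Fin n → F) := by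
    intro t i
    rw [hcb, DirectSum.IsInternal.collectedBasis_coe]
  have hmem : ∀ (t : F) (i : Fin (finrank F (Module.End.eigenspace φ t))),
      u *ᵥ cb ⟨t, i⟩ = t • cb ⟨t, i⟩ := by
    intro t i
    rw [← hmemE, hcbval]
    exact (ob t i).2
  have hmem' : ∀ a : (Σ t : F, Fin (finrank F (Module.End.eigenspace φ t))),
      u *ᵥ cb a = a.1 • cb a := by
    rintro ⟨t, i⟩
    exact hmem t i
  have hgram : ∀ a b : (Σ t : F, Fin (finrank F (Module.End.eigenspace φ t))),
      hermForm n F q (cb a) (cb b) = if a = b then 1 else 0 := by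
    rintro ⟨t, i⟩ ⟨s, j⟩
    by_cases hts : t = s
    · subst hts
      have h1 := hob t j i
      rw [LinearMap.domRestrict₁₂_apply, sB_eq_hermForm σ hσq] at h1
      rw [hcbval, hcbval, h1]
      by_cases hij : i = j
      · subst hij
        simp
      · rw [if_neg (fun h => hij h.symm), if_neg]
        intro h
        apply hij
        have h5 := Sigma.mk.inj_iff.1 h
        exact eq_of_heq h5.2
    · rw [if_neg (fun h => hts (congrArg Sigma.fst h))]
      exact horth t s hts _ _ (hmem t i) (hmem s j)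
  refine ⟨cb.reindex eq, fun i => (eq.symm i).1, ?_, ?_⟩
  · intro i
    rw [Basis.reindex_apply]
    exact hmem' _
  · intro i j
    rw [Basis.reindex_apply, Basis.reindex_apply, hgram]
    by_cases hij : i = j
    · subst hij
      simp
    · rw [if_neg hij, if_neg (fun h => hij (eq.symm.injective h))]

omit [Fintype F] in
theorem iSup_eigenspace_cube (h3 : (3 : F) ≠ 0) (μ : F) (hμ : μ ^ 2 + μ + 1 = 0)
    (u : Matrix (Fin n) (Fin n) F) (hu : u * u * u = 1) :
    ⨆ t : F, Module.End.eigenspace (Matrix.toLin' u) t = ⊤ := by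
  rw [Submodule.eq_top_iff']
  intro v
  obtain ⟨v₀, v₁, v₂, hv, h0, h1, h2, -⟩ :=
    cube_decomp h3 μ hμ (Matrix.toLin' u) (cube_apply u hu) v
  rw [hv]
  refine Submodule.add_mem _ (Submodule.add_mem _ ?_ ?_) ?_
  · exact Submodule.mem_iSup_of_mem 1
      (Module.End.mem_eigenspace_iff.mpr (by rw [h0, one_smul]))
  · exact Submodule.mem_iSup_of_mem μ (Module.End.mem_eigenspace_iff.mpr h1)
  · exact Submodule.mem_iSup_of_mem (μ ^ 2) (Module.End.mem_eigenspace_iff.mpr h2)

omit [Fintype F] in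
theorem eigenvalue_cube (u : Matrix (Fin n) (Fin n) F) (hu : u * u * u = 1) (t : F)
    (v : Fin n → F) (hv0 : v ≠ 0) (hv : u *ᵥ v = t • v) : t ^ 3 = 1 := by
  have h1 := cube_mulVec u hu v
  rw [hv, Matrix.mulVec_smul, hv, Matrix.mulVec_smul, Matrix.mulVec_smul, hv, smul_smul,
    smul_smul] at h1
  have h2 : (t ^ 3 - 1) • v = 0 := by
    linear_combination (norm := module) h1
  rcases smul_eq_zero.1 h2 with h4 | h4
  · exact sub_eq_zero.1 h4
  · exact absurd h4 hv0

/-- A scalar matrix in `GU_n` has norm one. -/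
theorem scalar_norm_of_mem_GU [NeZero n] (hF : Fintype.card F = q ^ 2) (g : GL (Fin n) F)
    (hg : g ∈ GU n F q) (z : F)
    (hz : (g : Matrix (Fin n) (Fin n) F) = z • (1 : Matrix (Fin n) (Fin n) F)) :
    z ^ (q + 1) = 1 := by
  have h := (mem_GU_iff g).1 hg (Pi.single 0 1) (Pi.single 0 1)
  rw [hz, Matrix.smul_mulVec, Matrix.one_mulVec, hermForm_smul_left, hermForm_smul_right hF,
    hermForm_single_left, Pi.single_eq_same, one_pow, mul_one] at h
  rw [pow_succ']
  exact h

end eigen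

section NF

variable {F : Type*} [Field F] [Fintype F] {q : ℕ} {R : Subgroup (GL (Fin 3) F)}
  {a b cc : GL (Fin 3) F} {lam : F} {𝔢 : Basis (Fin 3) F (Fin 3 → F)}

/-- If `a, b` are unitary, the normal-form basis can be chosen orthonormal. -/
theorem IsNF.exists_orthonormal (h : IsNF R a b cc lam 𝔢) (hF : Fintype.card F = q ^ 2)
    (h3 : (3 : F) ≠ 0) (hq3 : 3 ∣ q + 1) (ha : a ∈ GU 3 F q) (hb : b ∈ GU 3 F q) :
    ∃ 𝔢' : Basis (Fin 3) F (Fin 3 → F), IsNF R a b cc lam 𝔢' ∧
      ∀ i j, hermForm 3 F q (𝔢' i) (𝔢' j) = if i = j then 1 else 0 := by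
  classical
  obtain ⟨σ, hσq, hσ2⟩ := exists_frob hF
  have hσne := frob_ne_id hF σ hσq
  have hlamq : lam ^ (q + 1) = 1 := by
    obtain ⟨k, hk⟩ := hq3
    rw [hk, pow_mul, h.lam_cube, one_pow]
  have ha' := (mem_GU_iff a).1 ha
  have hb' := (mem_GU_iff b).1 hb
  have horth : ∀ i j : Fin 3, i ≠ j → hermForm 3 F q (𝔢 i) (𝔢 j) = 0 := by
    intro i j hij
    have h1 := ha' (𝔢 i) (𝔢 j)
    rw [h.ha, h.ha, hermForm_smul_left, hermForm_smul_right hF] at h1
    by_contra hne
    apply hij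
    apply lam_pow_injective h3 h.hlam
    have h2 : lam ^ (i : ℕ) * (lam ^ (j : ℕ)) ^ q = 1 := by
      have h3' : (lam ^ (i : ℕ) * (lam ^ (j : ℕ)) ^ q - 1) * hermForm 3 F q (𝔢 i) (𝔢 j) = 0 := by
        linear_combination h1
      rcases mul_eq_zero.1 h3' with h4 | h4
      · exact sub_eq_zero.1 h4
      · exact absurd h4 hne
    have h5 : (lam ^ (j : ℕ)) ^ (q + 1) = 1 := by
      rw [← pow_mul, mul_comm, pow_mul, hlamq, one_pow]
    calc lam ^ (i : ℕ) = lam ^ (i : ℕ) * (lam ^ (j : ℕ)) ^ (q + 1) := by rw [h5, mul_one]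
      _ = (lam ^ (i : ℕ) * (lam ^ (j : ℕ)) ^ q) * lam ^ (j : ℕ) := by rw [pow_succ]; ring
      _ = lam ^ (j : ℕ) := by rw [h2, one_mul]
  have hstep : ∀ i : Fin 3, hermForm 3 F q (𝔢 (i + 1)) (𝔢 (i + 1))
      = hermForm 3 F q (𝔢 i) (𝔢 i) := by
    intro i
    have h1 := hb' (𝔢 i) (𝔢 i)
    rw [h.hb] at h1
    exact h1
  obtain ⟨c, hc⟩ : ∃ c : F, c = hermForm 3 F q (𝔢 0) (𝔢 0) := ⟨_, rfl⟩
  have hnorm : ∀ i : Fin 3, hermForm 3 F q (𝔢 i) (𝔢 i) = c := by
    intro i
    fin_cases i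
    · exact hc.symm
    · exact (hstep 0).trans hc.symm
    · exact ((hstep 1).trans (hstep 0)).trans hc.symm
  have hc0 : c ≠ 0 := by
    intro h0
    apply 𝔢.ne_zero 0
    apply (sB_nondegenerate (n := 3) σ).1 (𝔢 0)
    have hz : sB σ (𝔢 0) = 0 := by
      apply 𝔢.ext
      intro j
      rw [sB_eq_hermForm σ hσq, LinearMap.zero_apply]
      by_cases hj : j = 0
      · rw [hj, hnorm, h0]
      · exact horth j 0 hj
    intro v
    rw [hz, LinearMap.zero_apply]
  have hcq : σ c = c := by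
    rw [hσq, hc, hermForm_conj hF]
  have hci : σ c⁻¹ = c⁻¹ := by rw [map_inv₀, hcq]
  obtain ⟨s, hs⟩ := Cfsg.Agent.Lib.Helper36.exists_mul_map_eq σ hσne hσ2 c⁻¹ hci
  have hs0 : s ≠ 0 := by
    intro h0
    rw [h0, zero_mul] at hs
    exact inv_ne_zero hc0 hs.symm
  obtain ⟨𝔢', h𝔢'⟩ : ∃ 𝔢' : Basis (Fin 3) F (Fin 3 → F), ∀ i, 𝔢' i = s • 𝔢 i :=
    ⟨𝔢.isUnitSMul (w := fun _ => s) (fun _ => isUnit_iff_ne_zero.2 hs0),
      fun i => Basis.isUnitSMul_apply _ i⟩
  refine ⟨𝔢', ⟨h.hlam, h.hgen, h.hcc, h.hccm, ?_, ?_⟩, ?_⟩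
  · intro i
    rw [h𝔢', Matrix.mulVec_smul, h.ha, smul_comm]
  · intro i
    rw [h𝔢', h𝔢', Matrix.mulVec_smul, h.hb]
  · intro i j
    rw [h𝔢', h𝔢', hermForm_smul_left, hermForm_smul_right hF, ← hσq, ← mul_assoc, hs]
    by_cases hij : i = j
    · subst hij
      rw [if_pos rfl, hnorm, inv_mul_cancel₀ hc0]
    · rw [if_neg hij, horth i j hij, mul_zero]

end NF

end Cfsg.Agent.Lib.Helper99.Uni3
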