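import Mathlib
import Cfsg.Agent.Lib.Helper40.NilpotentJordan

/-!
# Invariant complementary pairs of unipotent elements and Jordan types (helper99)

For a nilpotent matrix `B` of Jordan type `μ`, the dimensions of the `B`-invariant subspaces
having a `B`-invariant complement are exactly the sums of sub-multisets of `μ`.
-/

set_option autoImplicit false

namespace Cfsg.Agent.Lib.Helper99.UnipPairs

open Module Cfsg.Agent.Lib.Helper40

universe u

section combi

theorem sum_min_le (p : ℕ) (μ : Multiset ℕ) :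
    (μ.map (fun a => min p a)).sum ≤ μ.sum ∧
      ((μ.map (fun a => min p a)).sum = μ.sum → ∀ a ∈ μ, a ≤ p) := by
  induction μ using Multiset.induction_on with
  | empty => simp
  | cons a μ ih =>
    obtain ⟨ih1, ih2⟩ := ih
    rw [Multiset.map_cons, Multiset.sum_cons, Multiset.sum_cons]
    have h1 : min p a ≤ a := min_le_right p a
    refine ⟨by omega, ?_⟩
    intro h b hb
    rcases Multiset.mem_cons.mp hb with rfl | hb
    · have : min p b = b := by omega
      exact min_eq_right_iff.mp this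
    · exact ih2 (by omega) b hb

theorem sum_min_eq {p : ℕ} {μ : Multiset ℕ} (h : ∀ a ∈ μ, a ≤ p) :
    (μ.map (fun a => min p a)).sum = μ.sum := by
  rw [Multiset.map_congr rfl (fun a ha => min_eq_right (h a ha)), Multiset.map_id']

/-- Sub-multiset sums of a multiset with parts in `{1, 2}`. -/
theorem exists_sub_sum_two (μ : Multiset ℕ) (hμ : ∀ a ∈ μ, a = 1 ∨ a = 2) :
    ∀ m : ℕ, m ≤ μ.sum → (Even m ∨ 1 ∈ μ) → ∃ ν : Multiset ℕ, ν ≤ μ ∧ ν.sum = m := by
  induction μ using Multiset.induction_on with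
  | empty =>
    intro m hm _
    rw [Multiset.sum_zero] at hm
    exact ⟨0, le_rfl, by rw [Multiset.sum_zero]; omega⟩
  | cons c μ ih =>
    have ih' := ih (fun a ha => hμ a (Multiset.mem_cons_of_mem ha))
    intro m hm hpar
    rw [Multiset.sum_cons] at hm
    rcases hμ c (Multiset.mem_cons_self c μ) with rfl | rfl
    · -- c = 1
      rcases Nat.even_or_odd m with hev | hodd
      · by_cases hle : m ≤ μ.sum
        · obtain ⟨ν, hν, hs⟩ := ih' m hle (Or.inl hev)
          exact ⟨ν, hν.trans (Multiset.le_cons_self μ 1), hs⟩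
        · exact ⟨1 ::ₘ μ, le_rfl, by rw [Multiset.sum_cons]; omega⟩
      · obtain ⟨k, hk⟩ := hodd
        obtain ⟨ν, hν, hs⟩ := ih' (m - 1) (by omega) (Or.inl ⟨k, by omega⟩)
        exact ⟨1 ::ₘ ν, Multiset.cons_le_cons 1 hν, by rw [Multiset.sum_cons, hs]; omega⟩
    · -- c = 2
      by_cases h2 : 2 ≤ m
      · have hpar' : Even (m - 2) ∨ 1 ∈ μ := by
          rcases hpar with hev | hmem
          · left
            obtain ⟨k, hk⟩ := hev
            exact ⟨k - 1, by omega⟩
          · right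
            rcases Multiset.mem_cons.mp hmem with h | h
            · omega
            · exact h
        obtain ⟨ν, hν, hs⟩ := ih' (m - 2) (by omega) hpar'
        exact ⟨2 ::ₘ ν, Multiset.cons_le_cons 2 hν, by rw [Multiset.sum_cons, hs]; omega⟩
      · rcases Nat.lt_or_ge m 1 with h0 | h1
        · exact ⟨0, Multiset.zero_le _, by simp; omega⟩
        · have hm1 : m = 1 := by omega
          have hmem : 1 ∈ μ := by
            rcases hpar with hev | hmem
            · rw [hm1] at hev; exact absurd hev (by decide)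
            · rcases Multiset.mem_cons.mp hmem with h | h
              · omega
              · exact h
          refine ⟨{1}, ?_, by simp [hm1]⟩
          exact (Multiset.singleton_le.mpr hmem).trans (Multiset.le_cons_self μ 2)

/-- The partition condition for `p = 2`. -/
theorem partCond_two_iff (n m : ℕ) :
    (∀ μ : Multiset ℕ, (∀ a ∈ μ, 0 < a ∧ a ≤ 2) → μ.sum = n →
      ∃ ν : Multiset ℕ, ν ≤ μ ∧ ν.sum = m) ↔ (m ≤ n ∧ (Odd n ∨ Even m)) := by
  constructor
  · intro h
    constructor
    · obtain ⟨ν, hν, hs⟩ := h (Multiset.replicate n 1)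
        (fun a ha => by rw [Multiset.eq_of_mem_replicate ha]; omega) (by simp)
      obtain ⟨u, hu⟩ := Multiset.le_iff_exists_add.mp hν
      have h1 := congrArg Multiset.sum hu
      rw [Multiset.sum_add, Multiset.sum_replicate, smul_eq_mul, mul_one, hs] at h1
      omega
    · by_contra hcon
      rw [not_or, Nat.not_odd_iff_even, Nat.not_even_iff_odd] at hcon
      obtain ⟨hev, hodd⟩ := hcon
      obtain ⟨k, hk⟩ := hev
      obtain ⟨ν, hν, hs⟩ := h (Multiset.replicate k 2)
        (fun a ha => by rw [Multiset.eq_of_mem_replicate ha]; omega)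
        (by rw [Multiset.sum_replicate, smul_eq_mul]; omega)
      have h2 : 2 ∣ ν.sum := Multiset.dvd_sum (fun a ha =>
        by rw [Multiset.eq_of_mem_replicate (Multiset.mem_of_le hν ha)])
      rw [hs] at h2
      obtain ⟨j, hj⟩ := hodd
      omega
  · rintro ⟨hmn, hpar⟩ μ hμ hsum
    apply exists_sub_sum_two μ (fun a ha => by have := hμ a ha; omega) m (by omega)
    rcases hpar with hodd | hev
    · by_contra hcon
      rw [not_or] at hcon
      have h2 : 2 ∣ μ.sum := Multiset.dvd_sum (fun a ha => by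
        have h1 := hμ a ha
        have h3 : a ≠ 1 := fun h => hcon.2 (h ▸ ha)
        have : a = 2 := by omega
        rw [this])
      rw [hsum] at h2
      obtain ⟨j, hj⟩ := hodd
      omega
    · exact Or.inl hev

end combi

section pairs

variable {F : Type u} [Field F] {n : ℕ}

/-- A sub-multiset of the type gives an invariant complementary pair. -/
theorem exists_pair_of_sub (B : Matrix (Fin n) (Fin n) F) (hB : IsNilpotent B)
    (μ ν : Multiset ℕ)
    (hkd : ∀ j, kd (Matrix.toLin' B) j = (μ.map (fun a => min j a)).sum) (hν : ν ≤ μ) :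
    ∃ U W : Submodule F (Fin n → F), IsCompl U W ∧ finrank F U = ν.sum ∧
      U.map (Matrix.toLin' B) ≤ U ∧ W.map (Matrix.toLin' B) ≤ W := by
  obtain ⟨ν', rfl⟩ := Multiset.le_iff_exists_add.mp hν
  obtain ⟨V₁, i1, i2, i3, N₁, hN₁, hf₁, hkd₁⟩ := exists_nilpotent_of_type (F := F) ν
  obtain ⟨V₂, j1, j2, j3, N₂, hN₂, hf₂, hkd₂⟩ := exists_nilpotent_of_type (F := F) ν'
  have hN' := isNilpotent_prodMap N₁ N₂ hN₁ hN₂
  obtain ⟨ψ, hψ⟩ := exists_equiv_of_kd_eq (finrank F (V₁ × V₂)) (N₁.prodMap N₂)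
    (Matrix.toLin' B) rfl hN' (isNilpotent_toLin' B hB) (fun j => by
      rw [kd_prodMap, hkd₁, hkd₂, hkd, Multiset.map_add, Multiset.sum_add])
  refine ⟨(LinearMap.range (LinearMap.inl F V₁ V₂)).map (ψ : (V₁ × V₂) →ₗ[F] (Fin n → F)),
    (LinearMap.range (LinearMap.inr F V₁ V₂)).map (ψ : (V₁ × V₂) →ₗ[F] (Fin n → F)), ?_, ?_, ?_, ?_⟩
  · exact (Submodule.orderIsoMapComap ψ).isCompl LinearMap.isCompl_range_inl_inr
  · rw [LinearEquiv.finrank_map_eq, LinearMap.finrank_range_of_inj LinearMap.inl_injective, hf₁]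
  · rintro _ ⟨_, ⟨_, ⟨v, rfl⟩, rfl⟩, rfl⟩
    refine ⟨LinearMap.inl F V₁ V₂ (N₁ v), ⟨N₁ v, rfl⟩, ?_⟩
    have := hψ (LinearMap.inl F V₁ V₂ v)
    simp only [LinearMap.prodMap_apply, LinearMap.inl_apply, map_zero] at this
    exact this
  · rintro _ ⟨_, ⟨_, ⟨v, rfl⟩, rfl⟩, rfl⟩
    refine ⟨LinearMap.inr F V₁ V₂ (N₂ v), ⟨N₂ v, rfl⟩, ?_⟩
    have := hψ (LinearMap.inr F V₁ V₂ v)
    simp only [LinearMap.prodMap_apply, LinearMap.inr_apply, map_zero] at this
    exact this

/-- An invariant complementary pair gives a sub-multiset of the type. -/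
theorem exists_sub_of_pair (B : Matrix (Fin n) (Fin n) F) (hB : IsNilpotent B)
    (μ : Multiset ℕ) (hμ : ∀ a ∈ μ, 0 < a)
    (hkd : ∀ j, kd (Matrix.toLin' B) j = (μ.map (fun a => min j a)).sum)
    (U W : Submodule F (Fin n → F)) (hc : IsCompl U W)
    (hU : U.map (Matrix.toLin' B) ≤ U) (hW : W.map (Matrix.toLin' B) ≤ W) :
    ∃ ν : Multiset ℕ, ν ≤ μ ∧ ν.sum = finrank F U := by
  have hU' : ∀ x ∈ U, Matrix.toLin' B x ∈ U := fun x hx => hU ⟨x, hx, rfl⟩
  have hW' : ∀ x ∈ W, Matrix.toLin' B x ∈ W := fun x hx => hW ⟨x, hx, rfl⟩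
  have hNil := isNilpotent_toLin' B hB
  have hNU := isNilpotent_restrict (Matrix.toLin' B) hNil U hU'
  have hNW := isNilpotent_restrict (Matrix.toLin' B) hNil W hW'
  have hconj : ∀ x : U × W, Submodule.prodEquivOfIsCompl U W hc
      ((((Matrix.toLin' B).restrict hU').prodMap ((Matrix.toLin' B).restrict hW')) x) =
      Matrix.toLin' B (Submodule.prodEquivOfIsCompl U W hc x) := by
    intro x
    rw [Submodule.coe_prodEquivOfIsCompl', Submodule.coe_prodEquivOfIsCompl', map_add]
    rfl
  have hsum : ∀ j, kd (Matrix.toLin' B) j = kd ((Matrix.toLin' B).restrict hU') j +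
      kd ((Matrix.toLin' B).restrict hW') j := by
    intro j
    rw [← kd_conj _ (Matrix.toLin' B) (Submodule.prodEquivOfIsCompl U W hc) hconj j, kd_prodMap]
  obtain ⟨ν, hνpos, hνsum, hνkd⟩ := exists_type (finrank F U) ((Matrix.toLin' B).restrict hU')
    rfl hNU
  obtain ⟨ν', hν'pos, hν'sum, hν'kd⟩ := exists_type (finrank F W)
    ((Matrix.toLin' B).restrict hW') rfl hNW
  have heq : μ = ν + ν' := by
    apply type_unique
    · exact hμ
    · intro a ha
      rcases Multiset.mem_add.mp ha with h | h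
      · exact hνpos a h
      · exact hν'pos a h
    · intro j
      rw [← hkd, hsum, hνkd, hν'kd, Multiset.map_add, Multiset.sum_add]
  exact ⟨ν, by rw [heq]; exact Multiset.le_add_right ν ν', hνsum⟩

end pairs

end Cfsg.Agent.Lib.Helper99.UnipPairs
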