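import Mathlib
import Cfsg.Agent.Lib.Helper99.UnipPairs
import Cfsg.Agent.Lib.Helper99.PrimeOrdBad

/-!
# Elements of order `p` modulo scalars in `SL_n(F)`, `char F = p`: invariant complementary pairs
(helper99)
-/

set_option autoImplicit false
set_option linter.unusedSectionVars false

namespace Cfsg.Agent.Lib.Helper99.UnipPairs

open Module Cfsg.Agent.Lib.Helper40

universe u

variable {F : Type u} [Field F] [Fintype F] {p : ℕ} [Fact p.Prime] [CharP F p] {n : ℕ}

theorem exists_nilpotent_part (hn : 1 ≤ n) (A : Matrix (Fin n) (Fin n) F) (c : F)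
    (hA : A ^ p = c • (1 : Matrix (Fin n) (Fin n) F)) :
    ∃ (lam : F) (N : Matrix (Fin n) (Fin n) F), N ^ p = 0 ∧
      A = N + lam • (1 : Matrix (Fin n) (Fin n) F) := by
  have hne : Nonempty (Fin n) := ⟨⟨0, by omega⟩⟩
  have hsurj : Function.Surjective (frobenius F p) :=
    Finite.injective_iff_surjective.mp (frobenius_inj F p)
  obtain ⟨lam, hlam⟩ := hsurj c
  rw [frobenius_def] at hlam
  refine ⟨lam, A - lam • (1 : Matrix (Fin n) (Fin n) F), ?_, (sub_add_cancel _ _).symm⟩
  have hcomm : Commute A (lam • (1 : Matrix (Fin n) (Fin n) F)) :=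
    Commute.smul_right (Commute.one_right A) lam
  rw [sub_pow_char_of_commute p hcomm, hA, _root_.smul_pow, one_pow, hlam, sub_self]

theorem map_le_add_smul_iff (N : Matrix (Fin n) (Fin n) F) (lam : F)
    (U : Submodule F (Fin n → F)) :
    U.map (Matrix.toLin' (N + lam • (1 : Matrix (Fin n) (Fin n) F))) ≤ U ↔
      U.map (Matrix.toLin' N) ≤ U := by
  rw [Submodule.map_le_iff_le_comap, Submodule.map_le_iff_le_comap]
  constructor
  · intro h u hu
    have h1 := h hu
    rw [Submodule.mem_comap, map_add, map_smul, Matrix.toLin'_one, LinearMap.add_apply,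
      LinearMap.smul_apply, LinearMap.id_apply] at h1
    exact (Submodule.add_mem_iff_left U (U.smul_mem lam hu)).mp h1
  · intro h u hu
    rw [Submodule.mem_comap, map_add, map_smul, Matrix.toLin'_one, LinearMap.add_apply,
      LinearMap.smul_apply, LinearMap.id_apply]
    exact U.add_mem (h hu) (U.smul_mem lam hu)

/-- Elements of order `p` modulo scalars all fix a complementary pair `(U, W)` with `dim U = m`
iff every partition of `n` with parts at most `p` contains a partition of `m`. -/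
theorem unip_iff (hn : 1 ≤ n) (m : ℕ) (hmn : m ≤ n) :
    (∀ x : Matrix.SpecialLinearGroup (Fin n) F,
      (∃ c : F, ((x ^ p : Matrix.SpecialLinearGroup (Fin n) F) : Matrix (Fin n) (Fin n) F)
        = c • (1 : Matrix (Fin n) (Fin n) F)) →
      (∀ c : F, (x : Matrix (Fin n) (Fin n) F) ≠ c • (1 : Matrix (Fin n) (Fin n) F)) →
      ∃ U W : Submodule F (Fin n → F), IsCompl U W ∧ finrank F U = m ∧
        U.map (Matrix.toLin' (x : Matrix (Fin n) (Fin n) F)) ≤ U ∧
        W.map (Matrix.toLin' (x : Matrix (Fin n) (Fin n) F)) ≤ W) ↔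
    (∀ μ : Multiset ℕ, (∀ a ∈ μ, 0 < a ∧ a ≤ p) → μ.sum = n →
      ∃ ν : Multiset ℕ, ν ≤ μ ∧ ν.sum = m) := by
  have hne : Nonempty (Fin n) := ⟨⟨0, by omega⟩⟩
  constructor
  · intro hL μ hμ hsum
    obtain ⟨B, hBnil, hkd⟩ := exists_matrix_of_type (F := F) μ hsum
    have hBp : B ^ p = 0 := by
      have h1 : kd (Matrix.toLin' B) p = finrank F (Fin n → F) := by
        rw [hkd, sum_min_eq (fun a ha => (hμ a ha).2), hsum, Module.finrank_fin_fun]
      have h2 := (kd_eq_finrank_iff _ p).mp h1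
      rw [← Matrix.toLin'_pow] at h2
      exact (LinearEquiv.map_eq_zero_iff _).mp h2
    obtain ⟨A, hAdef⟩ : ∃ A : Matrix (Fin n) (Fin n) F,
        A = B + (1 : F) • (1 : Matrix (Fin n) (Fin n) F) := ⟨_, rfl⟩
    have hAp : A ^ p = (1 : F) • (1 : Matrix (Fin n) (Fin n) F) := by
      rw [hAdef, add_pow_char_of_commute p (Commute.smul_right (Commute.one_right B) (1 : F)),
        hBp, zero_add, _root_.smul_pow, one_pow, one_pow]
    have hdet : A.det = 1 := by
      apply frobenius_inj F p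
      rw [frobenius_def, frobenius_def, one_pow, ← Matrix.det_pow, hAp, one_smul, Matrix.det_one]
    obtain ⟨x, hx⟩ : ∃ x : Matrix.SpecialLinearGroup (Fin n) F,
        (x : Matrix (Fin n) (Fin n) F) = A := ⟨⟨A, hdet⟩, rfl⟩
    by_cases hB0 : B = 0
    · have h1 : ∀ a ∈ μ, a ≤ 1 := by
        apply (sum_min_le 1 μ).2
        rw [← hkd 1, hsum, hB0]
        have : (Matrix.toLin' (0 : Matrix (Fin n) (Fin n) F)) ^ 1 = 0 := by
          rw [map_zero, pow_one]
        rw [(kd_eq_finrank_iff _ 1).mpr this, Module.finrank_fin_fun]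
      have h2 : ∀ a ∈ μ, a = 1 := fun a ha => by
        have := h1 a ha
        have := (hμ a ha).1
        omega
      have h3 := Multiset.eq_replicate_card.mpr h2
      have h4 : Multiset.card μ = n := by
        rw [h3, Multiset.sum_replicate, smul_eq_mul, mul_one] at hsum
        exact hsum
      refine ⟨Multiset.replicate m 1, ?_, by simp⟩
      rw [h3, h4]
      exact (Multiset.replicate_le_replicate 1).mpr hmn
    · have hns : ∀ c : F, (x : Matrix (Fin n) (Fin n) F)
          ≠ c • (1 : Matrix (Fin n) (Fin n) F) := by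
        intro c hc
        rw [hx, hAdef] at hc
        have hB : B = (c - 1) • (1 : Matrix (Fin n) (Fin n) F) := by
          rw [sub_smul, ← hc, add_sub_cancel_right]
        have h1 : ((c - 1) • (1 : Matrix (Fin n) (Fin n) F)) ^ p
            = (0 : F) • (1 : Matrix (Fin n) (Fin n) F) := by
          rw [← hB, hBp, zero_smul]
        have h2 := PrimeOrd.smul_one_pow_entry (n := n) (by omega) h1
        have h3 : c - 1 = 0 := pow_eq_zero_iff (Fact.out : p.Prime).ne_zero |>.mp h2
        apply hB0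
        rw [hB, h3, zero_smul]
      obtain ⟨U, W, hc, hfU, hU, hW⟩ := hL x
        ⟨1, by rw [Matrix.SpecialLinearGroup.coe_pow, hx]; exact hAp⟩ hns
      rw [hx, hAdef, map_le_add_smul_iff] at hU hW
      obtain ⟨ν, hν, hνs⟩ := exists_sub_of_pair B hBnil μ (fun a ha => (hμ a ha).1) hkd U W hc
        hU hW
      exact ⟨ν, hν, by rw [hνs, hfU]⟩
  · intro hP x hxc hns
    obtain ⟨c, hx⟩ := hxc
    have hA : (x : Matrix (Fin n) (Fin n) F) ^ p = c • (1 : Matrix (Fin n) (Fin n) F) := by
      rw [← Matrix.SpecialLinearGroup.coe_pow]; exact hx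
    obtain ⟨lam, N, hNp, hAN⟩ := exists_nilpotent_part hn (x : Matrix (Fin n) (Fin n) F) c hA
    have hNil : IsNilpotent N := ⟨p, hNp⟩
    obtain ⟨μ, hμpos, hμsum, hkd⟩ := exists_type_matrix N hNil
    have hle : ∀ a ∈ μ, a ≤ p := by
      apply (sum_min_le p μ).2
      rw [← hkd p, hμsum]
      have : (Matrix.toLin' N) ^ p = 0 := by rw [← Matrix.toLin'_pow, hNp, map_zero]
      rw [(kd_eq_finrank_iff _ p).mpr this, Module.finrank_fin_fun]
    obtain ⟨ν, hν, hνs⟩ := hP μ (fun a ha => ⟨hμpos a ha, hle a ha⟩) hμsum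
    obtain ⟨U, W, hc, hfU, hU, hW⟩ := exists_pair_of_sub N hNil μ ν hkd hν
    refine ⟨U, W, hc, by rw [hfU, hνs], ?_, ?_⟩
    · rw [hAN, map_le_add_smul_iff]; exact hU
    · rw [hAN, map_le_add_smul_iff]; exact hW

end Cfsg.Agent.Lib.Helper99.UnipPairs
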