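import Mathlib

set_option autoImplicit false

namespace Cfsg.Agent.Lib.Helper99

open Polynomial

/-- value of the `n`-th cyclotomic polynomial at the integer `a` -/
noncomputable def cyc (n : ℕ) (a : ℕ) : ℤ := (cyclotomic n ℤ).eval (a : ℤ)

lemma cyc_pos (n : ℕ) {a : ℕ} (ha : 2 ≤ a) : 0 < cyc n a := by
  unfold cyc
  apply cyclotomic_pos'
  exact_mod_cast ha

lemma cyc_dvd_pow_sub_one {n : ℕ} (hn : 0 < n) (a : ℕ) : cyc n a ∣ (a : ℤ) ^ n - 1 := by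
  have h := prod_cyclotomic_eq_X_pow_sub_one hn ℤ
  have h2 : (cyclotomic n ℤ) ∣ X ^ n - 1 := by
    rw [← h]
    exact Finset.dvd_prod_of_mem _ (Nat.mem_divisors_self n hn.ne')
  have := eval_dvd (x := (a : ℤ)) h2
  simpa [cyc] using this

/-- `Φ_n(a) * (a^d - 1) ∣ a^n - 1` for a proper divisor `d` of `n`. -/
lemma cyc_mul_dvd {n d : ℕ} (hn : 0 < n) (hd : d ∣ n) (hdn : d ≠ n) (a : ℕ) :
    cyc n a * ((a : ℤ) ^ d - 1) ∣ (a : ℤ) ^ n - 1 := by
  have hd0 : 0 < d := Nat.pos_of_dvd_of_pos hd hn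
  have h := prod_cyclotomic_eq_X_pow_sub_one hn ℤ
  have h' := prod_cyclotomic_eq_X_pow_sub_one hd0 ℤ
  have h2 : (cyclotomic n ℤ) * (X ^ d - 1) ∣ X ^ n - 1 := by
    rw [← h, ← h', ← Nat.cons_self_properDivisors hn.ne', Finset.prod_cons]
    apply mul_dvd_mul_left
    apply Finset.prod_dvd_prod_of_subset
    intro x hx
    rw [Nat.mem_divisors] at hx
    rw [Nat.mem_properDivisors]
    refine ⟨hx.1.trans hd, ?_⟩
    exact lt_of_le_of_lt (Nat.le_of_dvd hd0 hx.1) (lt_of_le_of_ne (Nat.le_of_dvd hn hd) hdn)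
  have := eval_dvd (x := (a : ℤ)) h2
  simpa [cyc] using this

/-- The root statement in `ZMod p`. -/
lemma isRoot_of_dvd_cyc {n a p : ℕ} [Fact p.Prime] (h : (p : ℤ) ∣ cyc n a) :
    IsRoot (cyclotomic n (ZMod p)) ((a : ℕ) : ZMod p) := by
  have : ((a : ℤ) : ZMod p) = ↑(Int.castRingHom (ZMod p) a) := by simp
  rw [IsRoot.def, ← map_cyclotomic_int n (ZMod p), eval_map, ← Int.cast_natCast, this, eval₂_hom,
    Int.coe_castRingHom, ZMod.intCast_zmod_eq_zero_iff_dvd]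
  exact h

/-- Key lemma: if a prime `p` divides `Φ_n(a)` with `n = p^k * m`, `p ∤ m`, then the order of `a`
modulo `p` is `m`. -/
lemma orderOf_eq_of_dvd_cyc {m k a p : ℕ} [hp : Fact p.Prime] (hm : ¬ p ∣ m)
    (h : (p : ℤ) ∣ cyc (p ^ k * m) a) : orderOf ((a : ℕ) : ZMod p) = m := by
  have hroot := isRoot_of_dvd_cyc h
  have : NeZero (m : ZMod p) := NeZero.of_not_dvd (ZMod p) hm
  rw [isRoot_cyclotomic_prime_pow_mul_iff_of_charP] at hroot
  exact hroot.eq_orderOf.symm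

lemma dvd_pow_sub_one_iff {a p : ℕ} (k : ℕ) (ha : 1 ≤ a) :
    p ∣ a ^ k - 1 ↔ ((a : ℕ) : ZMod p) ^ k = 1 := by
  have h1 : 1 ≤ a ^ k := Nat.one_le_pow _ _ ha
  rw [← ZMod.natCast_eq_zero_iff, Nat.cast_sub h1, sub_eq_zero]
  simp

end Cfsg.Agent.Lib.Helper99
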