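import Cfsg.Agent.Lib.Helper99.ZsigSquare

set_option autoImplicit false

namespace Cfsg.Agent.Lib.Helper99

open Polynomial

lemma cyc_natAbs_gt {n a : ℕ} (hn : 2 ≤ n) (ha : 2 ≤ a) : (a - 1) ^ n.totient < (cyc n a).natAbs :=
  sub_one_pow_totient_lt_natAbs_cyclotomic_eval (by omega) (by omega)

lemma cyc_natAbs_two_le {n a : ℕ} (hn : 2 ≤ n) (ha : 2 ≤ a) : 2 ≤ (cyc n a).natAbs := by
  have h := cyc_natAbs_gt hn ha
  have : 1 ≤ (a - 1) ^ n.totient := Nat.one_le_pow _ _ (by omega)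
  omega

lemma cyc_eq_natAbs (n : ℕ) {a : ℕ} (ha : 2 ≤ a) : cyc n a = ((cyc n a).natAbs : ℤ) := by
  rw [Int.natAbs_of_nonneg (cyc_pos n ha).le]

/-- Lemma E -/
lemma cyc_eq_prime_of_noPPD {n a : ℕ} (hn : 3 ≤ n) (ha : 2 ≤ a) (hno : NoPPD a n) :
    ∃ p : ℕ, p.Prime ∧ p ∣ n ∧ cyc n a = (p : ℤ) := by
  have hn0 : 0 < n := by omega
  have ha1 : 1 ≤ a := by omega
  set N := (cyc n a).natAbs with hN
  have hN2 : 2 ≤ N := cyc_natAbs_two_le (by omega) ha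
  have hcyc : cyc n a = (N : ℤ) := cyc_eq_natAbs n ha
  set p := N.minFac with hp
  have hpprime : p.Prime := Nat.minFac_prime (by omega)
  have : Fact p.Prime := ⟨hpprime⟩
  have hpN : p ∣ N := Nat.minFac_dvd N
  have hpc : (p : ℤ) ∣ cyc n a := by rw [hcyc]; exact_mod_cast hpN
  have hpn : p ∣ n := dvd_of_noPPD hn0 ha1 hno hpc
  have huniq : ∀ {d : ℕ}, d.Prime → d ∣ N → d = p := by
    intro d hd hdN
    have : Fact d.Prime := ⟨hd⟩
    have hdc : (d : ℤ) ∣ cyc n a := by rw [hcyc]; exact_mod_cast hdN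
    have hdn : d ∣ n := dvd_of_noPPD hn0 ha1 hno hdc
    exact eq_of_both_dvd hn0 ha1 hdc hpc hdn hpn
  have hpow := Nat.eq_prime_pow_of_unique_prime_dvd (by omega : N ≠ 0) huniq
  set j := N.primeFactorsList.length with hj
  have hj2 : j < 2 := by
    by_contra hj2
    have : p ^ 2 ∣ N := by
      rw [hpow]; exact pow_dvd_pow p (by omega)
    have hsq : ((p : ℤ)) ^ 2 ∣ cyc n a := by rw [hcyc]; exact_mod_cast this
    exact not_sq_dvd_cyc hn ha hpc hpn hsq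
  have hj1 : j = 1 := by
    rcases Nat.eq_zero_or_pos j with h0 | h0
    · rw [h0, pow_zero] at hpow; omega
    · omega
  refine ⟨p, hpprime, hpn, ?_⟩
  rw [hcyc, hpow, hj1, pow_one]

/-- bound F1 -/
lemma lt_cyc_of_three_le {n a p : ℕ} (hn : 2 ≤ n) (ha : 3 ≤ a) (hp : p.Prime) (hpn : p ∣ n) :
    p < (cyc n a).natAbs := by
  have h1 := cyc_natAbs_gt hn (by omega : 2 ≤ a)
  have h2 : p - 1 ≤ n.totient := by
    have := Nat.totient_dvd_of_dvd hpn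
    rw [Nat.totient_prime hp] at this
    exact Nat.le_of_dvd (Nat.totient_pos.mpr (by omega)) this
  have h3 : 2 ^ (p - 1) ≤ (a - 1) ^ n.totient :=
    calc 2 ^ (p - 1) ≤ 2 ^ n.totient := Nat.pow_le_pow_right (by norm_num) h2
      _ ≤ (a - 1) ^ n.totient := Nat.pow_le_pow_left (by omega) _
  have h4 : p - 1 < 2 ^ (p - 1) := Nat.lt_two_pow_self
  have := hp.two_le
  omega

/-- bound F2 : `a = 2`, `p^2 ∣ n`. -/
lemma lt_cyc_two_of_sq_dvd {n p : ℕ} (hp : p.Prime) (hpn : p ^ 2 ∣ n) (hn : 0 < n) :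
    p < (cyc n 2).natAbs := by
  obtain ⟨n', rfl⟩ : ∃ n', n = n' * p := by
    obtain ⟨t, rfl⟩ := hpn
    exact ⟨p * t, by ring⟩
  have hpn' : p ∣ n' := by
    obtain ⟨t, ht⟩ := hpn
    have hp0 : 0 < p := hp.pos
    have : n' = p * t := by
      apply Nat.eq_of_mul_eq_mul_right hp0
      rw [ht]; ring
    exact ⟨t, this⟩
  have hn'2 : 2 ≤ n' := le_trans hp.two_le (Nat.le_of_dvd (Nat.pos_of_ne_zero (by rintro rfl; simp at hn)) hpn')
  have hexp : cyc (n' * p) 2 = cyc n' (2 ^ p) := by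
    unfold cyc
    rw [← cyclotomic_expand_eq_cyclotomic hp hpn' ℤ, expand_eval]
    push_cast
    rfl
  rw [hexp]
  have h2p : 2 ≤ 2 ^ p := by
    calc 2 = 2 ^ 1 := rfl
      _ ≤ 2 ^ p := Nat.pow_le_pow_right (by norm_num) hp.pos
  have h1 := cyc_natAbs_gt hn'2 h2p
  have h3 : 2 ^ p - 1 ≤ (2 ^ p - 1) ^ n'.totient :=
    Nat.le_self_pow (Nat.totient_pos.mpr (by omega)).ne' _
  have h4 : p < 2 ^ p := Nat.lt_two_pow_self
  omega

end Cfsg.Agent.Lib.Helper99
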