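import Cfsg.Agent.Lib.Helper99.ZsigBound

set_option autoImplicit false

namespace Cfsg.Agent.Lib.Helper99

open Polynomial

lemma cyc_cast_real (n a : ℕ) : ((cyc n a : ℤ) : ℝ) = (cyclotomic n ℝ).eval (a : ℝ) := by
  unfold cyc
  have := cyclotomic.eval_apply (a : ℤ) n (Int.castRingHom ℝ)
  simp at this
  rw [this]

lemma three_mul_lt_two_pow {p : ℕ} (hp : 5 ≤ p) : 3 * p + 1 < 2 ^ p := by
  induction p, hp using Nat.le_induction with
  | base => norm_num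
  | succ k hk ih => rw [pow_succ]; omega

/-- bound F3 -/
lemma cyc_two_ne_of_five_le {m p : ℕ} (hp : p.Prime) (hp5 : 5 ≤ p) (hm : 0 < m) (hpm : ¬ p ∣ m) :
    cyc (m * p) 2 ≠ (p : ℤ) := by
  intro heq
  have hexp : cyc (m * p) 2 * cyc m 2 = cyc m (2 ^ p) := by
    unfold cyc
    rw [← eval_mul, ← cyclotomic_expand_eq_cyclotomic_mul hp hpm ℤ, expand_eval]
    push_cast
    rfl
  rw [heq] at hexp
  have hR : ((p : ℤ) : ℝ) * ((cyc m 2 : ℤ) : ℝ) = ((cyc m (2 ^ p) : ℤ) : ℝ) := by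
    rw [← hexp]; push_cast; ring
  rw [cyc_cast_real, cyc_cast_real] at hR
  have h2p : (1 : ℝ) < ((2 ^ p : ℕ) : ℝ) := by
    have : 1 < 2 ^ p := Nat.one_lt_two_pow hp.ne_zero
    exact_mod_cast this
  have hlow := sub_one_pow_totient_le_cyclotomic_eval h2p m
  have hup := cyclotomic_eval_le_add_one_pow_totient (q := ((2 : ℕ) : ℝ)) (by norm_num) m
  set j := m.totient with hj
  have hjpos : 0 < j := Nat.totient_pos.mpr hm
  -- (2^p - 1)^j ≤ p * 3^j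
  have hkey : (((2 ^ p : ℕ) : ℝ) - 1) ^ j ≤ (p : ℝ) * (3 : ℝ) ^ j := by
    calc (((2 ^ p : ℕ) : ℝ) - 1) ^ j ≤ eval ((2 ^ p : ℕ) : ℝ) (cyclotomic m ℝ) := hlow
      _ = ((p : ℤ) : ℝ) * eval ((2 : ℕ) : ℝ) (cyclotomic m ℝ) := hR.symm
      _ ≤ (p : ℝ) * (3 : ℝ) ^ j := by
        have hp0 : (0 : ℝ) ≤ ((p : ℤ) : ℝ) := by positivity
        have : (((2 : ℕ) : ℝ) + 1) = 3 := by norm_num
        rw [this] at hup
        have := mul_le_mul_of_nonneg_left hup hp0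
        simpa using this
  -- but (2^p - 1)^j > p * 3^j
  have h3 := three_mul_lt_two_pow hp5
  have hnat : p * 3 ^ j < (2 ^ p - 1) ^ j := by
    obtain ⟨i, hi⟩ : ∃ i, j = i + 1 := ⟨j - 1, by omega⟩
    rw [hi]
    have h4 : 3 ^ i ≤ (2 ^ p - 1) ^ i := Nat.pow_le_pow_left (by omega) i
    calc p * 3 ^ (i + 1) = (3 * p) * 3 ^ i := by ring
      _ < (2 ^ p - 1) * 3 ^ i := by
        apply Nat.mul_lt_mul_of_pos_right (by omega) (by positivity)
      _ ≤ (2 ^ p - 1) * (2 ^ p - 1) ^ i := Nat.mul_le_mul_left _ h4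
      _ = (2 ^ p - 1) ^ (i + 1) := by ring
  have hreal : ((p * 3 ^ j : ℕ) : ℝ) < (((2 ^ p - 1) ^ j : ℕ) : ℝ) := by exact_mod_cast hnat
  have h1le : 1 ≤ 2 ^ p := Nat.one_le_two_pow
  push_cast [Nat.cast_sub h1le] at hreal
  push_cast at hkey
  linarith

lemma cyc_three_two : cyc 3 2 = 7 := by
  unfold cyc
  rw [cyclotomic_three]
  norm_num

lemma cyc_two (a : ℕ) : cyc 2 a = (a : ℤ) + 1 := by
  unfold cyc
  rw [cyclotomic_two]
  simp

end Cfsg.Agent.Lib.Helper99
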