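import Cfsg.Agent.Lib.Helper99.ZsigBasic

set_option autoImplicit false

namespace Cfsg.Agent.Lib.Helper99

open Polynomial

/-- `a^n - 1` has no primitive prime divisor. -/
def NoPPD (a n : ℕ) : Prop :=
  ∀ r : ℕ, r.Prime → r ∣ a ^ n - 1 → ∃ k : ℕ, 0 < k ∧ k < n ∧ r ∣ a ^ k - 1

lemma nat_dvd_of_int_dvd_cyc {n a p : ℕ} (hn : 0 < n) (ha : 1 ≤ a) (h : (p : ℤ) ∣ cyc n a) :
    p ∣ a ^ n - 1 := by
  have h1 := h.trans (cyc_dvd_pow_sub_one hn a)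
  have h2 : ((a : ℤ) ^ n - 1) = ((a ^ n - 1 : ℕ) : ℤ) := by
    rw [Nat.cast_sub (Nat.one_le_pow _ _ ha)]; simp
  rw [h2] at h1
  exact_mod_cast h1

/-- decomposition lemma -/
lemma exists_decomp {n p : ℕ} (hn : 0 < n) (hp : p.Prime) (hpn : p ∣ n) :
    ∃ k m : ℕ, 0 < k ∧ ¬ p ∣ m ∧ n = p ^ k * m := by
  obtain ⟨k, m, hm, hnm⟩ := Nat.exists_eq_pow_mul_and_not_dvd hn.ne' p hp.ne_one
  refine ⟨k, m, ?_, hm, hnm⟩
  rcases Nat.eq_zero_or_pos k with h0 | h0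
  · subst h0
    rw [pow_zero, one_mul] at hnm
    subst hnm
    exact absurd hpn hm
  · exact h0

lemma ppd_of_not_dvd {n a p : ℕ} [Fact p.Prime] (hn : 0 < n) (ha : 1 ≤ a)
    (h : (p : ℤ) ∣ cyc n a) (hpn : ¬ p ∣ n) :
    ∀ k : ℕ, 0 < k → k < n → ¬ p ∣ a ^ k - 1 := by
  intro k hk hkn hdvd
  have hord : orderOf ((a : ℕ) : ZMod p) = n := by
    apply orderOf_eq_of_dvd_cyc (k := 0) hpn
    simpa using h
  rw [dvd_pow_sub_one_iff k ha] at hdvd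
  have := orderOf_dvd_of_pow_eq_one hdvd
  rw [hord] at this
  exact absurd (Nat.le_of_dvd hk this) (by omega)

/-- Lemma A -/
lemma dvd_of_noPPD {n a p : ℕ} [hp : Fact p.Prime] (hn : 0 < n) (ha : 1 ≤ a) (hno : NoPPD a n)
    (h : (p : ℤ) ∣ cyc n a) : p ∣ n := by
  by_contra hpn
  obtain ⟨k, hk, hkn, hdvd⟩ := hno p hp.out (nat_dvd_of_int_dvd_cyc hn ha h)
  exact ppd_of_not_dvd hn ha h hpn k hk hkn hdvd

/-- Lemma B -/
lemma order_dvd_pred {k m a p : ℕ} [hp : Fact p.Prime] (hm : ¬ p ∣ m)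
    (h : (p : ℤ) ∣ cyc (p ^ k * m) a) (hn : 0 < p ^ k * m) (ha : 1 ≤ a) :
    orderOf ((a : ℕ) : ZMod p) = m ∧ m ∣ p - 1 := by
  have hord := orderOf_eq_of_dvd_cyc hm h
  refine ⟨hord, ?_⟩
  rw [← hord]
  apply ZMod.orderOf_dvd_card_sub_one
  intro h0
  have hp_dvd : p ∣ a := (ZMod.natCast_eq_zero_iff a p).mp h0
  have h1 := nat_dvd_of_int_dvd_cyc hn ha h
  have h2 : p ∣ a ^ (p ^ k * m) := dvd_pow hp_dvd hn.ne'
  have h3 : 1 ≤ a ^ (p ^ k * m) := Nat.one_le_pow _ _ ha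
  have h4 : p ∣ 1 := by
    have : a ^ (p ^ k * m) - (a ^ (p ^ k * m) - 1) = 1 := by omega
    rw [← this]
    exact Nat.dvd_sub h2 h1
  exact hp.out.one_lt.ne' (Nat.dvd_one.mp h4)

/-- Lemma C, one direction -/
lemma lt_of_both_dvd {n a p p' : ℕ} [hp : Fact p.Prime] [hp' : Fact p'.Prime] (hn : 0 < n) (ha : 1 ≤ a)
    (h : (p : ℤ) ∣ cyc n a) (hpn : p ∣ n) (hpn' : p' ∣ n) (hne : p ≠ p') : p' < p := by
  obtain ⟨k, m, hk, hm, rfl⟩ := exists_decomp hn hp.out hpn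
  obtain ⟨-, hmp⟩ := order_dvd_pred hm h hn ha
  have hcop : Nat.Coprime p' (p ^ k) :=
    Nat.Coprime.pow_right k ((Nat.coprime_primes hp'.out hp.out).mpr (Ne.symm hne))
  have h1 : p' ∣ m := hcop.dvd_of_dvd_mul_left hpn'
  have hp1 : 0 < p - 1 := by have := hp.out.two_le; omega
  have h2 := Nat.le_of_dvd hp1 (h1.trans hmp)
  omega

lemma eq_of_both_dvd {n a p p' : ℕ} [hp : Fact p.Prime] [hp' : Fact p'.Prime] (hn : 0 < n) (ha : 1 ≤ a)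
    (h : (p : ℤ) ∣ cyc n a) (h' : (p' : ℤ) ∣ cyc n a) (hpn : p ∣ n) (hpn' : p' ∣ n) : p = p' := by
  by_contra hne
  have h1 := lt_of_both_dvd hn ha h hpn hpn' hne
  have h2 := lt_of_both_dvd hn ha h' hpn' hpn (Ne.symm hne)
  omega

end Cfsg.Agent.Lib.Helper99
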