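import Cfsg.Agent.Lib.Helper99.ZsigOrder

set_option autoImplicit false

namespace Cfsg.Agent.Lib.Helper99

open Polynomial

/-- odd prime case of Lemma D, arithmetic core -/
lemma not_sq_dvd_core {p c N : ℕ} [hp : Fact p.Prime] (hodd : Odd p) (hc : 2 ≤ c) (hpc : p ∣ c - 1)
    (hdvd : N * (c - 1) ∣ c ^ p - 1) : ¬ p ^ 2 ∣ N := by
  intro hsq
  have hc1 : c - 1 ≠ 0 := by omega
  have hx : ¬ p ∣ c := by
    intro h
    have : p ∣ 1 := by
      have h3 : c - (c - 1) = 1 := by omega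
      rw [← h3]; exact Nat.dvd_sub h hpc
    exact hp.out.one_lt.ne' (Nat.dvd_one.mp this)
  have hlte := padicValNat.pow_sub_pow (p := p) hodd (x := c) (y := 1) (by omega) hpc hx
    (n := p) hp.out.ne_zero
  rw [one_pow, padicValNat_self] at hlte
  have hcp : c ^ p - 1 ≠ 0 := by
    have : c ^ 1 < c ^ p := Nat.pow_lt_pow_right (by omega) hp.out.one_lt
    rw [pow_one] at this
    omega
  have h2 : p ^ 2 * (c - 1) ∣ c ^ p - 1 := (Nat.mul_dvd_mul_right hsq _).trans hdvd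
  have h3 : p ^ (2 + padicValNat p (c - 1)) ∣ c ^ p - 1 := by
    rw [pow_add]
    exact (Nat.mul_dvd_mul_left _ pow_padicValNat_dvd).trans h2
  rw [padicValNat_dvd_iff_le hcp] at h3
  omega

lemma cyc_two_pow (k a : ℕ) : cyc (2 ^ (k + 1)) a = 1 + (a : ℤ) ^ (2 ^ k) := by
  unfold cyc
  rw [cyclotomic_prime_pow_eq_geom_sum Nat.prime_two]
  simp [Finset.sum_range_succ]

/-- Lemma D -/
lemma not_sq_dvd_cyc {n a p : ℕ} [hp : Fact p.Prime] (hn : 3 ≤ n) (ha : 2 ≤ a)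
    (h : (p : ℤ) ∣ cyc n a) (hpn : p ∣ n) : ¬ ((p : ℤ) ^ 2 ∣ cyc n a) := by
  have hn0 : 0 < n := by omega
  have ha1 : 1 ≤ a := by omega
  obtain ⟨k, m, hk, hm, hnm⟩ := exists_decomp hn0 hp.out hpn
  subst hnm
  obtain ⟨hord, hmp⟩ := order_dvd_pred hm h hn0 ha1
  rcases hp.out.eq_two_or_odd' with h2 | hodd
  · -- p = 2
    subst h2
    have hm1 : m = 1 := by simpa using hmp
    subst hm1
    rw [mul_one] at h hn ⊢
    obtain ⟨j, rfl⟩ : ∃ j, k = j + 1 := ⟨k - 1, by omega⟩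
    rw [cyc_two_pow] at h ⊢
    -- j ≥ 1
    have hj : 1 ≤ j := by
      by_contra hj
      have : j = 0 := by omega
      subst this
      norm_num at hn
    obtain ⟨i, rfl⟩ : ∃ i, j = i + 1 := ⟨j - 1, by omega⟩
    have haodd : Odd (a : ℤ) := by
      by_contra hev
      rw [Int.not_odd_iff_even] at hev
      have : Even ((a : ℤ) ^ 2 ^ (i + 1)) := hev.pow_of_ne_zero (by positivity)
      have h3 : Odd (1 + (a : ℤ) ^ 2 ^ (i + 1)) := by
        rw [add_comm]; exact this.add_one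
      have h4 : Even (1 + (a : ℤ) ^ 2 ^ (i + 1)) := by
        rw [even_iff_two_dvd]; exact_mod_cast h
      exact (Int.not_even_iff_odd.mpr h3) h4
    have hsq : (a : ℤ) ^ 2 ^ (i + 1) = ((a : ℤ) ^ 2 ^ i) ^ 2 := by
      rw [← pow_mul, pow_succ]
    have hmod := Int.sq_mod_four_eq_one_of_odd (haodd.pow (n := 2 ^ i))
    intro h4
    rw [hsq] at h4
    have : (1 + ((a : ℤ) ^ 2 ^ i) ^ 2) % 4 = 0 := by
      have : ((2 : ℕ) : ℤ) ^ 2 = 4 := by norm_num
      rw [this] at h4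
      exact Int.emod_eq_zero_of_dvd h4
    omega
  · -- p odd
    have hk1 : ∃ k', k = k' + 1 := ⟨k - 1, by omega⟩
    obtain ⟨k', rfl⟩ := hk1
    set d := p ^ k' * m with hd
    have hdn : p ^ (k' + 1) * m = d * p := by rw [hd, pow_succ]; ring
    have hdpos : 0 < d := by
      rcases Nat.eq_zero_or_pos d with h0 | h0
      · rw [hdn, h0] at hn0; simp at hn0
      · exact h0
    have hd_dvd : d ∣ p ^ (k' + 1) * m := ⟨p, hdn⟩
    have hd_ne : d ≠ p ^ (k' + 1) * m := by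
      rw [hdn]
      have := hp.out.two_le
      nlinarith
    have hmul := cyc_mul_dvd hn0 hd_dvd hd_ne a
    set c := a ^ d with hc
    have hc2 : 2 ≤ c := by
      calc 2 ≤ a := ha
        _ = a ^ 1 := (pow_one a).symm
        _ ≤ a ^ d := Nat.pow_le_pow_right (by omega) hdpos
    have hpc : p ∣ c - 1 := by
      rw [hc, dvd_pow_sub_one_iff d ha1, hd, mul_comm, pow_mul, ← hord, pow_orderOf_eq_one, one_pow]
    intro hsq
    obtain ⟨N, hN⟩ : ∃ N : ℕ, cyc (p ^ (k' + 1) * m) a = (N : ℤ) :=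
      ⟨(cyc (p ^ (k' + 1) * m) a).toNat, (Int.toNat_of_nonneg (cyc_pos _ ha).le).symm⟩
    rw [hN] at hsq hmul
    have hsqN : p ^ 2 ∣ N := by exact_mod_cast hsq
    have hmulN : N * (c - 1) ∣ c ^ p - 1 := by
      have e1 : ((a : ℤ) ^ d - 1) = ((c - 1 : ℕ) : ℤ) := by
        rw [Nat.cast_sub (by omega), hc]; simp
      have e2 : ((a : ℤ) ^ (p ^ (k' + 1) * m) - 1) = ((c ^ p - 1 : ℕ) : ℤ) := by
        rw [Nat.cast_sub (Nat.one_le_pow _ _ (by omega)), hc, hdn, pow_mul]; simp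
      rw [e1, e2] at hmul
      exact_mod_cast hmul
    exact not_sq_dvd_core hodd hc2 hpc hmulN hsqN

end Cfsg.Agent.Lib.Helper99
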